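import Cfsg.Prelude.Def_LocalStructure
import Cfsg.Agent.Lib.Fusion.Residual
import Cfsg.Agent.Lib.CFun.PNilpotent
import Cfsg.Agent.Lib.Coprime.Core
import Cfsg.Agent.Lib.PGroup.Basic

/-!
# Basic facts for the local structure theory

Normal `p`-subgroups and Sylow subgroups, `p`-closed groups, the `p`-residual of a subgroup.
-/

set_option autoImplicit false
set_option linter.style.haveILetI false
set_option linter.unusedSectionVars false

namespace CfsgLib.LS

open Subgroup

variable {G : Type*} [Group G] [Finite G] {p : ℕ} [Fact p.Prime]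

theorem le_sylow_of_normal {Q : Subgroup G} [Q.Normal] (h : IsPGroup p Q) (P : Sylow p G) :
    Q ≤ (P : Subgroup G) :=
  (CfsgLib.Coprime.le_pCore h).trans (CfsgLib.PGroup.pCore_le_sylow P)

theorem isPClosed_iff : Cfsg.IsPClosed p G ↔ ∃ P : Sylow p G, (P : Subgroup G) ≤ Cfsg.pCore p G := by
  constructor
  · intro h
    obtain ⟨P⟩ : Nonempty (Sylow p G) := inferInstance
    haveI := h P
    exact ⟨P, CfsgLib.Coprime.le_pCore P.2⟩
  · rintro ⟨P, hP⟩ R
    haveI := CfsgLib.Coprime.pCore_normal' (G := G) p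
    have hP' : (P : Subgroup G) = Cfsg.pCore p G :=
      le_antisymm hP (CfsgLib.PGroup.pCore_le_sylow P)
    have hR : Cfsg.pCore p G = (R : Subgroup G) :=
      eq_of_le_of_card_ge (CfsgLib.PGroup.pCore_le_sylow R)
        (by rw [← hP', Sylow.card_eq_multiplicity, Sylow.card_eq_multiplicity])
    rw [← hR]
    infer_instance

theorem isPClosed_of_equiv {H : Type*} [Group H] [Finite H] (e : G ≃* H)
    (h : Cfsg.IsPClosed p G) : Cfsg.IsPClosed p H := by
  obtain ⟨P, hP⟩ := isPClosed_iff.1 h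
  refine isPClosed_iff.2 ?_
  obtain ⟨R, hR⟩ := (P.2.map e.toMonoidHom).exists_le_sylow
  refine ⟨R, ?_⟩
  have hcard : Nat.card (R : Subgroup H) = Nat.card ((P : Subgroup G).map e.toMonoidHom) := by
    rw [Subgroup.card_map_of_injective e.injective, Sylow.card_eq_multiplicity,
      Sylow.card_eq_multiplicity, Nat.card_congr e.toEquiv]
  rw [← eq_of_le_of_card_ge hR hcard.le, ← CfsgLib.Coprime.map_pCore_equiv e p]
  exact map_mono hP

theorem isPClosed_of_isPGroup (h : IsPGroup p G) : Cfsg.IsPClosed p G := fun P => by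
  rw [show (P : Subgroup G) = ⊤ from
    (P.3 (h.to_subgroup ⊤) le_top).symm]
  infer_instance

/-- The subgroup generated by the elements of order prime to `p` of a subgroup lies in the one of
the group. -/
theorem map_pResidual_le_self (K : Subgroup G) :
    (Cfsg.pResidual p K).map K.subtype ≤ K ⊓ Cfsg.pResidual p G :=
  le_inf (map_subtype_le _) (CfsgLib.CFun.map_pResidual_le K.subtype)

theorem mem_resOf {K : Subgroup G} {g : G} (hg : g ∈ K) (h : (orderOf g).Coprime p) :
    g ∈ (Cfsg.pResidual p K).map K.subtype :=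
  ⟨⟨g, hg⟩, CfsgLib.Fusion.mem_pResidual (by rwa [← Subgroup.orderOf_coe]), rfl⟩

theorem resOf_le {K L : Subgroup G}
    (h : ∀ g ∈ K, (orderOf g).Coprime p → g ∈ L) : (Cfsg.pResidual p K).map K.subtype ≤ L := by
  rw [map_le_iff_le_comap]
  exact (Subgroup.closure_le _).2 fun x hx => h x x.2 (by rwa [Subgroup.orderOf_coe])

theorem resOf_mono {K L : Subgroup G} (h : K ≤ L) :
    (Cfsg.pResidual p K).map K.subtype ≤ (Cfsg.pResidual p L).map L.subtype :=
  resOf_le fun _ hg hc => mem_resOf (h hg) hc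

theorem pResidual_le {L : Subgroup G} (h : ∀ g : G, (orderOf g).Coprime p → g ∈ L) :
    Cfsg.pResidual p G ≤ L :=
  (Subgroup.closure_le _).2 h

/-- An element of order prime to `p` lies in a normal subgroup as soon as its `p`-th power part
does. -/
theorem mem_of_coprime_of_pow_mem {N : Subgroup G} {g : G} (hg : (orderOf g).Coprime p) {k : ℕ}
    (h : g ^ p ^ k ∈ N) : g ∈ N := by
  obtain ⟨m, hm⟩ := exists_pow_eq_self_of_coprime (n := p ^ k) (Nat.Coprime.pow_left k hg.symm)
  rw [← hm]
  exact N.pow_mem h m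

theorem sylow_inf_normal (P : Sylow p G) (N : Subgroup G) [N.Normal] :
    ∃ R : Sylow p N, (R : Subgroup N).map N.subtype = (P : Subgroup G) ⊓ N := by
  have hi : ¬ p ∣ ((P : Subgroup G).subgroupOf N).index := fun hd =>
    P.not_dvd_index (hd.trans (CfsgLib.PGroup.relIndex_dvd_index_normal_right _ N))
  exact ⟨(P.2.comap_subtype).toSylow hi, subgroupOf_map_subtype _ _⟩

/-- The Sylow subgroup of a `p`-closed normal subgroup lies in `O_p`. -/
theorem inf_le_pCore_of_isPClosed (P : Sylow p G) (N : Subgroup G) [N.Normal]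
    (h : Cfsg.IsPClosed p N) : (P : Subgroup G) ⊓ N ≤ Cfsg.pCore p G := by
  obtain ⟨R, hR⟩ := sylow_inf_normal P N
  haveI := h R
  rw [← hR]
  refine (map_mono (CfsgLib.Coprime.le_pCore R.2)).trans ?_
  rw [CfsgLib.Coprime.pCore_map_subtype_eq p N]
  exact inf_le_left

theorem isPClosed_of_inf_le_pCore (P : Sylow p G) (N : Subgroup G) [N.Normal]
    (h : (P : Subgroup G) ⊓ N ≤ Cfsg.pCore p G) : Cfsg.IsPClosed p N := by
  obtain ⟨R, hR⟩ := sylow_inf_normal P N
  refine isPClosed_iff.2 ⟨R, ?_⟩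
  rw [← map_le_map_iff_of_injective N.subtype_injective, hR,
    CfsgLib.Coprime.pCore_map_subtype_eq p N]
  exact le_inf h inf_le_right

theorem isPClosed_iff_sylow_le (P : Sylow p G) :
    Cfsg.IsPClosed p G ↔ (P : Subgroup G) ≤ Cfsg.pCore p G := by
  refine ⟨fun h => ?_, fun h => isPClosed_iff.2 ⟨P, h⟩⟩
  haveI := h P
  exact CfsgLib.Coprime.le_pCore P.2

/-- A normal subgroup of a `p`-closed normal subgroup is `p`-closed. -/
theorem isPClosed_of_le {N M : Subgroup G} [N.Normal] [M.Normal] (hle : N ≤ M)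
    (h : Cfsg.IsPClosed p M) : Cfsg.IsPClosed p N := by
  obtain ⟨P⟩ : Nonempty (Sylow p G) := inferInstance
  exact isPClosed_of_inf_le_pCore P N
    ((inf_le_inf_left _ hle).trans (inf_le_pCore_of_isPClosed P M h))

end CfsgLib.LS
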