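import Cfsg.Prelude.Def_LocalStructure
import Cfsg.Prelude.Def_Amalgam
import Cfsg.Agent.Lib.LocalStructure.Basic
import Cfsg.Agent.Lib.Coprime.Action
import Cfsg.Agent.Lib.Coprime.Solvable
import Cfsg.Agent.Lib.Fusion.Thompson

/-!
# `p`-reduced normal subgroups
-/

set_option autoImplicit false
set_option linter.style.haveILetI false
set_option linter.unusedSectionVars false

namespace CfsgLib.LS

open Subgroup
open scoped commutatorElement

variable {G : Type*} [Group G] [Finite G] {p : ℕ} [Fact p.Prime]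

theorem centralizer_subgroupOf' {X T : Subgroup G} (hTX : T ≤ X) :
    centralizer ((T.subgroupOf X : Subgroup X) : Set X) =
      (centralizer (T : Set G)).subgroupOf X := by
  ext x
  constructor
  · intro hx
    refine mem_subgroupOf.2 (mem_centralizer_iff.2 fun t ht => ?_)
    exact congrArg Subtype.val (mem_centralizer_iff.1 hx ⟨t, hTX ht⟩ (mem_subgroupOf.2 ht))
  · intro hx
    exact mem_centralizer_iff.2 fun t ht =>
      Subtype.ext (mem_centralizer_iff.1 (mem_subgroupOf.1 hx) t (mem_subgroupOf.1 ht))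

theorem ea_comm {A : Subgroup G} (hA : Cfsg.IsElementaryAbelian p A) {a b : G} (ha : a ∈ A)
    (hb : b ∈ A) : a * b = b * a :=
  congrArg Subtype.val (hA.1.is_comm.comm (⟨a, ha⟩ : A) ⟨b, hb⟩)

theorem isElementaryAbelian_of_le {A B : Subgroup G} (h : B ≤ A)
    (hA : Cfsg.IsElementaryAbelian p A) : Cfsg.IsElementaryAbelian p B :=
  ⟨⟨⟨fun a b => Subtype.ext (ea_comm hA (h a.2) (h b.2))⟩⟩, fun a ha => hA.2 a (h ha)⟩

theorem isElementaryAbelian_subgroupOf {A K : Subgroup G} (h : A ≤ K)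
    (hA : Cfsg.IsElementaryAbelian p A) : Cfsg.IsElementaryAbelian p (A.subgroupOf K) :=
  ⟨⟨⟨fun a b => Subtype.ext (Subtype.ext (ea_comm hA a.2 b.2))⟩⟩,
    fun _ ha => Subtype.ext (hA.2 _ ha)⟩

theorem isPGroup_of_ea {A : Subgroup G} (hA : Cfsg.IsElementaryAbelian p A) : IsPGroup p A :=
  fun x => ⟨1, Subtype.ext (by rw [pow_one]; exact hA.2 x x.2)⟩

theorem le_centralizer_self_of_ea {A : Subgroup G} (hA : Cfsg.IsElementaryAbelian p A) :
    A ≤ centralizer (A : Set G) :=
  fun _ ha => mem_centralizer_iff.2 fun _ hb => ea_comm hA hb ha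

theorem isElementaryAbelian_sup {A B : Subgroup G} (hA : Cfsg.IsElementaryAbelian p A)
    (hB : Cfsg.IsElementaryAbelian p B) (hAB : B ≤ centralizer (A : Set G)) :
    Cfsg.IsElementaryAbelian p (A ⊔ B) := by
  have hN : B ≤ normalizer (A : Set G) := hAB.trans (centralizer_le_normalizer _)
  have hc : A ⊔ B ≤ centralizer ((A ⊔ B : Subgroup G) : Set G) := by
    rw [le_centralizer_iff]
    refine sup_le ?_ ?_ <;> rw [le_centralizer_iff] <;> refine sup_le ?_ ?_
    · exact le_centralizer_self_of_ea hA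
    · exact hAB
    · exact le_centralizer_iff.1 hAB
    · exact le_centralizer_self_of_ea hB
  refine ⟨⟨⟨fun a b => Subtype.ext (mem_centralizer_iff.1 (hc b.2) a a.2)⟩⟩, fun x hx => ?_⟩
  obtain ⟨a, ha, b, hb, rfl⟩ := CfsgLib.Coprime.mem_sup_exists hN hx
  rw [Commute.mul_pow (mem_centralizer_iff.1 (hAB hb) a ha), hA.2 a ha, hB.2 b hb, one_mul]

theorem mem_omegaOne {H : Subgroup G} {x : G} (hx : x ∈ H) (h : x ^ p = 1) :
    x ∈ Cfsg.omegaOne p H :=
  subset_closure ⟨hx, h⟩

theorem omegaOne_le_self (H : Subgroup G) : Cfsg.omegaOne p H ≤ H :=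
  (closure_le _).2 fun _ hx => hx.1

theorem omegaOne_ea {H : Subgroup G} (hH : H ≤ centralizer (H : Set G)) :
    Cfsg.IsElementaryAbelian p (Cfsg.omegaOne p H) := by
  have hc : ∀ a b : G, a ∈ H → b ∈ H → a * b = b * a := fun a b ha hb =>
    mem_centralizer_iff.1 (hH hb) a ha
  refine ⟨⟨⟨fun a b => Subtype.ext
    (hc a b (omegaOne_le_self H a.2) (omegaOne_le_self H b.2))⟩⟩, fun x hx => ?_⟩
  induction hx using Subgroup.closure_induction with
  | mem x hx => exact hx.2
  | one => exact one_pow _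
  | mul x y hx' hy' hx hy =>
      rw [Commute.mul_pow (hc x y (omegaOne_le_self H hx') (omegaOne_le_self H hy')), hx, hy,
        one_mul]
  | inv x _ hx => rw [inv_pow, hx, inv_one]

theorem inf_centralizer_self_comm (H : Subgroup G) :
    H ⊓ centralizer (H : Set G) ≤ centralizer ((H ⊓ centralizer (H : Set G) : Subgroup G) : Set G) :=
  fun _ hx => Subgroup.centralizer_le inf_le_left hx.2

theorem omegaOne_center_ea (H : Subgroup G) :
    Cfsg.IsElementaryAbelian p (Cfsg.omegaOne p (H ⊓ centralizer (H : Set G))) :=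
  omegaOne_ea (inf_centralizer_self_comm H)

theorem le_omegaOne_center {H A : Subgroup G} (hA : Cfsg.IsElementaryAbelian p A) (hle : A ≤ H)
    (hc : A ≤ centralizer (H : Set G)) : A ≤ Cfsg.omegaOne p (H ⊓ centralizer (H : Set G)) :=
  fun a ha => mem_omegaOne ⟨hle ha, hc ha⟩ (hA.2 a ha)

theorem map_omegaOne {G' : Type*} [Group G'] {f : G →* G'} (hf : Function.Injective f)
    (H : Subgroup G) : (Cfsg.omegaOne p H).map f = Cfsg.omegaOne p (H.map f) := by
  rw [Cfsg.omegaOne, Cfsg.omegaOne, MonoidHom.map_closure]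
  congr 1
  ext y
  constructor
  · rintro ⟨x, ⟨hx, hp⟩, rfl⟩
    exact ⟨mem_map_of_mem f hx, by rw [← map_pow, hp, map_one]⟩
  · rintro ⟨⟨x, hx, rfl⟩, hp⟩
    exact ⟨x, ⟨hx, hf (by rw [map_pow, hp, map_one])⟩, rfl⟩

theorem map_inf_centralizer_subtype {L : Subgroup G} (X : Subgroup L) :
    (X ⊓ centralizer (X : Set L)).map L.subtype =
      X.map L.subtype ⊓ centralizer ((X.map L.subtype : Subgroup G) : Set G) := by
  ext y
  constructor
  · rintro ⟨x, ⟨hx, hc⟩, rfl⟩
    refine ⟨mem_map_of_mem _ hx, mem_centralizer_iff.2 ?_⟩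
    rintro _ ⟨z, hz, rfl⟩
    exact congrArg Subtype.val (mem_centralizer_iff.1 hc z hz)
  · rintro ⟨⟨x, hx, rfl⟩, hc⟩
    exact ⟨x, ⟨hx, mem_centralizer_iff.2 fun z hz =>
      Subtype.ext (mem_centralizer_iff.1 hc _ (mem_map_of_mem L.subtype hz))⟩, rfl⟩

/-! ### The criterion -/

/-- A `p`-reduced normal subgroup, phrased without the quotient. -/
theorem isPReducedNormal_iff {V : Subgroup G} :
    Cfsg.IsPReducedNormal p V ↔ V.Normal ∧ Cfsg.IsElementaryAbelian p V ∧
      ∀ X : Subgroup G, X.Normal → (∀ x ∈ X, ∃ k : ℕ, x ^ p ^ k ∈ centralizer (V : Set G)) →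
        X ≤ centralizer (V : Set G) := by
  constructor
  · rintro ⟨hn, he, hC, hbot⟩
    refine ⟨hn, he, fun X hX h => ?_⟩
    haveI := hC
    haveI := hX
    set C := centralizer (V : Set G) with hCdef
    haveI := hX.map (QuotientGroup.mk' C) (QuotientGroup.mk'_surjective C)
    have hp : IsPGroup p (X.map (QuotientGroup.mk' C)) := by
      rintro ⟨_, x, hx, rfl⟩
      obtain ⟨k, hk⟩ := h x hx
      exact ⟨k, Subtype.ext (by
        rw [SubmonoidClass.coe_pow]
        show (QuotientGroup.mk' C x) ^ p ^ k = 1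
        rw [← map_pow]; exact (QuotientGroup.eq_one_iff _).2 hk)⟩
    intro x hx
    have := CfsgLib.Coprime.le_pCore hp (mem_map_of_mem (QuotientGroup.mk' C) hx)
    rw [hbot, mem_bot] at this
    exact (QuotientGroup.eq_one_iff x).1 this
  · rintro ⟨hn, he, h⟩
    haveI := hn
    haveI hC : (centralizer (V : Set G)).Normal := Subgroup.normal_centralizer
    refine ⟨hn, he, hC, ?_⟩
    set C := centralizer (V : Set G) with hCdef
    haveI := CfsgLib.Coprime.pCore_normal' (G := G ⧸ C) p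
    have hle := h ((Cfsg.pCore p (G ⧸ C)).comap (QuotientGroup.mk' C)) inferInstance fun x hx => by
      obtain ⟨k, hk⟩ := CfsgLib.Coprime.pCore_isPGroup (G := G ⧸ C) p ⟨_, hx⟩
      exact ⟨k, (QuotientGroup.eq_one_iff _).1 (by
        rw [QuotientGroup.mk_pow]; exact congrArg Subtype.val hk)⟩
    rw [← map_comap_eq_self_of_surjective (QuotientGroup.mk'_surjective C) (Cfsg.pCore p (G ⧸ C)),
      eq_bot_iff, map_le_iff_le_comap, MonoidHom.comap_bot, QuotientGroup.ker_mk']
    exact hle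

theorem reduced_pgroup_le_centralizer {V : Subgroup G} (hV : Cfsg.IsPReducedNormal p V)
    {Q : Subgroup G} [hQn : Q.Normal] (hQ : IsPGroup p Q) : Q ≤ centralizer (V : Set G) :=
  (isPReducedNormal_iff.1 hV).2.2 Q hQn fun x hx => by
    obtain ⟨k, hk⟩ := hQ ⟨x, hx⟩
    exact ⟨k, by rw [show x ^ p ^ k = 1 from congrArg Subtype.val hk]; exact one_mem _⟩

theorem reduced_le_pCore {V : Subgroup G} (hV : Cfsg.IsPReducedNormal p V) :
    V ≤ Cfsg.pCore p G :=
  haveI := hV.1
  CfsgLib.Coprime.le_pCore (isPGroup_of_ea hV.2.1)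

theorem pCore_le_centralizer_reduced {V : Subgroup G} (hV : Cfsg.IsPReducedNormal p V) :
    Cfsg.pCore p G ≤ centralizer (V : Set G) :=
  haveI := CfsgLib.Coprime.pCore_normal' (G := G) p
  reduced_pgroup_le_centralizer hV (CfsgLib.Coprime.pCore_isPGroup p)

theorem isPReducedNormal_bot : Cfsg.IsPReducedNormal p (⊥ : Subgroup G) :=
  isPReducedNormal_iff.2 ⟨inferInstance, CfsgLib.Fusion.isElementaryAbelian_bot,
    fun X _ _ x _ => mem_centralizer_iff.2 fun h hh => by
      rw [SetLike.mem_coe, mem_bot] at hh; simp [hh]⟩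

theorem isPReducedNormal_sup {V W : Subgroup G} (hV : Cfsg.IsPReducedNormal p V)
    (hW : Cfsg.IsPReducedNormal p W) : Cfsg.IsPReducedNormal p (V ⊔ W) := by
  haveI := hV.1
  haveI := hW.1
  refine isPReducedNormal_iff.2 ⟨inferInstance, isElementaryAbelian_sup hV.2.1 hW.2.1
    ((reduced_le_pCore hW).trans (pCore_le_centralizer_reduced hV)), fun X hX h => ?_⟩
  rw [le_centralizer_iff]
  refine sup_le (le_centralizer_iff.1 ((isPReducedNormal_iff.1 hV).2.2 X hX fun x hx => ?_))
    (le_centralizer_iff.1 ((isPReducedNormal_iff.1 hW).2.2 X hX fun x hx => ?_))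
  · obtain ⟨k, hk⟩ := h x hx
    exact ⟨k, Subgroup.centralizer_le (SetLike.coe_subset_coe.2 le_sup_left) hk⟩
  · obtain ⟨k, hk⟩ := h x hx
    exact ⟨k, Subgroup.centralizer_le (SetLike.coe_subset_coe.2 le_sup_right) hk⟩

theorem le_largestPReduced {V : Subgroup G} (hV : Cfsg.IsPReducedNormal p V) :
    V ≤ Cfsg.largestPReduced p G :=
  le_sSup hV

theorem largestPReduced_spec : Cfsg.IsPReducedNormal p (Cfsg.largestPReduced p G) := by
  obtain ⟨M, hM, hmax⟩ := Set.Finite.exists_maximal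
    (Set.toFinite {V : Subgroup G | Cfsg.IsPReducedNormal p V}) ⟨⊥, isPReducedNormal_bot⟩
  have e : Cfsg.largestPReduced p G = M := by
    refine le_antisymm (sSup_le fun V hV => ?_) (le_largestPReduced hM)
    exact le_sup_right.trans (hmax (isPReducedNormal_sup hM hV) le_sup_left)
  rw [e]
  exact hM

theorem eq_largestPReduced {Y : Subgroup G}
    (hY : Cfsg.IsPReducedNormal p Y ∧ ∀ V : Subgroup G, Cfsg.IsPReducedNormal p V → V ≤ Y) :
    Y = Cfsg.largestPReduced p G :=
  le_antisymm (le_largestPReduced hY.1) (hY.2 _ largestPReduced_spec)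

/-! ### Subnormal subgroups -/

/-- A normal subgroup of a subnormal subgroup whose `p`-power parts centralize a `p`-reduced
subgroup centralizes it. -/
theorem le_centralizer_of_subnormal {V : Subgroup G} (hV : Cfsg.IsPReducedNormal p V)
    {X : Subgroup G} (hX : X.IsSubnormal)
    (h : ∀ x ∈ X, ∃ k : ℕ, x ^ p ^ k ∈ centralizer (V : Set G)) :
    X ≤ centralizer (V : Set G) := by
  obtain ⟨-, -, hC, hbot⟩ := hV
  haveI := hC
  set C := centralizer (V : Set G) with hCdef
  have hs := hX.map (f := QuotientGroup.mk' C) (QuotientGroup.mk'_surjective C)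
  have hp : IsPGroup p (X.map (QuotientGroup.mk' C)) := by
    rintro ⟨_, x, hx, rfl⟩
    obtain ⟨k, hk⟩ := h x hx
    exact ⟨k, Subtype.ext (by
      rw [SubmonoidClass.coe_pow]
      show (QuotientGroup.mk' C x) ^ p ^ k = 1
      rw [← map_pow]; exact (QuotientGroup.eq_one_iff _).2 hk)⟩
  intro x hx
  have := CfsgLib.Coprime.le_pCore_of_isSubnormal hs hp
    (mem_map_of_mem (QuotientGroup.mk' C) hx)
  rw [hbot, mem_bot] at this
  exact (QuotientGroup.eq_one_iff x).1 this

/-- Fitting: the commutators of an element of order prime to `p` with a normal elementary abelian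
subgroup are commutators of commutators. -/
theorem exists_commutator_sq {V : Subgroup G} [hVn : V.Normal]
    (hV : Cfsg.IsElementaryAbelian p V) {x : G} (hx : (orderOf x).Coprime p) {v : G} (hv : v ∈ V) :
    ∃ w ∈ V, ⁅x, v⁆ = ⁅x, ⁅x, w⁆⁆ := by
  have hmem : ∀ w ∈ V, ⁅x, w⁆ ∈ V := fun w hw => by
    rw [commutatorElement_def]; exact mul_mem (hVn.conj_mem w hw x) (inv_mem hw)
  let f : V → V := fun w => ⟨⁅x, (w : G)⁆, hmem w w.2⟩
  have hinj : Set.InjOn f (Set.range f) := by
    rintro _ ⟨a, rfl⟩ _ ⟨b, rfl⟩ hab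
    have hab' : ⁅x, ⁅x, (a : G)⁆⁆ = ⁅x, ⁅x, (b : G)⁆⁆ := congrArg Subtype.val hab
    set u := (⁅x, (a : G)⁆)⁻¹ * ⁅x, (b : G)⁆ with hu
    have hA := hmem a a.2
    have hB := hmem b b.2
    have huV : u ∈ V := mul_mem (inv_mem hA) hB
    have hfix : x * u * x⁻¹ = u := by
      have e1 : x * ⁅x, (a : G)⁆ * x⁻¹ = ⁅x, ⁅x, (a : G)⁆⁆ * ⁅x, (a : G)⁆ := by
        simp only [commutatorElement_def]; group
      have e2 : x * ⁅x, (b : G)⁆ * x⁻¹ = ⁅x, ⁅x, (b : G)⁆⁆ * ⁅x, (b : G)⁆ := by
        simp only [commutatorElement_def]; group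
      rw [hu, show x * (⁅x, (a : G)⁆⁻¹ * ⁅x, (b : G)⁆) * x⁻¹ =
        (x * ⁅x, (a : G)⁆ * x⁻¹)⁻¹ * (x * ⁅x, (b : G)⁆ * x⁻¹) by group, e1, e2, hab']
      group
    have hconj : x * ((a : G)⁻¹ * b) * x⁻¹ = u * ((a : G)⁻¹ * b) := by
      have hk : (a : G) * ⁅x, (a : G)⁆ = ⁅x, (a : G)⁆ * a := ea_comm hV a.2 hA
      have hk2 : (a : G)⁻¹ * ⁅x, (a : G)⁆⁻¹ = ⁅x, (a : G)⁆⁻¹ * (a : G)⁻¹ := by
        rw [← mul_inv_rev, ← mul_inv_rev, hk]
      have hk3 : (a : G)⁻¹ * ⁅x, (b : G)⁆ = ⁅x, (b : G)⁆ * (a : G)⁻¹ :=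
        ea_comm hV (inv_mem a.2) hB
      calc x * ((a : G)⁻¹ * b) * x⁻¹ = ((a : G)⁻¹ * ⁅x, (a : G)⁆⁻¹) * (⁅x, (b : G)⁆ * b) := by
            simp only [commutatorElement_def]; group
        _ = ⁅x, (a : G)⁆⁻¹ * ((a : G)⁻¹ * ⁅x, (b : G)⁆) * b := by rw [hk2]; group
        _ = u * ((a : G)⁻¹ * b) := by rw [hk3, hu]; group
    have hu1 : u = 1 := CfsgLib.Coprime.eq_one_of_conj_eq_mul hconj hfix
      (Nat.Coprime.coprime_dvd_right (orderOf_dvd_of_pow_eq_one (hV.2 u huV)) hx)
    exact Subtype.ext (inv_mul_eq_one.1 hu1)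
  have himg : f '' Set.range f = Set.range f :=
    Set.eq_of_subset_of_ncard_le (Set.image_subset_range f _)
      (Set.ncard_image_of_injOn hinj).ge (Set.toFinite _)
  obtain ⟨-, ⟨w, rfl⟩, hw⟩ := himg.ge ⟨⟨v, hv⟩, rfl⟩
  exact ⟨w, w.2, (congrArg Subtype.val hw).symm⟩

theorem commutator_mem_of_subnormal {V : Subgroup G} [V.Normal]
    (hV : Cfsg.IsElementaryAbelian p V) {K : Subgroup G} (hK : K.IsSubnormal) :
    ∀ x ∈ K, (orderOf x).Coprime p → ∀ v ∈ V, ⁅x, v⁆ ∈ K := by
  induction hK with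
  | top => exact fun _ _ _ _ _ => mem_top _
  | step H M hle _ hN ih =>
    intro x hx hc v hv
    obtain ⟨w, hw, e⟩ := exists_commutator_sq hV hc hv
    have hu : ⁅x, w⁆ ∈ M := ih x (hle hx) hc w hw
    rw [e, commutatorElement_def, mul_assoc, mul_assoc, ← mul_assoc ⁅x, w⁆]
    exact mul_mem hx
      ((mem_normalizer_iff.1 ((normal_subgroupOf_iff_le_normalizer hle).1 hN hu) x⁻¹).1 (inv_mem hx))

theorem commutator_resOf_le {V : Subgroup G} [V.Normal] (hV : Cfsg.IsElementaryAbelian p V)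
    {K : Subgroup G} (hK : K.IsSubnormal) :
    ⁅V, (Cfsg.pResidual p K).map K.subtype⁆ ≤ K := by
  rw [commutator_comm, commutator_le]
  rintro _ ⟨r, hr, rfl⟩ v hv
  induction hr using Subgroup.closure_induction generalizing v with
  | mem x hx =>
      exact commutator_mem_of_subnormal hV hK x x.2 (by rwa [Subgroup.orderOf_coe]) v hv
  | one => simp
  | mul a b _ _ ha hb =>
      rw [map_mul, show ⁅K.subtype a * K.subtype b, v⁆ =
        K.subtype a * ⁅K.subtype b, v⁆ * (K.subtype a)⁻¹ * ⁅K.subtype a, v⁆ by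
          simp only [commutatorElement_def]; group]
      exact mul_mem (mul_mem (mul_mem a.2 (hb v hv)) (inv_mem a.2)) (ha v hv)
  | inv a _ ha =>
      rw [map_inv, show ⁅(K.subtype a)⁻¹, v⁆ =
        (K.subtype a)⁻¹ * ⁅K.subtype a, v⁆⁻¹ * K.subtype a by
          simp only [commutatorElement_def]; group]
      exact mul_mem (mul_mem (inv_mem a.2) (inv_mem (ha v hv))) a.2

/-- Reduced subgroups inside subnormal subgroups. -/
theorem reduced_in_subnormal {V K W : Subgroup G} (hV : Cfsg.IsPReducedNormal p V)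
    (hK : K.IsSubnormal) (hWV : W ≤ V) (hWK : W ≤ K) (hKW : K ≤ normalizer (W : Set G))
    (hcomm : ∀ x ∈ K, (orderOf x).Coprime p → ∀ v ∈ V, ⁅x, v⁆ ∈ W) :
    Cfsg.IsPReducedNormal p (W.subgroupOf K) ∧
      K ⊓ centralizer (W : Set G) = K ⊓ centralizer (V : Set G) := by
  haveI := hV.1
  have hWe : Cfsg.IsElementaryAbelian p W := isElementaryAbelian_of_le hWV hV.2.1
  haveI hWn : (W.subgroupOf K).Normal := (normal_subgroupOf_iff_le_normalizer hWK).2 hKW
  have hCn : K ≤ normalizer (centralizer (W : Set G) : Set G) :=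
    hKW.trans (CfsgLib.Coprime.normalizer_le_normalizer_centralizer W)
  have hsub : (K ⊓ centralizer (W : Set G)).IsSubnormal :=
    IsSubnormal.step _ K inf_le_left hK ((normal_subgroupOf_iff_le_normalizer inf_le_left).2
      (CfsgLib.Coprime.inf_le_normalizer le_normalizer hCn))
  have hcop : ∀ x ∈ K ⊓ centralizer (W : Set G), (orderOf x).Coprime p →
      x ∈ centralizer (V : Set G) := by
    intro x hx hc
    refine mem_centralizer_iff.2 fun v hv => ?_
    have hu : ⁅x, v⁆ ∈ W := hcomm x hx.1 hc v hv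
    have h1 : ⁅x, v⁆ = 1 := CfsgLib.Coprime.eq_one_of_conj_eq_mul (a := x) (x := v)
      (by simp only [commutatorElement_def]; group)
      (by rw [← mem_centralizer_iff.1 hx.2 _ hu, mul_inv_cancel_right])
      (Nat.Coprime.coprime_dvd_right (orderOf_dvd_of_pow_eq_one (hWe.2 _ hu)) hc)
    exact (commutatorElement_eq_one_iff_mul_comm.1 h1).symm
  have hpow : ∀ x ∈ K ⊓ centralizer (W : Set G),
      ∃ k : ℕ, x ^ p ^ k ∈ centralizer (V : Set G) := fun x hx => by
    refine ⟨(orderOf x).factorization p, hcop _ (pow_mem hx _) ?_⟩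
    rw [orderOf_pow_of_dvd (pow_ne_zero _ (Fact.out : p.Prime).ne_zero) (Nat.ordProj_dvd _ _)]
    exact (Nat.coprime_ordCompl (Fact.out : p.Prime) (orderOf_pos x).ne').symm
  have heq : K ⊓ centralizer (W : Set G) = K ⊓ centralizer (V : Set G) :=
    le_antisymm (le_inf inf_le_left (le_centralizer_of_subnormal hV hsub hpow))
      (inf_le_inf_left _ (Subgroup.centralizer_le (SetLike.coe_subset_coe.2 hWV)))
  refine ⟨isPReducedNormal_iff.2 ⟨hWn, isElementaryAbelian_subgroupOf hWK hWe,
    fun X hX h => ?_⟩, heq⟩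
  rw [centralizer_subgroupOf' hWK] at h ⊢
  have hXs : (X.map K.subtype).IsSubnormal := IsSubnormal.trans' hX.isSubnormal hK
  intro x hx
  have hm := le_centralizer_of_subnormal hV hXs (fun y hy => by
    obtain ⟨z, hz, rfl⟩ := hy
    obtain ⟨k, hk⟩ := h z hz
    refine ⟨k, ?_⟩
    have : ((z : G) ^ p ^ k) ∈ K ⊓ centralizer (V : Set G) :=
      heq.le ⟨pow_mem z.2 _, mem_subgroupOf.1 hk⟩
    exact this.2) (mem_map_of_mem K.subtype hx)
  exact mem_subgroupOf.2 (heq.ge ⟨x.2, hm⟩).2

/-- `Y_H` and `Y_L` have the same centralizer in a normal subgroup `L`. -/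
theorem centralizer_largest_le_of_normal (L : Subgroup G) [hLn : L.Normal] :
    L ⊓ centralizer (Cfsg.largestPReduced p G : Set G) ≤
      centralizer ((Cfsg.largestPReducedOf p L : Subgroup G) : Set G) := by
  obtain ⟨hY₀n, hY₀e, -⟩ := largestPReduced_spec (G := L) (p := p)
  have hred := (isPReducedNormal_iff.1 (largestPReduced_spec (G := L) (p := p))).2.2
  set Y₀ := Cfsg.largestPReduced p L with hY₀
  have hYLn : (Cfsg.largestPReducedOf p L).Normal := by
    refine ⟨fun y hy g => ?_⟩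
    obtain ⟨z, hz, rfl⟩ := hy
    let e : L ≃* L := MulAut.conjNormal g
    refine ⟨e z, ?_, MulAut.conjNormal_apply g z⟩
    have hmap : Cfsg.IsPReducedNormal p (Y₀.map e.toMonoidHom) := by
      refine isPReducedNormal_iff.2 ⟨hY₀n.map _ e.surjective,
        CfsgLib.Fusion.isElementaryAbelian_map _ hY₀e, fun X hX h => ?_⟩
      have hc := hred (X.comap e.toMonoidHom) (hX.comap _) fun x hx => by
        obtain ⟨k, hk⟩ := h _ hx
        refine ⟨k, mem_centralizer_iff.2 fun a ha => e.injective ?_⟩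
        have := mem_centralizer_iff.1 hk (e a) (mem_map_of_mem e.toMonoidHom ha)
        simp only [map_mul, map_pow]
        exact this
      intro x hx
      refine mem_centralizer_iff.2 ?_
      rintro _ ⟨a, ha, rfl⟩
      have := congrArg e (mem_centralizer_iff.1
        (hc (show e.symm x ∈ X.comap e.toMonoidHom by
          rw [mem_comap]; simpa using hx)) a ha)
      simpa [map_mul] using this
    exact le_largestPReduced hmap (mem_map_of_mem e.toMonoidHom hz)
  set YL := Cfsg.largestPReducedOf p L with hYL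
  have hYLe : Cfsg.IsElementaryAbelian p YL := CfsgLib.Fusion.isElementaryAbelian_map _ hY₀e
  have hCYL : ∀ x : L, (x : G) ∈ centralizer (YL : Set G) ↔ x ∈ centralizer (Y₀ : Set L) := by
    intro x
    constructor
    · exact fun h => mem_centralizer_iff.2 fun a ha =>
        Subtype.ext (mem_centralizer_iff.1 h _ (mem_map_of_mem L.subtype ha))
    · intro h
      refine mem_centralizer_iff.2 ?_
      rintro _ ⟨a, ha, rfl⟩
      exact congrArg Subtype.val (mem_centralizer_iff.1 h a ha)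
  -- reducedness of `Y_L`, in the ambient group
  have hredG : ∀ X : Subgroup G, X.Normal → X ≤ L →
      (∀ x ∈ X, ∃ k : ℕ, x ^ p ^ k ∈ centralizer (YL : Set G)) → X ≤ centralizer (YL : Set G) := by
    intro X hX hXL h x hx
    refine (hCYL ⟨x, hXL hx⟩).2 (hred (X.subgroupOf L) inferInstance (fun y hy => ?_) hx)
    obtain ⟨k, hk⟩ := h y hy
    exact ⟨k, (hCYL _).1 hk⟩
  obtain ⟨W, ⟨hWn, hWY, hWC⟩, hWmin⟩ := Set.Finite.exists_minimal
    (Set.toFinite {W : Subgroup G | W.Normal ∧ W ≤ YL ∧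
      L ⊓ centralizer (W : Set G) ≤ centralizer (YL : Set G)})
    ⟨YL, hYLn, le_rfl, inf_le_right⟩
  haveI := hWn
  have hWe := isElementaryAbelian_of_le hWY hYLe
  haveI hCW : (centralizer (W : Set G)).Normal := Subgroup.normal_centralizer
  have hWred : Cfsg.IsPReducedNormal p W := by
    refine isPReducedNormal_iff.2 ⟨hWn, hWe, fun X hX h => ?_⟩
    haveI := hX
    have hXL : X ⊓ L ≤ centralizer (YL : Set G) := hredG _ inferInstance inf_le_right
      fun x hx => by
        obtain ⟨k, hk⟩ := h x hx.1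
        exact ⟨k, hWC ⟨pow_mem hx.2 _, hk⟩⟩
    haveI hCX : (centralizer (X : Set G)).Normal := Subgroup.normal_centralizer
    suffices hW' : W ⊓ centralizer (X : Set G) ∈ {W : Subgroup G | W.Normal ∧ W ≤ YL ∧
        L ⊓ centralizer (W : Set G) ≤ centralizer (YL : Set G)} from
      le_centralizer_iff.1 ((hWmin hW' inf_le_left).trans inf_le_right)
    refine ⟨inferInstance, inf_le_left.trans hWY, ?_⟩
    set W' := W ⊓ centralizer (X : Set G) with hW'def
    haveI : (centralizer (W' : Set G)).Normal := Subgroup.normal_centralizer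
    refine hredG _ inferInstance inf_le_left fun x hx => ?_
    refine ⟨(orderOf x).factorization p, hWC ⟨pow_mem hx.1 _, ?_⟩⟩
    set q := x ^ p ^ (orderOf x).factorization p with hq
    have hqc : (orderOf q).Coprime p := by
      rw [hq, orderOf_pow_of_dvd (pow_ne_zero _ (Fact.out : p.Prime).ne_zero)
        (Nat.ordProj_dvd _ _)]
      exact (Nat.coprime_ordCompl (Fact.out : p.Prime) (orderOf_pos x).ne').symm
    have hqL : q ∈ L := pow_mem hx.1 _
    have hqW' : q ∈ centralizer (W' : Set G) := pow_mem hx.2 _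
    refine mem_centralizer_iff.2 fun w hw => ?_
    by_contra hne
    -- the commutators with `q` form a subgroup on which `X` acts with a fixed point
    let U : Subgroup G :=
      { carrier := {u | ∃ v ∈ W, u = ⁅q, v⁆}
        one_mem' := ⟨1, one_mem _, by simp⟩
        mul_mem' := by
          rintro _ _ ⟨a, ha, rfl⟩ ⟨b, hb, rfl⟩
          refine ⟨a * b, mul_mem ha hb, ?_⟩
          have hm : ⁅q, b⁆ ∈ W := by
            rw [commutatorElement_def]; exact mul_mem (hWn.conj_mem b hb q) (inv_mem hb)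
          rw [show ⁅q, a * b⁆ = ⁅q, a⁆ * (a * ⁅q, b⁆ * a⁻¹) by
            simp only [commutatorElement_def]; group, ea_comm hWe ha hm, mul_inv_cancel_right]
        inv_mem' := by
          rintro _ ⟨a, ha, rfl⟩
          refine ⟨a⁻¹, inv_mem ha, ?_⟩
          have hm : ⁅q, a⁆ ∈ W := by
            rw [commutatorElement_def]; exact mul_mem (hWn.conj_mem a ha q) (inv_mem ha)
          rw [show ⁅q, a⁻¹⁆ = a⁻¹ * ⁅q, a⁆⁻¹ * a by simp only [commutatorElement_def]; group,
            ea_comm hWe (inv_mem ha) (inv_mem hm), inv_mul_cancel_right] }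
    have hUW : U ≤ W := by
      rintro _ ⟨a, ha, rfl⟩
      rw [commutatorElement_def]; exact mul_mem (hWn.conj_mem a ha q) (inv_mem ha)
    have hXU : ∀ g ∈ X, ∀ u ∈ U, g * u * g⁻¹ ∈ U := by
      rintro g hg _ ⟨a, ha, rfl⟩
      refine ⟨g * a * g⁻¹, hWn.conj_mem a ha g, ?_⟩
      have hc : ⁅g, q⁆ ∈ centralizer (W : Set G) := by
        refine Subgroup.centralizer_le (SetLike.coe_subset_coe.2 hWY) (hXL (mem_inf.2 ⟨?_, ?_⟩))
        · rw [commutatorElement_def, mul_assoc, mul_assoc, ← mul_assoc q]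
          exact mul_mem hg (hX.conj_mem _ (inv_mem hg) q)
        · rw [commutatorElement_def]
          exact mul_mem (hLn.conj_mem q hqL g) (inv_mem hqL)
      have hm : q * (g * a * g⁻¹) * q⁻¹ ∈ W := hWn.conj_mem _ (hWn.conj_mem a ha g) q
      calc g * ⁅q, a⁆ * g⁻¹
          = (⁅g, q⁆ * (q * (g * a * g⁻¹) * q⁻¹) * ⁅g, q⁆⁻¹) * (g * a * g⁻¹)⁻¹ := by
            simp only [commutatorElement_def]; group
        _ = ⁅q, g * a * g⁻¹⁆ := by
            rw [← mem_centralizer_iff.1 hc _ hm, mul_inv_cancel_right, commutatorElement_def]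
    obtain ⟨P⟩ : Nonempty (Sylow p X) := inferInstance
    let P' : Subgroup G := (P : Subgroup X).map X.subtype
    have hP'p : IsPGroup p P' := P.2.map _
    have hUne : U ≠ ⊥ := fun h0 => hne (by
      have : ⁅q, w⁆ ∈ U := ⟨w, hw, rfl⟩
      rw [h0, mem_bot] at this
      exact (commutatorElement_eq_one_iff_mul_comm.1 this).symm)
    have hP'N : P' ≤ normalizer (U : Set G) :=
      le_normalizer_iff.2 fun g hg u hu => hXU g (map_subtype_le _ hg) u hu
    obtain ⟨u, ⟨huU, huc⟩, hu1⟩ : ∃ u ∈ U ⊓ centralizer (P' : Set G), u ≠ 1 := by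
      by_contra hno
      push_neg at hno
      refine hUne ?_
      have hUp : IsPGroup p U := (isPGroup_of_ea hWe).to_le hUW
      have hS : IsPGroup p (U ⊔ P' : Subgroup G) := hUp.to_sup_of_normal_left' hP'p hP'N
      by_contra hU0
      haveI : Nontrivial U := (Subgroup.nontrivial_iff_ne_bot U).2 hU0
      haveI hUn : (U.subgroupOf (U ⊔ P')).Normal := by
        refine (normal_subgroupOf_iff_le_normalizer le_sup_left).2 (sup_le le_normalizer hP'N)
      have hne' : U.subgroupOf (U ⊔ P') ≠ ⊥ := fun h0 => hU0 (by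
        have := congrArg (Subgroup.map (U ⊔ P').subtype) h0
        rwa [subgroupOf_map_subtype, Subgroup.map_bot, inf_eq_left.2 le_sup_left] at this)
      haveI : Nontrivial (U.subgroupOf (U ⊔ P')) := (Subgroup.nontrivial_iff_ne_bot _).2 hne'
      obtain ⟨z, hzU, hzc, hz1⟩ : ∃ z : (U ⊔ P' : Subgroup G),
          z ∈ U.subgroupOf (U ⊔ P') ∧ z ∈ center (U ⊔ P' : Subgroup G) ∧ z ≠ 1 := by
        haveI := hS.isNilpotent
        have hnt := CfsgLib.Coprime.nilpotent_inf_center_ne_bot _ hne'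
        rw [Ne, eq_bot_iff_forall] at hnt
        push_neg at hnt
        obtain ⟨z, hz, hz1⟩ := hnt
        exact ⟨z, hz.1, hz.2, hz1⟩
      refine hz1 (Subtype.ext (hno z ⟨hzU, mem_centralizer_iff.2 fun g hg => ?_⟩))
      exact congrArg Subtype.val
        (mem_center_iff.1 hzc ⟨g, (le_sup_right : P' ≤ U ⊔ P') hg⟩)
    have huX : u ∈ centralizer (X : Set G) := by
      have hle : X ≤ centralizer ({u} : Set G) := by
        have h1 : Cfsg.pResidual p X ⊔ (P : Subgroup X) ≤ (centralizer ({u} : Set G)).subgroupOf X := by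
          refine sup_le (pResidual_le fun g hg => ?_) fun g hg => ?_
          · obtain ⟨k, hk⟩ := h g g.2
            have hk' : (g : G) ∈ centralizer (W : Set G) :=
              mem_of_coprime_of_pow_mem (p := p) (k := k) (by rwa [Subgroup.orderOf_coe]) hk
            exact mem_subgroupOf.2 (mem_centralizer_singleton_iff.2
              (mem_centralizer_iff.1 hk' u (hUW huU)).symm)
          · exact mem_subgroupOf.2 (mem_centralizer_singleton_iff.2
              (mem_centralizer_iff.1 huc g (mem_map_of_mem _ hg)))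
        rw [CfsgLib.Fusion.pResidual_sup_sylow] at h1
        exact fun g hg => mem_subgroupOf.1 (h1 (mem_top (⟨g, hg⟩ : X)))
      exact mem_centralizer_iff.2 fun g hg => mem_centralizer_singleton_iff.1 (hle hg)
    obtain ⟨a, ha, rfl⟩ := huU
    refine hu1 (CfsgLib.Coprime.eq_one_of_conj_eq_mul (a := q) (x := a)
      (by simp only [commutatorElement_def]; group) ?_
      (Nat.Coprime.coprime_dvd_right
        (orderOf_dvd_of_pow_eq_one (hWe.2 _ (hUW ⟨a, ha, rfl⟩))) hqc))
    rw [← mem_centralizer_iff.1 hqW' _ ⟨hUW ⟨a, ha, rfl⟩, huX⟩, mul_inv_cancel_right]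
  intro x hx
  exact hWC ⟨hx.1, Subgroup.centralizer_le (SetLike.coe_subset_coe.2 (le_largestPReduced hWred)) hx.2⟩

/-! ### Transfer to overgroups and along factorizations -/

/-- The `p`-power parts and a Sylow subgroup decide membership. -/
theorem le_of_sylow_le {X D : Subgroup G} (R : Sylow p X)
    (hR : (R : Subgroup X).map X.subtype ≤ D) (h : ∀ x ∈ X, ∃ k : ℕ, x ^ p ^ k ∈ D) : X ≤ D := by
  have h1 : Cfsg.pResidual p X ⊔ (R : Subgroup X) ≤ D.subgroupOf X := by
    refine sup_le (pResidual_le fun g hg => ?_) fun g hg => hR (mem_map_of_mem _ hg)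
    obtain ⟨k, hk⟩ := h g g.2
    exact mem_subgroupOf.2
      (mem_of_coprime_of_pow_mem (p := p) (k := k) (by rwa [Subgroup.orderOf_coe]) hk)
  rw [CfsgLib.Fusion.pResidual_sup_sylow] at h1
  exact fun g hg => mem_subgroupOf.1 (h1 (mem_top (⟨g, hg⟩ : X)))

/-- The normal closure of a reduced subgroup of an overgroup of a Sylow subgroup is reduced. -/
theorem normalClosure_reduced (hchar : centralizer (Cfsg.pCore p G : Set G) ≤ Cfsg.pCore p G)
    (T : Sylow p G) {R : Subgroup G} (hTR : (T : Subgroup G) ≤ R) {X : Subgroup R}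
    (hX : Cfsg.IsPReducedNormal p X) :
    Cfsg.IsPReducedNormal p (normalClosure ((X.map R.subtype : Subgroup G) : Set G)) := by
  haveI := CfsgLib.Coprime.pCore_normal' (G := G) p
  set Q := Cfsg.pCore p G with hQ
  have hQR : Q ≤ R := (CfsgLib.PGroup.pCore_le_sylow T).trans hTR
  have hQX : Q.subgroupOf R ≤ centralizer (X : Set R) :=
    reduced_pgroup_le_centralizer hX
      ((CfsgLib.Coprime.pCore_isPGroup (G := G) p).of_equiv (subgroupOfEquivOfLe hQR).symm)
  set V₀ := X.map R.subtype with hV₀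
  have hVC : V₀ ≤ Q ⊓ centralizer (Q : Set G) := by
    have hc : V₀ ≤ centralizer (Q : Set G) := by
      rintro _ ⟨x, hx, rfl⟩
      refine mem_centralizer_iff.2 fun z hz => ?_
      exact (congrArg Subtype.val
        (mem_centralizer_iff.1 (hQX (x := ⟨z, hQR hz⟩) hz) x hx)).symm
    exact le_inf (hc.trans hchar) hc
  haveI : (centralizer (Q : Set G)).Normal := Subgroup.normal_centralizer
  set V := normalClosure (V₀ : Set G) with hV
  have hVle : V ≤ Q ⊓ centralizer (Q : Set G) := normalClosure_le_normal hVC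
  have hcomm : ∀ a b : G, a ∈ V → b ∈ V → a * b = b * a := fun a b ha hb =>
    mem_centralizer_iff.1 (hVle hb).2 a (hVle ha).1
  have hpow : ∀ a ∈ V, a ^ p = 1 := by
    have hle : V ≤ Cfsg.omegaOne p V := by
      have hn : (Cfsg.omegaOne p V).Normal := by
        refine ⟨fun n hn g => ?_⟩
        induction hn using Subgroup.closure_induction with
        | mem x hx =>
            exact mem_omegaOne (p := p) (normalClosure_normal.conj_mem x hx.1 g)
              (by rw [conj_pow, hx.2, mul_one, mul_inv_cancel])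
        | one => simp
        | mul x y _ _ hx hy => simpa [mul_assoc] using mul_mem hx hy
        | inv x _ hx => simpa [mul_assoc] using inv_mem hx
      haveI := hn
      refine normalClosure_le_normal ?_
      rintro _ ⟨x, hx, rfl⟩
      exact mem_omegaOne (p := p) (subset_normalClosure (mem_map_of_mem _ hx))
        (by rw [← map_pow, hX.2.1.2 x hx, map_one])
    intro a ha
    exact (omegaOne_ea (fun z hz => mem_centralizer_iff.2 fun y hy =>
      hcomm y z hy hz) : Cfsg.IsElementaryAbelian p (Cfsg.omegaOne p V)).2 a (hle ha)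
  refine isPReducedNormal_iff.2 ⟨inferInstance,
    ⟨⟨⟨fun a b => Subtype.ext (hcomm a b a.2 b.2)⟩⟩, hpow⟩, fun Y hY h => ?_⟩
  haveI := hY
  have hCV₀ : ∀ g : R, (g : G) ∈ centralizer (V₀ : Set G) ↔ g ∈ centralizer (X : Set R) := by
    intro g
    constructor
    · exact fun hg => mem_centralizer_iff.2 fun a ha =>
        Subtype.ext (mem_centralizer_iff.1 hg _ (mem_map_of_mem R.subtype ha))
    · intro hg
      refine mem_centralizer_iff.2 ?_
      rintro _ ⟨a, ha, rfl⟩
      exact congrArg Subtype.val (mem_centralizer_iff.1 hg a ha)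
  have hYR : Y.subgroupOf R ≤ centralizer (X : Set R) :=
    (isPReducedNormal_iff.1 hX).2.2 _ inferInstance fun y hy => by
      obtain ⟨k, hk⟩ := h y hy
      exact ⟨k, (hCV₀ _).1
        (Subgroup.centralizer_le (Subgroup.subset_normalClosure (s := (V₀ : Set G))) hk)⟩
  obtain ⟨RY, hRY⟩ := sylow_inf_normal T Y
  have hY₀ : Y ≤ centralizer (V₀ : Set G) := by
    refine le_of_sylow_le RY ?_ fun y hy => ?_
    · rw [hRY]
      exact fun y hy => (hCV₀ ⟨y, hTR hy.1⟩).2 (hYR (x := ⟨y, hTR hy.1⟩) hy.2)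
    · obtain ⟨k, hk⟩ := h y hy
      exact ⟨k, Subgroup.centralizer_le (Subgroup.subset_normalClosure (s := (V₀ : Set G))) hk⟩
  haveI : (centralizer (Y : Set G)).Normal := Subgroup.normal_centralizer
  rw [le_centralizer_iff]
  exact normalClosure_le_normal (le_centralizer_iff.1 hY₀)

/-- Reducedness along a factorization `L C = M C`. -/
theorem reduced_transfer {L M V : Subgroup G} (hVM : V ≤ M) (hVL : V ≤ L)
    (hV : Cfsg.IsPReducedNormal p (V.subgroupOf M))
    (hfac : L ⊔ centralizer (V : Set G) = M ⊔ centralizer (V : Set G)) :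
    Cfsg.IsPReducedNormal p (V.subgroupOf L) := by
  obtain ⟨hVn, hVe, hred⟩ := isPReducedNormal_iff.1 hV
  set C := centralizer (V : Set G) with hC
  have hMN : M ≤ normalizer (V : Set G) := (normal_subgroupOf_iff_le_normalizer hVM).1 hVn
  have hCN : C ≤ normalizer (V : Set G) := centralizer_le_normalizer _
  have hLN : L ≤ normalizer (V : Set G) :=
    (le_sup_left.trans hfac.le).trans (sup_le hMN hCN)
  have hVe' : Cfsg.IsElementaryAbelian p V := by
    have := CfsgLib.Fusion.isElementaryAbelian_map M.subtype hVe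
    rwa [map_subgroupOf_eq_of_le hVM] at this
  refine isPReducedNormal_iff.2 ⟨(normal_subgroupOf_iff_le_normalizer hVL).2 hLN,
    isElementaryAbelian_subgroupOf hVL hVe', fun X hX h => ?_⟩
  rw [centralizer_subgroupOf' hVL] at h ⊢
  rw [centralizer_subgroupOf' hVM] at hred
  set X' := X.map L.subtype with hX'
  have hN : normalizer (V : Set G) ≤ normalizer (C : Set G) :=
    CfsgLib.Coprime.normalizer_le_normalizer_centralizer V
  have hXL : X' ≤ L := map_subtype_le _
  have hLX : L ≤ normalizer (X' : Set G) := by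
    refine le_normalizer_iff.2 fun l hl y hy => ?_
    obtain ⟨z, hz, rfl⟩ := hy
    exact ⟨⟨l, hl⟩ * z * ⟨l, hl⟩⁻¹, hX.conj_mem z hz _, rfl⟩
  have hLXC : L ⊔ C ≤ normalizer ((X' ⊔ C : Subgroup G) : Set G) := by
    refine sup_le (CfsgLib.Coprime.sup_le_normalizer hLX (hLN.trans hN)) ?_
    exact le_sup_right.trans le_normalizer
  have hX'C : X' ≤ normalizer (C : Set G) := hXL.trans (hLN.trans hN)
  have hMC : M ⊔ C = L ⊔ C := hfac.symm
  intro x hx
  have hxX : (x : G) ∈ X' := mem_map_of_mem _ hx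
  obtain ⟨c, hc, m, hm, e⟩ := CfsgLib.Coprime.mem_sup_exists (N := C) (H := M) (hMN.trans hN)
    (show (x : G) ∈ C ⊔ M by rw [sup_comm, hMC]; exact mem_sup_left x.2)
  have hm' : m ∈ X' ⊔ C := by
    rw [show m = c⁻¹ * (x : G) by rw [← e, inv_mul_cancel_left]]
    exact mul_mem (mem_sup_right (inv_mem hc)) (mem_sup_left hxX)
  have hle := hred ((X' ⊔ C).subgroupOf M)
    ((normal_subgroupOf_iff_le_normalizer_inf).2
      (CfsgLib.Coprime.inf_le_normalizer (le_sup_left.trans (hMC.le.trans hLXC)) le_normalizer))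
    (fun y hy => by
      have hy' : (y : G) ∈ C ⊔ X' := by rw [sup_comm]; exact hy
      obtain ⟨c', hc', z, hz, e'⟩ := CfsgLib.Coprime.mem_sup_exists hX'C hy'
      obtain ⟨w, hw, rfl⟩ := hz
      obtain ⟨k, hk⟩ := h w hw
      refine ⟨k, ?_⟩
      rw [mem_subgroupOf] at hk ⊢
      haveI : (C.subgroupOf (normalizer (C : Set G))).Normal := inferInstance
      let π := QuotientGroup.mk' (C.subgroupOf (normalizer (C : Set G)))
      have hcn : c' ∈ normalizer (C : Set G) := le_normalizer hc'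
      have hwn : (w : G) ∈ normalizer (C : Set G) := hLN.trans hN w.2
      have h1 : π ⟨c', hcn⟩ = 1 := (QuotientGroup.eq_one_iff _).2 hc'
      have h2 : π (⟨(w : G), hwn⟩ ^ p ^ k) = 1 := (QuotientGroup.eq_one_iff _).2 hk
      have h3 : π ((⟨c', hcn⟩ * ⟨(w : G), hwn⟩) ^ p ^ k) = 1 := by
        rw [map_pow, map_mul, h1, one_mul, ← map_pow, h2]
      have := (QuotientGroup.eq_one_iff _).1 h3
      rw [mem_subgroupOf, SubmonoidClass.coe_pow, Subgroup.coe_mul] at this
      rw [SubmonoidClass.coe_pow, ← e']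
      exact this)
    (x := ⟨m, hm⟩) hm'
  rw [mem_subgroupOf, ← e]
  exact mul_mem hc hle

end CfsgLib.LS
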