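import Cfsg.Agent.Lib.LocalStructure.BaumannBlock

/-!
# Blocks: the commutator module and the largest normal `p`-subgroup
-/

set_option autoImplicit false
set_option linter.unusedSectionVars false

open Subgroup
open scoped commutatorElement

namespace CfsgLib.BaumannBlock

open CfsgLib.Fusion (IsMaxEA conjBy)

variable {G : Type*} [Group G]

theorem mem_normalizer_commutator {g : G} {A B : Subgroup G} (hA : g ∈ normalizer (A : Set G))
    (hB : g ∈ normalizer (B : Set G)) : g ∈ normalizer ((⁅A, B⁆ : Subgroup G) : Set G) := by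
  refine CfsgLib.Fusion.conjBy_eq_iff.1 ?_
  rw [CfsgLib.Fusion.conjBy, map_commutator]
  exact congrArg₂ _ (CfsgLib.Fusion.conjBy_eq_iff.2 hA) (CfsgLib.Fusion.conjBy_eq_iff.2 hB)

theorem commutator_le_of_normalizes {A E : Subgroup G} (h : E ≤ normalizer (A : Set G)) :
    ⁅A, E⁆ ≤ A := by
  refine commutator_le.2 fun a ha e he => ?_
  have h1 := (mem_normalizer_iff.1 (h he) a⁻¹).1 (inv_mem ha)
  rw [commutatorElement_def, show a * e * a⁻¹ * e⁻¹ = a * (e * a⁻¹ * e⁻¹) by group]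
  exact mul_mem ha h1

theorem commute_of_commutator_eq_bot {A B : Subgroup G} (h : ⁅A, B⁆ = ⊥) {a b : G} (ha : a ∈ A)
    (hb : b ∈ B) : a * b = b * a :=
  (mem_centralizer_iff.1 (commutator_eq_bot_iff_le_centralizer.1 h ha) b hb).symm

variable [Finite G] {p : ℕ} [Fact p.Prime]

/-- A group generated by `p'`-elements that stabilizes a chain `M ≥ D ≥ 1` of a `p`-group acts
trivially. -/
theorem le_centralizer_of_stabilizes {E M D : Subgroup G} (hres : Cfsg.pResidualOf p E = E)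
    (hD : IsPGroup p D) (hfix : ∀ x ∈ E, ∀ d ∈ D, x * d * x⁻¹ = d)
    (h : ∀ x ∈ E, ∀ m ∈ M, x * m * x⁻¹ * m⁻¹ ∈ D) : E ≤ centralizer (M : Set G) := by
  conv_lhs => rw [← hres, CfsgLib.BaumannNormal.pResidualOf_eq_closure]
  refine (closure_le _).2 fun x ⟨hx, ho⟩ => ?_
  refine mem_centralizer_iff.2 fun m hm => ?_
  obtain ⟨u, hu⟩ : ∃ u, u = x * m * x⁻¹ * m⁻¹ := ⟨_, rfl⟩
  have huD : u ∈ D := hu ▸ h x hx m hm
  obtain ⟨k, hk⟩ := hD ⟨u, huD⟩
  have hcop : (orderOf x).Coprime (orderOf u) :=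
    (Nat.Coprime.pow_right k ho).coprime_dvd_right
      (orderOf_dvd_of_pow_eq_one (congrArg Subtype.val hk))
  have h1 := CfsgLib.Coprime.eq_one_of_conj_eq_mul (x := m) (by rw [hu]; group) (hfix x hx u huD) hcop
  rw [hu, mul_inv_eq_one, mul_inv_eq_iff_eq_mul] at h1
  exact h1.symm

variable {E : Subgroup G}

theorem isPGroup_bW (p : ℕ) [Fact p.Prime] (E : Subgroup G) : IsPGroup p (bW p E) :=
  (CfsgLib.JComp.isPGroup_pCoreOf p E).to_le ((omegaOneCenter_le p _).trans inf_le_left)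

theorem E_le_normalizer_bZ (hb : BlockFacts p E) : E ≤ normalizer (bZ p E : Set G) :=
  CfsgLib.Coprime.inf_le_normalizer hb.normW
    (le_normalizer.trans (CfsgLib.Coprime.normalizer_le_normalizer_centralizer E))

theorem E_le_normalizer_V (hb : BlockFacts p E) :
    E ≤ normalizer ((⁅bW p E, E⁆ : Subgroup G) : Set G) :=
  fun _ he => mem_normalizer_commutator (hb.normW he) (le_normalizer he)

theorem not_le_centralizer_bW (hb : BlockFacts p E) (hne : E ≠ ⊥) :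
    ¬ E ≤ centralizer (bW p E : Set G) := fun h =>
  hne (eq_bot_of_isPGroup ((CfsgLib.JComp.isPGroup_pCoreOf p E).to_le
    ((le_inf le_rfl h).trans hb.ker)) hb.res)

/-- `W = [W, E] Z`. -/
theorem V_sup_Z (hb : BlockFacts p E) (hne : E ≠ ⊥) : ⁅bW p E, E⁆ ⊔ bZ p E = bW p E := by
  rcases hb.irr _ (sup_le (commutator_le_of_normalizes hb.normW) inf_le_left) le_sup_right
    (CfsgLib.Coprime.sup_le_normalizer (E_le_normalizer_V hb) (E_le_normalizer_bZ hb)) with h | h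
  · exfalso
    have hV : ⁅bW p E, E⁆ ≤ centralizer (E : Set G) := (le_sup_left.trans h.le).trans inf_le_right
    refine not_le_centralizer_bW hb hne (le_centralizer_of_stabilizes hb.res
      ((isPGroup_bW p E).to_le (commutator_le_of_normalizes hb.normW)) ?_ ?_)
    · intro x hx d hd
      rw [mul_inv_eq_iff_eq_mul]
      exact mem_centralizer_iff.1 (hV hd) x hx
    · intro x hx m hm
      rw [← commutatorElement_def, commutator_comm]
      exact commutator_mem_commutator hx hm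
  · exact h

/-- `C_E([W, E]) ≤ O_p(E)`. -/
theorem inf_centralizer_V_le (hb : BlockFacts p E) (hne : E ≠ ⊥) :
    E ⊓ centralizer ((⁅bW p E, E⁆ : Subgroup G) : Set G) ≤ Cfsg.pCoreOf p E := by
  refine le_trans (fun x hx => ?_) hb.ker
  obtain ⟨hxE, hxC⟩ := mem_inf.1 hx
  refine mem_inf.2 ⟨hxE, ?_⟩
  have h : bW p E ≤ centralizer ({x} : Set G) := by
    rw [← V_sup_Z hb hne]
    refine sup_le (fun v hv => mem_centralizer_iff.2 fun y hy => ?_)
      (fun z hz => mem_centralizer_iff.2 fun y hy => ?_)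
    · rw [Set.mem_singleton_iff.1 hy]
      exact (mem_centralizer_iff.1 hxC v hv).symm
    · rw [Set.mem_singleton_iff.1 hy]
      exact mem_centralizer_iff.1 (mem_inf.1 hz).2 x hxE
  exact mem_centralizer_iff.2 fun w hw => (mem_centralizer_iff.1 (h hw) x rfl).symm

theorem omegaOneCenter_le_omegaOneCenter_pCore (hG : centralizer (Cfsg.pCore p G : Set G) ≤ Cfsg.pCore p G)
    (T : Sylow p G) : Cfsg.omegaOneCenter p (T : Subgroup G) ≤ Cfsg.omegaOneCenter p (Cfsg.pCore p G) := by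
  refine closure_mono ?_
  rintro x ⟨hx, hxp⟩
  obtain ⟨hxT, hxC⟩ := mem_inf.1 (show x ∈ (T : Subgroup G) ⊓ centralizer ((T : Subgroup G) : Set G) from hx)
  have hC : x ∈ centralizer (Cfsg.pCore p G : Set G) :=
    centralizer_le (show (Cfsg.pCore p G : Set G) ⊆ ((T : Subgroup G) : Set G) from
      CfsgLib.Coprime.pCore_le_sylow T) hxC
  exact ⟨mem_inf.2 ⟨hG hC, hC⟩, hxp⟩

/-- `O_p(G)` normalizes every block. -/
theorem pCore_le_normalizer (T : Sylow p G) (hE : Cfsg.IsBaumannBlock p (T : Subgroup G) E) :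
    Cfsg.pCore p G ≤ normalizer (E : Set G) := by
  haveI := CfsgLib.Coprime.pCore_normal' (G := G) p
  exact CfsgLib.BaumannNormal.le_normalizer_of_invariant T hE.1 hE.2.1
    (CfsgLib.Coprime.pCore_isPGroup p) (by rw [normalizer_eq_top]; exact le_top)
    (by rw [normalizer_eq_top]; exact le_top)

theorem ne_bot_of_block {T : Subgroup G} (hE : Cfsg.IsBaumannBlock p T E) : E ≠ ⊥ := fun h =>
  hE.2.2.2.1 (by rw [h, commutator_bot_left])

/-- `[W, E] ≤ Ω₁ Z(O_p(G))`. -/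
theorem V_le_omegaOneCenter (hG : centralizer (Cfsg.pCore p G : Set G) ≤ Cfsg.pCore p G)
    (T : Sylow p G) (hE : Cfsg.IsBaumannBlock p (T : Subgroup G) E) :
    ⁅bW p E, E⁆ ≤ Cfsg.omegaOneCenter p (Cfsg.pCore p G) := by
  have hb := blockFacts hE
  have hne := ne_bot_of_block hE
  obtain ⟨R, hR⟩ : ∃ R, R = Cfsg.pCore p G := ⟨_, rfl⟩
  obtain ⟨U, hU⟩ : ∃ U, U = Cfsg.omegaOneCenter p (Cfsg.pCore p G) := ⟨_, rfl⟩
  rw [← hU]
  have hUR : U ≤ Cfsg.pCore p G := hU ▸ (omegaOneCenter_le p _).trans inf_le_left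
  have hUcomm : ∀ a ∈ U, ∀ b ∈ U, a * b = b * a := fun a ha b hb' =>
    mem_centralizer_iff.1 (mem_inf.1 (omegaOneCenter_le p _ (hU ▸ hb'))).2 a (hUR ha)
  have hUN : E ≤ normalizer (U : Set G) := by
    haveI := CfsgLib.Coprime.pCore_normal' (G := G) p
    intro e _
    refine CfsgLib.Fusion.conjBy_eq_iff.1 (CfsgLib.Fusion.conjBy_eq_of_le ?_)
    rw [hU, CfsgLib.Fusion.conjBy, Cfsg.omegaOneCenter, Cfsg.omegaOne, MonoidHom.map_closure]
    refine closure_mono ?_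
    rintro _ ⟨x, ⟨hx, hxp⟩, rfl⟩
    refine ⟨?_, by rw [← map_pow, hxp, map_one]⟩
    obtain ⟨hxR, hxC⟩ := mem_inf.1 (show x ∈ Cfsg.pCore p G ⊓ centralizer (Cfsg.pCore p G : Set G) from hx)
    show e * x * e⁻¹ ∈ Cfsg.pCore p G ⊓ centralizer (Cfsg.pCore p G : Set G)
    exact mem_inf.2 ⟨Subgroup.Normal.conj_mem inferInstance x hxR e,
      Subgroup.Normal.conj_mem inferInstance x hxC e⟩
  obtain ⟨M, hM⟩ : ∃ M, M = U ⊓ E := ⟨_, rfl⟩
  have hMN : E ≤ normalizer (M : Set G) := hM ▸ CfsgLib.Coprime.inf_le_normalizer hUN le_normalizer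
  have hMp : IsPGroup p M := hM ▸ (CfsgLib.Coprime.pCore_isPGroup p).to_le (inf_le_left.trans hUR)
  have hMQ : M ≤ Cfsg.pCoreOf p E := CfsgLib.JComp.le_pCoreOf (hM ▸ inf_le_right) hMp hMN
  have hUE : U ≤ normalizer (E : Set G) := hUR.trans (pCore_le_normalizer T hE)
  have hMc : ¬ M ≤ centralizer (E : Set G) := by
    intro hc
    have h : E ≤ centralizer (U : Set G) := by
      refine le_centralizer_of_stabilizes hb.res hMp (fun x hx d hd => ?_) (fun x hx u hu => ?_)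
      · rw [mul_inv_eq_iff_eq_mul]
        exact mem_centralizer_iff.1 (hc hd) x hx
      · rw [hM]
        refine mem_inf.2 ⟨mul_mem ((mem_normalizer_iff.1 (hUN hx) u).1 hu) (inv_mem hu), ?_⟩
        rw [show x * u * x⁻¹ * u⁻¹ = x * (u * x⁻¹ * u⁻¹) by group]
        exact mul_mem hx ((mem_normalizer_iff.1 (hUE hu) _).1 (inv_mem hx))
    apply hE.2.2.2.1
    rw [commutator_eq_bot_iff_le_centralizer]
    exact h.trans (centralizer_le (hU ▸ omegaOneCenter_le_omegaOneCenter_pCore hG T))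
  have hMW : M ≤ bW p E := by
    rcases hb.quot with hQ | ⟨hirr, hQ', hZ⟩
    · exact hQ ▸ hMQ
    · rcases hirr (M ⊔ bW p E) (sup_le hMQ ((omegaOneCenter_le p _).trans inf_le_left)) le_sup_right
        (CfsgLib.Coprime.sup_le_normalizer hMN hb.normW) with h | h
      · exact le_sup_left.trans h.le
      · exfalso
        apply hZ
        rw [← hQ', commutator_eq_bot_iff_le_centralizer]
        conv_lhs => rw [← h]
        refine sup_le ?_ ((omegaOneCenter_le p _).trans inf_le_right)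
        rw [le_centralizer_iff]
        conv_lhs => rw [← h]
        exact sup_le (fun a ha => mem_centralizer_iff.2 fun c hc =>
          hUcomm c (hM ▸ hc : c ∈ U ⊓ E).1 a (hM ▸ ha : a ∈ U ⊓ E).1)
          (le_centralizer_iff.1 (hMQ.trans (pCoreOf_le_centralizer_bW p E)))
  have hW : M ⊔ bZ p E = bW p E := by
    rcases hb.irr (M ⊔ bZ p E) (sup_le hMW inf_le_left) le_sup_right
      (CfsgLib.Coprime.sup_le_normalizer hMN (E_le_normalizer_bZ hb)) with h | h
    · exact absurd ((le_sup_left.trans h.le).trans inf_le_right) hMc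
    · exact h
  refine commutator_le.2 fun w hw e he => ?_
  rw [← hW] at hw
  obtain ⟨m, hm, z, hz, rfl⟩ := CfsgLib.Coprime.mem_sup_exists (N := M) (H := bZ p E)
    (fun z hz => centralizer_le_normalizer (M : Set G) (mem_centralizer_iff.2 fun y hy =>
      comm_of_mem_bW (hMW hy) (mem_inf.1 hz).1)) hw
  have h1 : e * z⁻¹ * e⁻¹ = z⁻¹ := by
    rw [mul_inv_eq_iff_eq_mul]
    exact mem_centralizer_iff.1 (inv_mem (mem_inf.1 hz).2) e he
  have h2 : e * m⁻¹ * e⁻¹ ∈ M := (mem_normalizer_iff.1 (hMN he) _).1 (inv_mem hm)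
  have h3 : (⁅m * z, e⁆ : G) = m * (e * m⁻¹ * e⁻¹) := by
    calc (⁅m * z, e⁆ : G) = m * z * (e * z⁻¹ * e⁻¹) * (e * m⁻¹ * e⁻¹) := by
          rw [commutatorElement_def]; group
      _ = _ := by rw [h1]; group
  rw [h3]
  exact (hM ▸ mul_mem hm h2 : m * (e * m⁻¹ * e⁻¹) ∈ U ⊓ E).1

theorem mem_isMaxEA_of_commutes {P A : Subgroup G} (hA : IsMaxEA p P A) {x : G} (hx : x ∈ P)
    (hxp : x ^ p = 1) (hc : ∀ a ∈ A, a * x = x * a) : x ∈ A := by
  have hV : Cfsg.IsElementaryAbelian p (Cfsg.omegaOne p (zpowers x)) :=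
    CfsgLib.JComp.omegaOne_ea fun a ha b hb => by
      obtain ⟨i, rfl⟩ := mem_zpowers_iff.1 ha
      obtain ⟨j, rfl⟩ := mem_zpowers_iff.1 hb
      rw [← zpow_add, ← zpow_add, add_comm]
  have hle := (CfsgLib.JComp.omegaOne_le p (zpowers x))
  have heq := eq_of_le_of_card_ge (le_sup_left : A ≤ A ⊔ Cfsg.omegaOne p (zpowers x))
    (hA.2.2 _ (sup_le hA.1 (hle.trans (zpowers_le.2 hx)))
      (CfsgLib.EABasic.isElementaryAbelian_sup hA.2.1 hV fun a ha v hv => by
        obtain ⟨i, rfl⟩ := mem_zpowers_iff.1 (hle hv)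
        exact ((show Commute a x from hc a ha).zpow_right i).eq))
  exact heq.ge (mem_sup_right (subset_closure ⟨mem_zpowers x, hxp⟩))

theorem omegaOneCenter_le_omegaOne_centerThompson (T : Sylow p G) :
    Cfsg.omegaOneCenter p (T : Subgroup G) ≤
      Cfsg.omegaOne p (Cfsg.centerThompsonOf p (T : Subgroup G)) := by
  refine closure_mono ?_
  rintro x ⟨hx, hxp⟩
  obtain ⟨hxT, hxC⟩ := mem_inf.1 (show x ∈ (T : Subgroup G) ⊓ centralizer ((T : Subgroup G) : Set G) from hx)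
  refine ⟨?_, hxp⟩
  show x ∈ Cfsg.thompsonSubgroupOf p (T : Subgroup G) ⊓
    centralizer (Cfsg.thompsonSubgroupOf p (T : Subgroup G) : Set G)
  refine mem_inf.2 ⟨?_, centralizer_le (show (Cfsg.thompsonSubgroupOf p (T : Subgroup G) : Set G) ⊆
    ((T : Subgroup G) : Set G) from CfsgLib.Fusion.thompsonSubgroupOf_le _) hxC⟩
  obtain ⟨A, hA⟩ := CfsgLib.Fusion.exists_isMaxEA p (T : Subgroup G)
  exact CfsgLib.Fusion.le_thompsonSubgroupOf hA
    (mem_isMaxEA_of_commutes hA hxT hxp fun a ha =>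
      mem_centralizer_iff.1 hxC a (hA.1 ha))

/-- `J(T)` does not centralize `[W, E]`. -/
theorem commutator_V_thompson_ne_bot (T : Sylow p G)
    (hE : Cfsg.IsBaumannBlock p (T : Subgroup G) E) :
    ⁅⁅bW p E, E⁆, Cfsg.thompsonSubgroupOf p (T : Subgroup G)⁆ ≠ ⊥ := by
  intro hbot
  have hb := blockFacts hE
  have hne := ne_bot_of_block hE
  obtain ⟨B, hB⟩ : ∃ B, B = Cfsg.baumannSubgroupOf p (T : Subgroup G) := ⟨_, rfl⟩
  obtain ⟨J, hJ⟩ : ∃ J, J = Cfsg.thompsonSubgroupOf p (T : Subgroup G) := ⟨_, rfl⟩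
  have hEB : ⁅E, B⁆ = E := hB ▸ hE.2.1
  have hJB : J ≤ B := hJ ▸ hB ▸ CfsgLib.BaumannNormal.thompson_le_baumann _
  have hBn : B ≤ normalizer (E : Set G) := by
    intro b hbB
    refine CfsgLib.Fusion.conjBy_eq_iff.1 (CfsgLib.Fusion.conjBy_eq_of_le ?_)
    rw [CfsgLib.Fusion.conjBy, map_le_iff_le_comap]
    intro e he
    show b * e * b⁻¹ ∈ E
    rw [show b * e * b⁻¹ = ⁅e, b⁆⁻¹ * e by simp only [commutatorElement_def]; group]
    exact mul_mem (inv_mem (hEB.le (commutator_mem_commutator he hbB))) he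
  have hJn : J ≤ normalizer (Cfsg.pCoreOf p E : Set G) :=
    (hJB.trans hBn).trans (CfsgLib.JComp.normalizer_le_normalizer_pCoreOf E)
  have hJV : J ≤ centralizer ((⁅bW p E, E⁆ : Subgroup G) : Set G) :=
    le_centralizer_iff.1 (commutator_eq_bot_iff_le_centralizer.1 (hJ ▸ hbot))
  -- `E` normalizes `Q J`
  obtain ⟨P, hP⟩ : ∃ P, P = Cfsg.pCoreOf p E ⊔ J := ⟨_, rfl⟩
  have hconj : ∀ e ∈ E, ∀ j ∈ J, e * j * e⁻¹ ∈ P := by
    intro e he j hj
    have hq : e * j * e⁻¹ * j⁻¹ ∈ Cfsg.pCoreOf p E := by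
      refine inf_centralizer_V_le hb hne (mem_inf.2 ⟨?_, ?_⟩)
      · rw [show e * j * e⁻¹ * j⁻¹ = e * (j * e⁻¹ * j⁻¹) by group]
        exact mul_mem he ((mem_normalizer_iff.1 (hBn (hJB hj)) _).1 (inv_mem he))
      · exact mul_mem ((mem_normalizer_iff.1 (CfsgLib.Coprime.normalizer_le_normalizer_centralizer _
          (E_le_normalizer_V hb he)) j).1 (hJV hj)) (inv_mem (hJV hj))
    rw [hP, show e * j * e⁻¹ = (e * j * e⁻¹ * j⁻¹) * j by group]
    exact mul_mem (mem_sup_left hq) (mem_sup_right hj)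
  have hEP : E ≤ normalizer (P : Set G) := by
    intro e he
    refine CfsgLib.Fusion.conjBy_eq_iff.1 (CfsgLib.Fusion.conjBy_eq_of_le ?_)
    conv_lhs => rw [hP]
    rw [CfsgLib.Fusion.conjBy, Subgroup.map_sup, sup_le_iff]
    constructor
    · rintro _ ⟨q, hq, rfl⟩
      exact hP ▸ mem_sup_left ((mem_normalizer_iff.1 (CfsgLib.JComp.le_normalizer_pCoreOf p E he) q).1 hq)
    · rintro _ ⟨j, hj, rfl⟩
      exact hconj e he j hj
  have hPp : IsPGroup p P := hP ▸ (CfsgLib.JComp.isPGroup_pCoreOf p E).to_sup_of_normal_left'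
    (hJ ▸ T.2.to_le (CfsgLib.Fusion.thompsonSubgroupOf_le _)) hJn
  obtain ⟨-, -, hthom, -⟩ := CfsgLib.BaumannNormal.thompson_eq_and_normalizer T hPp
    (hJ ▸ hP ▸ le_sup_right)
  have hEJ : E ≤ normalizer (Cfsg.thompsonSubgroupOf p (T : Subgroup G) : Set G) :=
    hthom ▸ hEP.trans (CfsgLib.Fusion.normalizer_le_normalizer_thompsonSubgroupOf P)
  obtain ⟨Z, hZ⟩ : ∃ Z, Z = Cfsg.omegaOne p (Cfsg.centerThompsonOf p (T : Subgroup G)) := ⟨_, rfl⟩
  have hEZ : E ≤ normalizer (Z : Set G) :=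
    hZ ▸ hEJ.trans (CfsgLib.BaumannNormal.omegaOne_centerThompson_normalizer _)
  have hZB : ⁅Z, B⁆ = ⊥ := commutator_eq_bot_iff_le_centralizer.2 (le_centralizer_iff.1 (by
    rw [hB, hZ]; exact inf_le_right))
  have h1 : ⁅⁅B, Z⁆, E⁆ = ⊥ := by rw [commutator_comm B, hZB, commutator_bot_left]
  have h2 : ⁅⁅Z, E⁆, B⁆ = ⊥ :=
    eq_bot_iff.2 ((commutator_mono (commutator_le_of_normalizes hEZ) le_rfl).trans hZB.le)
  have h3 : ⁅⁅E, B⁆, Z⁆ = ⊥ := commutator_commutator_eq_bot_of_rotate h1 h2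
  rw [hEB] at h3
  apply hE.2.2.2.1
  exact eq_bot_iff.2 ((commutator_mono le_rfl
    (hZ ▸ omegaOneCenter_le_omegaOne_centerThompson T)).trans h3.le)

end CfsgLib.BaumannBlock
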