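import Cfsg.Agent.Lib.LocalStructure.Basic
import Mathlib.GroupTheory.Frattini
import Mathlib.Order.Atoms

/-!
# `p`-irreducible and `p`-minimal groups
-/

set_option autoImplicit false
set_option linter.style.haveILetI false
set_option linter.unusedSectionVars false

namespace CfsgLib.LS

open Subgroup
open scoped commutatorElement

variable {G : Type*} [Group G] [Finite G] {p : ℕ} [Fact p.Prime]

theorem not_isPClosed_normalClosure (h : ¬ Cfsg.IsPClosed p G) (P : Sylow p G) :
    ¬ Cfsg.IsPClosed p (normalClosure ((P : Subgroup G) : Set G)) := fun hc =>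
  h ((isPClosed_iff_sylow_le P).2
    ((le_inf le_rfl Subgroup.le_normalClosure).trans (inf_le_pCore_of_isPClosed P _ hc)))

theorem normalClosure_sylow_eq_top (h : Cfsg.IsPIrreducible p G) (P : Sylow p G) :
    normalClosure ((P : Subgroup G) : Set G) = ⊤ := by
  rw [eq_top_iff, ← CfsgLib.Fusion.pResidual_sup_sylow P]
  exact sup_le (h.2 _ inferInstance (not_isPClosed_normalClosure h.1 P)) Subgroup.le_normalClosure

theorem commutator_sup_sylow (h : Cfsg.IsPIrreducible p G) (P : Sylow p G) :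
    commutator G ⊔ (P : Subgroup G) = ⊤ := by
  haveI : (commutator G ⊔ (P : Subgroup G)).Normal := Subgroup.Normal.of_commutator_le _ le_sup_left
  rw [eq_top_iff, ← normalClosure_sylow_eq_top h P]
  exact normalClosure_le_normal (le_sup_right (a := commutator G))

/-- `G/N` is a `p`-group when `N` and a Sylow subgroup generate `G`. -/
theorem isPGroup_quotient_of_sup_sylow (P : Sylow p G) (N : Subgroup G) [N.Normal]
    (h : N ⊔ (P : Subgroup G) = ⊤) : IsPGroup p (G ⧸ N) := by
  have e : (P : Subgroup G).map (QuotientGroup.mk' N) = ⊤ := by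
    rw [← Subgroup.map_top_of_surjective _ (QuotientGroup.mk'_surjective N), ← h, Subgroup.map_sup,
      QuotientGroup.map_mk'_self, bot_sup_eq]
  exact fun x => by
    obtain ⟨y, hy, rfl⟩ := (e.ge (mem_top x) : x ∈ _)
    obtain ⟨k, hk⟩ := P.2 ⟨y, hy⟩
    exact ⟨k, by rw [← map_pow, show y ^ p ^ k = 1 from congrArg Subtype.val hk, map_one]⟩

theorem pResidual_le_of_sup_sylow (P : Sylow p G) (N : Subgroup G) [N.Normal]
    (h : N ⊔ (P : Subgroup G) = ⊤) : Cfsg.pResidual p G ≤ N :=
  CfsgLib.Fusion.pResidual_le_of_isPGroup_quotient N (isPGroup_quotient_of_sup_sylow P N h)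

theorem commutator_residual_eq (h : Cfsg.IsPIrreducible p G) (P : Sylow p G) (Y : Subgroup G)
    (hYP : Y ≤ (P : Subgroup G)) (hPY : (P : Subgroup G) ≤ normalizer (Y : Set G))
    (hY : ¬ Y ≤ Cfsg.pCore p G) :
    ⁅Cfsg.pResidual p G, Y⁆ = Cfsg.pResidual p G ∧
      Cfsg.pResidual p G ≤ normalClosure (Y : Set G) := by
  haveI hRn := CfsgLib.Fusion.pResidual_normal (G := G) (p := p)
  set R := Cfsg.pResidual p G with hR
  have hnc : R ≤ normalClosure (Y : Set G) := h.2 _ inferInstance fun hc =>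
    hY ((le_inf hYP Subgroup.le_normalClosure).trans (inf_le_pCore_of_isPClosed P _ hc))
  refine ⟨?_, hnc⟩
  set K := ⁅R, Y⁆ with hK
  have hKR : K ≤ R := commutator_le_left R Y
  have hKn : K.Normal := by
    rw [← normalizer_eq_top_iff, eq_top_iff, ← CfsgLib.Fusion.pResidual_sup_sylow P]
    refine sup_le (normalizer_commutator_ge_left R Y) (le_normalizer_iff.2 fun t ht x hx => ?_)
    have hle : K.map (MulAut.conj t).toMonoidHom ≤ K := by
      rw [hK, map_commutator]
      refine commutator_mono ?_ ?_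
      · rintro _ ⟨r, hr, rfl⟩
        exact hRn.conj_mem r hr t
      · rintro _ ⟨y, hy, rfl⟩
        exact (mem_normalizer_iff.1 (hPY ht) y).1 hy
    exact hle (mem_map_of_mem (MulAut.conj t).toMonoidHom hx)
  haveI := hKn
  haveI : (K ⊔ Y).Normal := by
    rw [← normalizer_eq_top_iff, eq_top_iff, ← CfsgLib.Fusion.pResidual_sup_sylow P]
    refine sup_le (le_normalizer_iff.2 fun r hr x hx => ?_) (le_normalizer_iff.2 fun t ht x hx => ?_)
    · rw [← SetLike.mem_coe, Subgroup.normal_mul] at hx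
      obtain ⟨k, hk, y, hy, rfl⟩ := hx
      rw [show r * (k * y) * r⁻¹ = (r * k * r⁻¹) * ((r * y * r⁻¹ * y⁻¹) * y) by group]
      exact mul_mem (mem_sup_left (hKn.conj_mem k hk r))
        (mul_mem (mem_sup_left (commutator_mem_commutator hr hy)) (mem_sup_right hy))
    · rw [← SetLike.mem_coe, Subgroup.normal_mul] at hx
      obtain ⟨k, hk, y, hy, rfl⟩ := hx
      rw [show t * (k * y) * t⁻¹ = (t * k * t⁻¹) * (t * y * t⁻¹) by group]
      exact mul_mem (mem_sup_left (hKn.conj_mem k hk t))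
        (mem_sup_right ((mem_normalizer_iff.1 (hPY ht) y).1 hy))
  refine le_antisymm hKR (pResidual_le fun g hg => ?_)
  have hgKY : g ∈ K ⊔ Y := (hnc.trans (normalClosure_le_normal (le_sup_right (a := K))))
    (CfsgLib.Fusion.mem_pResidual hg)
  rw [← SetLike.mem_coe, Subgroup.normal_mul] at hgKY
  obtain ⟨k, hk, y, hy, rfl⟩ := hgKY
  obtain ⟨n, hn⟩ := P.2 ⟨y, hYP hy⟩
  refine mem_of_coprime_of_pow_mem hg (k := n) ((QuotientGroup.eq_one_iff _).1 ?_)
  rw [QuotientGroup.mk_pow, QuotientGroup.mk_mul, (QuotientGroup.eq_one_iff k).2 hk, one_mul,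
    ← QuotientGroup.mk_pow, show y ^ p ^ n = 1 from congrArg Subtype.val hn, QuotientGroup.mk_one]

theorem isPIrreducible_of_strongly (h : Cfsg.IsStronglyPIrreducible p G) :
    Cfsg.IsPIrreducible p G := by
  refine ⟨h.1, fun N hN hNc => ?_⟩
  haveI := hN
  by_cases hc : ⁅N, (⊤ : Subgroup G)⁆ ≤ Cfsg.pCore p G
  · exfalso
    obtain ⟨R⟩ : Nonempty (Sylow p N) := inferInstance
    refine hNc ((isPClosed_iff).2 ⟨R, ?_⟩)
    have hle : (Cfsg.pCore p G).subgroupOf N ≤ (R : Subgroup N) := by
      haveI := CfsgLib.Coprime.pCore_normal' (G := G) p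
      exact le_sylow_of_normal (IsPGroup.comap_subtype (CfsgLib.Coprime.pCore_isPGroup p)) R
    haveI : (R : Subgroup N).Normal := by
      refine ⟨fun t ht g => ?_⟩
      have h1 : ⁅(g : G), (t : G)⁆ ∈ Cfsg.pCore p G :=
        hc (commutator_mem_commutator g.2 (mem_top _))
      have h2 : ⁅g, t⁆ ∈ (R : Subgroup N) := hle (by
        rw [mem_subgroupOf]; simpa [commutatorElement_def] using h1)
      have := (R : Subgroup N).mul_mem h2 ht
      simpa [commutatorElement_def] using this
    exact CfsgLib.Coprime.le_pCore R.2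
  · exact h.2 N hN hc

/-- In a group generated by the conjugates of `Y` with a unique maximal subgroup over `Y`, an
element moving `Y` into that maximal subgroup lies in it. -/
theorem mem_of_conj_le {Y M : Subgroup G} (hmin : Cfsg.IsMinimalOver Y) (hM : IsCoatom M)
    (hYM : Y ≤ M) {g : G} (h : Y.map (MulAut.conj g).toMonoidHom ≤ M) : g ∈ M := by
  have hN : normalizer (M : Set G) = M := by
    refine (hM.le_iff.1 le_normalizer).resolve_left fun ht => hM.1 ?_
    haveI : M.Normal := normalizer_eq_top_iff.1 ht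
    rw [eq_top_iff, ← hmin.1]
    exact normalClosure_le_normal hYM
  obtain ⟨M₁, -, hu⟩ := hmin.2
  have e : M.comap (MulAut.conj g).toMonoidHom = M := by
    have hc : IsCoatom (M.comap (MulAut.conj g).toMonoidHom) :=
      ((MulAut.conj g).symm.mapSubgroup.isCoatom_iff M).2 hM |>.imp (fun h' e' => h' (by
        rw [← e']; exact (Subgroup.map_equiv_eq_comap_symm (MulAut.conj g).symm M))) (fun h' b hb => by
        refine h' b (lt_of_eq_of_lt ?_ hb)
        exact (Subgroup.map_equiv_eq_comap_symm (MulAut.conj g).symm M))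
    exact (hu _ ⟨hc, map_le_iff_le_comap.1 h⟩).trans (hu _ ⟨hM, hYM⟩).symm
  rw [← hN, mem_normalizer_iff]
  intro x
  conv_lhs => rw [← e]
  rfl

theorem isPIrreducible_of_minimalOver (P : Sylow p G)
    (hmin : Cfsg.IsMinimalOver (P : Subgroup G)) : Cfsg.IsPIrreducible p G := by
  obtain ⟨M, ⟨hM, hPM⟩, -⟩ := id hmin.2
  refine ⟨fun hc => hM.1 ?_, fun N hN hNc => ?_⟩
  · haveI : (P : Subgroup G).Normal := hc P
    rw [eq_top_iff, ← hmin.1]
    exact (normalClosure_le_normal (N := (P : Subgroup G)) (le_refl _)).trans hPM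
  haveI := hN
  refine pResidual_le_of_sup_sylow P N ?_
  by_contra hne
  obtain ⟨M₁, -, hu⟩ := hmin.2
  obtain ⟨M', hM', hle⟩ := (eq_top_or_exists_le_coatom (N ⊔ (P : Subgroup G))).resolve_left hne
  have hNM : N ≤ M := by
    rw [← (hu M' ⟨hM', le_sup_right.trans hle⟩).trans (hu M ⟨hM, hPM⟩).symm]
    exact le_sup_left.trans hle
  obtain ⟨R, hR⟩ := sylow_inf_normal P N
  have hfr := R.normalizer_sup_eq_top
  have hPn : (P : Subgroup G) ≤ normalizer (((R : Subgroup N).map N.subtype : Subgroup G) : Set G) := by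
    rw [hR]
    exact le_normalizer_iff.2 fun t ht x hx => ⟨(P : Subgroup G).mul_mem
      ((P : Subgroup G).mul_mem ht hx.1) ((P : Subgroup G).inv_mem ht), hN.conj_mem x hx.2 t⟩
  have hntop : normalizer (((R : Subgroup N).map N.subtype : Subgroup G) : Set G) ≠ ⊤ := by
    intro ht
    refine hNc (isPClosed_of_inf_le_pCore P N ?_)
    haveI := normalizer_eq_top_iff.1 ht
    rw [← hR]
    exact CfsgLib.Coprime.le_pCore (R.2.map _)
  obtain ⟨M'', hM'', hle''⟩ := (eq_top_or_exists_le_coatom _).resolve_left hntop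
  have hnM : normalizer (((R : Subgroup N).map N.subtype : Subgroup G) : Set G) ≤ M := by
    rw [← (hu M'' ⟨hM'', hPn.trans hle''⟩).trans (hu M ⟨hM, hPM⟩).symm]
    exact hle''
  exact hM.1 (eq_top_iff.2 (hfr ▸ sup_le hnM hNM))

theorem quotient_dichotomy (P : Sylow p G) (hmin : Cfsg.IsMinimalOver (P : Subgroup G))
    (N : Subgroup G) [N.Normal] :
    IsPGroup p (G ⧸ N) ∨ Cfsg.IsMinimalOver ((P : Subgroup G).map (QuotientGroup.mk' N)) := by
  have hs := QuotientGroup.mk'_surjective N
  by_cases h : N ⊔ (P : Subgroup G) = ⊤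
  · exact Or.inl (isPGroup_quotient_of_sup_sylow P N h)
  refine Or.inr ⟨?_, ?_⟩
  · rw [eq_top_iff, ← map_top_of_surjective _ hs, ← hmin.1, map_normalClosure _ _ hs, coe_map]
  obtain ⟨M, ⟨hM, hPM⟩, hu⟩ := id hmin.2
  obtain ⟨M', hM', hle⟩ := (eq_top_or_exists_le_coatom (N ⊔ (P : Subgroup G))).resolve_left h
  have hNM : N ≤ M := by
    rw [← hu M' ⟨hM', le_sup_right.trans hle⟩]
    exact le_sup_left.trans hle
  have hback : (M.map (QuotientGroup.mk' N)).comap (QuotientGroup.mk' N) = M := by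
    rw [comap_map_eq, QuotientGroup.ker_mk', sup_eq_left.2 hNM]
  refine ⟨M.map (QuotientGroup.mk' N), ⟨⟨fun e => hM.1 ?_, fun B hB => ?_⟩, map_mono hPM⟩, ?_⟩
  · rw [← hback, e, comap_top]
  · have hlt : M < B.comap (QuotientGroup.mk' N) := by
      rw [← hback]; exact (comap_lt_comap_of_surjective hs).2 hB
    rw [← map_comap_eq_self_of_surjective hs B, hM.2 _ hlt, map_top_of_surjective _ hs]
  · rintro B ⟨hB, hPB⟩
    have hc : IsCoatom (B.comap (QuotientGroup.mk' N)) := by
      refine ⟨fun e => hB.1 ?_, fun C hC => ?_⟩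
      · rw [← map_comap_eq_self_of_surjective hs B, e, map_top_of_surjective _ hs]
      · have hNC : N ≤ C := ((QuotientGroup.ker_mk' N).ge.trans (ker_le_comap _ B)).trans hC.le
        have hlt : B < C.map (QuotientGroup.mk' N) := by
          refine lt_of_le_of_ne ?_ fun e => hC.ne ?_
          · rw [← map_comap_eq_self_of_surjective hs B]; exact map_mono hC.le
          · rw [e, comap_map_eq, QuotientGroup.ker_mk', sup_eq_left.2 hNC]
        rw [← sup_eq_left.2 hNC, ← QuotientGroup.ker_mk' N, ← comap_map_eq, hB.2 _ hlt, comap_top]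
    have e := hu _ ⟨hc, map_le_iff_le_comap.1 hPB⟩
    rw [← e, map_comap_eq_self_of_surjective hs B]

/-! ### Passing to the quotient by a normal `p`-subgroup -/

section Quotient

variable (D : Subgroup G) [D.Normal] (hD : IsPGroup p D)
include hD

theorem map_pResidual_mk : (Cfsg.pResidual p G).map (QuotientGroup.mk' D) = Cfsg.pResidual p (G ⧸ D) := by
  haveI := CfsgLib.Fusion.pResidual_normal (G := G) (p := p)
  haveI := (inferInstance : (Cfsg.pResidual p G).Normal).map (QuotientGroup.mk' D)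
    (QuotientGroup.mk'_surjective D)
  refine le_antisymm (CfsgLib.CFun.map_pResidual_le _) (pResidual_le fun x hx => ?_)
  obtain ⟨g, rfl⟩ := QuotientGroup.mk'_surjective D x
  obtain ⟨k, hk⟩ := CfsgLib.Fusion.exists_pow_p_mem_pResidual (p := p) g
  exact mem_of_coprime_of_pow_mem hx (k := k) (by rw [← map_pow]; exact mem_map_of_mem _ hk)

theorem comap_pCore_mk : (Cfsg.pCore p (G ⧸ D)).comap (QuotientGroup.mk' D) = Cfsg.pCore p G := by
  haveI := CfsgLib.Coprime.pCore_normal' (G := G ⧸ D) p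
  refine le_antisymm (CfsgLib.Coprime.le_pCore fun x => ?_) ?_
  · obtain ⟨k, hk⟩ := CfsgLib.Coprime.pCore_isPGroup (G := G ⧸ D) p ⟨_, x.2⟩
    have hm : (x : G) ^ p ^ k ∈ D := by
      rw [← QuotientGroup.eq_one_iff, QuotientGroup.mk_pow]
      exact congrArg Subtype.val hk
    obtain ⟨l, hl⟩ := hD ⟨_, hm⟩
    exact ⟨k + l, Subtype.ext (by
      rw [pow_add, SubmonoidClass.coe_pow, pow_mul]
      exact congrArg Subtype.val hl)⟩
  · rw [← map_le_iff_le_comap]
    exact CfsgLib.Coprime.map_pCore_le (QuotientGroup.mk'_surjective D) p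

theorem isPClosed_quotient_iff : Cfsg.IsPClosed p (G ⧸ D) ↔ Cfsg.IsPClosed p G := by
  obtain ⟨P⟩ : Nonempty (Sylow p G) := inferInstance
  let P' : Sylow p (G ⧸ D) := P.mapSurjective (QuotientGroup.mk'_surjective D)
  rw [isPClosed_iff_sylow_le P, isPClosed_iff_sylow_le P', ← comap_pCore_mk D hD,
    ← map_le_iff_le_comap]
  rfl

/-- For a normal subgroup `X` of the quotient, its preimage is `p`-closed exactly when `X` is. -/
theorem isPClosed_comap_iff (X : Subgroup (G ⧸ D)) [X.Normal] :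
    Cfsg.IsPClosed p (X.comap (QuotientGroup.mk' D)) ↔ Cfsg.IsPClosed p X := by
  obtain ⟨P⟩ : Nonempty (Sylow p G) := inferInstance
  let P' : Sylow p (G ⧸ D) := P.mapSurjective (QuotientGroup.mk'_surjective D)
  have hDP : D ≤ (P : Subgroup G) := le_sylow_of_normal hD P
  have e : (P' : Subgroup (G ⧸ D)) ⊓ X =
      ((P : Subgroup G) ⊓ X.comap (QuotientGroup.mk' D)).map (QuotientGroup.mk' D) := by
    refine le_antisymm ?_ (le_inf (map_mono inf_le_left) ((map_mono inf_le_right).trans (map_comap_le _ _)))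
    rintro _ ⟨⟨g, hg, rfl⟩, hX⟩
    exact ⟨g, ⟨hg, hX⟩, rfl⟩
  constructor
  · intro h
    refine isPClosed_of_inf_le_pCore P' X ?_
    rw [e, map_le_iff_le_comap, comap_pCore_mk D hD]
    exact inf_le_pCore_of_isPClosed P _ h
  · intro h
    refine isPClosed_of_inf_le_pCore P _ ?_
    rw [← comap_pCore_mk D hD, ← map_le_iff_le_comap, ← e]
    exact inf_le_pCore_of_isPClosed P' X h

theorem isPIrreducible_quotient_iff :
    Cfsg.IsPIrreducible p G ↔ Cfsg.IsPIrreducible p (G ⧸ D) := by
  unfold Cfsg.IsPIrreducible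
  rw [isPClosed_quotient_iff D hD]
  refine and_congr_right fun _ => ⟨fun h X hX hc => ?_, fun h N hN hc => ?_⟩
  · haveI := hX
    rw [← map_pResidual_mk D hD, map_le_iff_le_comap]
    exact h _ (hX.comap _) (mt (isPClosed_comap_iff D hD X).1 hc)
  · haveI := hN
    haveI := hN.map (QuotientGroup.mk' D) (QuotientGroup.mk'_surjective D)
    have h' : ¬ Cfsg.IsPClosed p (N.map (QuotientGroup.mk' D)) := fun h' => hc (isPClosed_of_le
      (M := (N.map (QuotientGroup.mk' D)).comap (QuotientGroup.mk' D)) (le_comap_map _ _)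
      ((isPClosed_comap_iff D hD _).2 h'))
    refine pResidual_le fun g hg => ?_
    have hgm := h _ inferInstance h'
      ((map_pResidual_mk D hD).le (mem_map_of_mem _ (CfsgLib.Fusion.mem_pResidual hg)))
    rw [← mem_comap, comap_map_eq, QuotientGroup.ker_mk', sup_comm, ← SetLike.mem_coe,
      Subgroup.normal_mul] at hgm
    obtain ⟨d, hd, n, hn, rfl⟩ := hgm
    obtain ⟨k, hk⟩ := hD ⟨d, hd⟩
    refine mem_of_coprime_of_pow_mem hg (k := k) ((QuotientGroup.eq_one_iff _).1 ?_)
    rw [QuotientGroup.mk_pow, QuotientGroup.mk_mul, (QuotientGroup.eq_one_iff n).2 hn, mul_one,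
      ← QuotientGroup.mk_pow, show d ^ p ^ k = 1 from congrArg Subtype.val hk,
      QuotientGroup.mk_one]

theorem isStronglyPIrreducible_quotient_iff :
    Cfsg.IsStronglyPIrreducible p G ↔ Cfsg.IsStronglyPIrreducible p (G ⧸ D) := by
  unfold Cfsg.IsStronglyPIrreducible
  rw [isPClosed_quotient_iff D hD]
  have hs := QuotientGroup.mk'_surjective D
  refine and_congr_right fun _ => ⟨fun h X hX hc => ?_, fun h N hN hc => ?_⟩
  · haveI := hX
    rw [← map_pResidual_mk D hD, map_le_iff_le_comap]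
    refine h _ (hX.comap _) fun hle => hc ?_
    have := map_mono (f := QuotientGroup.mk' D) hle
    rw [map_commutator, map_comap_eq_self_of_surjective hs, map_top_of_surjective _ hs] at this
    exact this.trans (CfsgLib.Coprime.map_pCore_le hs p)
  · haveI := hN
    have h' : ¬ ⁅N.map (QuotientGroup.mk' D), (⊤ : Subgroup (G ⧸ D))⁆ ≤ Cfsg.pCore p (G ⧸ D) := by
      rw [← map_top_of_surjective _ hs, ← map_commutator, map_le_iff_le_comap, comap_pCore_mk D hD]
      exact hc
    refine pResidual_le fun g hg => ?_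
    have hgm := h _ (hN.map _ hs) h'
      ((map_pResidual_mk D hD).le (mem_map_of_mem _ (CfsgLib.Fusion.mem_pResidual hg)))
    rw [← mem_comap, comap_map_eq, QuotientGroup.ker_mk', sup_comm, ← SetLike.mem_coe,
      Subgroup.normal_mul] at hgm
    obtain ⟨d, hd, n, hn, rfl⟩ := hgm
    obtain ⟨k, hk⟩ := hD ⟨d, hd⟩
    refine mem_of_coprime_of_pow_mem hg (k := k) ((QuotientGroup.eq_one_iff _).1 ?_)
    rw [QuotientGroup.mk_pow, QuotientGroup.mk_mul, (QuotientGroup.eq_one_iff n).2 hn, mul_one,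
      ← QuotientGroup.mk_pow, show d ^ p ^ k = 1 from congrArg Subtype.val hk,
      QuotientGroup.mk_one]

end Quotient

end CfsgLib.LS
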