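import Cfsg.Agent.Lib.LocalStructure.Irreducible
import Cfsg.Agent.Lib.Coprime.Action
import Cfsg.Agent.Lib.Coprime.Subnormal
import Cfsg.Prelude.Def_LocalEven

/-!
# Groups with a unique maximal subgroup over a given subgroup
-/

set_option autoImplicit false
set_option linter.style.haveILetI false
set_option linter.unusedSectionVars false

namespace CfsgLib.LS

open Subgroup
open CfsgLib.Coprime (conjBy conjBy_conjBy conjBy_one conjBy_eq_self_iff conj_mem_conjBy)

variable {G : Type*} [Group G] [Finite G] {p : ℕ} [Fact p.Prime]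

/-- `M` contains every proper subgroup over `Y`. -/
def OnlyMax (Y M : Subgroup G) : Prop :=
  IsCoatom M ∧ Y ≤ M ∧ ∀ X : Subgroup G, Y ≤ X → X ≠ ⊤ → X ≤ M

theorem onlyMax_of_unique {Y M : Subgroup G} (hM : IsCoatom M ∧ Y ≤ M)
    (h : ∃! M : Subgroup G, IsCoatom M ∧ Y ≤ M) : OnlyMax Y M := by
  refine ⟨hM.1, hM.2, fun X hX hne => ?_⟩
  obtain ⟨M₁, -, hu⟩ := h
  obtain ⟨M', hM', hle⟩ := (eq_top_or_exists_le_coatom X).resolve_left hne
  rw [(hu M hM).trans (hu M' ⟨hM', hX.trans hle⟩).symm]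
  exact hle

theorem sylow_le_of_not_dvd {K : Subgroup G} (hK : ¬ p ∣ K.index) (T : Sylow p G) :
    ∃ g : G, conjBy g (T : Subgroup G) ≤ K := by
  obtain ⟨P⟩ : Nonempty (Sylow p K) := inferInstance
  have hP' : ¬ p ∣ ((P : Subgroup K).map K.subtype).index := by
    rw [index_map_subtype]
    exact (Fact.out : p.Prime).not_dvd_mul P.not_dvd_index hK
  obtain ⟨g, hg⟩ := MulAction.exists_smul_eq G T ((P.2.map K.subtype).toSylow hP')
  refine ⟨g, ?_⟩
  have e : conjBy g (T : Subgroup G) = (P : Subgroup K).map K.subtype :=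
    congrArg (fun S : Sylow p G => (S : Subgroup G)) hg
  exact e.le.trans (map_subtype_le _)

theorem inf_le_pCore_of_normal_le (T : Sylow p G) {M : Subgroup G}
    (h : OnlyMax (T : Subgroup G) M) (D : Subgroup G) [hD : D.Normal] (hDM : D ≤ M) :
    (T : Subgroup G) ⊓ D ≤ Cfsg.pCore p G := by
  obtain ⟨R, hR⟩ := sylow_inf_normal T D
  have hfr := R.normalizer_sup_eq_top
  rw [hR] at hfr
  have hT : (T : Subgroup G) ≤ normalizer (((T : Subgroup G) ⊓ D : Subgroup G) : Set G) :=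
    CfsgLib.Coprime.inf_le_normalizer le_normalizer
      (le_top.trans (normalizer_eq_top_iff.2 hD).ge)
  by_cases htop : normalizer (((T : Subgroup G) ⊓ D : Subgroup G) : Set G) = ⊤
  · haveI := normalizer_eq_top_iff.1 htop
    exact CfsgLib.Coprime.le_pCore (T.2.to_le inf_le_left)
  · exact absurd (eq_top_iff.2 (hfr ▸ sup_le (h.2.2 _ hT htop) hDM)) h.1.1

/-- A coatom containing a Sylow subgroup of itself above `Y` contains a Sylow subgroup. -/
theorem sylow_of_onlyMax {L₀ : Subgroup G} (T : Sylow p L₀) {Y : Subgroup G}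
    (hYT : Y ≤ (T : Subgroup L₀).map L₀.subtype) (hYn : normalClosure (Y : Set G) = ⊤)
    (h : OnlyMax Y L₀) : ∃ T' : Sylow p G, (T' : Subgroup G) = (T : Subgroup L₀).map L₀.subtype := by
  set T₁ := (T : Subgroup L₀).map L₀.subtype with hT₁
  obtain ⟨P, hP⟩ := (T.2.map L₀.subtype : IsPGroup p T₁).exists_le_sylow
  refine ⟨P, ?_⟩
  by_contra hne
  have hlt : T₁.subgroupOf (P : Subgroup G) < ⊤ := lt_top_iff_ne_top.2 fun e =>
    hne (le_antisymm (subgroupOf_eq_top.1 e) hP)
  haveI := P.2.isNilpotent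
  obtain ⟨⟨x, hxP⟩, hxn, hxT⟩ := SetLike.exists_of_lt
    ((Group.normalizerCondition_of_isNilpotent (G := (P : Subgroup G))) _ hlt)
  have hxN : x ∈ normalizer (T₁ : Set G) := by
    refine mem_normalizer_iff.2 fun y => ⟨fun hy => ?_, fun hy => ?_⟩
    · exact mem_subgroupOf.1 ((mem_normalizer_iff.1 hxn ⟨y, hP hy⟩).1 (mem_subgroupOf.2 hy))
    · have hyP : y ∈ (P : Subgroup G) := by
        have := mul_mem (mul_mem (inv_mem hxP) (hP hy)) hxP
        simpa [mul_assoc] using this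
      exact mem_subgroupOf.1 ((mem_normalizer_iff.1 hxn ⟨y, hyP⟩).2 (mem_subgroupOf.2 hy))
  by_cases htop : normalizer (T₁ : Set G) = ⊤
  · haveI := normalizer_eq_top_iff.1 htop
    exact h.1.1 (eq_top_iff.2 (hYn ▸ (normalClosure_le_normal hYT).trans (map_subtype_le _)))
  · have hxL : x ∈ L₀ := h.2.2 _ (hYT.trans le_normalizer) htop hxN
    refine hxT (mem_subgroupOf.2 ?_)
    set U := L₀ ⊓ (P : Subgroup G) with hU
    have hle : (T : Subgroup L₀) ≤ U.subgroupOf L₀ := fun y hy =>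
      ⟨y.2, hP (mem_map_of_mem L₀.subtype hy)⟩
    have he := T.3 (P.2.to_le (inf_le_right : U ≤ _)).comap_subtype hle
    exact ⟨⟨x, hxL⟩, he.le (mem_subgroupOf.2 ⟨hxL, hxP⟩), rfl⟩

theorem map_le_frattini_of_le {T : Sylow p G} {Y M : Subgroup G} (hYT : Y ≤ (T : Subgroup G))
    (h : OnlyMax Y M) (hT : OnlyMax (T : Subgroup G) M) (N : Subgroup G) [hN : N.Normal]
    (hNM : N ≤ M) :
    N.map (QuotientGroup.mk' (Cfsg.pCore p G)) ≤ frattini (G ⧸ Cfsg.pCore p G) := by
  haveI := CfsgLib.Coprime.pCore_normal' (G := G) p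
  set O := Cfsg.pCore p G with hO
  have hs := QuotientGroup.mk'_surjective O
  refine le_iInf₂ fun B hB => ?_
  by_contra hnot
  set M₀ := B.comap (QuotientGroup.mk' O) with hM₀
  have hOM : O ≤ M₀ := (QuotientGroup.ker_mk' _).ge.trans (ker_le_comap _ B)
  have hM₀top : M₀ ≠ ⊤ := fun e => hB.1 (by
    rw [← map_comap_eq_self_of_surjective hs B, ← hM₀, e, map_top_of_surjective _ hs])
  have hsup : M₀ ⊔ N = ⊤ := by
    have h1 : B ⊔ N.map (QuotientGroup.mk' O) = ⊤ :=
      hB.2 _ (lt_of_le_of_ne le_sup_left fun e => hnot (le_sup_right.trans e.ge))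
    have := congrArg (Subgroup.comap (QuotientGroup.mk' O)) h1
    rw [← map_comap_eq_self_of_surjective hs B, ← Subgroup.map_sup, comap_map_eq,
      QuotientGroup.ker_mk', comap_top, ← hM₀] at this
    rwa [sup_eq_left.2 (hOM.trans le_sup_left)] at this
  obtain ⟨R, hR⟩ := sylow_inf_normal T N
  have hidx : ¬ p ∣ M₀.index := by
    intro hd
    refine R.not_dvd_index (hd.trans ?_)
    have e : M₀.index = M₀.relIndex N := by
      have h1 := relIndex_mul_index (inf_le_left : M₀ ⊓ N ≤ M₀)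
      have h2 := relIndex_mul_index (inf_le_right : M₀ ⊓ N ≤ N)
      have h3 : N.relIndex M₀ = N.index := by
        rw [← relIndex_sup_right (H := M₀) (K := N), hsup, relIndex_top_right]
      rw [inf_relIndex_left, h3] at h1
      rw [inf_relIndex_right, ← h1, mul_comm] at h2
      exact (Nat.eq_of_mul_eq_mul_left (Nat.pos_of_ne_zero N.index_ne_zero_of_finite) h2).symm
    rw [e]
    refine (relIndex_dvd_of_le_left N hOM).trans (index_dvd_of_le fun x hx => ?_)
    exact inf_le_pCore_of_normal_le T hT N hNM (hR.le (mem_map_of_mem N.subtype hx))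
  obtain ⟨g, hg⟩ := sylow_le_of_not_dvd hidx T
  have hT' : (T : Subgroup G) ≤ conjBy g⁻¹ M₀ := by
    refine le_trans (le_of_eq ?_) (map_mono (f := (MulAut.conj g⁻¹).toMonoidHom) hg)
    show _ = conjBy g⁻¹ (conjBy g (T : Subgroup G))
    rw [conjBy_conjBy, inv_mul_cancel, conjBy_one]
  have hne : conjBy g⁻¹ M₀ ≠ ⊤ := fun e => hM₀top (by
    have := congrArg (conjBy g) e
    rw [conjBy_conjBy, mul_inv_cancel, conjBy_one] at this
    exact this.trans (map_top_of_surjective _ (MulAut.conj g).surjective))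
  have hle := h.2.2 _ (hYT.trans hT') hne
  have hsup' : conjBy g⁻¹ M₀ ⊔ N = ⊤ := by
    have := congrArg (conjBy g⁻¹) hsup
    rw [CfsgLib.Coprime.conjBy, Subgroup.map_sup,
      show Subgroup.map (MulAut.conj g⁻¹).toMonoidHom N = N from
        conjBy_eq_self_iff.2 (normalizer_eq_top_iff.2 hN ▸ mem_top g⁻¹)] at this
    exact this.trans (map_top_of_surjective _ (MulAut.conj g⁻¹).surjective)
  exact h.1.1 (eq_top_iff.2 (hsup' ▸ sup_le hle hNM))

/-- A subnormal subgroup invariant under a Sylow subgroup inside the maximal subgroup lies in a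
normal subgroup inside it. -/
theorem exists_normal_le_of_subnormal (S : Sylow p G) {M : Subgroup G}
    (h : OnlyMax (S : Subgroup G) M) {N : Subgroup G} (hN : N.IsSubnormal) (hNM : N ≤ M)
    (hS : (S : Subgroup G) ≤ normalizer (N : Set G)) :
    ∃ D : Subgroup G, D.Normal ∧ N ≤ D ∧ D ≤ M := by
  let f : ℕ → Subgroup G := fun i =>
    Nat.rec (motive := fun _ => Subgroup G) ⊤ (fun _ B => (normalClosure ((N.subgroupOf B : Subgroup B) : Set B)).map B.subtype) i
  have hNf : ∀ i, N ≤ f i := by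
    intro i
    induction i with
    | zero => exact le_top
    | succ i ih =>
      rw [← map_subgroupOf_eq_of_le ih]
      exact map_mono Subgroup.le_normalClosure
  have hbelow : ∀ B : Subgroup G, B.IsSubnormal → N ≤ B → ∃ i, f i ≤ B := by
    intro B hB
    induction hB with
    | top => exact fun _ => ⟨0, le_top⟩
    | step B C hle _ hn ih =>
      intro hNB
      obtain ⟨i, hi⟩ := ih (hNB.trans hle)
      refine ⟨i + 1, ?_⟩
      haveI : (B.subgroupOf (f i)).Normal := (normal_subgroupOf_iff_le_normalizer_inf).2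
        (CfsgLib.Coprime.inf_le_normalizer (hi.trans ((normal_subgroupOf_iff_le_normalizer hle).1 hn))
          le_normalizer)
      refine (map_mono (normalClosure_le_normal (N := B.subgroupOf (f i))
        (fun x hx => hNB hx))).trans ?_
      rw [subgroupOf_map_subtype]
      exact inf_le_left
  have hinv : ∀ i, (S : Subgroup G) ≤ normalizer (f i : Set G) := by
    intro i
    induction i with
    | zero => exact le_top.trans (normalizer_eq_top_iff.2 (inferInstance : (⊤ : Subgroup G).Normal)).ge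
    | succ i ih =>
      refine le_normalizer_iff.2 fun s hs x hx => ?_
      obtain ⟨y, hy, rfl⟩ := hx
      let e : f i ≃* f i :=
        { toFun := fun a => ⟨s * a * s⁻¹, (mem_normalizer_iff.1 (ih hs) _).1 a.2⟩
          invFun := fun a => ⟨s⁻¹ * a * s, (mem_normalizer_iff''.1 (ih hs) _).1 a.2⟩
          left_inv := fun a => Subtype.ext (by simp only; group)
          right_inv := fun a => Subtype.ext (by simp only; group)
          map_mul' := fun a b => Subtype.ext (by simp only [Subgroup.coe_mul]; group) }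
      refine ⟨e y, ?_, rfl⟩
      have hm := mem_map_of_mem e.toMonoidHom hy
      rw [map_normalClosure _ _ e.surjective] at hm
      refine normalClosure_mono ?_ hm
      rintro _ ⟨z, hz, rfl⟩
      exact (mem_normalizer_iff.1 (hS hs) _).1 hz
  obtain ⟨i, hi⟩ := hbelow N hN le_rfl
  have key : ∀ i, f i ≤ M → ∃ D : Subgroup G, D.Normal ∧ N ≤ D ∧ D ≤ M := by
    intro i
    induction i with
    | zero => exact fun hle => absurd (eq_top_iff.2 hle) h.1.1
    | succ i ih =>
      intro hle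
      by_cases hfi : f i ≤ M
      · exact ih hfi
      have htop : f i ⊔ (S : Subgroup G) = ⊤ := by
        by_contra hne
        exact hfi (le_sup_left.trans (h.2.2 _ le_sup_right hne))
      refine ⟨f (i + 1), ?_, hNf (i + 1), hle⟩
      rw [← normalizer_eq_top_iff, eq_top_iff, ← htop]
      refine sup_le ?_ (hinv (i + 1))
      exact (normal_subgroupOf_iff_le_normalizer (map_subtype_le _)).1 (by
        rw [Subgroup.subgroupOf, comap_map_eq_self_of_injective (f i).subtype_injective]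
        infer_instance)
  exact key i (hi.trans hNM)

theorem subnormal_inf_sylow_le_pCore (S : Sylow p G) {M : Subgroup G}
    (h : OnlyMax (S : Subgroup G) M) {N : Subgroup G} (hN : N.IsSubnormal) (hNM : N ≤ M) :
    N ⊓ (S : Subgroup G) ≤ Cfsg.pCore p G := by
  set K : Subgroup G := sSup {X | ∃ s ∈ (S : Subgroup G), X = conjBy s N} with hK
  have hKsn : K.IsSubnormal := CfsgLib.Coprime.isSubnormal_sSup_aux
    (fun A hA B hB _ => by
      obtain ⟨s, -, rfl⟩ := hA
      exact CfsgLib.Coprime.isSubnormal_sup (CfsgLib.Coprime.isSubnormal_conjBy hN s) hB)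
    (subset_refl _)
  have hKM : K ≤ M := sSup_le fun X ⟨s, hs, e⟩ =>
    e.le.trans ((map_mono hNM).trans (CfsgLib.Coprime.conjBy_eq_self_of_mem (h.2.1 hs)).le)
  have hKS : (S : Subgroup G) ≤ normalizer (K : Set G) := by
    refine le_normalizer_iff.2 fun t ht x hx => ?_
    have := mem_map_of_mem (MulAut.conj t).toMonoidHom hx
    rw [hK, (Subgroup.gc_map_comap _).l_sSup] at this
    refine SetLike.le_def.1 (iSup₂_le fun X ⟨s, hs, hX⟩ => ?_) this
    refine le_sSup ⟨t * s, mul_mem ht hs, ?_⟩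
    rw [hX]; exact conjBy_conjBy t s N
  obtain ⟨D, hD, hKD, hDM⟩ := exists_normal_le_of_subnormal S h hKsn hKM hKS
  haveI := hD
  have hNK : N ≤ K := le_sSup ⟨1, one_mem _, (conjBy_one N).symm⟩
  exact (le_inf inf_le_right (inf_le_left.trans (hNK.trans hKD))).trans
    (inf_le_pCore_of_normal_le S h D hDM)

/-! ### The `L`-lemma -/

theorem eq_of_conjBy_eq_top {g : G} {X : Subgroup G} (h : conjBy g X = ⊤) : X = ⊤ := by
  have := congrArg (conjBy g⁻¹) h
  rw [conjBy_conjBy, inv_mul_cancel, conjBy_one] at this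
  exact this.trans (map_top_of_surjective _ (MulAut.conj g⁻¹).surjective)

theorem l_lemma (T : Sylow p G) {M : Subgroup G} (h : OnlyMax (T : Subgroup G) M)
    {A : Subgroup G} (hAT : A ≤ (T : Subgroup G)) (hA : ¬ A ≤ Cfsg.pCore p G) :
    ∃ (a : G) (L : Subgroup G), conjBy a A ⊔ Cfsg.pCore p G ≤ L ∧
      conjBy a A ⊔ Cfsg.pCoreOf p L ≤ L ⊓ M ∧ L ⊓ M < L ∧
      (∀ X : Subgroup G, conjBy a A ⊔ Cfsg.pCoreOf p L ≤ X → X < L → X ≤ L ⊓ M) ∧
      ∀ x ∈ L, x ∉ L ⊓ M →
        (conjBy a A ⊔ conjBy x (conjBy a A)) ⊔ Cfsg.pCoreOf p L = L := by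
  haveI hQn := CfsgLib.Coprime.pCore_normal' (G := G) p
  set Q := Cfsg.pCore p G with hQdef
  have hQp : IsPGroup p Q := CfsgLib.Coprime.pCore_isPGroup p
  have hQT : Q ≤ (T : Subgroup G) := CfsgLib.PGroup.pCore_le_sylow T
  have hQN : ∀ g : G, conjBy g Q = Q := fun g =>
    conjBy_eq_self_iff.2 (normalizer_eq_top_iff.2 hQn ▸ mem_top g)
  let sig : Subgroup G → Subgroup G := fun R =>
    Q ⊔ sSup {X | X ≤ R ∧ ∃ g : G, X = conjBy g A}
  have hsig_le : ∀ {R : Subgroup G}, Q ≤ R → sig R ≤ R := fun {R} hR =>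
    sup_le hR (sSup_le fun X hX => hX.1)
  have hsig_mono : ∀ {R R' : Subgroup G}, R ≤ R' → sig R ≤ sig R' := fun {R R'} hRR' =>
    sup_le le_sup_left (le_trans (sSup_le_sSup (show {X | X ≤ R ∧ ∃ g : G, X = conjBy g A} ⊆
      {X | X ≤ R' ∧ ∃ g : G, X = conjBy g A} from fun X hX => ⟨hX.1.trans hRR', hX.2⟩)) le_sup_right)
  have hsig_idem : ∀ R : Subgroup G, sig R ≤ sig (sig R) := fun R =>
    sup_le le_sup_left (sSup_le fun X hX => le_trans
      (le_sSup (s := {X | X ≤ sig R ∧ ∃ g : G, X = conjBy g A})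
        ⟨(le_sSup (s := {X | X ≤ R ∧ ∃ g : G, X = conjBy g A}) hX).trans le_sup_right, hX.2⟩)
      le_sup_right)
  have hsigN : ∀ (R : Subgroup G), normalizer (R : Set G) ≤ normalizer (sig R : Set G) := by
    intro R
    refine le_normalizer_iff.2 fun g hg x hx => ?_
    have := mem_map_of_mem (MulAut.conj g).toMonoidHom hx
    rw [Subgroup.map_sup, (Subgroup.gc_map_comap _).l_sSup] at this
    refine SetLike.le_def.1 (sup_le ((hQN g).le.trans le_sup_left) (iSup₂_le fun X hX => ?_)) this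
    obtain ⟨b, hb⟩ := hX.2
    refine le_trans ?_ le_sup_right
    refine le_sSup ⟨(map_mono hX.1).trans (conjBy_eq_self_iff.2 hg).le, g * b, ?_⟩
    rw [hb]; exact conjBy_conjBy g b A
  have hQM : Q ≤ M := hQT.trans h.2.1
  obtain ⟨R, ⟨hRp, hQR, hRM, hRfix, hRN⟩, hRmax⟩ := Set.Finite.exists_maximal
    (Set.toFinite {R : Subgroup G | IsPGroup p R ∧ Q ≤ R ∧ R ≤ M ∧ R ≤ sig R ∧
      ¬ normalizer (R : Set G) ≤ M})
    ⟨Q, hQp, le_rfl, hQM, le_sup_left, fun hle => h.1.1 (eq_top_iff.2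
      ((normalizer_eq_top_iff.2 hQn).ge.trans hle))⟩
  -- a Sylow subgroup inside `M` containing `R`
  obtain ⟨T₁, hT₁⟩ := (hRp.comap_subtype : IsPGroup p (R.subgroupOf M)).exists_le_sylow
  obtain ⟨m, rfl⟩ := MulAction.exists_smul_eq M (T.subtype h.2.1) T₁
  set T' := conjBy (m : G) (T : Subgroup G) with hT'
  have hT'M : T' ≤ M :=
    (map_mono h.2.1).trans (CfsgLib.Coprime.conjBy_eq_self_of_mem m.2).le
  have hT'p : IsPGroup p T' := T.2.map _
  have hRT' : R ≤ T' := fun x hx => by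
    obtain ⟨z, hz, e⟩ := hT₁ (show (⟨x, hRM hx⟩ : M) ∈ R.subgroupOf M from hx)
    exact ⟨z, hz, congrArg Subtype.val e⟩
  have hAT' : conjBy (m : G) A ≤ T' := map_mono hAT
  have hQT' : Q ≤ T' := hQR.trans hRT'
  have hexB : ¬ ∀ g : G, conjBy g A ≤ T' → conjBy g A ≤ R := by
    intro hall
    have hse : sig T' = R := le_antisymm (sup_le hQR (sSup_le fun X ⟨hX, g, e⟩ => by
      rw [e] at hX ⊢; exact hall g hX)) (hRfix.trans (hsig_mono hRT'))
    have hN := hsigN T'
    rw [hse] at hN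
    by_cases htop : normalizer (R : Set G) = ⊤
    · haveI := normalizer_eq_top_iff.1 htop
      refine hA ?_
      have h1 := ((hall m hAT').trans (CfsgLib.Coprime.le_pCore hRp))
      have h2 := map_mono (f := (MulAut.conj (m : G)⁻¹).toMonoidHom) h1
      change conjBy (m : G)⁻¹ (conjBy (m : G) A) ≤ conjBy (m : G)⁻¹ Q at h2
      rwa [conjBy_conjBy, inv_mul_cancel, conjBy_one, hQN] at h2
    · refine hRN ?_
      have hne : conjBy (m : G)⁻¹ (normalizer (R : Set G)) ≠ ⊤ := fun e =>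
        htop (eq_of_conjBy_eq_top e)
      have hTle : (T : Subgroup G) ≤ conjBy (m : G)⁻¹ (normalizer (R : Set G)) := by
        refine le_trans (le_of_eq ?_) (map_mono (le_normalizer.trans hN))
        show _ = conjBy (m : G)⁻¹ (conjBy (m : G) (T : Subgroup G))
        rw [conjBy_conjBy, inv_mul_cancel, conjBy_one]
      refine le_trans (le_of_eq ?_) ((map_mono (f := (MulAut.conj (m : G)).toMonoidHom)
        (h.2.2 _ hTle hne)).trans (CfsgLib.Coprime.conjBy_eq_self_of_mem m.2).le)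
      show _ = conjBy (m : G) (conjBy (m : G)⁻¹ (normalizer (R : Set G)))
      rw [conjBy_conjBy, mul_inv_cancel, conjBy_one]
  obtain ⟨U, ⟨hRU, hUT', hU⟩, hUmax⟩ := Set.Finite.exists_maximal
    (Set.toFinite {U : Subgroup G | R ≤ U ∧ U ≤ T' ∧
      ∀ g : G, conjBy g A ≤ U → conjBy g A ≤ R})
    ⟨R, le_rfl, hRT', fun _ hg => hg⟩
  have hsU : sig U = R := le_antisymm (sup_le hQR (sSup_le fun X ⟨hX, g, e⟩ => by
    rw [e] at hX ⊢; exact hU g hX)) (hRfix.trans (hsig_mono hRU))
  set U' := T' ⊓ normalizer (U : Set G) with hU'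
  have hUlt : U < U' := by
    refine lt_of_le_of_ne (le_inf hUT' le_normalizer) fun e => hexB ?_
    have htop : U.subgroupOf T' = ⊤ := by
      by_contra hne
      haveI := hT'p.isNilpotent
      obtain ⟨⟨x, hxT⟩, hxn, hxU⟩ := SetLike.exists_of_lt
        ((Group.normalizerCondition_of_isNilpotent (G := T')) _ (lt_top_iff_ne_top.2 hne))
      refine hxU (mem_subgroupOf.2 (e.ge (mem_inf.2 ⟨hxT, ?_⟩)))
      refine mem_normalizer_iff.2 fun y => ⟨fun hy => ?_, fun hy => ?_⟩
      · exact mem_subgroupOf.1 ((mem_normalizer_iff.1 hxn ⟨y, hUT' hy⟩).1 (mem_subgroupOf.2 hy))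
      · have hyT : y ∈ T' := by
          have := mul_mem (mul_mem (inv_mem hxT) (hUT' hy)) hxT
          simpa [mul_assoc] using this
        exact mem_subgroupOf.1 ((mem_normalizer_iff.1 hxn ⟨y, hyT⟩).2 (mem_subgroupOf.2 hy))
    exact fun g hg => hU g (hg.trans (subgroupOf_eq_top.1 htop))
  obtain ⟨a, haU', haR⟩ : ∃ a : G, conjBy a A ≤ U' ∧ ¬ conjBy a A ≤ R := by
    by_contra hno
    push_neg at hno
    exact hUlt.not_ge (hUmax ⟨hRU.trans hUlt.le, inf_le_left, hno⟩ hUlt.le)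
  set B := conjBy a A with hB
  have hBM : B ≤ M := haU'.trans (inf_le_left.trans hT'M)
  have hBp : IsPGroup p B := hT'p.to_le (haU'.trans inf_le_left)
  have hBN : B ≤ normalizer (R : Set G) := by
    rw [← hsU]
    exact (haU'.trans inf_le_right).trans (hsigN U)
  have hP : ∀ R' : Subgroup G, IsPGroup p R' → R ≤ R' → B ≤ R' → R' ≤ M →
      normalizer (R' : Set G) ≤ M := by
    intro R' hp' hRR' hBR' hR'M
    by_contra hn
    have hRs : R ≤ sig R' := hRfix.trans (hsig_mono hRR')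
    have hBs : B ≤ sig R' := le_trans
      (le_sSup (s := {X | X ≤ R' ∧ ∃ g : G, X = conjBy g A}) ⟨hBR', a, rfl⟩) le_sup_right
    have hle := hsig_le (hQR.trans hRR')
    exact haR (hBs.trans (hRmax ⟨hp'.to_le hle, le_sup_left, hle.trans hR'M,
      hsig_idem R', fun hN => hn ((hsigN R').trans hN)⟩ hRs))
  obtain ⟨L, ⟨hRL, hBL, hLN, hLM⟩, hLmin⟩ := Set.Finite.exists_minimal
    (Set.toFinite {L : Subgroup G | R ≤ L ∧ B ≤ L ∧ L ≤ normalizer (R : Set G) ∧ ¬ L ≤ M})
    ⟨normalizer (R : Set G), le_normalizer, hBN, le_rfl, hRN⟩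
  set P := Cfsg.pCoreOf p L with hPdef
  have hPp : IsPGroup p P := (CfsgLib.Coprime.pCore_isPGroup p).map _
  have hPL : P ≤ L := map_subtype_le _
  have hLP : L ≤ normalizer (P : Set G) := by
    haveI := CfsgLib.Coprime.pCore_normal' (G := L) p
    refine le_normalizer_iff.2 fun l hl x hx => ?_
    obtain ⟨y, hy, rfl⟩ := hx
    exact ⟨⟨l, hl⟩ * y * ⟨l, hl⟩⁻¹,
      (inferInstance : (Cfsg.pCore p L).Normal).conj_mem y hy _, rfl⟩
  have hRP : R ≤ P := by
    haveI : (R.subgroupOf L).Normal := (normal_subgroupOf_iff_le_normalizer hRL).2 hLN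
    rw [← map_subgroupOf_eq_of_le hRL]
    exact map_mono (CfsgLib.Coprime.le_pCore (hRp.of_equiv (subgroupOfEquivOfLe hRL).symm))
  set V := B ⊔ P with hV
  have hVp : IsPGroup p V := hBp.to_sup_of_normal_right' hPp (hBL.trans hLP)
  have hVM : V ≤ M := by
    by_contra hn
    have hlt : (V ⊓ M).subgroupOf V < ⊤ := lt_top_iff_ne_top.2 fun e =>
      hn ((subgroupOf_eq_top.1 e).trans inf_le_right)
    haveI := hVp.isNilpotent
    obtain ⟨⟨x, hxV⟩, hxn, hxU⟩ := SetLike.exists_of_lt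
      ((Group.normalizerCondition_of_isNilpotent (G := V)) _ hlt)
    refine hxU (mem_subgroupOf.2 ⟨hxV, hP (V ⊓ M) (hVp.to_le inf_le_left)
      (le_inf (hRP.trans le_sup_right) hRM) (le_inf le_sup_left hBM) inf_le_right ?_⟩)
    refine mem_normalizer_iff.2 fun y => ⟨fun hy => ?_, fun hy => ?_⟩
    · exact mem_subgroupOf.1 ((mem_normalizer_iff.1 hxn ⟨y, hy.1⟩).1 (mem_subgroupOf.2 hy))
    · have hyV : y ∈ V := by
        have := mul_mem (mul_mem (inv_mem hxV) hy.1) hxV
        simpa [mul_assoc] using this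
      exact mem_subgroupOf.1 ((mem_normalizer_iff.1 hxn ⟨y, hyV⟩).2 (mem_subgroupOf.2 hy))
  have hL₀ : L ⊓ M < L := lt_of_le_of_ne inf_le_left fun e => hLM (inf_eq_left.1 e)
  have huniq : ∀ X : Subgroup G, V ≤ X → X < L → X ≤ L ⊓ M := fun X hVX hXL => le_inf hXL.le (by
    by_contra hn
    exact hXL.not_ge (hLmin ⟨(hRP.trans le_sup_right).trans hVX, le_sup_left.trans hVX,
      hXL.le.trans hLN, hn⟩ hXL.le))
  have hVL₀ : V ≤ L ⊓ M := le_inf (sup_le hBL hPL) hVM
  refine ⟨a, L, sup_le hBL (hQR.trans hRL), hVL₀, hL₀, huniq, fun x hx hx₀ => ?_⟩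
  set L₀ := L ⊓ M with hL₀def
  by_contra hne
  have hxL : conjBy x L = L := CfsgLib.Coprime.conjBy_eq_self_of_mem hx
  have hXlt : (B ⊔ conjBy x B) ⊔ P < L :=
    lt_of_le_of_ne (sup_le (sup_le hBL ((map_mono hBL).trans hxL.le)) hPL) hne
  have hXle := huniq _ (sup_le (le_sup_left.trans le_sup_left) le_sup_right) hXlt
  -- `x` normalizes `L ⊓ M`
  have hxN : x ∈ normalizer (L₀ : Set G) := by
    have h1 : conjBy x⁻¹ L₀ ≤ L₀ := by
      have hxi : conjBy x⁻¹ L = L := CfsgLib.Coprime.conjBy_eq_self_of_mem (inv_mem hx)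
      refine huniq _ ?_ ?_
      · have h2 : conjBy x B ⊔ conjBy x P ≤ L₀ := by
          rw [conjBy_eq_self_iff.2 (hLP hx)]
          exact (sup_le (le_sup_right.trans le_sup_left) le_sup_right).trans hXle
        refine le_trans (le_of_eq ?_) (map_mono (f := (MulAut.conj x⁻¹).toMonoidHom) h2)
        show _ = conjBy x⁻¹ (conjBy x B ⊔ conjBy x P)
        rw [← Subgroup.map_sup, conjBy_conjBy, inv_mul_cancel, conjBy_one]
      · refine lt_of_le_of_ne ((map_mono inf_le_left).trans hxi.le) fun e => hL₀.ne ?_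
        have := congrArg (conjBy x) e
        rw [conjBy_conjBy, mul_inv_cancel, conjBy_one, hxL] at this
        exact this
    have h2 := conjBy_eq_self_iff.1
      (eq_of_le_of_card_ge h1 (CfsgLib.Coprime.card_conjBy _ _).ge)
    simpa using inv_mem h2
  -- hence `L ⊓ M` is normal in `L`
  have hnorm : L ≤ normalizer (L₀ : Set G) := by
    by_contra hn
    have hlt : L ⊓ normalizer (L₀ : Set G) < L :=
      lt_of_le_of_ne inf_le_left fun e => hn (inf_eq_left.1 e)
    exact hx₀ (huniq _ (hVL₀.trans (le_inf inf_le_left le_normalizer)) hlt ⟨hx, hxN⟩)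
  obtain ⟨D, hD⟩ := (hVp.comap_subtype : IsPGroup p (V.subgroupOf L₀)).exists_le_sylow
  set D' := (D : Subgroup L₀).map L₀.subtype with hD'
  have hVD : V ≤ D' := by rw [← map_subgroupOf_eq_of_le hVL₀]; exact map_mono hD
  have hND := hP D' (D.2.map _) ((hRP.trans le_sup_right).trans hVD) (le_sup_left.trans hVD)
    ((map_subtype_le _).trans inf_le_right)
  haveI : (L₀.subgroupOf L).Normal := (normal_subgroupOf_iff_le_normalizer inf_le_left).2 hnorm
  let e : L₀ ≃* L₀.subgroupOf L := (subgroupOfEquivOfLe inf_le_left).symm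
  let D₁ : Sylow p (L₀.subgroupOf L) := D.mapSurjective (f := e.toMonoidHom) e.surjective
  have hfr := D₁.normalizer_sup_eq_top
  refine hLM fun l hl => ?_
  have hl' : (⟨l, hl⟩ : L) ∈ _ := hfr.ge (mem_top _)
  rw [← SetLike.mem_coe, Subgroup.mul_normal] at hl'
  obtain ⟨c, hc, d, hd, e'⟩ := hl'
  rw [show l = (c : G) * d from (congrArg Subtype.val e').symm]
  refine M.mul_mem (hND ?_) hd.2
  have key : ∀ c : L, c ∈ normalizer
      ((((D₁ : Subgroup (L₀.subgroupOf L)).map (L₀.subgroupOf L).subtype : Subgroup L)) : Set L) →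
      ∀ y ∈ D', (c : G) * y * (c : G)⁻¹ ∈ D' := by
    intro c hc y hy
    obtain ⟨z, hz, rfl⟩ := hy
    have hz' : (⟨(z : G), z.2.1⟩ : L) ∈
        (D₁ : Subgroup (L₀.subgroupOf L)).map (L₀.subgroupOf L).subtype :=
      ⟨e z, mem_map_of_mem _ hz, rfl⟩
    obtain ⟨w, ⟨u, hu, hw⟩, hw'⟩ := (mem_normalizer_iff.1 hc _).1 hz'
    refine ⟨u, hu, ?_⟩
    rw [← hw] at hw'
    exact congrArg Subtype.val hw'
  refine mem_normalizer_iff.2 fun y => ⟨key c hc y, fun hy => ?_⟩
  have := key c⁻¹ (inv_mem hc) _ hy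
  simpa [mul_assoc] using this

end CfsgLib.LS
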