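import Cfsg.Prelude.Def_BaumannBlocks
import Cfsg.Agent.Lib.Fusion.Thompson
import Cfsg.Agent.Lib.Fusion.Sylow
import Cfsg.Agent.Lib.Coprime.Action
import Mathlib.GroupTheory.Sylow

/-!
# The Baumann subgroup is normal in every `p`-group above it
-/

set_option autoImplicit false
set_option linter.unusedSectionVars false

open Subgroup
open scoped commutatorElement

namespace CfsgLib.BaumannNormal

open CfsgLib.Fusion (IsMaxEA conjBy)

variable {G : Type*} [Group G] [Finite G] {p : ℕ}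

theorem omegaOne_centerThompson_normalizer (T : Subgroup G) :
    normalizer (Cfsg.thompsonSubgroupOf p T : Set G) ≤
      normalizer (Cfsg.omegaOne p (Cfsg.centerThompsonOf p T) : Set G) := by
  intro g hg
  refine CfsgLib.Fusion.conjBy_eq_iff.1 (CfsgLib.Fusion.conjBy_eq_of_le ?_)
  rw [CfsgLib.Fusion.conjBy, Cfsg.omegaOne, MonoidHom.map_closure]
  refine closure_mono ?_
  rintro _ ⟨x, ⟨hx, hxp⟩, rfl⟩
  refine ⟨?_, by rw [← map_pow, hxp, map_one]⟩
  obtain ⟨hxJ, hxC⟩ := mem_inf.1 (show x ∈ Cfsg.thompsonSubgroupOf p T ⊓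
    centralizer (Cfsg.thompsonSubgroupOf p T : Set G) from hx)
  show g * x * g⁻¹ ∈ Cfsg.thompsonSubgroupOf p T ⊓ centralizer (Cfsg.thompsonSubgroupOf p T : Set G)
  refine mem_inf.2 ⟨(mem_normalizer_iff.1 hg x).1 hxJ, mem_centralizer_iff.2 fun y hy => ?_⟩
  have hy' : g⁻¹ * y * g ∈ Cfsg.thompsonSubgroupOf p T :=
    (mem_normalizer_iff.1 hg _).2 (by simpa [mul_assoc] using hy)
  calc y * (g * x * g⁻¹) = g * ((g⁻¹ * y * g) * x) * g⁻¹ := by group
    _ = g * (x * (g⁻¹ * y * g)) * g⁻¹ := by rw [mem_centralizer_iff.1 hxC _ hy']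
    _ = g * x * g⁻¹ * y := by group

theorem thompson_le_baumann (T : Subgroup G) :
    Cfsg.thompsonSubgroupOf p T ≤ Cfsg.baumannSubgroupOf p T := by
  refine le_inf (CfsgLib.Fusion.thompsonSubgroupOf_le T) (le_centralizer_iff.1 ?_)
  refine (closure_le _).2 fun x hx => (mem_inf.1 (show x ∈ Cfsg.thompsonSubgroupOf p T ⊓
    centralizer (Cfsg.thompsonSubgroupOf p T : Set G) from hx.1)).2

/-- A subgroup of a Sylow subgroup above `J` has the same `J`. -/
theorem thompson_eq_and_normalizer [Fact p.Prime] (T : Sylow p G) {P : Subgroup G}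
    (hP : IsPGroup p P) (hJP : Cfsg.thompsonSubgroupOf p (T : Subgroup G) ≤ P) :
    ∃ g : G, conjBy g P ≤ (T : Subgroup G) ∧
      Cfsg.thompsonSubgroupOf p P = Cfsg.thompsonSubgroupOf p (T : Subgroup G) ∧
      g ∈ normalizer (Cfsg.thompsonSubgroupOf p (T : Subgroup G) : Set G) := by
  obtain ⟨Q, hQ⟩ := hP.exists_le_sylow
  obtain ⟨g, hg⟩ := MulAction.exists_smul_eq G Q T
  have hgP : conjBy g P ≤ (T : Subgroup G) := by
    rw [← hg, Sylow.coe_subgroup_smul]
    rintro _ ⟨x, hx, rfl⟩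
    exact Subgroup.smul_mem_pointwise_smul x (MulAut.conj g) _ (hQ hx)
  have hmaxP : ∀ A, IsMaxEA p (T : Subgroup G) A → IsMaxEA p P A := by
    intro A hA
    refine ⟨(CfsgLib.Fusion.le_thompsonSubgroupOf hA).trans hJP, hA.2.1, fun B hB hBe => ?_⟩
    have h := hA.2.2 (conjBy g B) ((CfsgLib.Fusion.conjBy_mono hB).trans hgP)
      (CfsgLib.Fusion.isElementaryAbelian_map _ hBe)
    rwa [CfsgLib.Fusion.card_conjBy] at h
  obtain ⟨A₀, hA₀⟩ := CfsgLib.Fusion.exists_isMaxEA p (T : Subgroup G)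
  have h1 : Cfsg.thompsonSubgroupOf p (T : Subgroup G) ≤ Cfsg.thompsonSubgroupOf p P := by
    rw [CfsgLib.Fusion.thompsonSubgroupOf_eq p (T : Subgroup G)]
    exact sSup_le fun A hA => CfsgLib.Fusion.le_thompsonSubgroupOf (hmaxP A hA)
  have h2 : conjBy g (Cfsg.thompsonSubgroupOf p P) ≤ Cfsg.thompsonSubgroupOf p (T : Subgroup G) := by
    rw [CfsgLib.Fusion.thompsonSubgroupOf_eq p P, CfsgLib.Fusion.conjBy, map_le_iff_le_comap]
    refine sSup_le fun B hB => map_le_iff_le_comap.1 (CfsgLib.Fusion.le_thompsonSubgroupOf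
      ⟨(CfsgLib.Fusion.conjBy_mono hB.1).trans hgP, CfsgLib.Fusion.isElementaryAbelian_map _ hB.2.1,
        fun D hD hDe => ?_⟩)
    calc Nat.card D ≤ Nat.card A₀ := hA₀.2.2 D hD hDe
      _ ≤ Nat.card B := hB.2.2 A₀ (hmaxP A₀ hA₀).1 hA₀.2.1
      _ = _ := (CfsgLib.Fusion.card_conjBy g B).symm
  have h3 : Cfsg.thompsonSubgroupOf p P = Cfsg.thompsonSubgroupOf p (T : Subgroup G) :=
    (eq_of_le_of_card_ge h1 ((CfsgLib.Fusion.card_conjBy g _).ge.trans (card_le_of_le h2))).symm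
  refine ⟨g, hgP, h3, CfsgLib.Fusion.conjBy_eq_iff.1 (CfsgLib.Fusion.conjBy_eq_of_le ?_)⟩
  exact h3 ▸ h2

/-- The Baumann subgroup is normal in every `p`-group containing it. -/
theorem le_normalizer_baumann [Fact p.Prime] (T : Sylow p G) {P : Subgroup G} (hP : IsPGroup p P)
    (hBP : Cfsg.baumannSubgroupOf p (T : Subgroup G) ≤ P) :
    P ≤ normalizer (Cfsg.baumannSubgroupOf p (T : Subgroup G) : Set G) := by
  obtain ⟨g, hgP, hJ, hgJ⟩ := thompson_eq_and_normalizer T hP ((thompson_le_baumann _).trans hBP)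
  obtain ⟨Z, hZ⟩ : ∃ Z, Z = Cfsg.omegaOne p (Cfsg.centerThompsonOf p (T : Subgroup G)) := ⟨_, rfl⟩
  have hN := omegaOne_centerThompson_normalizer (p := p) (T : Subgroup G)
  have hPZ : P ≤ normalizer (Z : Set G) := by
    refine (le_normalizer.trans (CfsgLib.Fusion.normalizer_le_normalizer_thompsonSubgroupOf (p := p) P)).trans ?_
    rw [hJ, hZ]
    exact hN
  have hgZ : g ∈ normalizer (Z : Set G) := hZ ▸ hN hgJ
  have hB : Cfsg.baumannSubgroupOf p (T : Subgroup G) = P ⊓ centralizer (Z : Set G) := by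
    have h1 : Cfsg.baumannSubgroupOf p (T : Subgroup G) ≤ P ⊓ centralizer (Z : Set G) :=
      le_inf hBP (hZ ▸ inf_le_right)
    refine eq_of_le_of_card_ge h1 ?_
    rw [← CfsgLib.Fusion.card_conjBy g]
    refine card_le_of_le ?_
    rintro _ ⟨x, hx, rfl⟩
    obtain ⟨hxP, hxC⟩ := mem_inf.1 hx
    refine mem_inf.2 ⟨hgP ⟨x, hxP, rfl⟩, ?_⟩
    rw [← hZ]
    refine mem_centralizer_iff.2 fun z hz => ?_
    have hz' : g⁻¹ * z * g ∈ Z := (mem_normalizer_iff.1 hgZ _).2 (by simpa [mul_assoc] using hz)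
    show z * (g * x * g⁻¹) = g * x * g⁻¹ * z
    calc z * (g * x * g⁻¹) = g * ((g⁻¹ * z * g) * x) * g⁻¹ := by group
      _ = g * (x * (g⁻¹ * z * g)) * g⁻¹ := by rw [mem_centralizer_iff.1 hxC _ hz']
      _ = g * x * g⁻¹ * z := by group
  rw [hB]
  refine CfsgLib.Coprime.inf_le_normalizer le_normalizer (hPZ.trans fun x hx => ?_)
  refine mem_normalizer_iff.2 fun y => ?_
  constructor
  · intro hy
    refine mem_centralizer_iff.2 fun z hz => ?_
    have hz' : x⁻¹ * z * x ∈ Z := (mem_normalizer_iff.1 hx _).2 (by simpa [mul_assoc] using hz)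
    calc z * (x * y * x⁻¹) = x * ((x⁻¹ * z * x) * y) * x⁻¹ := by group
      _ = x * (y * (x⁻¹ * z * x)) * x⁻¹ := by rw [mem_centralizer_iff.1 hy _ hz']
      _ = x * y * x⁻¹ * z := by group
  · intro hy
    refine mem_centralizer_iff.2 fun z hz => ?_
    have hz' : x * z * x⁻¹ ∈ Z := (mem_normalizer_iff.1 hx _).1 hz
    have h := mem_centralizer_iff.1 hy _ hz'
    calc z * y = x⁻¹ * (x * z * x⁻¹ * (x * y * x⁻¹)) * x := by group
      _ = x⁻¹ * (x * y * x⁻¹ * (x * z * x⁻¹)) * x := by rw [h]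
      _ = y * z := by group

/-- An element of order prime to `p` in the product with a normalizing `p`-group. -/
theorem coprime_mem_sup [Fact p.Prime] {K Q : Subgroup G} (hQ : IsPGroup p Q)
    (hn : Q ≤ normalizer (K : Set G)) {x : G} (hx : x ∈ K ⊔ Q) (ho : (orderOf x).Coprime p) : x ∈ K := by
  obtain ⟨k, hk, q, hq, rfl⟩ := CfsgLib.Coprime.mem_sup_exists hn hx
  have hpow : ∀ m : ℕ, ∃ k' ∈ K, (k * q) ^ m = k' * q ^ m := by
    intro m
    induction m with
    | zero => exact ⟨1, one_mem _, by simp⟩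
    | succ m ih =>
      obtain ⟨a', ha', he⟩ := ih
      refine ⟨a' * (q ^ m * k * (q ^ m)⁻¹),
        mul_mem ha' ((mem_normalizer_iff.1 (hn (pow_mem hq m)) k).1 hk), ?_⟩
      rw [pow_succ, he, pow_succ]; group
  obtain ⟨k', hk', he⟩ := hpow (orderOf (k * q))
  rw [pow_orderOf_eq_one] at he
  have h1 : q ^ orderOf (k * q) ∈ K := by
    rw [← inv_eq_of_mul_eq_one_right he.symm]
    exact inv_mem hk'
  obtain ⟨n, hn'⟩ := hQ ⟨q, hq⟩
  obtain ⟨m, hm⟩ := exists_pow_eq_self_of_coprime (x := q) (n := orderOf (k * q))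
    ((Nat.Coprime.pow_right n ho).coprime_dvd_right (orderOf_dvd_of_pow_eq_one (congrArg Subtype.val hn')))
  exact mul_mem hk (hm ▸ pow_mem h1 m)

theorem pResidualOf_eq_closure (E : Subgroup G) :
    Cfsg.pResidualOf p E = closure {g : G | g ∈ E ∧ (orderOf g).Coprime p} := by
  rw [Cfsg.pResidualOf, Cfsg.pResidual, MonoidHom.map_closure]
  congr 1
  ext g
  constructor
  · rintro ⟨x, hx, rfl⟩
    exact ⟨x.2, by rw [coe_subtype, Subgroup.orderOf_coe]; exact hx⟩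
  · rintro ⟨hg, ho⟩
    refine ⟨⟨g, hg⟩, ?_, rfl⟩
    show (orderOf (⟨g, hg⟩ : E)).Coprime p
    rw [← Subgroup.orderOf_coe]
    exact ho

/-- A `p`-subgroup normalized by `B(T)` and `E = O^p(E) = [E, B(T)]` normalizes `E`. -/
theorem le_normalizer_of_invariant [Fact p.Prime] (T : Sylow p G) {E Q : Subgroup G}
    (hEres : Cfsg.pResidualOf p E = E)
    (hEB : ⁅E, Cfsg.baumannSubgroupOf p (T : Subgroup G)⁆ = E) (hQ : IsPGroup p Q)
    (hBQ : Cfsg.baumannSubgroupOf p (T : Subgroup G) ≤ normalizer (Q : Set G))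
    (hEQ : E ≤ normalizer (Q : Set G)) : Q ≤ normalizer (E : Set G) := by
  obtain ⟨B, hB⟩ : ∃ B, B = Cfsg.baumannSubgroupOf p (T : Subgroup G) := ⟨_, rfl⟩
  rw [← hB] at hEB hBQ
  have hBp : IsPGroup p B := hB ▸ T.2.to_le inf_le_left
  have hEBn : B ≤ normalizer (E : Set G) := by
    intro b hb
    refine CfsgLib.Fusion.conjBy_eq_iff.1 (CfsgLib.Fusion.conjBy_eq_of_le ?_)
    rw [CfsgLib.Fusion.conjBy, map_le_iff_le_comap]
    intro e he
    show b * e * b⁻¹ ∈ E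
    have h1 : ⁅e, b⁆ ∈ E := hEB.le (commutator_mem_commutator he hb)
    rw [show b * e * b⁻¹ = ⁅e, b⁆⁻¹ * e by simp only [commutatorElement_def]; group]
    exact mul_mem (inv_mem h1) he
  -- the join of the conjugates of `B`
  obtain ⟨Y, hY⟩ : ∃ Y : Subgroup G, Y = ⨆ e : E, conjBy (e : G) B := ⟨_, rfl⟩
  have hYle : Y ≤ E ⊔ B := hY ▸ iSup_le fun e => by
    rintro _ ⟨b, hb, rfl⟩
    exact mul_mem (mul_mem (mem_sup_left e.2) (mem_sup_right hb)) (inv_mem (mem_sup_left e.2))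
  have hBY : ∀ e : E, conjBy (e : G) B ≤ Y := fun e => hY ▸ le_iSup (fun e : E => conjBy (e : G) B) e
  have hEY : E ≤ Y := by
    conv_lhs => rw [← hEB]
    refine commutator_le.2 fun e he b hb => ?_
    rw [commutatorElement_def]
    refine mul_mem (hBY ⟨e, he⟩ ⟨b, hb, rfl⟩) (inv_mem (hBY 1 ⟨b, hb, ?_⟩))
    simp
  have hQY : Q ≤ normalizer (Y : Set G) := by
    intro q hq
    refine CfsgLib.Fusion.conjBy_eq_iff.1 (CfsgLib.Fusion.conjBy_eq_of_le ?_)
    conv_lhs => rw [hY]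
    rw [CfsgLib.Fusion.conjBy, Subgroup.map_iSup, iSup_le_iff]
    intro e
    refine le_trans (le_of_eq ?_) (hBY e)
    refine CfsgLib.Fusion.conjBy_eq_iff.2 ?_
    -- move to the base point
    have hq' : (e : G)⁻¹ * q * e ∈ Q := (mem_normalizer_iff.1 (hEQ e.2) _).2 (by simpa [mul_assoc] using hq)
    have hP : IsPGroup p (Q ⊔ B : Subgroup G) := hQ.to_sup_of_normal_left' hBp hBQ
    have hN := le_normalizer_baumann T hP (hB ▸ le_sup_right) (mem_sup_left hq')
    rw [← hB] at hN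
    have hfix : conjBy ((e : G)⁻¹ * q * e) B = B := CfsgLib.Fusion.conjBy_eq_iff.2 hN
    refine CfsgLib.Fusion.conjBy_eq_iff.1 ?_
    conv_rhs => rw [← hfix]
    simp only [CfsgLib.Fusion.conjBy, Subgroup.map_map]
    congr 1
    ext x
    simp [mul_assoc]
  intro q hq
  refine CfsgLib.Fusion.conjBy_eq_iff.1 (CfsgLib.Fusion.conjBy_eq_of_le ?_)
  rw [CfsgLib.Fusion.conjBy, map_le_iff_le_comap]
  conv_lhs => rw [← hEres, pResidualOf_eq_closure]
  refine (closure_le _).2 fun k ⟨hk, hko⟩ => ?_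
  refine coprime_mem_sup hBp hEBn (hYle ((mem_normalizer_iff.1 (hQY hq) k).1 (hEY hk))) ?_
  show (orderOf (q * k * q⁻¹)).Coprime p
  rw [show q * k * q⁻¹ = MulAut.conj q k from rfl, MulEquiv.orderOf_eq]
  exact hko

end CfsgLib.BaumannNormal
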