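import Cfsg.Agent.Lib.LocalStructure.BasicProperty
import Cfsg.Agent.Lib.PGroup.CharPLocal

/-!
# Centralizers of `Ω₁(Z(T))` in subnormal subgroups
-/

set_option autoImplicit false
set_option linter.style.haveILetI false
set_option linter.unusedSectionVars false

namespace CfsgLib.LS

open Subgroup
open scoped commutatorElement

variable {G : Type*} [Group G] [Finite G] {p : ℕ} [Fact p.Prime]

theorem charP_of_pClean (h : CfsgLib.Invol.PClean p G) :
    centralizer (Cfsg.pCore p G : Set G) ≤ Cfsg.pCore p G := by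
  haveI := CfsgLib.Coprime.pCore_normal' (G := G) p
  haveI : (centralizer (Cfsg.pCore p G : Set G)).Normal := Subgroup.normal_centralizer
  exact CfsgLib.Coprime.le_pCore (isPGroup_of_coprime_trivial fun x hx hc => h x hc hx)

theorem charP_of_subnormal {L : Subgroup G} (hL : L.IsSubnormal)
    (h : centralizer (Cfsg.pCore p G : Set G) ≤ Cfsg.pCore p G) :
    centralizer (Cfsg.pCore p L : Set L) ≤ Cfsg.pCore p L :=
  charP_of_pClean (CfsgLib.CharPLoc.pClean_of_isSubnormal hL (CfsgLib.Invol.pClean_of_centralizer_le h))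

theorem normalizer_le_normalizer_largest (A : Subgroup G) :
    normalizer (A : Set G) ≤ normalizer ((Cfsg.largestPReducedOf p A : Subgroup G) : Set G) := by
  refine le_normalizer_iff.2 fun g hg x hx => ?_
  obtain ⟨y, hy, rfl⟩ := hx
  let e : A ≃* A :=
    { toFun := fun a => ⟨g * a * g⁻¹, (mem_normalizer_iff.1 hg _).1 a.2⟩
      invFun := fun a => ⟨g⁻¹ * a * g, (mem_normalizer_iff''.1 hg _).1 a.2⟩
      left_inv := fun a => Subtype.ext (by simp only; group)
      right_inv := fun a => Subtype.ext (by simp only; group)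
      map_mul' := fun a b => Subtype.ext (by simp only [Subgroup.coe_mul]; group) }
  exact ⟨e y, (map_largestPReduced_equiv e).le (mem_map_of_mem e.toMonoidHom hy), rfl⟩

/-- The trace from the fixed points of `T ⊓ C` to the fixed points of `C`. -/
theorem exists_trace {C V : Subgroup G} (hV : Cfsg.IsElementaryAbelian p V)
    (hCV : C ≤ normalizer (V : Set G)) (T : Subgroup G) :
    ∃ Tr : G → G, (∀ a ∈ V, Tr a ∈ V) ∧ (∀ a ∈ V, ∀ b ∈ V, Tr (a * b) = Tr a * Tr b) ∧
      (∀ a ∈ V, (∀ g ∈ C, g * a = a * g) → Tr a = a ^ ((T ⊓ C).subgroupOf C).index) ∧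
      (∀ a ∈ V, (∀ s ∈ T ⊓ C, s * a = a * s) → ∀ g ∈ C, g * Tr a = Tr a * g) ∧
      (∀ a ∈ V, (∀ s ∈ T ⊓ C, s * a = a * s) → ∀ t ∈ T, t ∈ normalizer (C : Set G) →
        t ∈ normalizer (V : Set G) → t * Tr a * t⁻¹ = Tr (t * a * t⁻¹)) ∧
      (∀ W : Subgroup G, ∀ a ∈ V, (∀ g ∈ C, ⁅g, a⁆ ∈ W) →
        Tr a * (a ^ ((T ⊓ C).subgroupOf C).index)⁻¹ ∈ W) := by
  classical
  set S := (T ⊓ C).subgroupOf C with hS
  letI : CommGroup V := { (inferInstance : Group V) with
    mul_comm := fun a b => Subtype.ext (ea_comm hV a.2 b.2) }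
  haveI : Fintype (C ⧸ S) := Fintype.ofFinite _
  let act : C → V → V := fun g v => ⟨(g : G) * v * (g : G)⁻¹,
    (mem_normalizer_iff.1 (hCV g.2) v).1 v.2⟩
  let f : V → C ⧸ S → V := fun a q => act q.out a
  let F : V → V := fun a => ∏ q, f a q
  have hF : ∀ a b : V, F (a * b) = F a * F b := fun a b => by
    show ∏ q, f (a * b) q = (∏ q, f a q) * ∏ q, f b q
    rw [← Finset.prod_mul_distrib]
    refine Finset.prod_congr rfl fun q _ => Subtype.ext ?_
    show (q.out : G) * ((a : G) * b) * (q.out : G)⁻¹ =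
      (q.out : G) * a * (q.out : G)⁻¹ * ((q.out : G) * b * (q.out : G)⁻¹)
    group
  have hlift : ∀ a : V, (∀ s ∈ T ⊓ C, s * (a : G) = a * s) → ∀ x y : C, (x : C ⧸ S) = y →
      (x : G) * a * (x : G)⁻¹ = (y : G) * a * (y : G)⁻¹ := by
    intro a ha x y h
    have hm := ha _ (mem_subgroupOf.1 (QuotientGroup.eq.1 h))
    rw [Subgroup.coe_mul, Subgroup.coe_inv] at hm
    calc (x : G) * a * (x : G)⁻¹
        = (x : G) * ((a * ((x : G)⁻¹ * y)) * ((x : G)⁻¹ * y)⁻¹) * (x : G)⁻¹ := by group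
      _ = (x : G) * ((((x : G)⁻¹ * y) * a) * ((x : G)⁻¹ * y)⁻¹) * (x : G)⁻¹ := by rw [hm]
      _ = (y : G) * a * (y : G)⁻¹ := by group
  refine ⟨fun a => if h : a ∈ V then (F ⟨a, h⟩ : G) else 1, fun a ha => ?_, fun a ha b hb => ?_,
    fun a ha hfix => ?_, fun a ha hfix g hg => ?_, fun a ha hfix t ht htC htV => ?_,
    fun W a ha hW => ?_⟩
  · simp only [dif_pos ha]; exact SetLike.coe_mem _
  · simp only [dif_pos ha, dif_pos hb, dif_pos (mul_mem ha hb)]
    exact congrArg Subtype.val (hF ⟨a, ha⟩ ⟨b, hb⟩)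
  · simp only [dif_pos ha]
    have e : ∀ q, f ⟨a, ha⟩ q = ⟨a, ha⟩ := fun q => Subtype.ext (by
      show (q.out : G) * a * (q.out : G)⁻¹ = a
      rw [hfix _ q.out.2, mul_inv_cancel_right])
    show ((∏ q, f ⟨a, ha⟩ q : V) : G) = _
    rw [Finset.prod_congr rfl fun q _ => e q, Finset.prod_const, Finset.card_univ,
      SubmonoidClass.coe_pow, Subgroup.index, Nat.card_eq_fintype_card]
  · simp only [dif_pos ha]
    let φ : V →* V := MonoidHom.mk' (act ⟨g, hg⟩) fun a b => Subtype.ext (by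
      show g * ((a : G) * b) * g⁻¹ = g * a * g⁻¹ * (g * b * g⁻¹)
      group)
    have hprod : φ (F ⟨a, ha⟩) = F ⟨a, ha⟩ := by
      calc φ (F ⟨a, ha⟩) = ∏ q, φ (f ⟨a, ha⟩ q) := map_prod φ _ Finset.univ
        _ = ∏ q : C ⧸ S, f ⟨a, ha⟩ ((⟨g, hg⟩ : C) • q) := Finset.prod_congr rfl fun q _ => by
            refine Subtype.ext ?_
            have := hlift ⟨a, ha⟩ hfix (⟨g, hg⟩ * q.out) ((⟨g, hg⟩ : C) • q).out (by
              rw [QuotientGroup.out_eq', ← smul_eq_mul, ← MulAction.Quotient.smul_coe,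
                QuotientGroup.out_eq'])
            show g * ((q.out : G) * a * (q.out : G)⁻¹) * g⁻¹ = _
            refine Eq.trans ?_ this
            show _ = (g * (q.out : G)) * a * (g * (q.out : G))⁻¹
            group
        _ = F ⟨a, ha⟩ := Equiv.prod_comp (MulAction.toPerm (⟨g, hg⟩ : C)) _
    exact mul_inv_eq_iff_eq_mul.1 (congrArg Subtype.val hprod)
  · have hta : t * a * t⁻¹ ∈ V := (mem_normalizer_iff.1 htV a).1 ha
    simp only [dif_pos ha, dif_pos hta]
    let σ : C ⧸ S → C ⧸ S := fun q =>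
      ((⟨t * q.out * t⁻¹, (mem_normalizer_iff.1 htC _).1 q.out.2⟩ : C) : C ⧸ S)
    have hσ : Function.Injective σ := by
      intro q₁ q₂ h
      rw [← QuotientGroup.out_eq' q₁, ← QuotientGroup.out_eq' q₂, QuotientGroup.eq]
      have hm := mem_subgroupOf.1 (QuotientGroup.eq.1 h)
      have e : ((q₁.out⁻¹ * q₂.out : C) : G) =
          t⁻¹ * ((t * (q₁.out : G) * t⁻¹)⁻¹ * (t * (q₂.out : G) * t⁻¹)) * t := by
        rw [Subgroup.coe_mul, Subgroup.coe_inv]; group
      refine mem_subgroupOf.2 (mem_inf.2 ⟨?_, SetLike.coe_mem _⟩)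
      rw [e]
      exact mul_mem (mul_mem (inv_mem ht) hm.1) ht
    let φ : V →* V := MonoidHom.mk'
      (fun v => ⟨t * v * t⁻¹, (mem_normalizer_iff.1 htV v).1 v.2⟩) fun a b => Subtype.ext (by
        show t * ((a : G) * b) * t⁻¹ = t * a * t⁻¹ * (t * b * t⁻¹)
        group)
    have hfix' : ∀ s ∈ T ⊓ C, s * (t * a * t⁻¹) = t * a * t⁻¹ * s := by
      intro s hs
      have := hfix (t⁻¹ * s * t) (mem_inf.2
        ⟨mul_mem (mul_mem (inv_mem ht) hs.1) ht, (mem_normalizer_iff''.1 htC s).1 hs.2⟩)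
      calc s * (t * a * t⁻¹) = t * ((t⁻¹ * s * t) * a) * t⁻¹ := by group
        _ = t * (a * (t⁻¹ * s * t)) * t⁻¹ := by rw [this]
        _ = t * a * t⁻¹ * s := by group
    have hprod : φ (F ⟨a, ha⟩) = F ⟨t * a * t⁻¹, hta⟩ := by
      calc φ (F ⟨a, ha⟩) = ∏ q, φ (f ⟨a, ha⟩ q) := map_prod φ _ Finset.univ
        _ = ∏ q, f ⟨t * a * t⁻¹, hta⟩ (σ q) := Finset.prod_congr rfl fun q _ => by
            refine Subtype.ext ?_
            have := hlift ⟨_, hta⟩ hfix' ⟨t * q.out * t⁻¹, (mem_normalizer_iff.1 htC _).1 q.out.2⟩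
              (σ q).out (QuotientGroup.out_eq' (σ q)).symm
            show t * ((q.out : G) * a * (q.out : G)⁻¹) * t⁻¹ = _
            refine Eq.trans ?_ this
            show _ = (t * (q.out : G) * t⁻¹) * (t * a * t⁻¹) * (t * (q.out : G) * t⁻¹)⁻¹
            group
        _ = F ⟨t * a * t⁻¹, hta⟩ :=
            Equiv.prod_comp (Equiv.ofBijective σ (Finite.injective_iff_bijective.1 hσ)) _
    exact congrArg Subtype.val hprod
  · simp only [dif_pos ha]
    have key : ∀ s : Finset (C ⧸ S),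
        ((∏ q ∈ s, f ⟨a, ha⟩ q : V) : G) * (a ^ s.card)⁻¹ ∈ W := by
      intro s
      induction s using Finset.cons_induction with
      | empty => simp
      | cons q s hq ih =>
        rw [Finset.prod_cons, Finset.card_cons, pow_succ, Subgroup.coe_mul, mul_inv_rev,
          show ((f ⟨a, ha⟩ q : V) : G) * ((∏ q ∈ s, f ⟨a, ha⟩ q : V) : G) * (a⁻¹ * (a ^ s.card)⁻¹) =
            ⁅(q.out : G), a⁆ * (a * (((∏ q ∈ s, f ⟨a, ha⟩ q : V) : G)) * a⁻¹ * (a ^ s.card)⁻¹) by
          simp only [commutatorElement_def]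
          show (q.out : G) * a * (q.out : G)⁻¹ * _ * _ = _
          group]
        refine mul_mem (hW _ q.out.2) ?_
        rwa [ea_comm hV ha (SetLike.coe_mem _), mul_inv_cancel_right]
    have := key Finset.univ
    rwa [Finset.card_univ, ← Nat.card_eq_fintype_card] at this

/-- Both inclusions of Kieler's lemma, for a normal subgroup. -/
theorem kieler_normal (hchar : centralizer (Cfsg.pCore p G : Set G) ≤ Cfsg.pCore p G)
    (T : Sylow p G) (L : Subgroup G) [hLn : L.Normal] :
    L ⊓ centralizer ((Cfsg.omegaOne p ((T : Subgroup G) ⊓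
        centralizer ((T : Subgroup G) : Set G)) : Subgroup G) : Set G) =
      L ⊓ centralizer ((Cfsg.omegaOne p (((T : Subgroup G) ⊓ L) ⊓
        centralizer ((((T : Subgroup G) ⊓ L) : Subgroup G) : Set G)) : Subgroup G) : Set G) := by
  set Z := Cfsg.omegaOne p ((T : Subgroup G) ⊓ centralizer ((T : Subgroup G) : Set G)) with hZ
  set TL := (T : Subgroup G) ⊓ L with hTL
  set Z' := Cfsg.omegaOne p (TL ⊓ centralizer (TL : Set G)) with hZ'
  have hTn : (T : Subgroup G) ≤ normalizer (L : Set G) :=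
    le_top.trans (normalizer_eq_top_iff.2 hLn).ge
  have hTTL : (T : Subgroup G) ≤ normalizer (TL : Set G) :=
    CfsgLib.Coprime.inf_le_normalizer le_normalizer hTn
  have hnorm : ∀ X : Subgroup G, normalizer (X : Set G) ≤ normalizer
      ((Cfsg.omegaOne p (X ⊓ centralizer (X : Set G)) : Subgroup G) : Set G) := by
    intro X
    refine le_normalizer_iff.2 fun g hg x hx => ?_
    have := mem_map_of_mem (MulAut.conj g).toMonoidHom hx
    rw [map_omegaOne_center (MulAut.conj g).injective,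
      show X.map (MulAut.conj g).toMonoidHom = X from
        CfsgLib.Coprime.conjBy_eq_self_iff.2 hg] at this
    exact this
  -- `C` is normalized by `T`, and `T ⊓ C` is a Sylow subgroup of it
  have hidx : ∀ D : Subgroup G, D ≤ L → TL ≤ D →
      ¬ p ∣ (((T : Subgroup G) ⊓ D).subgroupOf D).index := by
    intro D hDL hle hd
    obtain ⟨R, hR⟩ := sylow_inf_normal T L
    refine R.not_dvd_index (hd.trans ?_)
    have e : (T : Subgroup G) ⊓ D = TL := le_antisymm (inf_le_inf_left _ hDL) (le_inf inf_le_left hle)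
    have e' : (R : Subgroup L) = TL.subgroupOf L := by
      rw [← comap_map_eq_self_of_injective L.subtype_injective (R : Subgroup L), hR]
      rfl
    rw [e, e']
    exact ⟨_, (relIndex_mul_relIndex TL D L hle hDL).symm⟩
  refine le_antisymm ?_ ?_
  · -- elements centralizing `Z` centralize `Z'`
    set C := L ⊓ centralizer (Z : Set G) with hC
    set V := Cfsg.largestPReducedOf p L with hV
    have hVe : Cfsg.IsElementaryAbelian p V := largestPReducedOf_ea L
    have hLV : normalizer (L : Set G) ≤ normalizer (V : Set G) := normalizer_le_normalizer_largest L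
    have hVTL : V ≤ TL := le_inf
      ((largestPReducedOf_le_pCoreOf L).trans (show Cfsg.pCoreOf p L ≤ _ by
        rw [Cfsg.pCoreOf, CfsgLib.Coprime.pCore_map_subtype_eq p L]
        exact inf_le_left.trans (CfsgLib.PGroup.pCore_le_sylow T)))
      (largestPReducedOf_le L)
    have hZ'V : Z' ≤ V := by
      obtain ⟨R, hR⟩ := sylow_inf_normal T L
      have h := map_mono (f := L.subtype)
        (omegaOne_center_sylow_le (charP_of_subnormal hLn.isSubnormal hchar) R)
      rwa [map_omegaOne_center L.subtype_injective, hR] at h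
    have hTC : (T : Subgroup G) ≤ normalizer (C : Set G) :=
      CfsgLib.Coprime.inf_le_normalizer hTn ((le_normalizer.trans (hnorm _)).trans
        (CfsgLib.Coprime.normalizer_le_normalizer_centralizer _))
    have hTLC : TL ≤ C := le_inf inf_le_right (inf_le_left.trans
      (le_centralizer_iff.1 ((omegaOne_le_self _).trans inf_le_right)))
    obtain ⟨Tr, hT1, hT2, hT3, hT4, hT5, -⟩ := exists_trace hVe
      (C := C) ((inf_le_left.trans le_normalizer).trans hLV) (T : Subgroup G)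
    set n := (((T : Subgroup G) ⊓ C).subgroupOf C).index with hn
    have hnp : ¬ p ∣ n := hidx C inf_le_left hTLC
    have hfix : ∀ a ∈ Z', ∀ s ∈ (T : Subgroup G) ⊓ C, s * a = a * s := fun a ha s hs =>
      mem_centralizer_iff.1 ((omegaOne_le_self _).trans inf_le_right ha) s
        (mem_inf.2 ⟨hs.1, hs.2.1⟩)
    have hTrZ' : ∀ a ∈ Z', Tr a ∈ Z' := by
      intro a ha
      refine mem_omegaOne ⟨hVTL (hT1 a (hZ'V ha)), mem_centralizer_iff.2 fun s hs => ?_⟩
        (hVe.2 _ (hT1 a (hZ'V ha)))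
      exact hT4 a (hZ'V ha) (hfix a ha) s (hTLC hs)
    let δ : Z' →* G := MonoidHom.mk' (fun a => (a : G) ^ n * (Tr a)⁻¹) fun a b => by
      show ((a : G) * b) ^ n * (Tr (a * b))⁻¹ = _
      rw [(Commute.mul_pow (ea_comm hVe (hZ'V a.2) (hZ'V b.2)) n), hT2 _ (hZ'V a.2) _ (hZ'V b.2),
        mul_inv_rev, mul_assoc,
        show (b : G) ^ n * ((Tr b)⁻¹ * (Tr a)⁻¹) = (Tr a)⁻¹ * ((b : G) ^ n * (Tr b)⁻¹) by
          rw [← mul_assoc]
          exact ea_comm hVe (mul_mem (pow_mem (hZ'V b.2) n) (inv_mem (hT1 _ (hZ'V b.2))))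
            (inv_mem (hT1 _ (hZ'V a.2))),
        ← mul_assoc]
    have hδZ : δ.range ≤ Z' := by
      rintro _ ⟨a, rfl⟩
      exact mul_mem (pow_mem a.2 n) (inv_mem (hTrZ' a a.2))
    have hδ : δ.range = ⊥ := by
      by_contra hne
      have hTI : (T : Subgroup G) ≤ normalizer (δ.range : Set G) := by
        refine le_normalizer_iff.2 fun t ht x hx => ?_
        obtain ⟨a, rfl⟩ := hx
        have hmem : t * (a : G) * t⁻¹ ∈ Z' := (mem_normalizer_iff.1 (hnorm _ (hTTL ht)) _).1 a.2
        refine ⟨⟨_, hmem⟩, ?_⟩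
        show (t * (a : G) * t⁻¹) ^ n * (Tr (t * (a : G) * t⁻¹))⁻¹ =
          t * ((a : G) ^ n * (Tr a)⁻¹) * t⁻¹
        rw [← hT5 _ (hZ'V a.2) (hfix a a.2) t ht (hTC ht) (hLV (hTn ht)), conj_pow]
        group
      have hfixd := exists_fixed_ne_one
        ((isPGroup_of_ea (isElementaryAbelian_of_le hZ'V hVe)).to_le hδZ) hne T.2 hTI
      rw [Ne, eq_bot_iff_forall] at hfixd
      push_neg at hfixd
      obtain ⟨d, ⟨⟨a, rfl⟩, hd⟩, hd1⟩ := hfixd
      have hdV : δ a ∈ V := hZ'V (hδZ ⟨a, rfl⟩)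
      have hdZ : δ a ∈ Z := mem_omegaOne ⟨(hVTL hdV).1, hd⟩ (hVe.2 _ hdV)
      have h1 : Tr (δ a) = δ a ^ n :=
        hT3 _ hdV fun g hg => (mem_centralizer_iff.1 hg.2 _ hdZ).symm
      have h2 : Tr (Tr a) = Tr a ^ n :=
        hT3 _ (hT1 _ (hZ'V a.2)) (hT4 _ (hZ'V a.2) (hfix a a.2))
      have h3 : Tr ((a : G) ^ n) = Tr a ^ n := by
        induction n with
        | zero =>
          have := hT3 1 (one_mem V) fun g _ => by simp
          simpa using this
        | succ k ih =>
          rw [pow_succ, hT2 _ (pow_mem (hZ'V a.2) k) _ (hZ'V a.2), ih, pow_succ]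
      have h4 : Tr (δ a) = 1 := by
        have h5 := hT2 _ hdV _ (hT1 _ (hZ'V a.2))
        rw [show δ a * Tr a = (a : G) ^ n from inv_mul_cancel_right _ _, h3, h2] at h5
        exact mul_eq_right.1 h5.symm
      rw [h4] at h1
      refine hd1 (orderOf_eq_one_iff.1 (Nat.eq_one_of_dvd_coprimes
        ((Fact.out : p.Prime).coprime_iff_not_dvd.2 hnp)
        (orderOf_dvd_of_pow_eq_one (hVe.2 _ hdV)) (orderOf_dvd_of_pow_eq_one h1.symm)))
    intro g hg
    refine ⟨hg.1, mem_centralizer_iff.2 fun a ha => ?_⟩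
    have h1 : (a : G) ^ n = Tr a := by
      have : δ ⟨a, ha⟩ ∈ (⊥ : Subgroup G) := hδ ▸ ⟨⟨a, ha⟩, rfl⟩
      exact mul_inv_eq_one.1 (mem_bot.1 this)
    obtain ⟨m, hm⟩ := exists_pow_eq_self_of_coprime (n := n) (x := a)
      (Nat.Coprime.coprime_dvd_right (orderOf_dvd_of_pow_eq_one (hVe.2 a (hZ'V ha)))
        ((Fact.out : p.Prime).coprime_iff_not_dvd.2 hnp).symm)
    rw [← hm, h1]
    exact (Commute.pow_left (hT4 a (hZ'V ha) (hfix a ha) g hg).symm m).eq
  · -- elements centralizing `Z'` centralize `Z`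
    set C := L ⊓ centralizer (Z' : Set G) with hC
    set V := Cfsg.largestPReduced p G with hV
    have hVs := largestPReduced_spec (G := G) (p := p)
    haveI := hVs.1
    have hVe : Cfsg.IsElementaryAbelian p V := hVs.2.1
    have hVN : ∀ x : G, x ∈ normalizer (V : Set G) := fun x =>
      normalizer_eq_top_iff.2 hVs.1 ▸ mem_top x
    have hVT : V ≤ (T : Subgroup G) :=
      (reduced_le_pCore hVs).trans (CfsgLib.PGroup.pCore_le_sylow T)
    have hZV : Z ≤ V := omegaOne_center_sylow_le hchar T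
    have hTC : (T : Subgroup G) ≤ normalizer (C : Set G) :=
      CfsgLib.Coprime.inf_le_normalizer hTn ((hTTL.trans (hnorm _)).trans
        (CfsgLib.Coprime.normalizer_le_normalizer_centralizer _))
    have hTLC : TL ≤ C := le_inf inf_le_right
      (le_centralizer_iff.1 ((omegaOne_le_self _).trans inf_le_right))
    obtain ⟨Tr, hT1, -, -, hT4, hT5, hT6⟩ := exists_trace hVe
      (C := C) (fun x _ => hVN x) (T : Subgroup G)
    set n := (((T : Subgroup G) ⊓ C).subgroupOf C).index with hn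
    have hnp : ¬ p ∣ n := hidx C inf_le_left hTLC
    intro g hg
    refine ⟨hg.1, mem_centralizer_iff.2 fun z hz => ?_⟩
    have hzc : ∀ s ∈ (T : Subgroup G), s * z = z * s := fun s hs =>
      mem_centralizer_iff.1 ((omegaOne_le_self _).trans inf_le_right hz) s hs
    have hfix : ∀ s ∈ (T : Subgroup G) ⊓ C, s * z = z * s := fun s hs => hzc s hs.1
    set c := Tr z with hc
    have hcV : c ∈ V := hT1 z (hZV hz)
    have hcT : ∀ t ∈ (T : Subgroup G), t * c = c * t := by
      intro t ht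
      refine mul_inv_eq_iff_eq_mul.1 ?_
      rw [hc, hT5 z (hZV hz) hfix t ht (hTC ht) (hVN t), hzc t ht, mul_inv_cancel_right]
    set w := c * (z ^ n)⁻¹ with hw
    have hwV : w ∈ V := mul_mem hcV (inv_mem (pow_mem (hZV hz) n))
    have hwL : w ∈ V ⊓ L := hT6 (V ⊓ L) z (hZV hz) fun x hx => by
      refine mem_inf.2 ⟨?_, ?_⟩
      · rw [commutatorElement_def]
        exact mul_mem ((mem_normalizer_iff.1 (hVN x) z).1 (hZV hz)) (inv_mem (hZV hz))
      · rw [show ⁅x, z⁆ = x * (z * x⁻¹ * z⁻¹) by simp only [commutatorElement_def]; group]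
        exact mul_mem hx.1 (hLn.conj_mem _ (inv_mem hx.1) z)
    have hwc : w ∈ centralizer ((T : Subgroup G) : Set G) :=
      mul_mem (mem_centralizer_iff.2 hcT) (inv_mem (pow_mem (mem_centralizer_iff.2 hzc) n))
    have hwZ : w ∈ Z' := mem_omegaOne ⟨mem_inf.2 ⟨hVT hwV, hwL.2⟩,
      Subgroup.centralizer_le (SetLike.coe_subset_coe.2 inf_le_left) hwc⟩ (hVe.2 _ hwV)
    have hgc : Commute g c := hT4 z (hZV hz) hfix g hg
    have hgw : Commute g w := (mem_centralizer_iff.1 hg.2 w hwZ).symm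
    have hgz : Commute g (z ^ n) := by
      have : z ^ n = w⁻¹ * c := by
        rw [hw, mul_inv_rev, inv_inv, inv_mul_cancel_right]
      rw [this]; exact hgw.inv_right.mul_right hgc
    obtain ⟨m, hm⟩ := exists_pow_eq_self_of_coprime (n := n) (x := z)
      (Nat.Coprime.coprime_dvd_right (orderOf_dvd_of_pow_eq_one (hVe.2 z (hZV hz)))
        ((Fact.out : p.Prime).coprime_iff_not_dvd.2 hnp).symm)
    rw [← hm]
    exact (hgz.pow_right m).eq.symm

theorem sylow_inf_subnormal (T : Sylow p G) {K : Subgroup G} (hK : K.IsSubnormal) :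
    ∃ R : Sylow p K, (R : Subgroup K).map K.subtype = (T : Subgroup G) ⊓ K := by
  induction hK with
  | top =>
    refine ⟨T.subtype le_top, ?_⟩
    rw [Sylow.coe_subtype, subgroupOf_map_subtype]
  | step A B hle _ hn ih =>
    obtain ⟨R, hR⟩ := ih
    haveI := hn
    obtain ⟨R', hR'⟩ := sylow_inf_normal R (A.subgroupOf B)
    refine ⟨R'.mapSurjective (f := (subgroupOfEquivOfLe hle).toMonoidHom)
      (subgroupOfEquivOfLe hle).surjective, ?_⟩
    have := congrArg (Subgroup.map B.subtype) hR'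
    rw [Subgroup.map_map, Subgroup.map_inf_eq _ _ _ B.subtype_injective, hR,
      map_subgroupOf_eq_of_le hle] at this
    refine Eq.trans ?_ (this.trans (by rw [inf_assoc, inf_eq_right.2 hle]))
    show ((R' : Subgroup (A.subgroupOf B)).map (subgroupOfEquivOfLe hle).toMonoidHom).map A.subtype = _
    rw [Subgroup.map_map]
    rfl

theorem kieler (hchar : centralizer (Cfsg.pCore p G : Set G) ≤ Cfsg.pCore p G)
    (T : Sylow p G) {L : Subgroup G} (hL : L.IsSubnormal) :
    L ⊓ centralizer ((Cfsg.omegaOne p ((T : Subgroup G) ⊓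
        centralizer ((T : Subgroup G) : Set G)) : Subgroup G) : Set G) =
      L ⊓ centralizer ((Cfsg.omegaOne p (((T : Subgroup G) ⊓ L) ⊓
        centralizer ((((T : Subgroup G) ⊓ L) : Subgroup G) : Set G)) : Subgroup G) : Set G) := by
  induction hL with
  | top => exact kieler_normal hchar T ⊤
  | step H M hle hM hN ih =>
    obtain ⟨R, hR⟩ := sylow_inf_subnormal T hM
    haveI := hN
    have h := congrArg (Subgroup.map M.subtype)
      (kieler_normal (charP_of_subnormal hM hchar) R (H.subgroupOf M))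
    have key : ∀ X : Subgroup M,
        ((H.subgroupOf M) ⊓ centralizer (X : Set M)).map M.subtype =
          H ⊓ centralizer ((X.map M.subtype : Subgroup G) : Set G) := by
      intro X
      ext g
      constructor
      · rintro ⟨y, ⟨hy, hc⟩, rfl⟩
        refine ⟨hy, mem_centralizer_iff.2 ?_⟩
        rintro _ ⟨x, hx, rfl⟩
        exact congrArg Subtype.val (mem_centralizer_iff.1 hc x hx)
      · rintro ⟨hg, hc⟩
        exact ⟨⟨g, hle hg⟩, ⟨hg, mem_centralizer_iff.2 fun x hx =>
          Subtype.ext (mem_centralizer_iff.1 hc _ (mem_map_of_mem M.subtype hx))⟩, rfl⟩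
    rw [key, key, map_omegaOne_center M.subtype_injective, map_omegaOne_center M.subtype_injective,
      Subgroup.map_inf_eq _ _ _ M.subtype_injective, map_subgroupOf_eq_of_le hle, hR,
      inf_assoc (T : Subgroup G) M H, inf_eq_right.2 hle] at h
    rw [← h]
    have := congrArg (fun X => H ⊓ X) ih
    simpa only [← inf_assoc, inf_eq_left.2 hle] using this

end CfsgLib.LS
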