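import Cfsg.Prelude.Def_LocalStructure
import Cfsg.Agent.Lib.LocalStructure.Basic
import Cfsg.Agent.Lib.Coprime.Action
import Cfsg.Agent.Lib.Coprime.Solvable

/-!
# Weakly closed subgroups and large subgroups
-/

set_option autoImplicit false
set_option linter.style.haveILetI false
set_option linter.unusedSectionVars false

namespace CfsgLib.LS

open Subgroup
open CfsgLib.Coprime (conjBy conjBy_conjBy conjBy_one conjBy_eq_self_iff conj_mem_conjBy)
open scoped commutatorElement

variable {G : Type*} [Group G] [Finite G] {p : ℕ} [Fact p.Prime]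

theorem conjBy_mono {A B : Subgroup G} (g : G) (h : A ≤ B) : conjBy g A ≤ conjBy g B :=
  map_mono h

theorem le_conjBy_iff {A B : Subgroup G} {g : G} : A ≤ conjBy g B ↔ conjBy g⁻¹ A ≤ B := by
  constructor
  · intro h
    have := conjBy_mono g⁻¹ h
    rwa [conjBy_conjBy, inv_mul_cancel, conjBy_one] at this
  · intro h
    have := conjBy_mono g h
    rwa [conjBy_conjBy, mul_inv_cancel, conjBy_one] at this

theorem conjBy_le_iff {A B : Subgroup G} {g : G} : conjBy g A ≤ B ↔ A ≤ conjBy g⁻¹ B := by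
  rw [le_conjBy_iff, inv_inv]

theorem conjBy_le_of_mem_normalizer {A B : Subgroup G} {g : G} (hg : g ∈ normalizer (B : Set G))
    (h : A ≤ B) : conjBy g A ≤ B :=
  (conjBy_mono g h).trans (conjBy_eq_self_iff.2 hg).le

theorem isPGroup_conjBy {A : Subgroup G} (h : IsPGroup p A) (g : G) : IsPGroup p (conjBy g A) :=
  h.map _

theorem normalizer_conjBy (g : G) (A : Subgroup G) :
    conjBy g (normalizer (A : Set G)) = normalizer (conjBy g A : Set G) := by
  ext x
  rw [CfsgLib.Coprime.mem_conjBy, ← conjBy_eq_self_iff, ← conjBy_eq_self_iff, conjBy_conjBy]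
  constructor
  · intro h
    have := congrArg (conjBy g) h
    rwa [conjBy_conjBy, show g * (g⁻¹ * x * g) = x * g by group] at this
  · intro h
    have := congrArg (conjBy g⁻¹) h
    rwa [conjBy_conjBy, conjBy_conjBy, inv_mul_cancel, conjBy_one, ← mul_assoc] at this

theorem le_normalizer_of_commutator_le {A B : Subgroup G} (h : ⁅A, B⁆ ≤ A) :
    B ≤ normalizer (A : Set G) :=
  le_normalizer_iff.2 fun b hb a ha => by
    have : b * a * b⁻¹ = ⁅a, b⁆⁻¹ * a := by simp only [commutatorElement_def]; group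
    rw [this]; exact mul_mem (inv_mem (h (commutator_mem_commutator ha hb))) ha

theorem commutator_le_inf_of_normalizing {A B : Subgroup G} (hB : B ≤ normalizer (A : Set G))
    (hA : A ≤ normalizer (B : Set G)) : ⁅A, B⁆ ≤ A ⊓ B := by
  rw [commutator_le]
  intro a ha b hb
  refine mem_inf.2 ⟨?_, ?_⟩
  · rw [show ⁅a, b⁆ = a * (b * a⁻¹ * b⁻¹) by simp only [commutatorElement_def]; group]
    exact mul_mem ha ((mem_normalizer_iff.1 (hB hb) _).1 (inv_mem ha))
  · rw [commutatorElement_def]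
    exact mul_mem ((mem_normalizer_iff.1 (hA ha) b).1 hb) (inv_mem hb)

theorem exists_conj_le_sylow {R : Subgroup G} (hR : IsPGroup p R) (T : Sylow p G) :
    ∃ g : G, R ≤ conjBy g (T : Subgroup G) := by
  obtain ⟨S, hS⟩ := hR.exists_le_sylow
  obtain ⟨g, rfl⟩ := MulAction.exists_smul_eq G T S
  exact ⟨g, hS⟩

/-- A weakly closed subgroup is the only one of its conjugates in every `p`-subgroup containing
it. -/
theorem wc_spec {Q : Subgroup G} (hwc : Cfsg.IsWeaklyClosedSubgroup p Q) {R : Subgroup G}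
    (hR : IsPGroup p R) (hQR : Q ≤ R) {g : G} (hg : conjBy g Q ≤ R) : conjBy g Q = Q := by
  obtain ⟨T, -, hT⟩ := hwc
  obtain ⟨h, hh⟩ := exists_conj_le_sylow hR T
  have h1 : conjBy h⁻¹ Q = Q := hT h⁻¹ (le_conjBy_iff.1 (hQR.trans hh))
  have h2 : conjBy (h⁻¹ * g) Q = Q := hT (h⁻¹ * g) (by
    show conjBy (h⁻¹ * g) Q ≤ _
    rw [← conjBy_conjBy]; exact le_conjBy_iff.1 (hg.trans hh))
  calc conjBy g Q = conjBy h (conjBy (h⁻¹ * g) Q) := by rw [conjBy_conjBy, mul_inv_cancel_left]
    _ = conjBy h (conjBy h⁻¹ Q) := by rw [h2, h1]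
    _ = Q := by rw [conjBy_conjBy, mul_inv_cancel, conjBy_one]

theorem normalizer_le_of_wc {Q : Subgroup G} (hwc : Cfsg.IsWeaklyClosedSubgroup p Q)
    {R : Subgroup G} (hR : IsPGroup p R) (hQR : Q ≤ R) :
    normalizer (R : Set G) ≤ normalizer (Q : Set G) := fun _ hg =>
  conjBy_eq_self_iff.1 (wc_spec hwc hR hQR (conjBy_le_of_mem_normalizer hg hQR))

/-- A `p`-subgroup normalized by a weakly closed subgroup normalizes it. -/
theorem le_normalizer_of_wc {Q : Subgroup G} (hQp : IsPGroup p Q)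
    (hwc : Cfsg.IsWeaklyClosedSubgroup p Q) {R : Subgroup G} (hR : IsPGroup p R)
    (h : Q ≤ normalizer (R : Set G)) : R ≤ normalizer (Q : Set G) :=
  le_sup_left.trans (le_normalizer.trans
    (normalizer_le_of_wc hwc (hR.to_sup_of_normal_left' hQp h) le_sup_right))

theorem wc_of_normalizer_le {Q : Subgroup G} (hQp : IsPGroup p Q)
    (h : ∀ R : Subgroup G, IsPGroup p R → Q ≤ R →
      normalizer (R : Set G) ≤ normalizer (Q : Set G)) : Cfsg.IsWeaklyClosedSubgroup p Q := by
  obtain ⟨T, hQT⟩ := hQp.exists_le_sylow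
  refine ⟨T, hQT, fun g hg => ?_⟩
  change conjBy g Q ≤ _ at hg
  have hT' : IsPGroup p (conjBy g⁻¹ (T : Subgroup G)) := isPGroup_conjBy T.2 _
  have hQT' : Q ≤ conjBy g⁻¹ (T : Subgroup G) := conjBy_le_iff.1 hg
  set N := normalizer (Q : Set G) with hN
  have hTN : (T : Subgroup G) ≤ N := le_normalizer.trans (h _ T.2 hQT)
  have hT'N : conjBy g⁻¹ (T : Subgroup G) ≤ N := le_normalizer.trans (h _ hT' hQT')
  let T₂ : Sylow p G := g⁻¹ • T
  obtain ⟨n, hn⟩ := MulAction.exists_smul_eq N (T.subtype hTN) (T₂.subtype hT'N)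
  have he : conjBy (n : G) (T : Subgroup G) = conjBy g⁻¹ (T : Subgroup G) := by
    have := congrArg (fun P : Sylow p N => (P : Subgroup N).map N.subtype) hn
    simp only [Sylow.coe_subgroup_smul, Sylow.coe_subtype] at this
    rw [← CfsgLib.Coprime.conjBy_eq_smul, CfsgLib.Coprime.conjBy_map,
      map_subgroupOf_eq_of_le hTN] at this
    exact this.trans (map_subgroupOf_eq_of_le hT'N)
  have hgn : g * (n : G) ∈ normalizer ((T : Subgroup G) : Set G) := conjBy_eq_self_iff.1 (by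
    rw [← conjBy_conjBy, he, conjBy_conjBy, mul_inv_cancel, conjBy_one])
  have := mul_mem (h _ T.2 hQT hgn) (inv_mem n.2)
  rw [mul_inv_cancel_right] at this
  exact conjBy_eq_self_iff.2 this

theorem wc_of_commutator {Q : Subgroup G} (hQp : IsPGroup p Q)
    (h : ∀ g : G, ⁅Q, conjBy g Q⁆ ≤ Q ⊓ conjBy g Q → conjBy g Q = Q) :
    Cfsg.IsWeaklyClosedSubgroup p Q := by
  have key : ∀ T : Sylow p G, Q ≤ (T : Subgroup G) → (T : Subgroup G) ≤ normalizer (Q : Set G) := by
    intro T hQT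
    by_contra hn
    set U := (T : Subgroup G) ⊓ normalizer (Q : Set G) with hU
    have hlt : U.subgroupOf (T : Subgroup G) < ⊤ := lt_top_iff_ne_top.2 fun e =>
      hn ((subgroupOf_eq_top.1 e).trans inf_le_right)
    haveI := T.2.isNilpotent
    have hnc := (Group.normalizerCondition_of_isNilpotent (G := (T : Subgroup G))) _ hlt
    obtain ⟨⟨t, htT⟩, htn, htU⟩ := SetLike.exists_of_lt hnc
    have htU' : t ∈ normalizer (U : Set G) := by
      refine mem_normalizer_iff.2 fun x => ⟨fun hx => ?_, fun hx => ?_⟩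
      · exact mem_subgroupOf.1 ((mem_normalizer_iff.1 htn ⟨x, hx.1⟩).1 (mem_subgroupOf.2 hx))
      · have hxT : x ∈ (T : Subgroup G) := by
          have := mul_mem (mul_mem (inv_mem htT) hx.1) htT
          simpa [mul_assoc] using this
        exact mem_subgroupOf.1 ((mem_normalizer_iff.1 htn ⟨x, hxT⟩).2 (mem_subgroupOf.2 hx))
    have hQU : Q ≤ U := le_inf hQT le_normalizer
    have e1 : conjBy t Q ≤ normalizer (Q : Set G) :=
      (conjBy_le_of_mem_normalizer htU' hQU).trans inf_le_right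
    have e2 : Q ≤ normalizer (conjBy t Q : Set G) := by
      rw [← normalizer_conjBy]
      exact (hQU.trans (conjBy_eq_self_iff.2 htU').ge).trans (conjBy_mono t inf_le_right)
    refine htU (mem_subgroupOf.2 ⟨htT, conjBy_eq_self_iff.1 (h t ?_)⟩)
    exact commutator_le_inf_of_normalizing e1 e2
  obtain ⟨T, hQT⟩ := hQp.exists_le_sylow
  refine ⟨T, hQT, fun g hg => ?_⟩
  change conjBy g Q ≤ _ at hg
  refine h g (commutator_le_inf_of_normalizing (hg.trans (key T hQT)) ?_)
  have hk := key (g⁻¹ • T) (conjBy_le_iff.1 hg)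
  rw [← normalizer_conjBy]
  refine hQT.trans ?_
  rw [le_conjBy_iff]
  exact hk

theorem eq_of_commutator_le {Q : Subgroup G} (hQp : IsPGroup p Q)
    (hwc : Cfsg.IsWeaklyClosedSubgroup p Q) {g : G}
    (h : ⁅Q, conjBy g Q⁆ ≤ Q ⊓ conjBy g Q) : conjBy g Q = Q :=
  wc_spec hwc (hQp.to_sup_of_normal_left' (isPGroup_conjBy hQp g)
    (le_normalizer_of_commutator_le (h.trans inf_le_left))) le_sup_left le_sup_right

/-- Conjugates of `Q` inside an overgroup are conjugate in the overgroup. -/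
theorem wc_conj_in {Q : Subgroup G} (hQp : IsPGroup p Q) (hwc : Cfsg.IsWeaklyClosedSubgroup p Q)
    {K : Subgroup G} (hQK : Q ≤ K) {g : G} (hg : conjBy g Q ≤ K) :
    ∃ k ∈ K, conjBy g Q = conjBy k Q := by
  obtain ⟨S, hS⟩ := (hQp.comap_subtype : IsPGroup p (Q.subgroupOf K)).exists_le_sylow
  obtain ⟨R, hR⟩ := ((isPGroup_conjBy hQp g).comap_subtype :
    IsPGroup p ((conjBy g Q).subgroupOf K)).exists_le_sylow
  obtain ⟨k, rfl⟩ := MulAction.exists_smul_eq K S R
  refine ⟨k, k.2, ?_⟩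
  set S' := (S : Subgroup K).map K.subtype with hS'
  have h1 : Q ≤ S' := by rw [← map_subgroupOf_eq_of_le hQK]; exact map_mono hS
  have h2 : conjBy g Q ≤ conjBy (k : G) S' := by
    rw [← map_subgroupOf_eq_of_le hg, hS',
      show conjBy (k : G) ((S : Subgroup K).map K.subtype) =
        (conjBy k (S : Subgroup K)).map K.subtype from (CfsgLib.Coprime.conjBy_map _ _ _).symm]
    exact map_mono hR
  have := wc_spec hwc (S.2.map _ : IsPGroup p S') h1 (g := (k : G)⁻¹ * g)
    (by rw [← conjBy_conjBy]; exact le_conjBy_iff.1 h2)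
  calc conjBy g Q = conjBy (k : G) (conjBy ((k : G)⁻¹ * g) Q) := by
        rw [conjBy_conjBy, mul_inv_cancel_left]
    _ = _ := by rw [this]

theorem weakClosure_le {Q L : Subgroup G} : Cfsg.weakClosure Q L ≤ L :=
  iSup_le fun g => g.2

theorem le_weakClosure {Q L : Subgroup G} {g : G} (h : conjBy g Q ≤ L) :
    conjBy g Q ≤ Cfsg.weakClosure Q L :=
  le_iSup (fun g : {g : G // Q.map (MulAut.conj g).toMonoidHom ≤ L} =>
    Q.map (MulAut.conj (g : G)).toMonoidHom) ⟨g, h⟩

theorem self_le_weakClosure {Q L : Subgroup G} (h : Q ≤ L) : Q ≤ Cfsg.weakClosure Q L := by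
  have := le_weakClosure (Q := Q) (L := L) (g := 1) (by rwa [conjBy_one])
  rwa [conjBy_one] at this

theorem weakClosure_mono {Q L M : Subgroup G} (h : L ≤ M) :
    Cfsg.weakClosure Q L ≤ Cfsg.weakClosure Q M :=
  iSup_le fun g => le_weakClosure (g.2.trans h)

/-- Frattini argument: `N = N_N(Q) [N, Q]` when `Q` normalizes `N`. -/
theorem wc_frattini {Q N : Subgroup G} (hQp : IsPGroup p Q)
    (hwc : Cfsg.IsWeaklyClosedSubgroup p Q) (hQN : Q ≤ normalizer (N : Set G)) :
    ∀ n ∈ N, ∃ a ∈ N ⊓ normalizer (Q : Set G), ∃ b ∈ ⁅N, Q⁆, n = a * b := by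
  intro n hn
  have hle : ⁅N, Q⁆ ≤ N := commutator_le.2 fun a ha b hb => by
    rw [show ⁅a, b⁆ = a * (b * a⁻¹ * b⁻¹) by simp only [commutatorElement_def]; group]
    exact mul_mem ha ((mem_normalizer_iff.1 (hQN hb) _).1 (inv_mem ha))
  have hL : conjBy n⁻¹ Q ≤ ⁅N, Q⁆ ⊔ Q := by
    rintro _ ⟨q, hq, rfl⟩
    show n⁻¹ * q * n⁻¹⁻¹ ∈ _
    rw [show n⁻¹ * q * n⁻¹⁻¹ = ⁅n⁻¹, q⁆ * q by simp only [commutatorElement_def]; group]
    exact mul_mem (mem_sup_left (commutator_mem_commutator (inv_mem hn) hq)) (mem_sup_right hq)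
  obtain ⟨k, hk, he⟩ := wc_conj_in hQp hwc le_sup_right hL
  obtain ⟨c, hc, q, hq, rfl⟩ := CfsgLib.Coprime.mem_sup_exists
    (normalizer_commutator_ge_right N Q) hk
  rw [← conjBy_conjBy c q, CfsgLib.Coprime.conjBy_eq_self_of_mem hq] at he
  have hnc : n * c ∈ normalizer (Q : Set G) := conjBy_eq_self_iff.1 (by
    rw [← conjBy_conjBy, ← he, conjBy_conjBy, mul_inv_cancel, conjBy_one])
  exact ⟨n * c, mem_inf.2 ⟨mul_mem hn (hle hc), hnc⟩, c⁻¹, inv_mem hc, by group⟩

theorem normalizer_le_normalizer_pCoreOf (A : Subgroup G) :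
    normalizer (A : Set G) ≤ normalizer ((Cfsg.pCoreOf p A : Subgroup G) : Set G) := by
  refine le_normalizer_iff.2 fun g hg x hx => ?_
  obtain ⟨y, hy, rfl⟩ := hx
  let e : A ≃* A :=
    { toFun := fun a => ⟨g * a * g⁻¹, (mem_normalizer_iff.1 hg _).1 a.2⟩
      invFun := fun a => ⟨g⁻¹ * a * g, (mem_normalizer_iff''.1 hg _).1 a.2⟩
      left_inv := fun a => Subtype.ext (by simp only; group)
      right_inv := fun a => Subtype.ext (by simp only; group)
      map_mul' := fun a b => Subtype.ext (by simp only [Subgroup.coe_mul]; group) }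
  exact ⟨e y, (CfsgLib.Coprime.map_pCore_equiv e p).le (mem_map_of_mem e.toMonoidHom hy), rfl⟩

theorem pCoreOf_le_self (A : Subgroup G) : Cfsg.pCoreOf p A ≤ A :=
  map_subtype_le _

theorem pCoreOf_isPGroup (A : Subgroup G) : IsPGroup p (Cfsg.pCoreOf p A) :=
  (CfsgLib.Coprime.pCore_isPGroup p).map _

theorem le_pCoreOf {D A : Subgroup G} (hD : IsPGroup p D) (hDA : D ≤ A)
    (hN : A ≤ normalizer (D : Set G)) : D ≤ Cfsg.pCoreOf p A := by
  haveI : (D.subgroupOf A).Normal := (normal_subgroupOf_iff_le_normalizer hDA).2 hN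
  rw [← map_subgroupOf_eq_of_le hDA]
  exact map_mono (CfsgLib.Coprime.le_pCore (hD.of_equiv (subgroupOfEquivOfLe hDA).symm))

theorem pCoreOf_le_pCoreOf {N A : Subgroup G} (hNA : N ≤ A) (hA : A ≤ normalizer (N : Set G)) :
    Cfsg.pCoreOf p N ≤ Cfsg.pCoreOf p A :=
  le_pCoreOf (pCoreOf_isPGroup N) ((pCoreOf_le_self N).trans hNA)
    (hA.trans (normalizer_le_normalizer_pCoreOf N))

theorem charP_iff (L : Subgroup G) :
    centralizer (Cfsg.pCore p L : Set L) ≤ Cfsg.pCore p L ↔
      L ⊓ centralizer ((Cfsg.pCoreOf p L : Subgroup G) : Set G) ≤ Cfsg.pCoreOf p L := by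
  constructor
  · intro h x hx
    exact ⟨⟨x, hx.1⟩, h (mem_centralizer_iff.2 fun y hy => Subtype.ext
      (mem_centralizer_iff.1 hx.2 _ (mem_map_of_mem L.subtype hy))), rfl⟩
  · intro h x hx
    have := h ⟨x.2, mem_centralizer_iff.2 fun y hy => by
      obtain ⟨z, hz, rfl⟩ := hy
      exact congrArg Subtype.val (mem_centralizer_iff.1 hx z hz)⟩
    obtain ⟨z, hz, e⟩ := this
    rwa [← Subtype.ext e]

theorem isPGroup_of_coprime_trivial {X : Subgroup G}
    (h : ∀ x ∈ X, (orderOf x).Coprime p → x = 1) : IsPGroup p X := by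
  intro x
  refine ⟨(orderOf (x : G)).factorization p, Subtype.ext (h _ (pow_mem x.2 _) ?_)⟩
  rw [SubmonoidClass.coe_pow]
  rw [orderOf_pow_of_dvd (pow_ne_zero _ (Fact.out : p.Prime).ne_zero) (Nat.ordProj_dvd _ _)]
  exact (Nat.coprime_ordCompl (Fact.out : p.Prime) (orderOf_pos _).ne').symm

theorem coprime_orderOf_of_isPGroup {D : Subgroup G} (hD : IsPGroup p D) {u x : G} (hu : u ∈ D)
    (hx : (orderOf x).Coprime p) : (orderOf x).Coprime (orderOf u) := by
  obtain ⟨k, hk⟩ := hD ⟨u, hu⟩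
  exact Nat.Coprime.coprime_dvd_right (orderOf_dvd_of_pow_eq_one (congrArg Subtype.val hk))
    (hx.pow_right k)

/-- If `X` centralizes `[R, Q]` and acts faithfully on `R` by elements of order prime to `p`,
then `X` normalizes the weakly closed subgroup `Q`. -/
theorem le_normalizer_of_faithful {Q X R : Subgroup G} (hQp : IsPGroup p Q)
    (hwc : Cfsg.IsWeaklyClosedSubgroup p Q) (hR : IsPGroup p R)
    (hQX : Q ≤ normalizer (X : Set G)) (hQR : Q ≤ normalizer (R : Set G))
    (hXR : X ≤ normalizer (R : Set G)) (hX : X ≤ centralizer ((⁅R, Q⁆ : Subgroup G) : Set G))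
    (hfaith : ∀ x ∈ X, (orderOf x).Coprime p → (∀ r ∈ R, x * r = r * x) → x = 1) :
    X ≤ normalizer (Q : Set G) := by
  have hKX : ⁅X, Q⁆ ≤ X := commutator_le.2 fun a ha b hb => by
    rw [show ⁅a, b⁆ = a * (b * a⁻¹ * b⁻¹) by simp only [commutatorElement_def]; group]
    exact mul_mem ha ((mem_normalizer_iff.1 (hQX hb) _).1 (inv_mem ha))
  have hR₁R : ⁅R, Q⁆ ≤ R := commutator_le.2 fun a ha b hb => by
    rw [show ⁅a, b⁆ = a * (b * a⁻¹ * b⁻¹) by simp only [commutatorElement_def]; group]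
    exact mul_mem ha ((mem_normalizer_iff.1 (hQR hb) _).1 (inv_mem ha))
  have hfix : ∀ x ∈ X, ∀ u ∈ ⁅R, Q⁆, x * u * x⁻¹ = u := fun x hx u hu =>
    mul_inv_eq_iff_eq_mul.2 (mem_centralizer_iff.1 (hX hx) u hu).symm
  have hk : ∀ k ∈ ⁅X, Q⁆, ∀ r ∈ R, ⁅k, r⁆ ∈ ⁅R, Q⁆ := by
    intro k hk
    have hk' := hk
    rw [Subgroup.commutator_def] at hk'
    induction hk' using Subgroup.closure_induction with
    | mem g hg =>
      obtain ⟨x, hx, q, hq, rfl⟩ := hg
      intro r hr
      set r₁ := q⁻¹ * r * q with hr₁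
      have h1 : r⁻¹ * r₁ ∈ ⁅R, Q⁆ := by
        rw [hr₁, show r⁻¹ * (q⁻¹ * r * q) = ⁅r⁻¹, q⁻¹⁆ by
          simp only [commutatorElement_def]; group]
        exact commutator_mem_commutator (inv_mem hr) (inv_mem hq)
      set r₂ := x⁻¹ * r₁ * x with hr₂
      have hr₂R : r₂ ∈ R :=
        (mem_normalizer_iff''.1 (hXR hx) r₁).1 ((mem_normalizer_iff''.1 (hQR hq) r).1 hr)
      have h2 : ⁅q, r₂⁆ ∈ ⁅R, Q⁆ := by
        rw [← commutatorElement_inv]; exact inv_mem (commutator_mem_commutator hr₂R hq)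
      have e : ⁅⁅x, q⁆, r⁆ = (x * ⁅q, r₂⁆ * x⁻¹) * (r * (r⁻¹ * r₁) * r⁻¹) := by
        simp only [hr₂, hr₁, commutatorElement_def]; group
      rw [e, hfix x hx _ h2]
      exact mul_mem h2
        ((mem_normalizer_iff.1 (normalizer_commutator_ge_left R Q hr) _).1 h1)
    | one => intro r _; simp
    | mul a b ha hb iha ihb =>
      intro r hr
      have ha' : a ∈ X := hKX (by rw [Subgroup.commutator_def]; exact ha)
      rw [show ⁅a * b, r⁆ = a * ⁅b, r⁆ * a⁻¹ * ⁅a, r⁆ by simp only [commutatorElement_def]; group,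
        hfix a ha' _ (ihb (by rw [Subgroup.commutator_def]; exact hb) r hr)]
      exact mul_mem (ihb (by rw [Subgroup.commutator_def]; exact hb) r hr)
        (iha (by rw [Subgroup.commutator_def]; exact ha) r hr)
    | inv a ha iha =>
      intro r hr
      have ha' : a ∈ X := hKX (by rw [Subgroup.commutator_def]; exact ha)
      have h := inv_mem (iha (by rw [Subgroup.commutator_def]; exact ha) r hr)
      rw [show ⁅a⁻¹, r⁆ = a⁻¹ * ⁅a, r⁆⁻¹ * a⁻¹⁻¹ by simp only [commutatorElement_def]; group,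
        hfix a⁻¹ (inv_mem ha') _ h]
      exact h
  have hKp : IsPGroup p (⁅X, Q⁆ : Subgroup G) := by
    refine isPGroup_of_coprime_trivial fun x hx hc =>
      hfaith x (hKX hx) hc fun r hr => ?_
    have hu := hk x hx r hr
    exact commutatorElement_eq_one_iff_mul_comm.1
      (CfsgLib.Coprime.eq_one_of_conj_eq_mul (a := x) (x := r)
        (by simp only [commutatorElement_def]; group) (hfix x (hKX hx) _ hu)
        (coprime_orderOf_of_isPGroup hR (hR₁R hu) hc))
  intro x hx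
  refine conjBy_eq_self_iff.1 (wc_spec hwc
    (hKp.to_sup_of_normal_left' hQp (normalizer_commutator_ge_right X Q)) le_sup_right ?_)
  rintro _ ⟨q, hq, rfl⟩
  show x * q * x⁻¹ ∈ _
  rw [show x * q * x⁻¹ = ⁅x, q⁆ * q by simp only [commutatorElement_def]; group]
  exact mul_mem (mem_sup_left (commutator_mem_commutator hx hq)) (mem_sup_right hq)

theorem normalizer_le_normalizer_resOf (A : Subgroup G) :
    normalizer (A : Set G) ≤
      normalizer (((Cfsg.pResidual p A).map A.subtype : Subgroup G) : Set G) := by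
  refine le_normalizer_iff.2 fun g hg x hx => ?_
  obtain ⟨y, hy, rfl⟩ := hx
  refine (resOf_le (p := p) (K := A)
    (L := ((Cfsg.pResidual p A).map A.subtype).comap (MulAut.conj g).toMonoidHom)
    fun z hz hc => ?_) (mem_map_of_mem A.subtype hy)
  refine mem_resOf ((mem_normalizer_iff.1 hg z).1 hz) ?_
  have e : orderOf (g * z * g⁻¹) = orderOf z := (MulAut.conj g).orderOf_eq z
  exact e.symm ▸ hc

theorem le_normalizer_centralizer {Q P : Subgroup G} (h : Q ≤ normalizer (P : Set G)) :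
    Q ≤ normalizer (centralizer (P : Set G) : Set G) :=
  h.trans (CfsgLib.Coprime.normalizer_le_normalizer_centralizer P)

/-- Overgroups of a self-centralizing weakly closed subgroup in groups of characteristic `p`. -/
theorem wc_charP_step {Q L K : Subgroup G} (hQp : IsPGroup p Q)
    (hwc : Cfsg.IsWeaklyClosedSubgroup p Q) (hCQ : centralizer (Q : Set G) ≤ Q) (hQL : Q ≤ L)
    (hQK : Q ≤ K) (hCK : centralizer ((Cfsg.pCoreOf p L : Subgroup G) : Set G) ⊓ L ≤ K)
    (hK : centralizer (Cfsg.pCore p K : Set K) ≤ Cfsg.pCore p K) :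
    L ⊓ centralizer ((Cfsg.pCoreOf p L : Subgroup G) : Set G) ≤ Cfsg.pCoreOf p L := by
  set P := Cfsg.pCoreOf p L with hP
  set C := L ⊓ centralizer (P : Set G) with hC
  set R := Cfsg.pCoreOf p K with hR
  have hLP : L ≤ normalizer (P : Set G) := le_normalizer.trans (normalizer_le_normalizer_pCoreOf L)
  have hLC : L ≤ normalizer (C : Set G) :=
    CfsgLib.Coprime.inf_le_normalizer le_normalizer (le_normalizer_centralizer hLP)
  have hKR : K ≤ normalizer (R : Set G) := le_normalizer.trans (normalizer_le_normalizer_pCoreOf K)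
  have hCK' : C ≤ K := fun x hx => hCK ⟨hx.2, hx.1⟩
  have hRQ : R ≤ normalizer (Q : Set G) :=
    le_normalizer_of_wc hQp hwc (pCoreOf_isPGroup K) (hQK.trans hKR)
  have hCP : Cfsg.pCoreOf p C ≤ P := pCoreOf_le_pCoreOf inf_le_left hLC
  set X := (Cfsg.pResidual p C).map C.subtype with hX
  have hXC : X ≤ C := map_subtype_le _
  have hRL : ∀ x ∈ C, (orderOf x).Coprime p → ∀ r ∈ R ⊓ L, x * r = r * x := by
    intro x hx hc r hr
    have hC_RL : C ≤ normalizer ((R ⊓ L : Subgroup G) : Set G) :=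
      CfsgLib.Coprime.inf_le_normalizer (hCK'.trans hKR) (inf_le_left.trans le_normalizer)
    have hu : ⁅x, r⁆ ∈ (R ⊓ L) ⊓ C := by
      refine mem_inf.2 ⟨?_, ?_⟩
      · rw [commutatorElement_def]
        exact mul_mem ((mem_normalizer_iff.1 (hC_RL hx) r).1 hr) (inv_mem hr)
      · rw [show ⁅x, r⁆ = x * (r * x⁻¹ * r⁻¹) by simp only [commutatorElement_def]; group]
        exact mul_mem hx ((mem_normalizer_iff.1 (hLC hr.2) _).1 (inv_mem hx))
    have huP : ⁅x, r⁆ ∈ P := hCP (le_pCoreOf ((pCoreOf_isPGroup K).to_le (inf_le_left.trans inf_le_left))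
      inf_le_right (CfsgLib.Coprime.inf_le_normalizer hC_RL le_normalizer) hu)
    exact commutatorElement_eq_one_iff_mul_comm.1
      (CfsgLib.Coprime.eq_one_of_conj_eq_mul (a := x) (x := r)
        (by simp only [commutatorElement_def]; group)
        (mul_inv_eq_iff_eq_mul.2 (mem_centralizer_iff.1 hx.2 _ huP).symm)
        (coprime_orderOf_of_isPGroup (pCoreOf_isPGroup L) huP hc))
  have hfaith : ∀ x ∈ K, (orderOf x).Coprime p → (∀ r ∈ R, x * r = r * x) → x = 1 := by
    intro x hx hc h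
    have hxR : x ∈ R := (charP_iff K).1 hK ⟨hx, mem_centralizer_iff.2 fun r hr => (h r hr).symm⟩
    exact orderOf_eq_one_iff.1
      ((Nat.coprime_self _).1 (coprime_orderOf_of_isPGroup (pCoreOf_isPGroup K) hxR hc))
  haveI := CfsgLib.Fusion.pResidual_normal (G := C) (p := p)
  have hXQ : Q ≤ normalizer (X : Set G) :=
    (hQL.trans hLC).trans (normalizer_le_normalizer_resOf C)
  have hXN : X ≤ normalizer (Q : Set G) := by
    refine le_normalizer_of_faithful hQp hwc (pCoreOf_isPGroup K) hXQ (hQK.trans hKR)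
      ((hXC.trans hCK').trans hKR) ?_ fun x hx => hfaith x (hCK' (hXC hx))
    rw [le_centralizer_iff]
    refine commutator_le.2 fun r hr q hq => mem_centralizer_iff.2 fun x hx => ?_
    have hu : ⁅r, q⁆ ∈ R ⊓ Q := by
      refine mem_inf.2 ⟨?_, ?_⟩
      · rw [show ⁅r, q⁆ = r * (q * r⁻¹ * q⁻¹) by simp only [commutatorElement_def]; group]
        exact mul_mem hr ((mem_normalizer_iff.1 (hKR (hQK hq)) _).1 (inv_mem hr))
      · rw [commutatorElement_def]
        exact mul_mem ((mem_normalizer_iff.1 (hRQ hr) q).1 hq) (inv_mem hq)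
    have : X ≤ centralizer ({⁅r, q⁆} : Set G) := resOf_le fun g hg hc =>
      mem_centralizer_singleton_iff.2 (hRL g hg hc _ ⟨hu.1, hQL hu.2⟩)
    exact mem_centralizer_singleton_iff.1 (this hx)
  have hgen : ∀ x ∈ C, (orderOf x).Coprime p → x = 1 := by
    intro x hx hc
    have hxN : x ∈ normalizer (Q : Set G) := hXN (mem_resOf hx hc)
    have hxc : x ∈ centralizer (Q : Set G) := by
      refine mem_centralizer_iff.2 fun q hq => ?_
      have hu : ⁅x, q⁆ ∈ Q := by
        rw [commutatorElement_def]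
        exact mul_mem ((mem_normalizer_iff.1 hxN q).1 hq) (inv_mem hq)
      have huC : ⁅x, q⁆ ∈ X := by
        rw [show ⁅x, q⁆ = x * (q * x⁻¹ * q⁻¹) by simp only [commutatorElement_def]; group]
        exact mul_mem (mem_resOf hx hc)
          ((mem_normalizer_iff.1 (hXQ hq) _).1 (inv_mem (mem_resOf hx hc)))
      -- `Q ⊓ X` is a normal `p`-subgroup of `X`, and `X` is normal in `L`
      have hLX : L ≤ normalizer (X : Set G) := hLC.trans (normalizer_le_normalizer_resOf C)
      have h1 : Q ⊓ X ≤ Cfsg.pCoreOf p X := le_pCoreOf (hQp.to_le inf_le_left) inf_le_right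
        (CfsgLib.Coprime.inf_le_normalizer hXN le_normalizer)
      have huP : ⁅x, q⁆ ∈ P :=
        pCoreOf_le_pCoreOf (hXC.trans inf_le_left) hLX (h1 ⟨hu, huC⟩)
      exact (commutatorElement_eq_one_iff_mul_comm.1
        (CfsgLib.Coprime.eq_one_of_conj_eq_mul (a := x) (x := q)
          (by simp only [commutatorElement_def]; group)
          (mul_inv_eq_iff_eq_mul.2 (mem_centralizer_iff.1 hx.2 _ huP).symm)
          (coprime_orderOf_of_isPGroup hQp hu hc))).symm
    exact orderOf_eq_one_iff.1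
      ((Nat.coprime_self _).1 (coprime_orderOf_of_isPGroup hQp (hCQ hxc) hc))
  exact (le_pCoreOf (isPGroup_of_coprime_trivial hgen) le_rfl le_normalizer).trans hCP

theorem wc_charP {Q L : Subgroup G} (hQp : IsPGroup p Q) (hwc : Cfsg.IsWeaklyClosedSubgroup p Q)
    (hCQ : centralizer (Q : Set G) ≤ Q) (hQL : Q ≤ L)
    (hK : ∀ L' : Subgroup G, L ≤ L' → L' ≤ L ⊔ centralizer ((Cfsg.pCoreOf p L : Subgroup G) : Set G) →
      ∃ K : Subgroup G, Q ≤ K ∧ centralizer ((Cfsg.pCoreOf p L' : Subgroup G) : Set G) ⊓ L' ≤ K ∧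
        centralizer (Cfsg.pCore p K : Set K) ≤ Cfsg.pCore p K) :
    ⁅Q, centralizer ((Cfsg.pCoreOf p L : Subgroup G) : Set G)⁆ ≤ Q ⊓ Cfsg.pCoreOf p L ∧
      IsPGroup p (centralizer ((Cfsg.pCoreOf p L : Subgroup G) : Set G)) ∧
      centralizer (Cfsg.pCore p L : Set L) ≤ Cfsg.pCore p L := by
  set P := Cfsg.pCoreOf p L with hP
  set C := centralizer (P : Set G) with hC
  set L' := L ⊔ C with hL'
  set P' := Cfsg.pCoreOf p L' with hP'
  obtain ⟨K, h1, h2, h3⟩ := hK L' le_sup_left le_rfl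
  have hchar' := wc_charP_step hQp hwc hCQ (hQL.trans le_sup_left) h1 h2 h3
  obtain ⟨K₀, k1, k2, k3⟩ := hK L le_rfl le_sup_left
  have hchar := wc_charP_step hQp hwc hCQ hQL k1 k2 k3
  have hLP : L ≤ normalizer (P : Set G) := le_normalizer.trans (normalizer_le_normalizer_pCoreOf L)
  have hL'P : L' ≤ normalizer (P : Set G) := sup_le hLP (centralizer_le_normalizer _)
  have hL'P' : L' ≤ normalizer (P' : Set G) :=
    le_normalizer.trans (normalizer_le_normalizer_pCoreOf L')
  have hPP' : P ≤ P' :=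
    le_pCoreOf (pCoreOf_isPGroup L) ((pCoreOf_le_self L).trans le_sup_left) hL'P
  have hQP'L : ⁅P', Q⁆ ≤ P := by
    have hN : P' ≤ normalizer (Q : Set G) :=
      le_normalizer_of_wc hQp hwc (pCoreOf_isPGroup L') ((hQL.trans le_sup_left).trans hL'P')
    refine (show ⁅P', Q⁆ ≤ P' ⊓ Q from commutator_le_inf_of_normalizing
      ((hQL.trans le_sup_left).trans hL'P') hN).trans ?_
    exact (le_inf inf_le_left (inf_le_right.trans hQL)).trans
      (le_pCoreOf ((pCoreOf_isPGroup L').to_le inf_le_left) inf_le_right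
        (CfsgLib.Coprime.inf_le_normalizer (le_sup_left.trans hL'P') le_normalizer))
  have hCN : C ≤ normalizer (Q : Set G) := by
    refine le_normalizer_of_faithful hQp hwc (pCoreOf_isPGroup L')
      (le_normalizer_centralizer (hQL.trans hLP)) ((hQL.trans le_sup_left).trans hL'P')
      (le_sup_right.trans hL'P') (Subgroup.centralizer_le (SetLike.coe_subset_coe.2 hQP'L))
      fun x hx hc h => ?_
    have hxP : x ∈ P' :=
      hchar' ⟨mem_sup_right hx, mem_centralizer_iff.2 fun r hr => (h r hr).symm⟩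
    exact orderOf_eq_one_iff.1
      ((Nat.coprime_self _).1 (coprime_orderOf_of_isPGroup (pCoreOf_isPGroup L') hxP hc))
  have hQC : ⁅Q, C⁆ ≤ Q ⊓ C :=
    commutator_le_inf_of_normalizing hCN (le_normalizer_centralizer (hQL.trans hLP))
  have hQCP : Q ⊓ C ≤ P := fun x hx => hchar ⟨hQL hx.1, hx.2⟩
  refine ⟨hQC.trans (le_inf inf_le_left hQCP), ?_, (charP_iff L).2 hchar⟩
  refine isPGroup_of_coprime_trivial fun x hx hc => ?_
  have hxc : x ∈ centralizer (Q : Set G) := by
    refine mem_centralizer_iff.2 fun q hq => (commutatorElement_eq_one_iff_mul_comm.1 ?_).symm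
    have hu : ⁅x, q⁆ ∈ Q ⊓ C := by
      rw [← commutatorElement_inv]; exact inv_mem (hQC (commutator_mem_commutator hq hx))
    exact CfsgLib.Coprime.eq_one_of_conj_eq_mul (a := x) (x := q)
      (by simp only [commutatorElement_def]; group)
      (mul_inv_eq_iff_eq_mul.2 (mem_centralizer_iff.1 hx _ (hQCP hu)).symm)
      (coprime_orderOf_of_isPGroup hQp hu.1 hc)
  exact orderOf_eq_one_iff.1
    ((Nat.coprime_self _).1 (coprime_orderOf_of_isPGroup hQp (hCQ hxc) hc))

/-! ### Large subgroups -/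

theorem exists_fixed_ne_one {Y Q : Subgroup G} (hY : IsPGroup p Y) (hY1 : Y ≠ ⊥)
    (hQ : IsPGroup p Q) (hQY : Q ≤ normalizer (Y : Set G)) :
    Y ⊓ centralizer (Q : Set G) ≠ ⊥ := by
  intro hbot
  have hS : IsPGroup p (Y ⊔ Q : Subgroup G) := hY.to_sup_of_normal_left' hQ hQY
  haveI : (Y.subgroupOf (Y ⊔ Q)).Normal :=
    (normal_subgroupOf_iff_le_normalizer le_sup_left).2 (sup_le le_normalizer hQY)
  haveI := hS.isNilpotent
  refine CfsgLib.Coprime.nilpotent_inf_center_ne_bot (Y.subgroupOf (Y ⊔ Q)) (fun h0 => hY1 ?_) ?_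
  · have := congrArg (Subgroup.map (Y ⊔ Q).subtype) h0
    rwa [map_subgroupOf_eq_of_le le_sup_left, Subgroup.map_bot] at this
  · rw [eq_bot_iff_forall]
    intro z hz
    refine Subtype.ext ((eq_bot_iff_forall _).1 hbot z ⟨hz.1, mem_centralizer_iff.2 fun g hg => ?_⟩)
    exact congrArg Subtype.val (mem_center_iff.1 hz.2 ⟨g, (le_sup_right : Q ≤ Y ⊔ Q) hg⟩)

theorem large_wc {Q : Subgroup G} (hQp : IsPGroup p Q) (hQ1 : Q ≠ ⊥) (hL : Cfsg.IsLarge Q) :
    Cfsg.IsWeaklyClosedSubgroup p Q := by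
  refine wc_of_normalizer_le hQp fun R hR hQR => ?_
  have hRne : R ≠ ⊥ := fun h => hQ1 (le_bot_iff.1 (h ▸ hQR))
  have hU : R ⊓ centralizer (R : Set G) ≠ ⊥ := exists_fixed_ne_one hR hRne hR le_normalizer
  refine le_trans ?_ (hL.2 _ (inf_le_right.trans (Subgroup.centralizer_le
    (SetLike.coe_subset_coe.2 hQR))) hU)
  exact CfsgLib.Coprime.inf_le_normalizer le_rfl
    (CfsgLib.Coprime.normalizer_le_normalizer_centralizer R)

theorem large_conjBy {Q : Subgroup G} (hL : Cfsg.IsLarge Q) (g : G) :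
    Cfsg.IsLarge (conjBy g Q) := by
  have hc : ∀ x : G, x ∈ centralizer (conjBy g Q : Set G) →
      g⁻¹ * x * g ∈ centralizer (Q : Set G) := by
    intro x hx
    refine mem_centralizer_iff.2 fun q hq => ?_
    have := mem_centralizer_iff.1 hx _ (conj_mem_conjBy (g := g) hq)
    calc q * (g⁻¹ * x * g) = g⁻¹ * ((g * q * g⁻¹) * x) * g := by group
      _ = g⁻¹ * (x * (g * q * g⁻¹)) * g := by rw [this]
      _ = g⁻¹ * x * g * q := by group
  refine ⟨fun x hx => CfsgLib.Coprime.mem_conjBy.2 (hL.1 (hc x hx)), fun U hU hU1 => ?_⟩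
  have hU' : conjBy g⁻¹ U ≤ centralizer (Q : Set G) := fun x hx => by
    rw [CfsgLib.Coprime.mem_conjBy, inv_inv] at hx
    have := hc _ (hU hx)
    simpa [mul_assoc] using this
  have h := hL.2 _ hU' (fun h0 => hU1 (by
    have := congrArg (conjBy g) h0
    rwa [conjBy_conjBy, mul_inv_cancel, conjBy_one, conjBy, Subgroup.map_bot] at this))
  rw [← normalizer_conjBy] at h
  rw [← normalizer_conjBy, le_conjBy_iff]
  exact h

/-- The centralizer of a nontrivial `p`-subgroup normalized by a large subgroup normalizes it. -/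
theorem large_centralizer_le {Q : Subgroup G} (hQp : IsPGroup p Q) (hL : Cfsg.IsLarge Q)
    {Y : Subgroup G} (hY : IsPGroup p Y) (hY1 : Y ≠ ⊥) (hQY : Q ≤ normalizer (Y : Set G)) :
    centralizer (Y : Set G) ≤ normalizer (Q : Set G) :=
  ((Subgroup.centralizer_le (SetLike.coe_subset_coe.2 inf_le_left)).trans
    (centralizer_le_normalizer _)).trans
    (hL.2 _ inf_le_right (exists_fixed_ne_one hY hY1 hQp hQY))

theorem large_inf_centralizer_eq_bot {Q : Subgroup G} (hQp : IsPGroup p Q) (hQ1 : Q ≠ ⊥)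
    (hL : Cfsg.IsLarge Q) {g : G} (hg : conjBy g Q ≠ Q) :
    centralizer (Q : Set G) ⊓ centralizer (conjBy g Q : Set G) = ⊥ := by
  by_contra hU
  set U := centralizer (Q : Set G) ⊓ centralizer (conjBy g Q : Set G) with hUdef
  have h1 : conjBy g Q ≤ normalizer (Q : Set G) :=
    ((le_centralizer_iff.1 inf_le_right).trans (centralizer_le_normalizer _)).trans
      (hL.2 U inf_le_left hU)
  exact hg (wc_spec (large_wc hQp hQ1 hL)
    (hQp.to_sup_of_normal_left' (isPGroup_conjBy hQp g) h1) le_sup_left le_sup_right)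

theorem large_charP {Q : Subgroup G} (hQp : IsPGroup p Q) (hQ1 : Q ≠ ⊥) (hL : Cfsg.IsLarge Q)
    {L : Subgroup G} (hQL : Q ≤ L) (hP : Cfsg.pCoreOf p L ≠ ⊥) :
    ⁅Q, centralizer ((Cfsg.pCoreOf p L : Subgroup G) : Set G)⁆ ≤ Q ⊓ Cfsg.pCoreOf p L ∧
      IsPGroup p (centralizer ((Cfsg.pCoreOf p L : Subgroup G) : Set G)) ∧
      centralizer (Cfsg.pCore p L : Set L) ≤ Cfsg.pCore p L := by
  refine wc_charP hQp (large_wc hQp hQ1 hL) hL.1 hQL fun L' hL' hL'' => ?_
  set P := Cfsg.pCoreOf p L with hPdef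
  have hLP : L ≤ normalizer (P : Set G) := le_normalizer.trans (normalizer_le_normalizer_pCoreOf L)
  have hne := exists_fixed_ne_one (pCoreOf_isPGroup L) hP hQp (hQL.trans hLP)
  set U := P ⊓ centralizer (Q : Set G) with hU
  set K := centralizer (U : Set G) with hKdef
  have hQK : Q ≤ K := le_centralizer_iff.1 inf_le_right
  have hKN : K ≤ normalizer (Q : Set G) :=
    (centralizer_le_normalizer _).trans (hL.2 U inf_le_right hne)
  refine ⟨K, hQK, ?_, ?_⟩
  · refine inf_le_left.trans (Subgroup.centralizer_le (SetLike.coe_subset_coe.2 ?_))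
    exact inf_le_left.trans (le_pCoreOf (pCoreOf_isPGroup L) ((pCoreOf_le_self L).trans hL')
      (hL''.trans (sup_le hLP (centralizer_le_normalizer _))))
  · rw [charP_iff]
    have hQR : Q ≤ Cfsg.pCoreOf p K := le_pCoreOf hQp hQK hKN
    exact (inf_le_right.trans ((Subgroup.centralizer_le (SetLike.coe_subset_coe.2 hQR)).trans
      hL.1)).trans hQR

end CfsgLib.LS
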