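import Cfsg.Agent.Lib.LocalStructure.WeaklyClosed
import Cfsg.Agent.Lib.Coprime.Component
import Cfsg.Agent.Lib.Coprime.Action
import Cfsg.Agent.Lib.Coprime.LargeSubnormal
import Cfsg.Agent.Lib.PGroup.Basic
import Cfsg.Agent.Lib.Fusion.Residual

/-!
# Commutators of `F*` with `p`-subgroups when the `p`-core is trivial
-/

set_option autoImplicit false
set_option linter.style.haveILetI false
set_option linter.unusedSectionVars false

namespace CfsgLib.LS

open Subgroup
open scoped commutatorElement

variable {G : Type*} [Group G] [Finite G] {p : ℕ} [Fact p.Prime]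

theorem normalizer_le_normalizer_map_char {A : Subgroup G} (W : Subgroup A) [hW : W.Characteristic] :
    normalizer (A : Set G) ≤ normalizer ((W.map A.subtype : Subgroup G) : Set G) := by
  refine le_normalizer_iff.2 fun g hg x hx => ?_
  obtain ⟨y, hy, rfl⟩ := hx
  let e : A ≃* A :=
    { toFun := fun a => ⟨g * a * g⁻¹, (mem_normalizer_iff.1 hg _).1 a.2⟩
      invFun := fun a => ⟨g⁻¹ * a * g, (mem_normalizer_iff''.1 hg _).1 a.2⟩
      left_inv := fun a => Subtype.ext (by simp only; group)
      right_inv := fun a => Subtype.ext (by simp only; group)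
      map_mul' := fun a b => Subtype.ext (by simp only [Subgroup.coe_mul]; group) }
  exact ⟨e y, (characteristic_iff_map_eq.1 hW e).le (mem_map_of_mem e.toMonoidHom hy), rfl⟩

/-- A subnormal subgroup inherits a trivial `p`-core. -/
theorem pCore_eq_bot_of_subnormal (hO : Cfsg.pCore p G = ⊥) {L : Subgroup G}
    (hL : L.IsSubnormal) : Cfsg.pCore p L = ⊥ := by
  haveI := CfsgLib.Coprime.pCore_normal' (G := L) p
  have h : (Cfsg.pCore p L).map L.subtype ≤ Cfsg.pCore p G :=
    CfsgLib.Coprime.le_pCore_of_isSubnormal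
      ((Subgroup.Normal.isSubnormal inferInstance).trans' hL)
      ((CfsgLib.Coprime.pCore_isPGroup p).map _)
  rw [hO, le_bot_iff, Subgroup.map_eq_bot_iff, ker_subtype, le_bot_iff] at h
  exact h

/-- The Fitting subgroup of a group with trivial `p`-core has order prime to `p`. -/
theorem coprime_fitting (hO : Cfsg.pCore p G = ⊥) :
    (Nat.card (Cfsg.fittingSubgroup G)).Coprime p := by
  refine (CfsgLib.Coprime.pPrimeCore_coprime (G := G) (Fact.out : p.Prime)).coprime_dvd_left
    (Subgroup.card_dvd_of_le fun f hf => ?_)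
  obtain ⟨o, ho, k, hk, rfl⟩ := CfsgLib.Coprime.Large.exists_decomp_fitting (p := p) hf
  rw [hO, mem_bot] at ho
  rw [ho, one_mul]
  exact hk.2

/-- A nilpotent normal subgroup of a group with trivial `p`-core has order prime to `p`. -/
theorem coprime_of_nilpotent_normal (hO : Cfsg.pCore p G = ⊥) {N : Subgroup G} [N.Normal]
    (h : Group.IsNilpotent N) : (Nat.card N).Coprime p :=
  (coprime_fitting hO).coprime_dvd_left (Subgroup.card_dvd_of_le (CfsgLib.Coprime.le_fitting h))

/-- A `p`-element of a subgroup of order prime to `p` is trivial. -/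
theorem eq_bot_of_coprime {P N : Subgroup G} (hP : IsPGroup p P) (hPN : P ≤ N)
    (hN : (Nat.card N).Coprime p) : P = ⊥ := by
  refine (eq_bot_iff_forall _).2 fun x hx => ?_
  exact CfsgLib.Coprime.Large.eq_one_of_both hP hx
    (hN.coprime_dvd_left (Subgroup.orderOf_dvd_natCard _ (hPN hx)))

/-- A `p`-group and a group of order prime to `p` have coprime orders. -/
theorem coprime_card_of_isPGroup {P N : Subgroup G} (hP : IsPGroup p P)
    (hN : (Nat.card N).Coprime p) : (Nat.card P).Coprime (Nat.card N) := by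
  obtain ⟨k, hk⟩ := IsPGroup.iff_card.1 hP
  rw [hk]
  exact (hN.pow_right k).symm

/-- A subgroup without nontrivial `p`-elements has order prime to `p`. -/
theorem coprime_of_forall {C : Subgroup G} (h : ∀ x ∈ C, ∀ a : ℕ, x ^ p ^ a = 1 → x = 1) :
    (Nat.card C).Coprime p := by
  rw [Nat.coprime_comm, (Fact.out : p.Prime).coprime_iff_not_dvd]
  intro hdvd
  obtain ⟨x, hx⟩ := exists_prime_orderOf_dvd_card' p hdvd
  have h1 : (x : G) = 1 :=
    h x x.2 1 (by rw [pow_one, ← hx, ← orderOf_coe]; exact pow_orderOf_eq_one (x : G))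
  rw [Subtype.ext h1 (a2 := (1 : C)), orderOf_one] at hx
  exact (Fact.out : p.Prime).one_lt.ne hx

/-- `C(F*)` has order prime to `p` when the `p`-core is trivial. -/
theorem coprime_centralizer_fstar (hO : Cfsg.pCore p G = ⊥) :
    (Nat.card (centralizer (Cfsg.generalizedFittingSubgroup G : Set G))).Coprime p := by
  haveI := CfsgLib.Coprime.generalizedFitting_normal (G := G)
  haveI : IsMulCommutative ↥(centralizer (Cfsg.generalizedFittingSubgroup G : Set G)) :=
    ⟨⟨fun a b => Subtype.ext ((mem_centralizer_iff.1 b.2 a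
      (CfsgLib.Coprime.centralizer_generalizedFitting_le a.2)))⟩⟩
  open scoped IsMulCommutative in exact coprime_of_nilpotent_normal hO inferInstance

/-- `F*(G) ∩ L = F*(L)` for a subnormal subgroup `L`. -/
theorem generalizedFitting_inf_subnormal {L : Subgroup G} (hL : L.IsSubnormal) :
    Cfsg.generalizedFittingSubgroup G ⊓ L = (Cfsg.generalizedFittingSubgroup L).map L.subtype := by
  induction hL with
  | top =>
    rw [inf_top_eq, ← CfsgLib.Coprime.map_generalizedFitting_equiv (topEquiv (G := G))]
    rfl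
  | step H K hle hK hN ih =>
    haveI := hN
    have h1 := CfsgLib.Coprime.generalizedFitting_inf_normal (G := K) (H.subgroupOf K)
    have h2 := CfsgLib.Coprime.map_generalizedFitting_equiv (subgroupOfEquivOfLe hle)
    calc Cfsg.generalizedFittingSubgroup G ⊓ H
        = Cfsg.generalizedFittingSubgroup G ⊓ K ⊓ H := by
          rw [inf_assoc, inf_eq_right.2 hle]
      _ = (Cfsg.generalizedFittingSubgroup K).map K.subtype ⊓ (H.subgroupOf K).map K.subtype := by
          rw [ih, map_subgroupOf_eq_of_le hle]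
      _ = (Cfsg.generalizedFittingSubgroup K ⊓ H.subgroupOf K).map K.subtype :=
          (Subgroup.map_inf _ _ _ K.subtype_injective).symm
      _ = (Cfsg.generalizedFittingSubgroup H).map H.subtype := by
          rw [h1, ← h2, Subgroup.map_map, Subgroup.map_map]
          rfl

theorem fstar_eq_top {L : Subgroup G} (hL : L.IsSubnormal)
    (hle : L ≤ Cfsg.generalizedFittingSubgroup G) : Cfsg.generalizedFittingSubgroup L = ⊤ := by
  refine Subgroup.map_injective L.subtype_injective ?_
  rw [← generalizedFitting_inf_subnormal hL, inf_eq_right.2 hle, ← MonoidHom.range_eq_map,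
    range_subtype]

theorem commutator_le_of_normalizes {L Y : Subgroup G} (hYL : Y ≤ normalizer (L : Set G)) :
    ⁅L, Y⁆ ≤ L := by
  rw [commutator_le]
  intro k hk a ha
  rw [commutatorElement_def, show k * a * k⁻¹ * a⁻¹ = k * (a * k⁻¹ * a⁻¹) by group]
  exact mul_mem hk ((mem_normalizer_iff.1 (hYL ha) _).1 (inv_mem hk))

/-- Iterating the commutator does not shrink it, once `L = [L, Y] C_L(Y)`. -/
theorem commutator_commutator_of_sup {L Y : Subgroup G} (hle : ⁅L, Y⁆ ≤ L)
    (h : ⁅L, Y⁆ ⊔ (L ⊓ centralizer (Y : Set G)) = L) : ⁅L, Y⁆ = ⁅⁅L, Y⁆, Y⁆ := by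
  refine le_antisymm ?_ (commutator_mono hle le_rfl)
  rw [commutator_le]
  intro x hx y hy
  have hn : L ⊓ centralizer (Y : Set G) ≤ normalizer ((⁅L, Y⁆ : Subgroup G) : Set G) :=
    inf_le_left.trans (normalizer_commutator_ge_left L Y)
  have hx' : x ∈ ((⁅L, Y⁆ ⊔ (L ⊓ centralizer (Y : Set G)) : Subgroup G) : Set G) := by
    rw [h]; exact hx
  rw [coe_mul_of_right_le_normalizer_left _ _ hn] at hx'
  obtain ⟨d, hd, c, hc, rfl⟩ := hx'
  have e : ⁅d * c, y⁆ = ⁅d, y⁆ := by
    have hcy : y * c = c * y := mem_centralizer_iff.1 hc.2 y hy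
    calc ⁅d * c, y⁆ = d * (c * y) * c⁻¹ * d⁻¹ * y⁻¹ := by rw [commutatorElement_def]; group
      _ = d * (y * c) * c⁻¹ * d⁻¹ * y⁻¹ := by rw [hcy]
      _ = ⁅d, y⁆ := by rw [commutatorElement_def]; group
  rw [e]
  exact commutator_mem_commutator hd hy

/-- `L = [L, Y] C_L(Y)` and `[L, Y] = [L, Y, Y]` for `F*(L) = L` with trivial `p`-core. -/
theorem fstar_splitting {L Y : Subgroup G} (hY : IsPGroup p Y)
    (hYL : Y ≤ normalizer (L : Set G)) (hF : Cfsg.generalizedFittingSubgroup L = ⊤)
    (hO : Cfsg.pCore p L = ⊥) :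
    ⁅L, Y⁆ ⊔ (L ⊓ centralizer (Y : Set G)) = L ∧ ⁅L, Y⁆ = ⁅⁅L, Y⁆, Y⁆ := by
  have hle : ⁅L, Y⁆ ≤ L := commutator_le_of_normalizes hYL
  suffices h : ⁅L, Y⁆ ⊔ (L ⊓ centralizer (Y : Set G)) = L from
    ⟨h, commutator_commutator_of_sup hle h⟩
  refine le_antisymm (sup_le hle inf_le_left) ?_
  set M := ⁅L, Y⁆ ⊔ (L ⊓ centralizer (Y : Set G)) with hM
  haveI : ((⁅L, Y⁆).subgroupOf L).Normal :=
    (normal_subgroupOf_iff_le_normalizer hle).2 (normalizer_commutator_ge_left L Y)
  have hE : (Cfsg.layer L).map L.subtype ≤ M := by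
    refine map_le_iff_le_comap.2 (sSup_le fun K hK => map_le_iff_le_comap.1 ?_)
    rcases CfsgLib.Coprime.component_le_or_commutator_eq_bot hK
      (Subgroup.Normal.isSubnormal (inferInstance : ((⁅L, Y⁆).subgroupOf L).Normal)) with hc | hc
    · calc K.map L.subtype ≤ ((⁅L, Y⁆).subgroupOf L).map L.subtype := map_mono hc
        _ = ⁅L, Y⁆ := map_subgroupOf_eq_of_le hle
        _ ≤ M := le_sup_left
    · refine le_trans (le_inf (map_subtype_le K) ?_) le_sup_right
      have h1 : ⁅K.map L.subtype, ⁅L, Y⁆⁆ = ⊥ := by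
        have := congrArg (Subgroup.map L.subtype) hc
        rwa [map_commutator, map_subgroupOf_eq_of_le hle, Subgroup.map_bot] at this
      have hKK : ⁅K.map L.subtype, K.map L.subtype⁆ = K.map L.subtype := by
        rw [← map_commutator, CfsgLib.Coprime.commutator_self_of_isComponent hK]
      rw [← commutator_eq_bot_iff_le_centralizer, ← hKK]
      have h2 : ⁅⁅K.map L.subtype, Y⁆, K.map L.subtype⁆ = ⊥ := by
        rw [eq_bot_iff, ← h1, commutator_comm (K.map L.subtype) ⁅L, Y⁆]
        exact commutator_mono (commutator_mono (map_subtype_le K) le_rfl) le_rfl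
      refine commutator_commutator_eq_bot_of_rotate h2 ?_
      rw [commutator_comm Y]
      exact h2
  have hN : (Cfsg.fittingSubgroup L).map L.subtype ≤ M := by
    set N := (Cfsg.fittingSubgroup L).map L.subtype with hNdef
    haveI := CfsgLib.Coprime.fitting_characteristic (G := L)
    have hYN : Y ≤ normalizer (N : Set G) :=
      hYL.trans (normalizer_le_normalizer_map_char _)
    have hcopN : (Nat.card N).Coprime p := by
      rw [hNdef, card_map_of_injective L.subtype_injective]
      exact coprime_fitting hO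
    have hsol : Group.IsSolvable Y := by
      haveI := hY.isNilpotent
      infer_instance
    rw [← CfsgLib.Coprime.commutator_sup_centralizer hYN (coprime_card_of_isPGroup hY hcopN)
      (Or.inl hsol)]
    exact sup_le_sup (commutator_mono (map_subtype_le _) le_rfl)
      (inf_le_inf (map_subtype_le _) le_rfl)
  calc L = (Cfsg.generalizedFittingSubgroup L).map L.subtype := by
        rw [hF, ← MonoidHom.range_eq_map, range_subtype]
    _ ≤ M := by
        rw [Cfsg.generalizedFittingSubgroup, Subgroup.map_sup]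
        exact sup_le hE hN

/-- `[F*(G), Y]` lies in each subnormal subgroup containing `Y`. -/
theorem commutator_fstar_le (hO : Cfsg.pCore p G = ⊥) {Y : Subgroup G} (hY : IsPGroup p Y)
    {K : Subgroup G} (hK : K.IsSubnormal) (hYK : Y ≤ K) :
    ⁅Cfsg.generalizedFittingSubgroup G, Y⁆ ≤ K := by
  haveI := CfsgLib.Coprime.generalizedFitting_normal (G := G)
  have hF := fstar_eq_top (Subgroup.Normal.isSubnormal
    (inferInstance : (Cfsg.generalizedFittingSubgroup G).Normal)) le_rfl
  have hsplit := (fstar_splitting hY (by rw [normalizer_eq_top]; exact le_top) hF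
    (pCore_eq_bot_of_subnormal hO (Subgroup.Normal.isSubnormal inferInstance))).2
  induction hK with
  | top => exact le_top
  | step H K' hle hK' hN ih =>
    rw [hsplit, commutator_comm]
    refine (commutator_mono hYK (ih (hYK.trans hle))).trans ?_
    exact commutator_le_of_normalizes ((normal_subgroupOf_iff_le_normalizer hle).1 hN)

end CfsgLib.LS
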