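import Cfsg.Agent.Lib.LocalStructure.Reduced
import Mathlib.Algebra.BigOperators.Group.Finset.Basic

/-!
# The largest `p`-reduced normal subgroup
-/

set_option autoImplicit false
set_option linter.style.haveILetI false
set_option linter.unusedSectionVars false

namespace CfsgLib.LS

open Subgroup
open scoped commutatorElement

variable {G : Type*} [Group G] [Finite G] {p : ℕ} [Fact p.Prime]

theorem isPReducedNormal_map_equiv {G' : Type*} [Group G'] [Finite G'] (e : G ≃* G')
    {V : Subgroup G} (hV : Cfsg.IsPReducedNormal p V) :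
    Cfsg.IsPReducedNormal p (V.map e.toMonoidHom) := by
  obtain ⟨hn, he, hred⟩ := isPReducedNormal_iff.1 hV
  refine isPReducedNormal_iff.2 ⟨hn.map _ e.surjective,
    CfsgLib.Fusion.isElementaryAbelian_map _ he, fun X hX h => ?_⟩
  have key : ∀ x : G, e x ∈ centralizer ((V.map e.toMonoidHom : Subgroup G') : Set G') ↔
      x ∈ centralizer (V : Set G) := by
    intro x
    constructor
    · exact fun hx => mem_centralizer_iff.2 fun a ha => e.injective (by
        rw [map_mul, map_mul]
        exact mem_centralizer_iff.1 hx _ (mem_map_of_mem e.toMonoidHom ha))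
    · intro hx
      refine mem_centralizer_iff.2 ?_
      rintro _ ⟨a, ha, rfl⟩
      show e a * e x = e x * e a
      rw [← map_mul, mem_centralizer_iff.1 hx a ha, map_mul]
  intro x hx
  obtain ⟨y, rfl⟩ := e.surjective x
  refine (key y).2 (hred (X.comap e.toMonoidHom) (hX.comap _) (fun z hz => ?_) hx)
  obtain ⟨k, hk⟩ := h _ hz
  exact ⟨k, (key _).1 (by rw [map_pow]; exact hk)⟩

theorem map_largestPReduced_equiv {G' : Type*} [Group G'] [Finite G'] (e : G ≃* G') :
    (Cfsg.largestPReduced p G).map e.toMonoidHom = Cfsg.largestPReduced p G' := by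
  refine le_antisymm (le_largestPReduced (isPReducedNormal_map_equiv e largestPReduced_spec))
    fun x hx => ?_
  refine ⟨e.symm x, le_largestPReduced (isPReducedNormal_map_equiv e.symm
    (largestPReduced_spec (G := G') (p := p))) (mem_map_of_mem e.symm.toMonoidHom hx),
    e.apply_symm_apply x⟩

theorem largestPReducedOf_subgroupOf {H M : Subgroup G} (h : H ≤ M) :
    (Cfsg.largestPReducedOf p (H.subgroupOf M)).map M.subtype = Cfsg.largestPReducedOf p H := by
  unfold Cfsg.largestPReducedOf
  rw [Subgroup.map_map, ← map_largestPReduced_equiv (p := p) (subgroupOfEquivOfLe h),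
    Subgroup.map_map]
  rfl

theorem largestPReducedOf_le (L : Subgroup G) : Cfsg.largestPReducedOf p L ≤ L :=
  map_subtype_le _

theorem largestPReducedOf_spec (L : Subgroup G) :
    Cfsg.IsPReducedNormal p ((Cfsg.largestPReducedOf p L).subgroupOf L) := by
  rw [Cfsg.largestPReducedOf, Subgroup.subgroupOf,
    Subgroup.comap_map_eq_self_of_injective L.subtype_injective]
  exact largestPReduced_spec

theorem le_largestPReducedOf {V L : Subgroup G} (hVL : V ≤ L)
    (h : Cfsg.IsPReducedNormal p (V.subgroupOf L)) : V ≤ Cfsg.largestPReducedOf p L := by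
  rw [← map_subgroupOf_eq_of_le hVL]
  exact map_mono (le_largestPReduced h)

theorem largestPReducedOf_ea (L : Subgroup G) :
    Cfsg.IsElementaryAbelian p (Cfsg.largestPReducedOf p L) :=
  CfsgLib.Fusion.isElementaryAbelian_map _ (largestPReduced_spec (G := L) (p := p)).2.1

theorem le_normalizer_largestPReducedOf (L : Subgroup G) :
    L ≤ normalizer ((Cfsg.largestPReducedOf p L : Subgroup G) : Set G) :=
  (normal_subgroupOf_iff_le_normalizer (largestPReducedOf_le L)).1 (largestPReducedOf_spec L).1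

theorem pCoreOf_le_centralizer_largest (L : Subgroup G) :
    Cfsg.pCoreOf p L ≤ centralizer ((Cfsg.largestPReducedOf p L : Subgroup G) : Set G) := by
  rintro _ ⟨x, hx, rfl⟩
  refine mem_centralizer_iff.2 ?_
  rintro _ ⟨y, hy, rfl⟩
  exact congrArg Subtype.val
    (mem_centralizer_iff.1 (pCore_le_centralizer_reduced largestPReduced_spec hx) y hy)

theorem largestPReducedOf_le_pCoreOf (L : Subgroup G) :
    Cfsg.largestPReducedOf p L ≤ Cfsg.pCoreOf p L :=
  map_mono (reduced_le_pCore largestPReduced_spec)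

theorem pCoreOf_le_sylow (T : Sylow p G) {L : Subgroup G} (hTL : (T : Subgroup G) ≤ L) :
    Cfsg.pCoreOf p L ≤ (T : Subgroup G) := by
  rintro _ ⟨x, hx, rfl⟩
  exact (CfsgLib.PGroup.pCore_le_sylow (T.subtype hTL) hx :)

theorem largestPReducedOf_le_sylow (T : Sylow p G) {L : Subgroup G} (hTL : (T : Subgroup G) ≤ L) :
    Cfsg.largestPReducedOf p L ≤ (T : Subgroup G) :=
  (largestPReducedOf_le_pCoreOf L).trans (pCoreOf_le_sylow T hTL)

/-- The centralizers in a subnormal subgroup. -/
theorem centralizer_largest_le_of_subnormal {L : Subgroup G} (hL : L.IsSubnormal) :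
    L ⊓ centralizer (Cfsg.largestPReduced p G : Set G) ≤
      centralizer ((Cfsg.largestPReducedOf p L : Subgroup G) : Set G) := by
  induction hL with
  | top => exact centralizer_largest_le_of_normal ⊤
  | step H M hle _ hN ih =>
    intro x hx
    haveI := hN
    have hxM : x ∈ M := hle hx.1
    have hxY : (⟨x, hxM⟩ : M) ∈ centralizer (Cfsg.largestPReduced p M : Set M) :=
      mem_centralizer_iff.2 fun y hy => Subtype.ext
        (mem_centralizer_iff.1 (ih ⟨hxM, hx.2⟩) _ (mem_map_of_mem M.subtype hy))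
    have := centralizer_largest_le_of_normal (p := p) (H.subgroupOf M)
      (show (⟨x, hxM⟩ : M) ∈ _ from ⟨mem_subgroupOf.2 hx.1, hxY⟩)
    rw [← largestPReducedOf_subgroupOf (p := p) hle]
    refine mem_centralizer_iff.2 ?_
    rintro _ ⟨y, hy, rfl⟩
    exact congrArg Subtype.val (mem_centralizer_iff.1 this y hy)

theorem map_inf_centralizer {G' : Type*} [Group G'] {f : G →* G'} (hf : Function.Injective f)
    (X : Subgroup G) : (X ⊓ centralizer (X : Set G)).map f =
      X.map f ⊓ centralizer ((X.map f : Subgroup G') : Set G') := by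
  ext y
  constructor
  · rintro ⟨x, ⟨hx, hc⟩, rfl⟩
    refine ⟨mem_map_of_mem _ hx, mem_centralizer_iff.2 ?_⟩
    rintro _ ⟨z, hz, rfl⟩
    rw [← map_mul, mem_centralizer_iff.1 hc z hz, map_mul]
  · rintro ⟨⟨x, hx, rfl⟩, hc⟩
    exact ⟨x, ⟨hx, mem_centralizer_iff.2 fun z hz =>
      hf (by rw [map_mul, map_mul]; exact mem_centralizer_iff.1 hc _ (mem_map_of_mem f hz))⟩, rfl⟩

theorem map_omegaOne_center {G' : Type*} [Group G'] {f : G →* G'} (hf : Function.Injective f)
    (X : Subgroup G) : (Cfsg.omegaOne p (X ⊓ centralizer (X : Set G))).map f =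
      Cfsg.omegaOne p (X.map f ⊓ centralizer ((X.map f : Subgroup G') : Set G')) := by
  rw [map_omegaOne hf, map_inf_centralizer hf]

/-- `Ω₁(Z(S))` lies in the largest reduced subgroup when the characteristic is `p`. -/
theorem omegaOne_center_sylow_le (hchar : centralizer (Cfsg.pCore p G : Set G) ≤ Cfsg.pCore p G)
    (S : Sylow p G) :
    Cfsg.omegaOne p ((S : Subgroup G) ⊓ centralizer ((S : Subgroup G) : Set G)) ≤
      Cfsg.largestPReduced p G := by
  set A := Cfsg.omegaOne p ((S : Subgroup G) ⊓ centralizer ((S : Subgroup G) : Set G)) with hA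
  have hle : A ≤ (S : Subgroup G) := (omegaOne_le_self _).trans inf_le_left
  have hc : A ≤ centralizer ((S : Subgroup G) : Set G) := (omegaOne_le_self _).trans inf_le_right
  have hX : Cfsg.IsPReducedNormal p (A.subgroupOf (S : Subgroup G)) := by
    refine isPReducedNormal_iff.2 ⟨⟨fun a ha g => ?_⟩,
      isElementaryAbelian_subgroupOf hle (omegaOne_center_ea _), fun X _ _ g _ => ?_⟩
    · have : g * a = a * g := Subtype.ext (mem_centralizer_iff.1 (hc ha) g g.2)
      rwa [this, mul_inv_cancel_right]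
    · exact mem_centralizer_iff.2 fun a ha =>
        Subtype.ext (mem_centralizer_iff.1 (hc ha) g g.2).symm
  have := le_largestPReduced (normalClosure_reduced hchar S (R := (S : Subgroup G)) le_rfl hX)
  rw [map_subgroupOf_eq_of_le hle] at this
  exact Subgroup.le_normalClosure.trans this

theorem sylowCenterClosure_top (L : Subgroup G) :
    Cfsg.sylowCenterClosure p L =
      (⨆ S : Sylow p L, Cfsg.omegaOne p
        ((S : Subgroup L) ⊓ centralizer ((S : Subgroup L) : Set L))).map L.subtype := by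
  rw [Cfsg.sylowCenterClosure, Subgroup.map_iSup]
  exact iSup_congr fun S => (map_omegaOne_center L.subtype_injective _).symm

theorem sylowCenterClosure_le_largest {L : Subgroup G}
    (hchar : centralizer (Cfsg.pCore p L : Set L) ≤ Cfsg.pCore p L) :
    Cfsg.sylowCenterClosure p L ≤ Cfsg.largestPReducedOf p L := by
  rw [sylowCenterClosure_top]
  exact map_mono (iSup_le fun S => omegaOne_center_sylow_le hchar S)

theorem iSup_omegaOne_center_normal : (⨆ S : Sylow p G, Cfsg.omegaOne p
      ((S : Subgroup G) ⊓ centralizer ((S : Subgroup G) : Set G))).Normal := by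
  refine ⟨fun z hz g => ?_⟩
  have := mem_map_of_mem (MulAut.conj g).toMonoidHom hz
  rw [Subgroup.map_iSup] at this
  refine SetLike.le_def.1 (iSup_le fun S => ?_) this
  rw [map_omegaOne_center (MulAut.conj g).injective]
  exact le_iSup (fun S : Sylow p G => Cfsg.omegaOne p
    ((S : Subgroup G) ⊓ centralizer ((S : Subgroup G) : Set G))) (g • S)

/-- Averaging over the cosets of the stabilizer of a Sylow subgroup. -/
theorem central_decomp {V W : Subgroup G} [hVn : V.Normal] [hWn : W.Normal]
    (hV : Cfsg.IsElementaryAbelian p V) (hW : ⁅V, Cfsg.pResidual p G⁆ ≤ W) (S : Sylow p G)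
    {z : G} (hz : z ∈ V) (hS : ∀ s ∈ (S : Subgroup G), s * z = z * s) :
    (∀ g : G, ⁅z, g⁆ ∈ W) ∧
      ∃ c ∈ V ⊓ center G, ∃ n : ℕ, n.Coprime p ∧ c⁻¹ * z ^ n ∈ W := by
  haveI := CfsgLib.Fusion.pResidual_normal (G := G) (p := p)
  have hcom : ∀ g : G, ⁅z, g⁆ ∈ W := by
    intro g
    have hg : g ∈ Cfsg.pResidual p G ⊔ (S : Subgroup G) := by
      rw [CfsgLib.Fusion.pResidual_sup_sylow]; exact mem_top g
    rw [← SetLike.mem_coe, Subgroup.normal_mul] at hg
    obtain ⟨r, hr, s, hs, rfl⟩ := hg
    rw [show ⁅z, r * s⁆ = ⁅z, r⁆ * (r * ⁅z, s⁆ * r⁻¹) by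
        simp only [commutatorElement_def]; group,
      commutatorElement_eq_one_iff_mul_comm.2 (hS s hs).symm, mul_one, mul_inv_cancel, mul_one]
    exact hW (commutator_mem_commutator hz hr)
  refine ⟨hcom, ?_⟩
  letI : CommGroup V := { (inferInstance : Group V) with
    mul_comm := fun a b => Subtype.ext (ea_comm hV a.2 b.2) }
  haveI : Fintype (G ⧸ (S : Subgroup G)) := Fintype.ofFinite _
  let act : G → V → V := fun g v => ⟨g * v * g⁻¹, hVn.conj_mem v v.2 g⟩
  let f : G ⧸ (S : Subgroup G) → V := fun q => act q.out ⟨z, hz⟩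
  have hf : ∀ a b : G, (a : G ⧸ (S : Subgroup G)) = b → a * z * a⁻¹ = b * z * b⁻¹ := by
    intro a b h
    have hm := QuotientGroup.eq.1 h
    calc a * z * a⁻¹ = a * ((z * (a⁻¹ * b)) * (a⁻¹ * b)⁻¹) * a⁻¹ := by group
      _ = a * (((a⁻¹ * b) * z) * (a⁻¹ * b)⁻¹) * a⁻¹ := by rw [hS _ hm]
      _ = b * z * b⁻¹ := by group
  have hfg : ∀ (g : G) (q : G ⧸ (S : Subgroup G)), act g (f q) = f (g • q) := by
    intro g q
    refine Subtype.ext ?_
    show g * (q.out * z * q.out⁻¹) * g⁻¹ = (g • q).out * z * (g • q).out⁻¹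
    rw [show g * (q.out * z * q.out⁻¹) * g⁻¹ = (g * q.out) * z * (g * q.out)⁻¹ by group]
    refine hf _ _ ?_
    rw [QuotientGroup.out_eq', ← smul_eq_mul, ← MulAction.Quotient.smul_coe,
      QuotientGroup.out_eq']
  let c : V := ∏ q, f q
  have hact : ∀ g : G, act g c = c := by
    intro g
    let φ : V →* V := MonoidHom.mk' (act g) fun a b => Subtype.ext (by
      show g * ((a : G) * b) * g⁻¹ = g * a * g⁻¹ * (g * b * g⁻¹)
      group)
    calc act g c = ∏ q, φ (f q) := map_prod φ f Finset.univ
      _ = ∏ q, f (g • q) := Finset.prod_congr rfl fun q _ => hfg g q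
      _ = c := Equiv.prod_comp (MulAction.toPerm g) f
  refine ⟨(c : G), ⟨c.2, mem_center_iff.2 fun g => ?_⟩, (S : Subgroup G).index, ?_, ?_⟩
  · have := congrArg Subtype.val (hact g)
    exact mul_inv_eq_iff_eq_mul.1 this
  · exact ((Fact.out : p.Prime).coprime_iff_not_dvd.2 S.not_dvd_index).symm
  · let π : V →* G ⧸ W := (QuotientGroup.mk' W).comp V.subtype
    have hπ : ∀ q, π (f q) = QuotientGroup.mk' W z := fun q => by
      refine (QuotientGroup.eq.2 ?_)
      show (q.out * z * q.out⁻¹)⁻¹ * z ∈ W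
      rw [show (q.out * z * q.out⁻¹)⁻¹ * z = z⁻¹ * ⁅z, q.out⁆ * z by
        simp only [commutatorElement_def]; group]
      simpa using hWn.conj_mem _ (hcom q.out) z⁻¹
    refine (QuotientGroup.eq_one_iff _).1 ?_
    rw [QuotientGroup.mk_mul, QuotientGroup.mk_inv, inv_mul_eq_one]
    have key : ∀ t : Finset (G ⧸ (S : Subgroup G)),
        π (∏ q ∈ t, f q) = (QuotientGroup.mk' W z) ^ t.card := by
      intro t
      induction t using Finset.cons_induction with
      | empty => simp
      | cons a t ha ih =>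
          rw [Finset.prod_cons, map_mul, hπ, ih, Finset.card_cons, pow_succ']
    calc ((c : G) : G ⧸ W) = π c := rfl
      _ = _ := key Finset.univ
      _ = _ := by
          rw [Finset.card_univ, QuotientGroup.mk'_apply, ← QuotientGroup.mk_pow, Subgroup.index,
            Nat.card_eq_fintype_card]

/-- The structure of the largest reduced subgroup. -/
theorem largest_structure (hchar : centralizer (Cfsg.pCore p G : Set G) ≤ Cfsg.pCore p G)
    (T : Sylow p G) {Y TL : Subgroup G} (hY : Y = Cfsg.largestPReduced p G)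
    (hTL : TL = (T : Subgroup G) ⊓ centralizer (Y : Set G)) :
    (∀ g : G, ∃ a ∈ normalizer (TL : Set G), ∃ c ∈ centralizer (Y : Set G), g = a * c) ∧
      (Cfsg.pCore p ↥(normalizer (TL : Set G))).map (normalizer (TL : Set G)).subtype = TL ∧
      Y = Cfsg.omegaOne p (TL ⊓ centralizer (TL : Set G)) := by
  have hYr : Cfsg.IsPReducedNormal p Y := hY ▸ largestPReduced_spec
  haveI := hYr.1
  haveI hCn : (centralizer (Y : Set G)).Normal := Subgroup.normal_centralizer
  set C := centralizer (Y : Set G) with hC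
  set N := normalizer (TL : Set G) with hN
  obtain ⟨R, hR⟩ := sylow_inf_normal T C
  rw [← hTL] at hR
  have hfr : N ⊔ C = ⊤ := by
    have := R.normalizer_sup_eq_top
    rwa [hR] at this
  have h1 : ∀ g : G, ∃ a ∈ N, ∃ c ∈ C, g = a * c := by
    intro g
    have hg : g ∈ N ⊔ C := hfr ▸ mem_top g
    rw [← SetLike.mem_coe, Subgroup.mul_normal] at hg
    obtain ⟨a, ha, c, hc, e⟩ := hg
    exact ⟨a, ha, c, hc, e.symm⟩
  have hTN : (T : Subgroup G) ≤ N := by
    refine le_normalizer_iff.2 fun t ht x hx => ?_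
    rw [hTL] at hx ⊢
    exact mem_inf.2 ⟨mul_mem (mul_mem ht hx.1) (inv_mem ht), hCn.conj_mem x hx.2 t⟩
  have hTLp : IsPGroup p TL := T.2.to_le (hTL.le.trans inf_le_left)
  have hTLN : TL ≤ N := le_normalizer
  have hTLC : TL ≤ C := hTL.le.trans inf_le_right
  refine ⟨h1, le_antisymm ?_ ?_, ?_⟩
  · set P := (Cfsg.pCore p N).map N.subtype with hP
    have hPp : IsPGroup p P := (CfsgLib.Coprime.pCore_isPGroup p).map _
    haveI := CfsgLib.Coprime.pCore_normal' (G := N) p
    have hPN : P ≤ N := map_subtype_le _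
    have hNP : N ≤ normalizer (P : Set G) := by
      refine le_normalizer_iff.2 fun a ha x hx => ?_
      obtain ⟨y, hy, rfl⟩ := hx
      exact ⟨⟨a, ha⟩ * y * ⟨a, ha⟩⁻¹,
        (inferInstance : (Cfsg.pCore p N).Normal).conj_mem y hy _, rfl⟩
    haveI : (P ⊔ C).Normal := by
      rw [← normalizer_eq_top_iff, eq_top_iff, ← hfr]
      exact sup_le (CfsgLib.Coprime.sup_le_normalizer hNP (le_top.trans (normalizer_eq_top_iff.2 inferInstance).ge))
        (le_sup_right.trans le_normalizer)
    have hPC : P ⊔ C ≤ C := (isPReducedNormal_iff.1 hYr).2.2 _ inferInstance fun x hx => by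
      rw [← SetLike.mem_coe, Subgroup.mul_normal] at hx
      obtain ⟨a, ha, c, hc, rfl⟩ := hx
      obtain ⟨k, hk⟩ := hPp ⟨a, ha⟩
      refine ⟨k, (QuotientGroup.eq_one_iff _).1 ?_⟩
      rw [QuotientGroup.mk_pow, QuotientGroup.mk_mul, (QuotientGroup.eq_one_iff c).2 hc, mul_one,
        ← QuotientGroup.mk_pow, show a ^ p ^ k = 1 from congrArg Subtype.val hk,
        QuotientGroup.mk_one]
    have hPleC : P ≤ C := le_sup_left.trans hPC
    have hsp : IsPGroup p (TL ⊔ P : Subgroup G) :=
      hTLp.to_sup_of_normal_left' hPp hPN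
    have hle : (R : Subgroup C) ≤ (TL ⊔ P).subgroupOf C := fun x hx =>
      mem_subgroupOf.2 (mem_sup_left (hR.le (mem_map_of_mem C.subtype hx)))
    have he := R.3 (hsp.comap_subtype) hle
    intro x hx
    exact hR.le ⟨⟨x, hPleC hx⟩, he.le (mem_subgroupOf.2 (mem_sup_right hx)), rfl⟩
  · intro x hx
    haveI : (TL.subgroupOf N).Normal := (normal_subgroupOf_iff_le_normalizer hTLN).2 le_rfl
    exact ⟨⟨x, hTLN hx⟩,
      CfsgLib.Coprime.le_pCore (hTLp.of_equiv (subgroupOfEquivOfLe hTLN).symm) hx, rfl⟩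
  · have hYT : Y ≤ TL := hTL ▸ le_inf
      ((reduced_le_pCore hYr).trans (CfsgLib.PGroup.pCore_le_sylow T))
      (le_centralizer_self_of_ea hYr.2.1)
    refine le_antisymm (le_omegaOne_center hYr.2.1 hYT (le_centralizer_iff.1 hTLC)) ?_
    set Z₀ := Cfsg.omegaOne p (TL ⊓ centralizer (TL : Set G)) with hZ₀
    have hYZ : Y ≤ Z₀ := le_omegaOne_center hYr.2.1 hYT (le_centralizer_iff.1 hTLC)
    have hZT : Z₀ ≤ TL := (omegaOne_le_self _).trans inf_le_left
    have hTZ : TL ≤ centralizer (Z₀ : Set G) :=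
      le_centralizer_iff.1 ((omegaOne_le_self _).trans inf_le_right)
    have hNZ : N ≤ normalizer (Z₀ : Set G) := by
      refine le_normalizer_iff.2 fun a ha x hx => ?_
      have := mem_map_of_mem (MulAut.conj a).toMonoidHom hx
      rw [map_omegaOne_center (MulAut.conj a).injective] at this
      have e : TL.map (MulAut.conj a).toMonoidHom = TL := CfsgLib.Coprime.conjBy_eq_self_iff.2 ha
      rw [e] at this
      exact this
    have hred : Cfsg.IsPReducedNormal p (Z₀.subgroupOf N) := by
      refine isPReducedNormal_iff.2 ⟨(normal_subgroupOf_iff_le_normalizer (hZT.trans hTLN)).2 hNZ,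
        isElementaryAbelian_subgroupOf (hZT.trans hTLN) (omegaOne_center_ea _), fun X hX h => ?_⟩
      rw [centralizer_subgroupOf' (hZT.trans hTLN)] at h ⊢
      haveI := hX
      set X' := X.map N.subtype with hX'
      have hXN : N ≤ normalizer (X' : Set G) := by
        refine le_normalizer_iff.2 fun a ha x hx => ?_
        obtain ⟨y, hy, rfl⟩ := hx
        exact ⟨⟨a, ha⟩ * y * ⟨a, ha⟩⁻¹, hX.conj_mem y hy _, rfl⟩
      haveI : (X' ⊔ C).Normal := by
        rw [← normalizer_eq_top_iff, eq_top_iff, ← hfr]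
        exact sup_le (CfsgLib.Coprime.sup_le_normalizer hXN (le_top.trans (normalizer_eq_top_iff.2 inferInstance).ge))
          (le_sup_right.trans le_normalizer)
      have hXC : X' ⊔ C ≤ C := (isPReducedNormal_iff.1 hYr).2.2 _ inferInstance fun x hx => by
        rw [← SetLike.mem_coe, Subgroup.mul_normal] at hx
        obtain ⟨_, ⟨w, hw, rfl⟩, c, hc, rfl⟩ := hx
        obtain ⟨k, hk⟩ := h w hw
        have hk' : (N.subtype w) ^ p ^ k ∈ C :=
          Subgroup.centralizer_le (SetLike.coe_subset_coe.2 hYZ) (by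
            rw [← map_pow]; exact hk)
        refine ⟨k, (QuotientGroup.eq_one_iff _).1 ?_⟩
        rw [QuotientGroup.mk_pow, QuotientGroup.mk_mul, (QuotientGroup.eq_one_iff c).2 hc, mul_one,
          ← QuotientGroup.mk_pow, (QuotientGroup.eq_one_iff _).2 hk']
      obtain ⟨RX, hRX⟩ := sylow_inf_normal (T.subtype hTN) X
      intro x hx
      refine le_of_sylow_le (D := (centralizer (Z₀ : Set G)).subgroupOf N) RX ?_ h hx
      rw [hRX]
      intro y hy
      refine mem_subgroupOf.2 (hTZ (hTL.ge ⟨hy.1, ?_⟩))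
      exact (le_sup_left.trans hXC) (mem_map_of_mem N.subtype hy.2)
    have := le_largestPReduced (normalClosure_reduced hchar T hTN hred)
    rw [map_subgroupOf_eq_of_le (hZT.trans hTLN), ← hY] at this
    exact Subgroup.le_normalClosure.trans this

end CfsgLib.LS
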