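import Cfsg.Agent.Lib.Qd.Elementary
import Cfsg.Agent.Lib.Coprime.Core
import Cfsg.Prelude.Def_LocalEven
import Cfsg.Prelude.Def_PLocal
import Mathlib.LinearAlgebra.Matrix.Charpoly.Coeff
import Mathlib.Algebra.CharP.Lemmas
import Mathlib.Tactic

/-!
# The group `Qd` over a field: coordinates and the `p`-core
-/

set_option autoImplicit false
set_option linter.style.haveILetI false
set_option linter.unusedSectionVars false

open Matrix
open CfsgLib.Qd (up lo det2 ext2 mul00 mul01 mul10 mul11 inv_entries)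

namespace CfsgLib.LS.QdF

variable {F : Type*} [Field F]

/-- The affine matrix with linear part `A` and translation `w`. -/
def aff (A : Matrix.SpecialLinearGroup (Fin 2) F) (w : Fin 2 → F) :
    Matrix.SpecialLinearGroup (Fin 3) F :=
  ⟨!![A.1 0 0, A.1 0 1, w 0; A.1 1 0, A.1 1 1, w 1; 0, 0, 1], by
    have h := det2 A
    simp [Matrix.det_fin_three]
    linear_combination h⟩

theorem aff_coe (A : Matrix.SpecialLinearGroup (Fin 2) F) (w : Fin 2 → F) :
    (aff A w).1 = !![A.1 0 0, A.1 0 1, w 0; A.1 1 0, A.1 1 1, w 1; 0, 0, 1] := rfl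

theorem aff_mul (A B : Matrix.SpecialLinearGroup (Fin 2) F) (w v : Fin 2 → F) :
    aff A w * aff B v = aff (A * B) (w + A.1 *ᵥ v) := by
  apply Subtype.ext
  rw [Matrix.SpecialLinearGroup.coe_mul]
  show !![_, _, _; _, _, _; _, _, _] * !![_, _, _; _, _, _; _, _, _] = !![_, _, _; _, _, _; _, _, _]
  ext i j
  fin_cases i <;> fin_cases j <;>
    simp [Matrix.mul_apply, Fin.sum_univ_two, Fin.sum_univ_three, Matrix.mulVec, dotProduct,
      add_comm]

theorem aff_inj {A B : Matrix.SpecialLinearGroup (Fin 2) F} {w v : Fin 2 → F}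
    (h : aff A w = aff B v) : A = B ∧ w = v := by
  have h' := fun i j => congrArg (fun M : Matrix.SpecialLinearGroup (Fin 3) F => M.1 i j) h
  simp only [aff_coe] at h'
  refine ⟨ext2 (by simpa using h' 0 0) (by simpa using h' 0 1) (by simpa using h' 1 0)
    (by simpa using h' 1 1), ?_⟩
  funext i
  fin_cases i
  · simpa using h' 0 2
  · simpa using h' 1 2

theorem aff_one : aff (1 : Matrix.SpecialLinearGroup (Fin 2) F) 0 = 1 := by
  refine Subtype.ext ?_
  rw [aff_coe]
  ext i j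
  fin_cases i <;> fin_cases j <;> simp

theorem mem_qdOver_iff (M : Matrix.SpecialLinearGroup (Fin 3) F) :
    M ∈ Cfsg.qdOver F ↔ ∃ A w, M = aff A w := by
  refine ⟨fun h => ?_, ?_⟩
  · induction h using Subgroup.closure_induction with
    | mem x hx =>
      obtain ⟨h0, h1, h2⟩ := hx
      have hd : x.1 0 0 * x.1 1 1 - x.1 0 1 * x.1 1 0 = 1 := by
        have h := x.2
        rw [Matrix.det_fin_three, h0, h1, h2] at h
        linear_combination h
      refine ⟨⟨!![x.1 0 0, x.1 0 1; x.1 1 0, x.1 1 1], by simpa [Matrix.det_fin_two] using hd⟩,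
        ![x.1 0 2, x.1 1 2], Subtype.ext ?_⟩
      show x.1 = !![x.1 0 0, x.1 0 1, x.1 0 2; x.1 1 0, x.1 1 1, x.1 1 2; 0, 0, 1]
      ext i j
      fin_cases i <;> fin_cases j <;> simp [h0, h1, h2]
    | one => exact ⟨1, 0, aff_one.symm⟩
    | mul x y _ _ hx hy =>
      obtain ⟨A, w, rfl⟩ := hx
      obtain ⟨B, v, rfl⟩ := hy
      exact ⟨_, _, aff_mul A B w v⟩
    | inv x _ hx =>
      obtain ⟨A, w, rfl⟩ := hx
      refine ⟨A⁻¹, -((A⁻¹).1 *ᵥ w), inv_eq_of_mul_eq_one_right ?_⟩
      rw [aff_mul, mul_inv_cancel, Matrix.mulVec_neg, Matrix.mulVec_mulVec,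
        ← Matrix.SpecialLinearGroup.coe_mul, mul_inv_cancel, Matrix.SpecialLinearGroup.coe_one,
        Matrix.one_mulVec, add_neg_cancel, aff_one]
  · rintro ⟨A, w, rfl⟩
    exact Subgroup.subset_closure (show _ ∧ _ ∧ _ by simp [aff_coe])

/-- The element of `Qd` with linear part `A` and translation `w`. -/
def el (A : Matrix.SpecialLinearGroup (Fin 2) F) (w : Fin 2 → F) : Cfsg.qdOver F :=
  ⟨aff A w, (mem_qdOver_iff _).2 ⟨A, w, rfl⟩⟩

theorem el_mul (A B : Matrix.SpecialLinearGroup (Fin 2) F) (w v : Fin 2 → F) :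
    el A w * el B v = el (A * B) (w + A.1 *ᵥ v) := Subtype.ext (aff_mul A B w v)

theorem el_inj {A B : Matrix.SpecialLinearGroup (Fin 2) F} {w v : Fin 2 → F}
    (h : el A w = el B v) : A = B ∧ w = v := aff_inj (congrArg Subtype.val h)

theorem el_one : el (1 : Matrix.SpecialLinearGroup (Fin 2) F) 0 = 1 := Subtype.ext aff_one

theorem exists_el (x : Cfsg.qdOver F) : ∃ A w, x = el A w := by
  obtain ⟨A, w, h⟩ := (mem_qdOver_iff _).1 x.2
  exact ⟨A, w, Subtype.ext h⟩

/-- Coordinates on `Qd`. -/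
noncomputable def elEquiv :
    Matrix.SpecialLinearGroup (Fin 2) F × (Fin 2 → F) ≃ Cfsg.qdOver F :=
  Equiv.ofBijective (fun x => el x.1 x.2)
    ⟨fun _ _ h => Prod.ext (el_inj h).1 (el_inj h).2, fun x => by
      obtain ⟨A, w, h⟩ := exists_el x
      exact ⟨(A, w), h.symm⟩⟩

/-- The translation part. -/
noncomputable def co (x : Cfsg.qdOver F) : Fin 2 → F := (elEquiv.symm x).2

theorem co_el (A : Matrix.SpecialLinearGroup (Fin 2) F) (w : Fin 2 → F) : co (el A w) = w :=
  congrArg Prod.snd (elEquiv.symm_apply_apply (A, w))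

/-- The linear part. -/
noncomputable def lin : Cfsg.qdOver F →* Matrix.SpecialLinearGroup (Fin 2) F :=
  MonoidHom.mk' (fun x => (elEquiv.symm x).1) fun x y => by
    obtain ⟨A, w, rfl⟩ := exists_el x
    obtain ⟨B, v, rfl⟩ := exists_el y
    rw [el_mul]
    have key : ∀ (C : Matrix.SpecialLinearGroup (Fin 2) F) (u : Fin 2 → F),
        (elEquiv.symm (el C u)).1 = C :=
      fun C u => congrArg Prod.fst (elEquiv.symm_apply_apply (C, u))
    rw [key, key, key]

theorem lin_el (A : Matrix.SpecialLinearGroup (Fin 2) F) (w : Fin 2 → F) : lin (el A w) = A :=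
  congrArg Prod.fst (elEquiv.symm_apply_apply (A, w))

theorem el_lin_co (x : Cfsg.qdOver F) : el (lin x) (co x) = x := elEquiv.apply_symm_apply x

theorem lin_surjective : Function.Surjective (lin (F := F)) := fun A => ⟨el A 0, lin_el A 0⟩

theorem mem_transl_iff {x : Cfsg.qdOver F} : x ∈ (lin (F := F)).ker ↔ ∃ w, x = el 1 w := by
  constructor
  · intro h
    exact ⟨co x, by rw [← (MonoidHom.mem_ker.1 h), el_lin_co]⟩
  · rintro ⟨w, rfl⟩
    exact lin_el 1 w

theorem el_pow_transl (w : Fin 2 → F) (n : ℕ) :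
    el (1 : Matrix.SpecialLinearGroup (Fin 2) F) w ^ n = el 1 (n • w) := by
  induction n with
  | zero => rw [pow_zero, zero_smul, el_one]
  | succ n ih =>
    rw [pow_succ, ih, el_mul, Matrix.SpecialLinearGroup.coe_one, Matrix.one_mulVec, mul_one,
      succ_nsmul]

theorem transl_isPGroup {p : ℕ} [CharP F p] : IsPGroup p (lin (F := F)).ker := by
  rintro ⟨x, hx⟩
  refine ⟨1, Subtype.ext ?_⟩
  obtain ⟨w, rfl⟩ := mem_transl_iff.1 hx
  show el 1 w ^ p ^ 1 = 1
  rw [pow_one, el_pow_transl, ← el_one]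
  congr 1
  funext i
  simp

/-- Elements of `p`-power order of `SL₂` have trace `2`. -/
theorem trace_of_pow_prime_pow {p : ℕ} [Fact p.Prime] [CharP F p]
    {g : Matrix.SpecialLinearGroup (Fin 2) F} {n : ℕ} (h : g ^ p ^ n = 1) :
    g.1 0 0 + g.1 1 1 = 2 := by
  have hn : IsNilpotent (g.1 - 1) := by
    refine ⟨p ^ n, ?_⟩
    rw [sub_pow_char_pow_of_commute (p := p) (h := Commute.one_right g.1), one_pow, ← Matrix.SpecialLinearGroup.coe_pow, h,
      Matrix.SpecialLinearGroup.coe_one, sub_self]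
  have h2 := (Matrix.isNilpotent_trace_of_isNilpotent hn).eq_zero
  rw [Matrix.trace_sub, Matrix.trace_one, Fintype.card_fin, Matrix.trace_fin_two] at h2
  simpa [sub_eq_zero] using h2

theorem sl2_normal_pgroup_eq_bot {p : ℕ} [Fact p.Prime] [CharP F p]
    (R : Subgroup (Matrix.SpecialLinearGroup (Fin 2) F)) [R.Normal] (hR : IsPGroup p R) :
    R = ⊥ := by
  rw [eq_bot_iff]
  intro g hg
  have htr : ∀ x ∈ R, x.1 0 0 + x.1 1 1 = 2 := fun x hx => by
    obtain ⟨n, hn⟩ := hR ⟨x, hx⟩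
    exact trace_of_pow_prime_pow (congrArg Subtype.val hn)
  let w : Matrix.SpecialLinearGroup (Fin 2) F := ⟨!![0, 1; -1, 0], by simp [Matrix.det_fin_two]⟩
  have hbc : ∀ x ∈ R, x.1 0 1 = x.1 1 0 := by
    intro x hx
    have h1 := htr _ hx
    have h2 := htr _ (mul_mem hx ((inferInstance : R.Normal).conj_mem x hx w))
    have hd := det2 x
    obtain ⟨w0, w1, w2, w3⟩ := inv_entries w
    simp only [mul00, mul01, mul10, mul11, w0, w1, w2, w3] at h2
    simp [w] at h2
    have h3 : (x.1 0 1 - x.1 1 0) ^ 2 = 0 := by linear_combination -h2 + 2 * hd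
    exact sub_eq_zero.1 (pow_eq_zero_iff two_ne_zero |>.1 h3)
  have hb := hbc g hg
  have ht := htr g hg
  have hd := det2 g
  have h1 := hbc _ ((inferInstance : R.Normal).conj_mem g hg (up 1))
  have h2 := hbc _ ((inferInstance : R.Normal).conj_mem g hg (up (-1)))
  obtain ⟨u0, u1, u2, u3⟩ := inv_entries (up (1 : F))
  obtain ⟨v0, v1, v2, v3⟩ := inv_entries (up (-1 : F))
  simp only [mul00, mul01, mul10, mul11, u0, u1, u2, u3] at h1
  simp only [mul00, mul01, mul10, mul11, v0, v1, v2, v3] at h2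
  simp [up] at h1 h2
  have hc : g.1 1 0 = 0 := by
    by_cases h20 : (2 : F) = 0
    · linear_combination hb - h1 + ht + (1 - g.1 0 0) * h20
    · refine (mul_eq_zero.1 (?_ : (2 : F) * g.1 1 0 = 0)).resolve_left (fun h => ?_)
      · linear_combination 2 * hb - h1 - h2
      · exact h20 h
  have hb0 : g.1 0 1 = 0 := hb.trans hc
  have ha : g.1 0 0 = 1 := by
    have h3 : (g.1 0 0 - 1) ^ 2 = 0 := by
      linear_combination g.1 0 0 * ht - hd - g.1 0 1 * hc
    exact sub_eq_zero.1 (pow_eq_zero_iff two_ne_zero |>.1 h3)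
  have hd1 : g.1 1 1 = 1 := by linear_combination ht - ha
  refine Subgroup.mem_bot.2 (ext2 ?_ ?_ ?_ ?_) <;> simp [ha, hb0, hc, hd1]

theorem pCore_qdOver {p : ℕ} [Fact p.Prime] [CharP F p] :
    Cfsg.pCore p (Cfsg.qdOver F) = (lin (F := F)).ker := by
  refine le_antisymm (sSup_le ?_) (CfsgLib.Coprime.le_pCore transl_isPGroup)
  rintro R ⟨hRn, hR⟩
  haveI : (R.map (lin (F := F))).Normal := hRn.map _ lin_surjective
  exact ((Subgroup.map_eq_bot_iff R).1 (sl2_normal_pgroup_eq_bot _ (hR.map _)))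

end CfsgLib.LS.QdF
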