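import Cfsg.Agent.Lib.LocalStructure.QdBasic
import Cfsg.Agent.Lib.Classical.SL2Sylow
import Mathlib.FieldTheory.Finite.Basic

/-!
# The group `Qd(p)`: a Sylow subgroup and its automorphism
-/

set_option autoImplicit false
set_option linter.style.haveILetI false
set_option linter.unusedSectionVars false

open Matrix
open CfsgLib.Qd (up lo det2 ext2 mul00 mul01 mul10 mul11 inv_entries)

namespace CfsgLib.LS.QdF

variable {p : ℕ} [Fact p.Prime]

local notation "S2p" => Matrix.SpecialLinearGroup (Fin 2) (ZMod p)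

/-- The upper unitriangular elements. -/
def upSub (p : ℕ) : Subgroup S2p where
  carrier := {g | ∃ a, g = up a}
  one_mem' := ⟨0, CfsgLib.Qd.ext2 (by simp) (by simp) (by simp) (by simp)⟩
  mul_mem' := fun {g h} ⟨a, ha⟩ ⟨b, hb⟩ => ⟨a + b, by rw [ha, hb, CfsgLib.Qd.up_mul]⟩
  inv_mem' := fun {g} ⟨a, ha⟩ => ⟨-a, by rw [ha, CfsgLib.Qd.up_inv]⟩

/-- The standard Sylow subgroup of `Qd(p)`. -/
noncomputable def P0 (p : ℕ) [Fact p.Prime] : Subgroup (Cfsg.qdOver (ZMod p)) :=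
  (upSub p).comap (lin (F := ZMod p))

theorem mem_P0_iff {x : Cfsg.qdOver (ZMod p)} : x ∈ P0 p ↔ ∃ a w, x = el (up a) w := by
  constructor
  · rintro ⟨a, ha⟩
    exact ⟨a, co x, ((congrArg (fun A => el A (co x)) ha).symm.trans (el_lin_co x)).symm⟩
  · rintro ⟨a, w, rfl⟩
    exact ⟨a, lin_el _ w⟩

theorem el_mem_P0 (a : ZMod p) (w : Fin 2 → ZMod p) : el (up a) w ∈ P0 p :=
  mem_P0_iff.2 ⟨a, w, rfl⟩

/-- Coordinates on the standard Sylow subgroup. -/
noncomputable def p0Equiv : ZMod p × (Fin 2 → ZMod p) ≃ P0 p :=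
  Equiv.ofBijective (fun x => ⟨el (up x.1) x.2, el_mem_P0 _ _⟩)
    ⟨fun _ _ h => Prod.ext (CfsgLib.Qd.up_injective (el_inj (congrArg Subtype.val h)).1)
      (el_inj (congrArg Subtype.val h)).2, fun x => by
      obtain ⟨a, w, h⟩ := mem_P0_iff.1 x.2
      exact ⟨(a, w), Subtype.ext h.symm⟩⟩

theorem card_P0 : Nat.card (P0 p) = p ^ 3 := by
  rw [← Nat.card_congr (p0Equiv (p := p)), Nat.card_prod, Nat.card_fun, Nat.card_zmod,
    Nat.card_eq_fintype_card, Fintype.card_fin]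
  ring

theorem P0_isPGroup : IsPGroup p (P0 p) := IsPGroup.of_card card_P0

theorem card_qd : Nat.card (Cfsg.qdOver (ZMod p)) = p * ((p - 1) * (p + 1)) * p ^ 2 := by
  have h := Nat.card_congr (elEquiv (F := ZMod p))
  rw [Nat.card_prod, Nat.card_fun, Nat.card_zmod, Nat.card_eq_fintype_card (α := Fin 2),
    Fintype.card_fin, CfsgLib.Classical.card_sl2, ZMod.card] at h
  exact h.symm

theorem P0_not_dvd_index : ¬ p ∣ (P0 p).index := by
  have hp : p.Prime := Fact.out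
  have h := (P0 p).card_mul_index
  rw [card_qd, card_P0] at h
  have h1 : (P0 p).index = (p - 1) * (p + 1) :=
    Nat.eq_of_mul_eq_mul_left (pow_pos hp.pos 3) (h.trans (by ring))
  rw [h1]
  intro hd
  have := hp.two_le
  rcases (Nat.Prime.dvd_mul hp).1 hd with h2 | h2
  · have := Nat.le_of_dvd (by omega) h2
    omega
  · exact hp.ne_one (Nat.dvd_one.1 ((Nat.dvd_add_right dvd_rfl).1 h2))

/-- The standard Sylow subgroup, as a Sylow subgroup. -/
noncomputable def syl0 (p : ℕ) [Fact p.Prime] : Sylow p (Cfsg.qdOver (ZMod p)) :=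
  P0_isPGroup.toSylow P0_not_dvd_index

theorem el_up_mul (a b : ZMod p) (w v : Fin 2 → ZMod p) :
    el (up a) w * el (up b) v = el (up (a + b)) ![w 0 + v 0 + a * v 1, w 1 + v 1] := by
  rw [el_mul, CfsgLib.Qd.up_mul]
  congr 1
  funext i
  fin_cases i <;> simp [Matrix.mulVec, dotProduct, Fin.sum_univ_two] <;> ring

theorem el_up_pow (a : ZMod p) (w : Fin 2 → ZMod p) (n : ℕ) :
    el (up a) w ^ n =
      el (up ((n : ZMod p) * a))
        ![(n : ZMod p) * w 0 + ((n.choose 2 : ℕ) : ZMod p) * (a * w 1), (n : ZMod p) * w 1] := by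
  induction n with
  | zero =>
    have h0 : (up (0 : ZMod p)) = 1 := CfsgLib.Qd.ext2 (by simp) (by simp) (by simp) (by simp)
    rw [pow_zero, Nat.cast_zero, zero_mul, h0, ← el_one]
    congr 1
    funext i
    fin_cases i <;> simp
  | succ n ih =>
    rw [pow_succ, ih, el_up_mul, Nat.choose_succ_succ, Nat.choose_one_right]
    push_cast
    congr 1
    · congr 1
      ring
    · funext i
      fin_cases i <;> simp <;> ring

/-- The image of an element under the exchanging automorphism. -/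
theorem exists_swap :
    ∃ φ : P0 p ≃* P0 p, ∀ (a : ZMod p) (w : Fin 2 → ZMod p),
      (φ ⟨el (up a) w, el_mem_P0 a w⟩ : Cfsg.qdOver (ZMod p)) = el (up (-w 1)) ![a * w 1 - w 0, -a] := by
  let f : ZMod p × (Fin 2 → ZMod p) → ZMod p × (Fin 2 → ZMod p) :=
    fun x => (-x.2 1, ![x.1 * x.2 1 - x.2 0, -x.1])
  have hf : ∀ x, f (f x) = x := fun x => by
    refine Prod.ext (by simp [f]) ?_
    funext i
    fin_cases i <;> simp [f] <;> ring
  let e : P0 p ≃ P0 p :=
    (p0Equiv.symm.trans ⟨f, f, hf, hf⟩).trans p0Equiv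
  have he : ∀ a w, e ⟨el (up a) w, el_mem_P0 a w⟩ = p0Equiv (f (a, w)) := fun a w => by
    show p0Equiv (f (p0Equiv.symm (p0Equiv (a, w)))) = _
    rw [Equiv.symm_apply_apply]
  refine ⟨{ e with map_mul' := fun x y => ?_ }, fun a w => congrArg Subtype.val (he a w)⟩
  obtain ⟨⟨a, w⟩, rfl⟩ := p0Equiv.surjective x
  obtain ⟨⟨b, v⟩, rfl⟩ := p0Equiv.surjective y
  have hmul : ∀ a b w v, (p0Equiv (a, w) * p0Equiv (b, v) : P0 p) =
      p0Equiv (a + b, ![w 0 + v 0 + a * v 1, w 1 + v 1]) :=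
    fun a b w v => Subtype.ext (el_up_mul a b w v)
  show e (p0Equiv (a, w) * p0Equiv (b, v)) = e (p0Equiv (a, w)) * e (p0Equiv (b, v))
  have he' : ∀ z, e (p0Equiv z) = p0Equiv (f z) := fun z => he z.1 z.2
  rw [hmul, he', he', he']
  show p0Equiv _ = p0Equiv (_, _) * p0Equiv (_, _)
  rw [hmul]
  congr 1
  refine Prod.ext (by simp [f]; ring) ?_
  funext i
  fin_cases i <;> simp [f] <;> ring

theorem up_lo_up {g : S2p} (hc : g.1 1 0 ≠ 0) :
    g = up ((g.1 0 0 - 1) / g.1 1 0) * lo (g.1 1 0) * up ((g.1 1 1 - 1) / g.1 1 0) := by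
  have hd := det2 g
  refine ext2 ?_ ?_ ?_ ?_ <;> simp [mul00, mul01, mul10, mul11] <;> field_simp <;> try ring
  linear_combination -hd

/-- A subgroup containing the Sylow subgroup and an element outside its normalizer is everything. -/
theorem eq_top_of_not_le_normalizer {H : Subgroup (Cfsg.qdOver (ZMod p))} (hP : P0 p ≤ H)
    (h : ¬ H ≤ Subgroup.normalizer (P0 p : Set (Cfsg.qdOver (ZMod p)))) : H = ⊤ := by
  obtain ⟨x, hx, hxN⟩ := SetLike.not_le_iff_exists.1 h
  have hup : ∀ a, up a ∈ H.map (lin (F := ZMod p)) := fun a =>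
    ⟨el (up a) 0, hP (el_mem_P0 a 0), lin_el _ _⟩
  have hker : (lin (F := ZMod p)).ker ≤ H := fun y hy => by
    obtain ⟨w, rfl⟩ := mem_transl_iff.1 hy
    exact hP (mem_P0_iff.2 ⟨0, w, congrArg (fun A => el A w)
      (CfsgLib.Qd.ext2 (by simp) (by simp) (by simp) (by simp))⟩)
  have hc : (lin x).1 1 0 ≠ 0 := by
    intro hc
    refine hxN (Subgroup.mem_normalizer_iff.2 fun y => ?_)
    have key : ∀ z : Cfsg.qdOver (ZMod p), (lin z).1 1 0 = 0 → ∀ u ∈ P0 p, z * u * z⁻¹ ∈ P0 p := by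
      rintro z hz u ⟨a, ha⟩
      refine ⟨(lin z).1 0 0 ^ 2 * a, ?_⟩
      obtain ⟨h0, h1, h2, h3⟩ := CfsgLib.Qd.conj_up (lin z) a
      rw [map_mul, map_mul, map_inv, ha]
      refine ext2 ?_ ?_ ?_ ?_
      · rw [h0]; simp [hz]
      · rw [h1]; simp
      · rw [h2]; simp [hz]
      · rw [h3]; simp [hz]
    refine ⟨key x hc y, fun hy => ?_⟩
    have := key x⁻¹ (by rw [map_inv, (inv_entries (lin x)).2.2.1, hc, neg_zero]) _ hy
    simpa [mul_assoc] using this
  have hlo : ∀ e, lo e ∈ H.map (lin (F := ZMod p)) := by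
    intro e
    have hg : lin x ∈ H.map (lin (F := ZMod p)) := ⟨x, hx, rfl⟩
    rw [up_lo_up hc] at hg
    have h1 := mul_mem (mul_mem (inv_mem (hup (((lin x).1 0 0 - 1) / (lin x).1 1 0))) hg)
      (inv_mem (hup (((lin x).1 1 1 - 1) / (lin x).1 1 0)))
    rw [show ∀ A B C : S2p, A⁻¹ * (A * B * C) * C⁻¹ = B from fun A B C => by group] at h1
    have h2 := pow_mem h1 (e / (lin x).1 1 0).val
    rw [CfsgLib.Qd.lo_pow] at h2
    have h3 : (((e / (lin x).1 1 0).val : ℕ) : ZMod p) * (lin x).1 1 0 = e := by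
      rw [ZMod.natCast_val, ZMod.cast_id, div_mul_cancel₀ _ hc]
    exact h3 ▸ h2
  have htop : H.map (lin (F := ZMod p)) = ⊤ := by
    rw [eq_top_iff]
    intro g _
    by_cases hg : g.1 1 0 = 0
    · have h' : (g * lo 1).1 1 0 ≠ 0 := by
        rw [mul10]
        simp only [CfsgLib.Qd.lo_coe, hg]
        simp
        intro hz
        have hd := det2 g
        rw [hg, hz] at hd
        simp at hd
      have hm : g * lo 1 ∈ H.map (lin (F := ZMod p)) := by
        rw [up_lo_up h']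
        exact mul_mem (mul_mem (hup _) (hlo _)) (hup _)
      simpa using mul_mem hm (inv_mem (hlo 1))
    · rw [up_lo_up hg]
      exact mul_mem (mul_mem (hup _) (hlo _)) (hup _)
  rw [eq_top_iff]
  intro y _
  obtain ⟨z, hz, he⟩ : lin y ∈ H.map (lin (F := ZMod p)) := htop ▸ Subgroup.mem_top _
  have : y * z⁻¹ ∈ H := hker (by rw [MonoidHom.mem_ker, map_mul, map_inv, he, mul_inv_cancel])
  simpa using mul_mem this hz

/-- A nontrivial normal `p`-subgroup of `Qd(p)` is the translation subgroup. -/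
theorem eq_transl_of_normal {R : Subgroup (Cfsg.qdOver (ZMod p))} [hn : R.Normal] (hR : IsPGroup p R)
    (h1 : R ≠ ⊥) : R = (lin (F := ZMod p)).ker := by
  have hle : R ≤ (lin (F := ZMod p)).ker :=
    (CfsgLib.Coprime.le_pCore hR).trans (pCore_qdOver (F := ZMod p)).le
  refine le_antisymm hle ?_
  obtain ⟨y, hy, hy1⟩ := (Subgroup.ne_bot_iff_exists_ne_one.1 h1) |> fun ⟨y, hy⟩ =>
    (⟨(y : Cfsg.qdOver (ZMod p)), y.2, fun h => hy (Subtype.ext h)⟩ : ∃ z ∈ R, z ≠ 1)
  obtain ⟨w, rfl⟩ := mem_transl_iff.1 (hle hy)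
  have hconj : ∀ (A : S2p) (u : Fin 2 → ZMod p), el 1 u ∈ R → el 1 (A.1 *ᵥ u) ∈ R := by
    intro A u hu
    have := hn.conj_mem _ hu (el A 0)
    rwa [show el A 0 * el 1 u * (el A 0)⁻¹ = el 1 (A.1 *ᵥ u) from by
      rw [mul_inv_eq_iff_eq_mul, el_mul, el_mul]; simp] at this
  have hadd : ∀ u v, el 1 u ∈ R → el 1 v ∈ R → el 1 (u + v) ∈ R := fun u v hu hv => by
    have := mul_mem hu hv
    rwa [el_mul, one_mul, Matrix.SpecialLinearGroup.coe_one, Matrix.one_mulVec] at this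
  have hneg : ∀ u, el 1 u ∈ R → el 1 (-u) ∈ R := fun u hu => by
    have := inv_mem hu
    rwa [show (el 1 u : Cfsg.qdOver (ZMod p))⁻¹ = el 1 (-u) from inv_eq_of_mul_eq_one_right (by
      rw [el_mul, one_mul, Matrix.SpecialLinearGroup.coe_one, Matrix.one_mulVec, add_neg_cancel,
        el_one])] at this
  have hsmul : ∀ (c : ZMod p) u, el 1 u ∈ R → el 1 (c • u) ∈ R := fun c u hu => by
    have := pow_mem hu c.val
    rwa [el_pow_transl, ← Nat.cast_smul_eq_nsmul (ZMod p), ZMod.natCast_val, ZMod.cast_id] at this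
  have hy0 : ∀ x : ZMod p, x ≠ 0 → el 1 ![x, 0] ∈ R → el 1 ![1, 0] ∈ R := fun x hx h => by
    simpa [hx] using hsmul x⁻¹ _ h
  have hswap : el 1 ![1, 0] ∈ R → el 1 ![0, 1] ∈ R := fun h => by
    have h2 := hadd _ _ (hconj (lo 1) _ h) (hneg _ h)
    rwa [show ((lo 1 : S2p).1 *ᵥ ![(1 : ZMod p), 0] + -![1, 0] : Fin 2 → ZMod p) = ![0, 1] from
      funext fun i => by fin_cases i <;> simp [Matrix.mulVec, dotProduct, Fin.sum_univ_two]] at h2
  have he0 : el 1 ![1, 0] ∈ R := by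
    by_cases hw1 : w 1 = 0
    · refine hy0 (w 0) (fun h0 => hy1 ?_) ?_
      · rw [show w = 0 from funext fun i => by fin_cases i <;> simp [h0, hw1], el_one]
      · rwa [show (![w 0, 0] : Fin 2 → ZMod p) = w from
          funext fun i => by fin_cases i <;> simp [hw1]]
    · refine hy0 (w 1) hw1 ?_
      have h2 := hadd _ _ (hconj (up 1) _ hy) (hneg _ hy)
      rwa [show ((up 1 : S2p).1 *ᵥ w + -w : Fin 2 → ZMod p) = ![w 1, 0] from
        funext fun i => by fin_cases i <;> simp [Matrix.mulVec, dotProduct, Fin.sum_univ_two]] at h2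
  intro z hz
  obtain ⟨u, rfl⟩ := mem_transl_iff.1 hz
  have := hadd _ _ (hsmul (u 0) _ he0) (hsmul (u 1) _ (hswap he0))
  rwa [show (u 0 • ![(1 : ZMod p), 0] + u 1 • ![0, 1] : Fin 2 → ZMod p) = u from
    funext fun i => by fin_cases i <;> simp] at this

end CfsgLib.LS.QdF
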