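import Mathlib
import Cfsg.Prelude.Def_LocalEven
import Cfsg.Agent.Lib.Fusion.Sylow

/-!
# Coordinates for a faithful natural `SL₂` module adapted to a Sylow subgroup
-/

set_option autoImplicit false
set_option linter.style.haveILetI false

open Matrix

namespace CfsgLib.LS.NatMod

variable {F : Type*} [Field F]

local notation "SL₂" => Matrix.SpecialLinearGroup (Fin 2) F

theorem coeMul (A B : SL₂) : ((A * B : SL₂) : Matrix (Fin 2) (Fin 2) F) =
    (A : Matrix (Fin 2) (Fin 2) F) * (B : Matrix (Fin 2) (Fin 2) F) := rfl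

theorem coeOne : ((1 : SL₂) : Matrix (Fin 2) (Fin 2) F) = 1 := rfl

/-- The upper unitriangular matrix. -/
def uu (c : F) : SL₂ := ⟨!![1, c; 0, 1], by rw [Matrix.det_fin_two_of]; ring⟩

theorem uu_mulVec (c : F) (w : Fin 2 → F) : (uu c : Matrix (Fin 2) (Fin 2) F).mulVec w = ![w 0 + c * w 1, w 1] := by
  funext i
  fin_cases i <;> simp [uu, Matrix.mulVec, dotProduct, Fin.sum_univ_two]

theorem uu_one_zero : uu (0 : F) = 1 := Subtype.ext (by
  ext i j; fin_cases i <;> fin_cases j <;> simp [uu])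

theorem uu_coe (c : F) : (uu c : Matrix (Fin 2) (Fin 2) F) = !![1, c; 0, 1] := rfl

theorem uu_mul (a b : F) : uu a * uu b = uu (a + b) := Subtype.ext (by
  rw [coeMul, uu_coe, uu_coe, uu_coe]
  ext i j; fin_cases i <;> fin_cases j <;> simp [Matrix.mul_apply, Fin.sum_univ_two, add_comm])

/-- The unitriangular subgroup. -/
def UU : Subgroup SL₂ where
  carrier := {M | ∃ c, M = uu c}
  one_mem' := ⟨0, uu_one_zero.symm⟩
  mul_mem' := by rintro _ _ ⟨a, rfl⟩ ⟨b, rfl⟩; exact ⟨a + b, uu_mul a b⟩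
  inv_mem' := by
    rintro _ ⟨a, rfl⟩
    exact ⟨-a, inv_eq_of_mul_eq_one_right (by rw [uu_mul, add_neg_cancel, uu_one_zero])⟩

theorem exists_eq_uu {M : SL₂} (h : (M : Matrix (Fin 2) (Fin 2) F).mulVec ![1, 0] = ![1, 0]) : ∃ c, M = uu c := by
  have h0 := congrFun h 0
  have h1 := congrFun h 1
  simp [Matrix.mulVec, dotProduct, Fin.sum_univ_two] at h0 h1
  have hd := M.det_coe
  rw [Matrix.det_fin_two] at hd
  rw [h0, h1] at hd
  refine ⟨(M : Matrix (Fin 2) (Fin 2) F) 0 1, Subtype.ext ?_⟩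
  ext i j
  fin_cases i <;> fin_cases j <;> simp [uu, h0, h1]
  linear_combination hd

theorem uu_injective : Function.Injective (uu (F := F)) := fun a b h => by
  simpa [uu] using congrArg (fun M : SL₂ => (M : Matrix (Fin 2) (Fin 2) F) 0 1) h

theorem uu_pow (c : F) (m : ℕ) : uu c ^ m = uu (m * c) := by
  induction m with
  | zero => simp [uu_one_zero]
  | succ m ih => rw [pow_succ, ih, uu_mul]; push_cast; ring_nf

theorem isPGroup_UU [Finite F] {p : ℕ} [Fact p.Prime] [CharP F p] : IsPGroup p (UU (F := F)) := by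
  rintro ⟨M, c, rfl⟩
  refine ⟨1, Subtype.ext ?_⟩
  rw [SubgroupClass.coe_pow, OneMemClass.coe_one, pow_one, uu_pow, CharP.cast_eq_zero, zero_mul,
    uu_one_zero]

theorem exists_mulVec_eq {w : Fin 2 → F} (hw : w ≠ 0) : ∃ g : SL₂, (g : Matrix (Fin 2) (Fin 2) F).mulVec ![1, 0] = w := by
  by_cases h0 : w 0 = 0
  · have h1 : w 1 ≠ 0 := fun h => hw (by funext i; fin_cases i <;> simp [h0, h])
    refine ⟨⟨!![w 0, -(w 1)⁻¹; w 1, 0], by rw [Matrix.det_fin_two_of]; field_simp; ring⟩, ?_⟩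
    funext i
    fin_cases i <;> simp [Matrix.mulVec, dotProduct, Fin.sum_univ_two]
  · refine ⟨⟨!![w 0, 0; w 1, (w 0)⁻¹], by rw [Matrix.det_fin_two_of]; field_simp; ring⟩, ?_⟩
    funext i
    fin_cases i <;> simp [Matrix.mulVec, dotProduct, Fin.sum_univ_two]

/-- An element fixing a nonzero vector has order dividing `p`. -/
theorem pow_eq_one_of_fix {p : ℕ} [CharP F p] {M : SL₂} {w : Fin 2 → F} (hw : w ≠ 0)
    (h : (M : Matrix (Fin 2) (Fin 2) F).mulVec w = w) : M ^ p = 1 := by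
  obtain ⟨g, hg⟩ := exists_mulVec_eq hw
  obtain ⟨c, hc⟩ := exists_eq_uu (M := g⁻¹ * M * g) (by
    rw [coeMul, coeMul, ← Matrix.mulVec_mulVec,
      ← Matrix.mulVec_mulVec, hg, h, ← hg, Matrix.mulVec_mulVec, ← coeMul,
      inv_mul_cancel, coeOne, Matrix.one_mulVec])
  have h1 : (g⁻¹ * M * g) ^ p = 1 := by
    rw [hc, uu_pow, CharP.cast_eq_zero, zero_mul, uu_one_zero]
  rwa [show g⁻¹ * M * g = g⁻¹ * M * (g⁻¹)⁻¹ by rw [inv_inv], conj_pow, conj_eq_one_iff] at h1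

variable {G : Type*} [Group G] [Finite G] {p : ℕ} [Fact p.Prime] [Fintype F]
  {V L T : Subgroup G}

/-- Coordinates on a faithful natural module in which `T` is the unitriangular group. -/
structure Coord (F : Type*) [Field F] {G : Type*} [Group G] (V L T : Subgroup G) where
  ρ : L ≃* Matrix.SpecialLinearGroup (Fin 2) F
  v : (Fin 2 → F) → G
  mem_v : ∀ w, v w ∈ V
  v_inj : Function.Injective v
  v_surj : ∀ x ∈ V, ∃ w, v w = x
  v_add : ∀ a b, v (a + b) = v a * v b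
  le_normalizer : L ≤ Subgroup.normalizer (V : Set G)
  act : ∀ (l : L) w, v (((ρ l : Matrix.SpecialLinearGroup (Fin 2) F) : Matrix (Fin 2) (Fin 2) F).mulVec w) = (l : G) * v w * (l : G)⁻¹
  hT : ∀ l : L, (l : G) ∈ T ↔ ∃ c, ρ l = uu c
  T_le : T ≤ L

theorem charP_of_card {n : ℕ} (hF : Fintype.card F = p ^ n) : CharP F p := by
  obtain ⟨q, hq⟩ := CharP.exists F
  obtain ⟨m, hqp, hqm⟩ := FiniteField.card F q
  rw [hF] at hqm
  have hd : q ∣ p ^ n := hqm ▸ dvd_pow_self q m.pos.ne'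
  rwa [(Nat.prime_dvd_prime_iff_eq hqp Fact.out).1 (hqp.dvd_of_dvd_pow hd)] at hq

theorem nonempty_coord {n : ℕ} (hF : Fintype.card F = p ^ n)
    (hnat : Cfsg.IsNaturalSL2Module F V L)
    (hf : L ⊓ Subgroup.centralizer (V : Set G) = ⊥) (S : Sylow p L)
    (hT : T = (S : Subgroup L).map L.subtype) : Nonempty (Coord F V L T) := by
  haveI := charP_of_card hF
  obtain ⟨hLV, ρ, ψ, hρ, hker, hact⟩ := hnat
  have hinj : Function.Injective ρ := by
    rw [← MonoidHom.ker_eq_bot_iff, hker, eq_bot_iff]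
    exact fun x hx => Subgroup.mem_bot.2 (Subtype.ext (Subgroup.mem_bot.1 (hf.le ⟨x.2, hx⟩)))
  let e := MulEquiv.ofBijective ρ ⟨hinj, hρ⟩
  obtain ⟨R, hR⟩ : ∃ R : Sylow p (Matrix.SpecialLinearGroup (Fin 2) F),
      (R : Subgroup _) = (S : Subgroup L).map ρ :=
    ⟨S.mapSurjective hρ, Sylow.coe_mapSurjective _ _⟩
  -- a fixed vector
  letI : MulAction (R : Subgroup (Matrix.SpecialLinearGroup (Fin 2) F)) (Fin 2 → F) :=
    { smul := fun M w => ((M : Matrix.SpecialLinearGroup (Fin 2) F) : Matrix (Fin 2) (Fin 2) F).mulVec w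
      one_smul := fun w => by
        show ((1 : Matrix.SpecialLinearGroup (Fin 2) F) : Matrix (Fin 2) (Fin 2) F).mulVec w = w
        rw [coeOne, Matrix.one_mulVec]
      mul_smul := fun a b w => by
        show (((a : Matrix.SpecialLinearGroup (Fin 2) F) * b : Matrix.SpecialLinearGroup (Fin 2) F) : Matrix (Fin 2) (Fin 2) F).mulVec w = _
        rw [coeMul, ← Matrix.mulVec_mulVec]; rfl }
  have hn0 : n ≠ 0 := fun h => by
    have h2 := Fintype.one_lt_card (α := F)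
    rw [hF, h, pow_zero] at h2; omega
  obtain ⟨w, hwfix, hw0⟩ := R.2.exists_fixed_point_of_prime_dvd_card_of_fixed_point (Fin 2 → F)
    (by rw [Nat.card_eq_fintype_card, Fintype.card_fun, Fintype.card_fin, hF]
        exact dvd_pow (dvd_pow_self p hn0) two_ne_zero)
    (a := (0 : Fin 2 → F)) (fun M => Matrix.mulVec_zero _)
  obtain ⟨g, hg⟩ := exists_mulVec_eq (Ne.symm hw0)
  let c := MulAut.conj g⁻¹
  have hRU : (R : Subgroup (Matrix.SpecialLinearGroup (Fin 2) F)).map c.toMonoidHom = UU := by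
    let R' : Sylow p (Matrix.SpecialLinearGroup (Fin 2) F) := g⁻¹ • R
    have hR' : (R' : Subgroup _) = (R : Subgroup _).map c.toMonoidHom := rfl
    rw [← hR']
    refine (R'.3 isPGroup_UU fun M hM => ?_).symm
    rw [hR'] at hM
    obtain ⟨N, hN, rfl⟩ := hM
    refine exists_eq_uu ?_
    show ((g⁻¹ * N * g⁻¹⁻¹ : Matrix.SpecialLinearGroup (Fin 2) F) : Matrix (Fin 2) (Fin 2) F).mulVec ![1, 0] = _
    rw [inv_inv, coeMul, coeMul, ← Matrix.mulVec_mulVec,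
      ← Matrix.mulVec_mulVec, hg, show (N : Matrix (Fin 2) (Fin 2) F).mulVec w = w from hwfix ⟨N, hN⟩, ← hg,
      Matrix.mulVec_mulVec, ← coeMul, inv_mul_cancel, coeOne,
      Matrix.one_mulVec]
  refine ⟨{
    ρ := e.trans c
    v := fun u => ((Additive.toMul (ψ.symm ((g : Matrix (Fin 2) (Fin 2) F).mulVec u)) : V) : G)
    mem_v := fun u => SetLike.coe_mem _
    v_inj := fun a b h => ?_
    v_surj := fun x hx => ⟨((g⁻¹ : Matrix.SpecialLinearGroup (Fin 2) F) : Matrix (Fin 2) (Fin 2) F).mulVec (ψ (Additive.ofMul ⟨x, hx⟩)), ?_⟩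
    v_add := fun a b => ?_
    le_normalizer := hLV
    act := fun l u => ?_
    hT := fun l => ?_
    T_le := hT.le.trans (Subgroup.map_subtype_le _) }⟩
  · have h2 := congrArg (fun z => ((g⁻¹ : Matrix.SpecialLinearGroup (Fin 2) F) : Matrix (Fin 2) (Fin 2) F).mulVec z)
      (ψ.symm.injective (Additive.toMul.injective (Subtype.ext h)))
    simp only [Matrix.mulVec_mulVec, ← coeMul, inv_mul_cancel,
      coeOne, Matrix.one_mulVec] at h2
    exact h2
  · rw [Matrix.mulVec_mulVec, ← coeMul, mul_inv_cancel,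
      coeOne, Matrix.one_mulVec, ψ.symm_apply_apply]
    rfl
  · rw [Matrix.mulVec_add, map_add, toMul_add, Subgroup.coe_mul]
  · obtain ⟨x, hx1, hx2⟩ := hact l (Additive.toMul (ψ.symm ((g : Matrix (Fin 2) (Fin 2) F).mulVec u)))
    rw [ofMul_toMul, ψ.apply_symm_apply] at hx2
    show ((Additive.toMul (ψ.symm ((g : Matrix (Fin 2) (Fin 2) F).mulVec (((g⁻¹ * ρ l * g⁻¹⁻¹ : Matrix.SpecialLinearGroup (Fin 2) F) : Matrix (Fin 2) (Fin 2) F).mulVec u))) : V) : G) = _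
    rw [inv_inv, Matrix.mulVec_mulVec, ← coeMul,
      show g * (g⁻¹ * ρ l * g) = ρ l * g by group, coeMul,
      ← Matrix.mulVec_mulVec, ← hx2, ψ.symm_apply_apply]
    exact hx1
  · rw [hT, show (l : G) = L.subtype l from rfl, Subgroup.mem_map_iff_mem L.subtype_injective]
    show l ∈ (S : Subgroup L) ↔ c (e l) ∈ UU (F := F)
    rw [← hRU, hR]
    constructor
    · exact fun h => ⟨e l, ⟨l, h, rfl⟩, rfl⟩
    · rintro ⟨_, ⟨l', hl', rfl⟩, h⟩
      rwa [← hinj (c.injective h)]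

namespace Coord

variable (C : Coord F V L T)
include C

theorem v_zero : C.v 0 = 1 := by
  have h := C.v_add 0 0
  rw [add_zero] at h
  exact left_eq_mul.1 h

theorem v_neg (w : Fin 2 → F) : C.v (-w) = (C.v w)⁻¹ := by
  refine eq_inv_of_mul_eq_one_left ?_
  rw [← C.v_add, neg_add_cancel, C.v_zero]

theorem card_eq {n : ℕ} (hF : Fintype.card F = p ^ n) : Nat.card V = p ^ (2 * n) := by
  rw [← Nat.card_congr (Equiv.ofBijective (fun w => (⟨C.v w, C.mem_v w⟩ : V))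
    ⟨fun a b h => C.v_inj (congrArg Subtype.val h), fun x => by
      obtain ⟨w, hw⟩ := C.v_surj x x.2; exact ⟨w, Subtype.ext hw⟩⟩),
    Nat.card_eq_fintype_card, Fintype.card_fun, Fintype.card_fin, hF, ← pow_mul, mul_comm]

theorem commute_iff (l : L) (w : Fin 2 → F) :
    Commute (C.v w) (l : G) ↔ ((C.ρ l : Matrix.SpecialLinearGroup (Fin 2) F) : Matrix (Fin 2) (Fin 2) F).mulVec w = w := by
  rw [← C.v_inj.eq_iff, C.act, mul_inv_eq_iff_eq_mul, commute_iff_eq]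
  exact eq_comm

theorem exists_T (c : F) : ∃ t, ∃ ht : t ∈ L, t ∈ T ∧ C.ρ ⟨t, ht⟩ = uu c :=
  ⟨(C.ρ.symm (uu c) : L), SetLike.coe_mem _,
    (C.hT _).2 ⟨c, C.ρ.apply_symm_apply _⟩, C.ρ.apply_symm_apply _⟩

theorem mem_fixed_iff (w : Fin 2 → F) : C.v w ∈ Subgroup.centralizer (T : Set G) ↔ w 1 = 0 := by
  rw [Subgroup.mem_centralizer_iff]
  constructor
  · intro h
    obtain ⟨t, ht, htT, hc⟩ := C.exists_T 1
    have h1 := (C.commute_iff ⟨t, ht⟩ w).1 (h t htT).symm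
    rw [hc, uu_mulVec] at h1
    simpa using congrFun h1 0
  · intro h t ht
    obtain ⟨c, hc⟩ := (C.hT ⟨t, C.T_le ht⟩).1 ht
    refine ((C.commute_iff ⟨t, C.T_le ht⟩ w).2 ?_).eq.symm
    rw [hc, uu_mulVec]
    funext i; fin_cases i <;> simp [h]

theorem mem_fixed {x : G} :
    x ∈ V ⊓ Subgroup.centralizer (T : Set G) ↔ ∃ a, x = C.v ![a, 0] := by
  constructor
  · rintro ⟨hx, hc⟩
    obtain ⟨w, rfl⟩ := C.v_surj x hx
    refine ⟨w 0, congrArg C.v ?_⟩
    funext i; fin_cases i <;> simp [(C.mem_fixed_iff w).1 hc]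
  · rintro ⟨a, rfl⟩
    exact ⟨C.mem_v _, (C.mem_fixed_iff _).2 rfl⟩

theorem card_fixed {n : ℕ} (hF : Fintype.card F = p ^ n) :
    Nat.card (V ⊓ Subgroup.centralizer (T : Set G) : Subgroup G) = p ^ n := by
  rw [← Nat.card_congr (Equiv.ofBijective
    (fun a => (⟨C.v ![a, 0], C.mem_fixed.2 ⟨a, rfl⟩⟩ :
      (V ⊓ Subgroup.centralizer (T : Set G) : Subgroup G)))
    ⟨fun a b h => by simpa using congrFun (C.v_inj (congrArg Subtype.val h)) 0, fun x => by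
      obtain ⟨a, ha⟩ := C.mem_fixed.1 x.2; exact ⟨a, Subtype.ext ha.symm⟩⟩),
    Nat.card_eq_fintype_card, hF]

theorem comm_eq {t : G} (ht : t ∈ L) {c : F} (hc : C.ρ ⟨t, ht⟩ = uu c) (w : Fin 2 → F) :
    C.v w * t * (C.v w)⁻¹ * t⁻¹ = C.v ![-(c * w 1), 0] := by
  have h := C.act ⟨t, ht⟩ (-w)
  rw [hc, uu_mulVec, C.v_neg] at h
  rw [show C.v w * t * (C.v w)⁻¹ * t⁻¹ = C.v w * (t * (C.v w)⁻¹ * t⁻¹) by group, ← h, ← C.v_add]
  congr 1
  funext i; fin_cases i <;> simp <;> ring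

theorem fixed_singleton {s : G} (hs : s ∈ T) (hs1 : s ≠ 1) :
    V ⊓ Subgroup.centralizer ({s} : Set G) = V ⊓ Subgroup.centralizer (T : Set G) := by
  refine le_antisymm (fun x ⟨hx, hxs⟩ => ?_)
    (inf_le_inf_left V (Subgroup.centralizer_le (Set.singleton_subset_iff.2 hs)))
  obtain ⟨w, rfl⟩ := C.v_surj x hx
  obtain ⟨c, hc⟩ := (C.hT ⟨s, C.T_le hs⟩).1 hs
  have hc0 : c ≠ 0 := fun h => hs1 (congrArg Subtype.val (C.ρ.injective
    (hc.trans (h ▸ uu_one_zero) |>.trans (map_one C.ρ).symm) : (⟨s, C.T_le hs⟩ : L) = 1))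
  have h1 := (C.commute_iff ⟨s, C.T_le hs⟩ w).1 (Subgroup.mem_centralizer_singleton_iff.1 hxs)
  rw [hc, uu_mulVec] at h1
  have h2 := congrFun h1 0
  simp at h2
  exact ⟨C.mem_v w, (C.mem_fixed_iff w).2 (h2.resolve_left hc0)⟩

theorem commutator_zpowers {s : G} (hs : s ∈ T) (hs1 : s ≠ 1) :
    ⁅V, Subgroup.zpowers s⁆ = V ⊓ Subgroup.centralizer (T : Set G) ∧
      ⁅V, T⁆ = V ⊓ Subgroup.centralizer (T : Set G) := by
  have h1 : ⁅V, T⁆ ≤ V ⊓ Subgroup.centralizer (T : Set G) := by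
    refine Subgroup.commutator_le.2 fun x hx t ht => ?_
    obtain ⟨w, rfl⟩ := C.v_surj x hx
    obtain ⟨c, hc⟩ := (C.hT ⟨t, C.T_le ht⟩).1 ht
    exact C.mem_fixed.2 ⟨_, C.comm_eq (C.T_le ht) hc w⟩
  have h2 : V ⊓ Subgroup.centralizer (T : Set G) ≤ ⁅V, Subgroup.zpowers s⁆ := by
    intro x hx
    obtain ⟨a, rfl⟩ := C.mem_fixed.1 hx
    obtain ⟨c, hc⟩ := (C.hT ⟨s, C.T_le hs⟩).1 hs
    have hc0 : c ≠ 0 := fun h => hs1 (congrArg Subtype.val (C.ρ.injective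
      (hc.trans (h ▸ uu_one_zero) |>.trans (map_one C.ρ).symm) : (⟨s, C.T_le hs⟩ : L) = 1))
    have h := Subgroup.commutator_mem_commutator (C.mem_v ![0, -a / c]) (Subgroup.mem_zpowers s)
    rw [commutatorElement_def, C.comm_eq (C.T_le hs) hc] at h
    convert h using 3
    simp; field_simp
  have h3 : ⁅V, Subgroup.zpowers s⁆ ≤ ⁅V, T⁆ :=
    Subgroup.commutator_mono le_rfl (Subgroup.zpowers_le.2 hs)
  exact ⟨le_antisymm (h3.trans h1) h2, le_antisymm h1 (h2.trans h3)⟩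

theorem closure_comm {v : G} (hv : v ∈ V) (hvT : v ∉ Subgroup.centralizer (T : Set G)) :
    Subgroup.closure {x : G | ∃ t ∈ T, x = v * t * v⁻¹ * t⁻¹} =
      V ⊓ Subgroup.centralizer (T : Set G) := by
  obtain ⟨w, rfl⟩ := C.v_surj v hv
  have hw : w 1 ≠ 0 := fun h => hvT ((C.mem_fixed_iff w).2 h)
  refine le_antisymm ((Subgroup.closure_le _).2 ?_) fun x hx => Subgroup.subset_closure ?_
  · rintro _ ⟨t, ht, rfl⟩
    obtain ⟨c, hc⟩ := (C.hT ⟨t, C.T_le ht⟩).1 ht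
    exact C.mem_fixed.2 ⟨_, C.comm_eq (C.T_le ht) hc w⟩
  · obtain ⟨a, rfl⟩ := C.mem_fixed.1 hx
    obtain ⟨t, ht, htT, hc⟩ := C.exists_T (-a / w 1)
    exact ⟨t, htT, by rw [C.comm_eq ht hc w]; field_simp⟩

theorem exists_diag {a : F} (ha : a ≠ 0) :
    ∃ l : L, (l : G) ∈ L ⊓ Subgroup.normalizer (T : Set G) ∧
      ((C.ρ l : Matrix.SpecialLinearGroup (Fin 2) F) : Matrix (Fin 2) (Fin 2) F) = !![a, 0; 0, a⁻¹] := by
  let d : Matrix.SpecialLinearGroup (Fin 2) F :=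
    ⟨!![a, 0; 0, a⁻¹], by rw [Matrix.det_fin_two_of]; field_simp; ring⟩
  refine ⟨C.ρ.symm d, ⟨SetLike.coe_mem _, ?_⟩, by rw [C.ρ.apply_symm_apply]⟩
  refine CfsgLib.Fusion.conjBy_eq_iff.1 (CfsgLib.Fusion.conjBy_eq_of_le
    (CfsgLib.Fusion.conjBy_le_iff.2 fun t ht => ?_))
  obtain ⟨c, hc⟩ := (C.hT ⟨t, C.T_le ht⟩).1 ht
  refine (C.hT (C.ρ.symm d * ⟨t, C.T_le ht⟩ * (C.ρ.symm d)⁻¹)).2 ⟨a ^ 2 * c, ?_⟩
  rw [map_mul, map_mul, map_inv, C.ρ.apply_symm_apply, hc, mul_inv_eq_iff_eq_mul]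
  refine Subtype.ext ?_
  have hd : (d : Matrix (Fin 2) (Fin 2) F) = !![a, 0; 0, a⁻¹] := rfl
  rw [coeMul, coeMul, uu_coe, uu_coe, hd]
  ext i j
  fin_cases i <;> fin_cases j <;> simp [Matrix.mul_apply, Fin.sum_univ_two] <;> field_simp

theorem eq_one_of_fixed {n : ℕ} (hF : Fintype.card F = p ^ n) {x : G} (hx : x ∈ L) (hx1 : x ≠ 1)
    (hcop : (orderOf x).Coprime p) : V ⊓ Subgroup.centralizer ({x} : Set G) = ⊥ := by
  haveI := charP_of_card hF
  rw [eq_bot_iff]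
  rintro y ⟨hy, hyx⟩
  obtain ⟨w, rfl⟩ := C.v_surj y hy
  rw [Subgroup.mem_bot]
  by_contra hne
  have hw : w ≠ 0 := fun h => hne (h ▸ C.v_zero)
  have h1 := pow_eq_one_of_fix (p := p) hw
    ((C.commute_iff ⟨x, hx⟩ w).1 (Subgroup.mem_centralizer_singleton_iff.1 hyx))
  rw [← map_pow] at h1
  have h2 : x ^ p = 1 := congrArg Subtype.val ((map_eq_one_iff C.ρ C.ρ.injective).1 h1)
  exact hx1 (orderOf_eq_one_iff.1 (Nat.Coprime.eq_one_of_dvd hcop (orderOf_dvd_of_pow_eq_one h2)))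

theorem conj_v {a : F} {U : Subgroup G}
    (hU : L ⊓ Subgroup.normalizer (T : Set G) ≤ Subgroup.normalizer (U : Set G)) (ha : a ≠ 0)
    {w : Fin 2 → F} (hw : C.v w ∈ U) : C.v ![a * w 0, a⁻¹ * w 1] ∈ U := by
  obtain ⟨l, hl, hd⟩ := C.exists_diag ha
  have h := (Subgroup.mem_normalizer_iff.1 (hU hl) _).1 hw
  rw [← C.act, hd] at h
  convert h using 2
  funext i; fin_cases i <;> simp [Matrix.mulVec, dotProduct, Fin.sum_univ_two]

theorem eq_bot_or_eq_fixed {U : Subgroup G} (hU : U ≤ V ⊓ Subgroup.centralizer (T : Set G))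
    (hn : L ⊓ Subgroup.normalizer (T : Set G) ≤ Subgroup.normalizer (U : Set G)) :
    U = ⊥ ∨ U = V ⊓ Subgroup.centralizer (T : Set G) := by
  rcases U.bot_or_exists_ne_one with h | ⟨x, hx, hx1⟩
  · exact Or.inl h
  refine Or.inr (le_antisymm hU fun y hy => ?_)
  obtain ⟨a, rfl⟩ := C.mem_fixed.1 (hU hx)
  obtain ⟨b, rfl⟩ := C.mem_fixed.1 hy
  have ha : a ≠ 0 := fun h => hx1 (by rw [h, ← C.v_zero]; congr 1; funext i; fin_cases i <;> simp)
  rcases eq_or_ne b 0 with rfl | hb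
  · rw [show (![0, 0] : Fin 2 → F) = 0 by funext i; fin_cases i <;> simp, C.v_zero]
    exact one_mem _
  · convert C.conj_v hn (div_ne_zero hb ha) hx using 2
    funext i; fin_cases i <;> simp
    field_simp

theorem eq_fixed_or_eq_top {U : Subgroup G} (hU : V ⊓ Subgroup.centralizer (T : Set G) ≤ U)
    (hUV : U ≤ V)
    (hn : L ⊓ Subgroup.normalizer (T : Set G) ≤ Subgroup.normalizer (U : Set G)) :
    U = V ⊓ Subgroup.centralizer (T : Set G) ∨ U = V := by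
  by_cases h : U ≤ V ⊓ Subgroup.centralizer (T : Set G)
  · exact Or.inl (le_antisymm h hU)
  obtain ⟨x, hx, hx'⟩ := SetLike.not_le_iff_exists.1 h
  obtain ⟨w, rfl⟩ := C.v_surj x (hUV hx)
  have hw : w 1 ≠ 0 := fun e => hx' ⟨C.mem_v w, (C.mem_fixed_iff w).2 e⟩
  refine Or.inr (le_antisymm hUV fun y hy => ?_)
  obtain ⟨u, rfl⟩ := C.v_surj y hy
  rcases eq_or_ne (u 1) 0 with h0 | h0
  · exact hU ⟨C.mem_v u, (C.mem_fixed_iff u).2 h0⟩
  · have h1 := C.conj_v hn (div_ne_zero hw h0) hx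
    have h2 : C.v ![u 0 - w 1 / u 1 * w 0, 0] ∈ U := hU (C.mem_fixed.2 ⟨_, rfl⟩)
    have h3 := mul_mem h2 h1
    rw [← C.v_add] at h3
    convert h3 using 2
    funext i; fin_cases i <;> simp
    field_simp

theorem isInternalDirectProduct {g : G} (hg : g ∈ L)
    (hgT : g ∉ Subgroup.normalizer (T : Set G)) :
    Cfsg.IsInternalDirectProduct (V ⊓ Subgroup.centralizer (T : Set G))
      (V ⊓ Subgroup.centralizer ((T.map (MulAut.conj g).toMonoidHom : Subgroup G) : Set G)) V := by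
  obtain ⟨M, hMdef⟩ : ∃ M, M = C.ρ ⟨g, hg⟩ := ⟨_, rfl⟩
  have h10 : (M : Matrix (Fin 2) (Fin 2) F) 1 0 ≠ 0 := by
    intro h
    refine hgT (CfsgLib.Fusion.conjBy_eq_iff.1 (CfsgLib.Fusion.conjBy_eq_of_le
      (CfsgLib.Fusion.conjBy_le_iff.2 fun t ht => ?_)))
    obtain ⟨c, hc⟩ := (C.hT ⟨t, C.T_le ht⟩).1 ht
    refine (C.hT (⟨g, hg⟩ * ⟨t, C.T_le ht⟩ * (⟨g, hg⟩ : L)⁻¹)).2 ⟨(M : Matrix (Fin 2) (Fin 2) F) 0 0 * (M : Matrix (Fin 2) (Fin 2) F) 0 0 * c, ?_⟩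
    rw [map_mul, map_mul, map_inv, ← hMdef, hc, mul_inv_eq_iff_eq_mul]
    refine Subtype.ext ?_
    have hd := M.det_coe
    rw [Matrix.det_fin_two, h] at hd
    rw [coeMul, coeMul]
    ext i j
    fin_cases i <;> fin_cases j <;> simp [uu, Matrix.mul_apply, Fin.sum_univ_two, h]
    linear_combination (-((M : Matrix (Fin 2) (Fin 2) F) 0 0 * c)) * hd
  have hconj : ∀ x : G, x ∈ V ⊓ Subgroup.centralizer
      ((T.map (MulAut.conj g).toMonoidHom : Subgroup G) : Set G) ↔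
        ∃ a, x = C.v ((M : Matrix (Fin 2) (Fin 2) F).mulVec ![a, 0]) := by
    intro x
    have hx : x ∈ V ⊓ Subgroup.centralizer
        ((T.map (MulAut.conj g).toMonoidHom : Subgroup G) : Set G) ↔
          g⁻¹ * x * g ∈ V ⊓ Subgroup.centralizer (T : Set G) := by
      have e1 : x ∈ V ↔ g⁻¹ * x * g ∈ V := by
        conv_lhs => rw [← CfsgLib.Fusion.conjBy_eq_iff.2 (C.le_normalizer hg)]
        exact CfsgLib.Fusion.mem_conjBy
      rw [Subgroup.mem_inf, Subgroup.mem_inf, ← e1]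
      refine and_congr Iff.rfl ?_
      show x ∈ Subgroup.centralizer ((CfsgLib.Fusion.conjBy g T : Subgroup G) : Set G) ↔ _
      rw [← CfsgLib.Fusion.conjBy_centralizer, CfsgLib.Fusion.mem_conjBy]
    rw [hx, C.mem_fixed]
    refine exists_congr fun a => ?_
    rw [hMdef, C.act]
    constructor
    · intro h; rw [← h]; group
    · intro h; rw [h]; group
  refine ⟨inf_le_left, inf_le_left, fun a ha b hb => ?_, ?_, ?_⟩
  · obtain ⟨w, rfl⟩ := C.v_surj a ha.1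
    obtain ⟨u, rfl⟩ := C.v_surj b hb.1
    rw [← C.v_add, ← C.v_add, add_comm]
  · rw [eq_bot_iff]
    rintro x ⟨hx1, hx2⟩
    obtain ⟨a, rfl⟩ := C.mem_fixed.1 hx1
    obtain ⟨b, hb⟩ := (hconj _).1 hx2
    have h := C.v_inj hb
    have h1 := congrFun h 1
    simp [Matrix.mulVec, dotProduct, Fin.sum_univ_two] at h1
    rcases h1 with h1 | h1
    · exact absurd h1 h10
    · rw [Subgroup.mem_bot, h, h1, show (![0, 0] : Fin 2 → F) = 0 by funext i; fin_cases i <;> simp,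
        Matrix.mulVec_zero, C.v_zero]
  · refine le_antisymm (sup_le inf_le_left inf_le_left) fun y hy => ?_
    obtain ⟨u, rfl⟩ := C.v_surj y hy
    have e : u = ![u 0 - (M : Matrix (Fin 2) (Fin 2) F) 0 0 * (u 1 / (M : Matrix (Fin 2) (Fin 2) F) 1 0), 0] + (M : Matrix (Fin 2) (Fin 2) F).mulVec ![u 1 / (M : Matrix (Fin 2) (Fin 2) F) 1 0, 0] := by
      funext i; fin_cases i <;> simp [Matrix.mulVec, dotProduct, Fin.sum_univ_two]
      field_simp
    rw [e, C.v_add]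
    exact mul_mem (Subgroup.mem_sup_left (C.mem_fixed.2 ⟨_, rfl⟩))
      (Subgroup.mem_sup_right ((hconj _).2 ⟨_, rfl⟩))

end Coord

end CfsgLib.LS.NatMod
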