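import Cfsg.Agent.Lib.LocalStructure.Kieler
import Cfsg.Agent.Lib.Coprime.Gaschutz
import Cfsg.Agent.Lib.Coprime.Subnormal

/-!
# Sylow subgroups of joins of subnormal subgroups
-/

set_option autoImplicit false
set_option linter.style.haveILetI false
set_option linter.unusedSectionVars false

namespace CfsgLib.LS

open Subgroup
open CfsgLib.Coprime (conjBy conjBy_conjBy conjBy_one conjBy_eq_self_iff)
open scoped commutatorElement

universe u

theorem minimal_normal_le_normalizer_aux : ∀ (n : ℕ) (G : Type u) [Group G] [Finite G],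
    Nat.card G = n → ∀ (N : Subgroup G), N.Normal → N ≠ ⊥ →
      (∀ K : Subgroup G, K.Normal → K ≤ N → K = ⊥ ∨ K = N) →
        ∀ A : Subgroup G, A.IsSubnormal → N ≤ normalizer (A : Set G) := by
  intro n
  induction n using Nat.strongRecOn with
  | ind n ih =>
    intro G _ _ hn N hN hN1 hmin A hA
    subst hn
    haveI := hN
    by_cases htop : A = ⊤
    · subst htop
      exact le_top.trans (normalizer_eq_top_iff.2 inferInstance).ge
    obtain ⟨M, hM, hAM, hlt⟩ := hA.exists_normal_and_le_and_lt_top_of_ne htop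
    haveI := hM
    rcases hmin (N ⊓ M) inferInstance inf_le_left with h | h
    · intro x hx
      refine centralizer_le_normalizer _ (mem_centralizer_iff.2 fun a ha => ?_)
      exact (Subgroup.commute_of_normal_of_disjoint N M hN hM (disjoint_iff.2 h) x a hx
        (hAM ha)).eq.symm
    have hNM : N ≤ M := h ▸ inf_le_right
    have hlt' : Nat.card M < Nat.card G :=
      lt_of_not_ge fun hge => hlt.ne (eq_top_of_le_card M hge)
    have hne : (N.subgroupOf M) ≠ ⊥ := fun h0 => hN1 (by
      have := congrArg (Subgroup.map M.subtype) h0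
      rwa [map_subgroupOf_eq_of_le hNM, Subgroup.map_bot] at this)
    obtain ⟨N₁, ⟨hN₁n, hN₁1, hN₁N⟩, hN₁min⟩ := Set.Finite.exists_minimal
      (Set.toFinite {K : Subgroup M | K.Normal ∧ K ≠ ⊥ ∧ K ≤ N.subgroupOf M})
      ⟨N.subgroupOf M, inferInstance, hne, le_rfl⟩
    set U : Subgroup G := ⨆ g : G, conjBy g (N₁.map M.subtype) with hU
    have hUn : U.Normal := by
      refine ⟨fun x hx g => ?_⟩
      have := mem_map_of_mem (MulAut.conj g).toMonoidHom hx
      rw [hU, Subgroup.map_iSup] at this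
      refine SetLike.le_def.1 (iSup_le fun g' => ?_) this
      show conjBy g (conjBy g' (N₁.map M.subtype)) ≤ U
      rw [conjBy_conjBy]
      exact le_iSup (fun g : G => conjBy g (N₁.map M.subtype)) (g * g')
    have hUN : U = N := by
      refine (hmin U hUn (iSup_le fun g => ?_)).resolve_left fun h0 => hN₁1 ?_
      · refine (map_mono (map_mono hN₁N)).trans (le_of_eq ?_)
        rw [map_subgroupOf_eq_of_le hNM]
        exact conjBy_eq_self_iff.2 (normalizer_eq_top_iff.2 hN ▸ mem_top g)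
      · have h1 : N₁.map M.subtype ≤ U :=
          le_iSup_of_le (1 : G) (by rw [conjBy_one])
        rw [h0, le_bot_iff, map_eq_bot_iff_of_injective _ M.subtype_injective] at h1
        exact h1
    rw [← hUN]
    refine iSup_le fun g => ?_
    have hA' : conjBy g⁻¹ A ≤ M := (map_mono hAM).trans
      (conjBy_eq_self_iff.2 (normalizer_eq_top_iff.2 hM ▸ mem_top _)).le
    have h1 := ih _ hlt' M rfl N₁ hN₁n hN₁1 (fun K hK hKN => ?_) ((conjBy g⁻¹ A).subgroupOf M)
      (IsSubnormal.subgroupOf (CfsgLib.Coprime.isSubnormal_conjBy hA g⁻¹))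
    · rintro _ ⟨_, ⟨x, hx, rfl⟩, rfl⟩
      refine conjBy_eq_self_iff.1 ?_
      have h2 := congrArg (Subgroup.map M.subtype) (conjBy_eq_self_iff.2 (h1 hx))
      rw [CfsgLib.Coprime.conjBy_map, map_subgroupOf_eq_of_le hA'] at h2
      have h3 := congrArg (conjBy g) h2
      rw [conjBy_conjBy, conjBy_conjBy, conjBy_conjBy, mul_inv_cancel, conjBy_one] at h3
      refine Eq.trans ?_ h3
      show conjBy (g * (x : G) * g⁻¹) A = conjBy (g * M.subtype x * g⁻¹) A
      rfl
    · by_cases hK0 : K = ⊥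
      · exact Or.inl hK0
      · exact Or.inr (le_antisymm hKN (hN₁min ⟨hK, hK0, hKN.trans hN₁N⟩ hKN))

/-- A minimal normal subgroup normalizes every subnormal subgroup. -/
theorem minimal_normal_le_normalizer {G : Type u} [Group G] [Finite G] {N : Subgroup G}
    (hN : N.Normal) (hN1 : N ≠ ⊥) (hmin : ∀ K : Subgroup G, K.Normal → K ≤ N → K = ⊥ ∨ K = N)
    {A : Subgroup G} (hA : A.IsSubnormal) : N ≤ normalizer (A : Set G) :=
  minimal_normal_le_normalizer_aux _ G rfl N hN hN1 hmin A hA

variable {G : Type u} [Group G] [Finite G] {p : ℕ} [Fact p.Prime]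

theorem resOf_conjBy (A : Subgroup G) (g : G) :
    conjBy g ((Cfsg.pResidual p A).map A.subtype) =
      (Cfsg.pResidual p (conjBy g A)).map (conjBy g A).subtype := by
  have key : ∀ (B : Subgroup G) (x : G), conjBy x ((Cfsg.pResidual p B).map B.subtype) ≤
      (Cfsg.pResidual p (conjBy x B)).map (conjBy x B).subtype := by
    intro B x
    rw [CfsgLib.Coprime.conjBy, map_le_iff_le_comap]
    refine resOf_le fun z hz hc => mem_resOf (mem_map_of_mem _ hz) ?_
    exact ((MulAut.conj x).orderOf_eq z).symm ▸ hc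
  refine le_antisymm (key A g) ?_
  have h := map_mono (f := (MulAut.conj g).toMonoidHom) (key (conjBy g A) g⁻¹)
  change conjBy g (conjBy g⁻¹ _) ≤ conjBy g _ at h
  rw [conjBy_conjBy, mul_inv_cancel, conjBy_one] at h
  refine h.trans (map_mono ?_)
  rw [conjBy_conjBy, inv_mul_cancel, conjBy_one]

theorem map_sylow_inf {G' : Type*} [Group G'] [Finite G'] {f : G →* G'} (hf : Function.Surjective f)
    (S : Sylow p G) {A : Subgroup G} (hA : A.IsSubnormal) :
    ((S : Subgroup G) ⊓ A).map f = (S : Subgroup G).map f ⊓ A.map f := by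
  refine le_antisymm (le_inf (map_mono inf_le_left) (map_mono inf_le_right)) ?_
  obtain ⟨R, hR⟩ := sylow_inf_subnormal S hA
  let R' : Sylow p (A.map f) := R.mapSurjective (f := f.subgroupMap A) (f.subgroupMap_surjective A)
  have hle : (R' : Subgroup (A.map f)) ≤ ((S : Subgroup G).map f).subgroupOf (A.map f) := by
    rintro _ ⟨x, hx, rfl⟩
    exact mem_map_of_mem f (hR.le (mem_map_of_mem A.subtype hx)).1
  have he := R'.3 ((S.2.map f).comap_subtype) hle
  intro y hy
  obtain ⟨x, hx, e⟩ := he.le (mem_subgroupOf.2 hy.1 :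
    (⟨y, hy.2⟩ : A.map f) ∈ ((S : Subgroup G).map f).subgroupOf (A.map f))
  refine ⟨(x : G), hR.le (mem_map_of_mem A.subtype hx), ?_⟩
  exact congrArg Subtype.val e

theorem sylow_family_aux : ∀ (n : ℕ) (G : Type u) [Group G] [Finite G], Nat.card G = n →
    ∀ (S : Sylow p G) (𝒜 : Set (Subgroup G)), (∀ A ∈ 𝒜, A.IsSubnormal) → sSup 𝒜 = ⊤ →
      (∀ s ∈ (S : Subgroup G), ∀ A ∈ 𝒜, conjBy s A ∈ 𝒜) →
        (S : Subgroup G) ≤ ⨆ A ∈ 𝒜, (S : Subgroup G) ⊓ A := by
  intro n
  induction n using Nat.strongRecOn with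
  | ind n ih =>
    intro G _ _ hn S 𝒜 hsn htop hinv
    subst hn
    set X : Subgroup G := ⨆ A ∈ 𝒜, (S : Subgroup G) ⊓ A with hX
    have hXS : X ≤ (S : Subgroup G) := iSup₂_le fun A _ => inf_le_left
    -- induction inside a proper subgroup
    have hrec : ∀ (K : Subgroup G), K.IsSubnormal → K ≠ ⊤ → ∀ ℬ : Set (Subgroup G),
        (∀ B ∈ ℬ, B.IsSubnormal) → sSup ℬ = K →
        (∀ s ∈ (S : Subgroup G) ⊓ K, ∀ B ∈ ℬ, conjBy s B ∈ ℬ) →
        (∀ B ∈ ℬ, (S : Subgroup G) ⊓ B ≤ X) → (S : Subgroup G) ⊓ K ≤ X := by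
      intro K hK hKt ℬ hℬ hsup hinv' hle
      obtain ⟨R, hR⟩ := sylow_inf_subnormal S hK
      have hlt : Nat.card K < Nat.card G :=
        lt_of_not_ge fun hge => hKt (eq_top_of_le_card K hge)
      have hBK : ∀ B ∈ ℬ, B ≤ K := fun B hB => hsup ▸ le_sSup hB
      have h := ih _ hlt K rfl R ((fun B => B.subgroupOf K) '' ℬ)
        (by rintro _ ⟨B, hB, rfl⟩; exact (hℬ B hB).subgroupOf)
        (by
          refine map_injective K.subtype_injective ?_
          rw [← MonoidHom.range_eq_map, range_subtype, (Subgroup.gc_map_comap _).l_sSup]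
          rw [← hsup] at hBK ⊢
          refine le_antisymm (iSup₂_le fun B' hB' => ?_) (sSup_le fun B hB => ?_)
          · obtain ⟨B, hB, rfl⟩ := hB'
            exact (map_subgroupOf_eq_of_le (hBK B hB)).le.trans (le_sSup hB)
          · exact (map_subgroupOf_eq_of_le (hBK B hB)).ge.trans
              (le_iSup₂_of_le _ ⟨B, hB, rfl⟩ le_rfl))
        (by
          rintro s hs _ ⟨B, hB, rfl⟩
          refine ⟨conjBy (s : G) B, hinv' _ (hR.le (mem_map_of_mem K.subtype hs)) B hB, ?_⟩
          refine map_injective K.subtype_injective ?_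
          rw [CfsgLib.Coprime.conjBy_map, map_subgroupOf_eq_of_le (hBK B hB)]
          exact map_subgroupOf_eq_of_le (hBK _ (hinv' _ (hR.le (mem_map_of_mem K.subtype hs)) B hB)))
      have h' := map_mono (f := K.subtype) h
      rw [hR] at h'
      refine h'.trans ?_
      simp only [Subgroup.map_iSup]
      refine iSup₂_le fun B' hB' => ?_
      obtain ⟨B, hB, rfl⟩ := hB'
      rw [Subgroup.map_inf_eq _ _ _ K.subtype_injective, hR, map_subgroupOf_eq_of_le (hBK B hB)]
      exact le_trans (inf_le_inf_right _ inf_le_left) (hle B hB)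
    -- the residuals
    set ℛ : Set (Subgroup G) :=
      (fun A : Subgroup G => (Cfsg.pResidual p A).map A.subtype) '' 𝒜 with hℛ
    set G₁ := sSup ℛ with hG₁
    have hres : ∀ A ∈ 𝒜, A ≤ G₁ ⊔ (S : Subgroup G) ⊓ A := fun A hA => by
      obtain ⟨R, hR⟩ := sylow_inf_subnormal S (hsn A hA)
      calc A = (Cfsg.pResidual p A ⊔ (R : Subgroup A)).map A.subtype := by
            rw [CfsgLib.Fusion.pResidual_sup_sylow, ← MonoidHom.range_eq_map, range_subtype]
        _ ≤ _ := by
            rw [Subgroup.map_sup, hR]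
            exact sup_le_sup_right (le_sSup (show (Cfsg.pResidual p A).map A.subtype ∈ ℛ from ⟨A, hA, rfl⟩)) _
    have hGX : G₁ ⊔ X = ⊤ := by
      rw [eq_top_iff, ← htop]
      exact sSup_le fun A hA => (hres A hA).trans
        (sup_le_sup_left (le_iSup₂ (f := fun A (_ : A ∈ 𝒜) => (S : Subgroup G) ⊓ A) A hA) _)
    have hℛsn : ∀ B ∈ ℛ, B.IsSubnormal := by
      rintro _ ⟨A, hA, rfl⟩
      haveI := CfsgLib.Fusion.pResidual_normal (G := A) (p := p)
      exact IsSubnormal.trans' (Subgroup.Normal.isSubnormal inferInstance) (hsn A hA)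
    have hℛinv : ∀ s ∈ (S : Subgroup G), ∀ B ∈ ℛ, conjBy s B ∈ ℛ := by
      rintro s hs _ ⟨A, hA, rfl⟩
      exact ⟨_, hinv s hs A hA, (resOf_conjBy A s).symm⟩
    by_cases hG₁t : G₁ ≠ ⊤
    · have hn₁ : G₁.Normal := by
        rw [← normalizer_eq_top_iff, eq_top_iff, ← hGX]
        refine sup_le le_normalizer (hXS.trans ?_)
        refine le_normalizer_iff.2 fun s hs x hx => ?_
        have := mem_map_of_mem (MulAut.conj s).toMonoidHom hx
        rw [hG₁, (Subgroup.gc_map_comap _).l_sSup] at this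
        exact SetLike.le_def.1 (iSup₂_le fun B hB => le_sSup (hℛinv s hs B hB)) this
      haveI := hn₁
      have h1 := hrec G₁ hn₁.isSubnormal hG₁t ℛ hℛsn rfl
        (fun s hs => hℛinv s hs.1) (fun B hB => by
          obtain ⟨A, hA, rfl⟩ := hB
          exact (inf_le_inf_left _ (map_subtype_le _)).trans
            (le_iSup₂ (f := fun A (_ : A ∈ 𝒜) => (S : Subgroup G) ⊓ A) A hA))
      intro s hs
      obtain ⟨g, hg, x, hx, rfl⟩ := mem_sup_of_normal_left.1 (hGX ▸ mem_top s : s ∈ G₁ ⊔ X)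
      refine mul_mem (h1 (mem_inf.2 ⟨?_, hg⟩)) hx
      have := mul_mem hs (inv_mem (hXS hx))
      rwa [mul_inv_cancel_right] at this
    push_neg at hG₁t
    have hperf : Cfsg.pResidual p G = ⊤ := by
      rw [eq_top_iff, ← hG₁t]
      refine sSup_le ?_
      rintro _ ⟨A, -, rfl⟩
      exact resOf_le fun g _ hc => CfsgLib.Fusion.mem_pResidual hc
    by_cases htriv : (⊤ : Subgroup G) = ⊥
    · exact (le_top.trans htriv.le).trans bot_le
    obtain ⟨N, ⟨hN, hN1⟩, hNmin⟩ := Set.Finite.exists_minimal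
      (Set.toFinite {K : Subgroup G | K.Normal ∧ K ≠ ⊥}) ⟨⊤, inferInstance, htriv⟩
    haveI := hN
    have hmin : ∀ K : Subgroup G, K.Normal → K ≤ N → K = ⊥ ∨ K = N := fun K hK hKN => by
      by_cases hK0 : K = ⊥
      · exact Or.inl hK0
      · exact Or.inr (le_antisymm hKN (hNmin ⟨hK, hK0⟩ hKN))
    have hNA : ∀ A ∈ 𝒜, N ≤ normalizer (A : Set G) := fun A hA =>
      minimal_normal_le_normalizer hN hN1 hmin (hsn A hA)
    -- the quotient
    have hquot : (S : Subgroup G) ≤ X ⊔ N := by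
      let q := QuotientGroup.mk' N
      have hq : Function.Surjective q := QuotientGroup.mk'_surjective N
      have hlt : Nat.card (G ⧸ N) < Nat.card G := by
        rw [card_eq_card_quotient_mul_card_subgroup N]
        exact lt_mul_of_one_lt_right Nat.card_pos ((one_lt_card_iff_ne_bot N).2 hN1)
      have h := ih _ hlt (G ⧸ N) rfl (S.mapSurjective hq) ((Subgroup.map q) '' 𝒜)
        (by rintro _ ⟨A, hA, rfl⟩; exact (hsn A hA).map hq)
        (by rw [sSup_image, ← (Subgroup.gc_map_comap q).l_sSup, htop, map_top_of_surjective _ hq])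
        (by
          rintro _ ⟨s, hs, rfl⟩ _ ⟨A, hA, rfl⟩
          exact ⟨_, hinv s hs A hA, CfsgLib.Coprime.conjBy_map q s A⟩)
      have h' : (S : Subgroup G).map q ≤ X.map q := by
        refine h.trans (iSup₂_le fun A' hA' => ?_)
        obtain ⟨A, hA, rfl⟩ := hA'
        show (S : Subgroup G).map q ⊓ A.map q ≤ _
        rw [← map_sylow_inf hq S (hsn A hA)]
        exact map_mono (le_iSup₂ (f := fun A (_ : A ∈ 𝒜) => (S : Subgroup G) ⊓ A) A hA)
      rw [map_le_iff_le_comap, comap_map_eq, QuotientGroup.ker_mk'] at h'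
      exact h'
    suffices hSN : (S : Subgroup G) ⊓ N ≤ X by
      intro s hs
      obtain ⟨x, hx, m, hm, rfl⟩ := mem_sup_of_normal_right.1 (hquot hs)
      refine mul_mem hx (hSN (mem_inf.2 ⟨?_, hm⟩))
      have := mul_mem (inv_mem (hXS hx)) hs
      rwa [inv_mul_cancel_left] at this
    set U : Subgroup G := ⨆ A ∈ 𝒜, N ⊓ A with hU
    have hUn : U.Normal := by
      rw [← normalizer_eq_top_iff, eq_top_iff, ← htop]
      refine sSup_le fun A hA => le_normalizer_iff.2 fun a ha x hx => ?_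
      have := mem_map_of_mem (MulAut.conj a).toMonoidHom hx
      simp only [hU, Subgroup.map_iSup] at this
      refine SetLike.le_def.1 (iSup₂_le fun B hB => ?_) this
      rintro _ ⟨m, hm, rfl⟩
      show a * m * a⁻¹ ∈ U
      rw [show a * m * a⁻¹ = ⁅a, m⁆ * m by simp only [commutatorElement_def]; group]
      refine mul_mem (le_iSup₂ (f := fun A (_ : A ∈ 𝒜) => N ⊓ A) A hA (mem_inf.2 ⟨?_, ?_⟩))
        (le_iSup₂ (f := fun A (_ : A ∈ 𝒜) => N ⊓ A) B hB hm)
      · rw [commutatorElement_def]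
        exact mul_mem (hN.conj_mem m hm.1 a) (inv_mem hm.1)
      · rw [show ⁅a, m⁆ = a * (m * a⁻¹ * m⁻¹) by simp only [commutatorElement_def]; group]
        exact mul_mem ha ((mem_normalizer_iff.1 (hNA A hA hm.1) _).1 (inv_mem ha))
    rcases hmin U hUn (iSup₂_le fun A _ => inf_le_left) with hU0 | hUN
    · -- `N` is central
      have hNc : N ≤ center G := by
        intro m hm
        refine mem_center_iff.2 fun g => ?_
        have hle : (⊤ : Subgroup G) ≤ centralizer ({m} : Set G) := by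
          rw [← htop]
          refine sSup_le fun A hA a ha => mem_centralizer_singleton_iff.2
            (commutatorElement_eq_one_iff_mul_comm.1 ?_)
          rw [← mem_bot, ← hU0]
          refine le_iSup₂ (f := fun A (_ : A ∈ 𝒜) => N ⊓ A) A hA (mem_inf.2 ⟨?_, ?_⟩)
          · rw [commutatorElement_def]; exact mul_mem (hN.conj_mem m hm a) (inv_mem hm)
          · rw [show ⁅a, m⁆ = a * (m * a⁻¹ * m⁻¹) by simp only [commutatorElement_def]; group]
            exact mul_mem ha ((mem_normalizer_iff.1 (hNA A hA hm) _).1 (inv_mem ha))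
        exact mem_centralizer_singleton_iff.1 (hle (mem_top g))
      have hcn : ∀ K : Subgroup G, K ≤ N → K.Normal := fun K hK => ⟨fun x hx g => by
        rwa [mem_center_iff.1 (hNc (hK hx)) g, mul_inv_cancel_right]⟩
      rcases hmin _ (hcn _ inf_le_right) (inf_le_right : (S : Subgroup G) ⊓ N ≤ N) with h | h
      · rw [h]; exact bot_le
      rw [h]
      rcases hmin _ (hcn _ inf_le_right) (inf_le_right : X ⊓ N ≤ N) with h' | h'
      swap
      · exact h'.ge.trans inf_le_left
      exfalso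
      haveI : IsMulCommutative N :=
        ⟨⟨fun a b => Subtype.ext (mem_center_iff.1 (hNc b.2) a)⟩⟩
      have hNS : N ≤ (S : Subgroup G) := h ▸ inf_le_left
      have hD : CfsgLib.Coprime.GzData N (S : Subgroup G) X :=
        ⟨hXS, h', le_antisymm (sup_le hNS hXS) (by rw [sup_comm]; exact hquot)⟩
      obtain ⟨k, hk⟩ := (S.2.to_le hNS).exists_card_eq
      obtain ⟨H, hH⟩ := CfsgLib.Coprime.gaschutz_exists hD (by
        rw [hk]
        exact Nat.Coprime.pow_left k ((Fact.out : p.Prime).coprime_iff_not_dvd.2 S.not_dvd_index))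
      haveI hHn : H.Normal := by
        rw [← normalizer_eq_top_iff, eq_top_iff, ← hH.sup_eq_top]
        refine sup_le (hNc.trans fun z hz => centralizer_le_normalizer _
          (mem_centralizer_iff.2 fun g _ => mem_center_iff.1 hz g)) le_normalizer
      have hHt : H = ⊤ := eq_top_iff.2 (hperf.ge.trans
        (CfsgLib.Fusion.pResidual_le_of_isPGroup_quotient H (IsPGroup.of_card (n := k)
          (by rw [← index_eq_card, hH.index_eq_card, hk]))))
      exact hN1 (le_bot_iff.1 fun x hx => hH.disjoint.le_bot ⟨hx, hHt ▸ mem_top x⟩)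
    · by_cases hNt : N = ⊤
      · -- the members are normal
        refine inf_le_left.trans ?_
        by_cases hall : ∀ A ∈ 𝒜, A = ⊥
        · refine absurd (le_bot_iff.1 (htop.ge.trans (sSup_le fun A hA => (hall A hA).le))) htriv
        push_neg at hall
        obtain ⟨A, hA, hA0⟩ := hall
        haveI : A.Normal := normalizer_eq_top_iff.1 (eq_top_iff.2 (hNt ▸ hNA A hA))
        have hAt : A = ⊤ := ((hmin A inferInstance (hNt ▸ le_top)).resolve_left hA0).trans hNt
        exact (le_inf le_rfl (le_top.trans hAt.ge)).trans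
          (le_iSup₂ (f := fun A (_ : A ∈ 𝒜) => (S : Subgroup G) ⊓ A) A hA)
      · refine hrec N hN.isSubnormal hNt ((fun A => N ⊓ A) '' 𝒜) ?_ ?_ ?_ ?_
        · rintro _ ⟨A, hA, rfl⟩
          exact hN.isSubnormal.inf (hsn A hA)
        · rw [sSup_image]; exact hUN
        · rintro s hs _ ⟨A, hA, rfl⟩
          refine ⟨_, hinv s hs.1 A hA, ?_⟩
          show N ⊓ conjBy s A = conjBy s (N ⊓ A)
          rw [CfsgLib.Coprime.conjBy, CfsgLib.Coprime.conjBy,
            Subgroup.map_inf_eq _ _ _ (MulAut.conj s).injective]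
          congr 1
          exact (conjBy_eq_self_iff.2 (normalizer_eq_top_iff.2 hN ▸ mem_top s)).symm
        · rintro _ ⟨A, hA, rfl⟩
          exact (inf_le_inf_left _ inf_le_right).trans
            (le_iSup₂ (f := fun A (_ : A ∈ 𝒜) => (S : Subgroup G) ⊓ A) A hA)

theorem eq_of_normalClosure {P X : Subgroup G} (hP : IsPGroup p P) (hXP : X ≤ P)
    (h : ∀ Y : Subgroup G, X ≤ Y → Y ≤ P → P ≤ normalizer (Y : Set G) → Y = P) : X = P := by
  by_contra hne
  haveI := hP.isNilpotent
  have hlt : X.subgroupOf P ≠ ⊤ := fun e => hne (le_antisymm hXP (subgroupOf_eq_top.1 e))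
  obtain ⟨M, hM, hle⟩ := (eq_top_or_exists_le_coatom (X.subgroupOf P)).resolve_left hlt
  haveI : M.Normal := NormalizerCondition.normal_of_coatom M
    Group.normalizerCondition_of_isNilpotent hM
  have := h (M.map P.subtype) (by rw [← map_subgroupOf_eq_of_le hXP]; exact map_mono hle)
    (map_subtype_le _) ((normal_subgroupOf_iff_le_normalizer (map_subtype_le _)).1 (by
      rw [Subgroup.subgroupOf, comap_map_eq_self_of_injective P.subtype_injective]; infer_instance))
  exact hM.1 (eq_top_iff.2 fun x _ => by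
    obtain ⟨y, hy, e⟩ := this.ge x.2
    rwa [← Subtype.ext e])

/-- The Sylow subgroup of a join of two subnormal subgroups. -/
theorem sylow_inf_sup (T : Sylow p G) {A B : Subgroup G} (hA : A.IsSubnormal) (hB : B.IsSubnormal) :
    (T : Subgroup G) ⊓ (A ⊔ B) = (T : Subgroup G) ⊓ A ⊔ (T : Subgroup G) ⊓ B := by
  set L := A ⊔ B with hL
  refine (eq_of_normalClosure (T.2.to_le (inf_le_left : (T : Subgroup G) ⊓ L ≤ _))
    (sup_le (inf_le_inf_left _ le_sup_left) (inf_le_inf_left _ le_sup_right))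
    fun Y hXY hYP hPY => ?_).symm
  obtain ⟨R, hR⟩ := sylow_inf_subnormal T (CfsgLib.Coprime.isSubnormal_sup hA hB)
  set 𝒜 : Set (Subgroup L) := {C | ∃ s ∈ (R : Subgroup L),
    C = conjBy s (A.subgroupOf L) ∨ C = conjBy s (B.subgroupOf L)} with h𝒜
  have h := sylow_family_aux (p := p) _ L rfl R 𝒜
    (by
      rintro C ⟨s, -, rfl | rfl⟩
      · exact CfsgLib.Coprime.isSubnormal_conjBy hA.subgroupOf s
      · exact CfsgLib.Coprime.isSubnormal_conjBy hB.subgroupOf s)
    (by
      rw [eq_top_iff, ← subgroupOf_self L]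
      change (A ⊔ B).subgroupOf L ≤ _
      rw [subgroupOf_sup le_sup_left le_sup_right]
      exact sup_le (le_sSup ⟨1, one_mem _, Or.inl (conjBy_one _).symm⟩)
        (le_sSup ⟨1, one_mem _, Or.inr (conjBy_one _).symm⟩))
    (by
      rintro t ht C ⟨s, hs, rfl | rfl⟩
      · exact ⟨t * s, mul_mem ht hs, Or.inl (conjBy_conjBy t s _)⟩
      · exact ⟨t * s, mul_mem ht hs, Or.inr (conjBy_conjBy t s _)⟩)
  have h' := map_mono (f := L.subtype) h
  rw [hR] at h'
  refine le_antisymm hYP (h'.trans ?_)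
  simp only [Subgroup.map_iSup]
  refine iSup₂_le fun C hC => ?_
  obtain ⟨s, hs, hC'⟩ := hC
  rw [Subgroup.map_inf_eq _ _ _ L.subtype_injective, hR]
  have hsP : (s : G) ∈ (T : Subgroup G) ⊓ L := hR.le (mem_map_of_mem L.subtype hs)
  intro x hx
  have hxC : ∃ D : Subgroup G, (T : Subgroup G) ⊓ D ≤ Y ∧ x ∈ conjBy (s : G) D := by
    rcases hC' with rfl | rfl
    · refine ⟨A, le_sup_left.trans hXY, ?_⟩
      have := hx.2
      rwa [CfsgLib.Coprime.conjBy_map, map_subgroupOf_eq_of_le le_sup_left] at this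
    · refine ⟨B, le_sup_right.trans hXY, ?_⟩
      have := hx.2
      rwa [CfsgLib.Coprime.conjBy_map, map_subgroupOf_eq_of_le le_sup_right] at this
  obtain ⟨D, hDY, hxD⟩ := hxC
  rw [CfsgLib.Coprime.mem_conjBy] at hxD
  have h1 : (s : G)⁻¹ * x * s ∈ Y :=
    hDY (mem_inf.2 ⟨mul_mem (mul_mem (inv_mem hsP.1) hx.1.1) hsP.1, hxD⟩)
  have h2 := (mem_normalizer_iff.1 (hPY hsP) _).1 h1
  simpa [mul_assoc] using h2

/-- Kieler's lemma in groups of local characteristic `p`. -/
theorem kieler_local (hH : Cfsg.IsOfLocalCharacteristic p G) (T : Sylow p G) {L : Subgroup G}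
    (hL : L.IsSubnormal) (hne : (T : Subgroup G) ⊓ L ≠ ⊥) :
    L ⊓ centralizer ((Cfsg.omegaOne p ((T : Subgroup G) ⊓
        centralizer ((T : Subgroup G) : Set G)) : Subgroup G) : Set G) =
      L ⊓ centralizer ((Cfsg.omegaOne p (((T : Subgroup G) ⊓ L) ⊓
        centralizer ((((T : Subgroup G) ⊓ L) : Subgroup G) : Set G)) : Subgroup G) : Set G) := by
  have hloc : ∀ (U : Subgroup G), IsPGroup p U → U ≠ ⊥ → ∀ (M : Subgroup G), M.IsSubnormal →
      centralizer (Cfsg.pCore p ↥(normalizer (U : Set G) ⊓ M) :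
        Set ↥(normalizer (U : Set G) ⊓ M)) ≤ Cfsg.pCore p ↥(normalizer (U : Set G) ⊓ M) := by
    intro U hU hU1 M hM
    set D := normalizer (U : Set G) ⊓ M with hD
    have hchar := hH.2 U hU hU1
    have hsn : (D.subgroupOf (normalizer (U : Set G))).IsSubnormal := by
      rw [hD, inf_subgroupOf_left]
      exact hM.subgroupOf
    exact (charP_of_pClean (CfsgLib.Invol.pClean_congr (subgroupOfEquivOfLe inf_le_left)
      (CfsgLib.CharPLoc.pClean_of_isSubnormal hsn (CfsgLib.Invol.pClean_of_centralizer_le hchar))))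
  revert hne
  induction hL with
  | top =>
    intro hne
    rw [inf_eq_left.2 (le_top : (T : Subgroup G) ≤ ⊤)]
  | step H M hle hM hN ih =>
    intro hne
    have hneM : (T : Subgroup G) ⊓ M ≠ ⊥ := fun h =>
      hne (le_bot_iff.1 ((inf_le_inf_left _ hle).trans h.le))
    set TM := (T : Subgroup G) ⊓ M with hTM
    set TH := (T : Subgroup G) ⊓ H with hTH
    have hTMH : TM ⊓ H = TH := by rw [hTM, hTH, inf_assoc, inf_eq_right.2 hle]
    set ZM := Cfsg.omegaOne p (TM ⊓ centralizer (TM : Set G)) with hZM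
    set ZH := Cfsg.omegaOne p (TH ⊓ centralizer (TH : Set G)) with hZH
    -- Kieler's lemma inside `D`
    have key : ∀ D : Subgroup G, TM ≤ D → D ≤ M →
        centralizer (Cfsg.pCore p D : Set D) ≤ Cfsg.pCore p D →
          (H ⊓ D) ⊓ centralizer (ZM : Set G) = (H ⊓ D) ⊓ centralizer (ZH : Set G) := by
      intro D hTD hDM hD
      obtain ⟨R, hR⟩ := sylow_inf_subnormal T hM
      have hRD : (R : Subgroup M) ≤ D.subgroupOf M := fun x hx =>
        mem_subgroupOf.2 (hTD (hR.le (mem_map_of_mem M.subtype hx)))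
      let R' : Sylow p D := (R.subtype hRD).mapSurjective
        (f := (subgroupOfEquivOfLe hDM).toMonoidHom) (subgroupOfEquivOfLe hDM).surjective
      have hR' : (R' : Subgroup D).map D.subtype = TM := by
        refine Eq.trans ?_ hR
        show (((R.subtype hRD : Sylow p (D.subgroupOf M)) : Subgroup (D.subgroupOf M)).map
          (subgroupOfEquivOfLe hDM).toMonoidHom).map D.subtype = _
        rw [Subgroup.map_map, show D.subtype.comp (subgroupOfEquivOfLe hDM).toMonoidHom =
          M.subtype.comp (D.subgroupOf M).subtype from rfl, ← Subgroup.map_map, Sylow.coe_subtype,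
          map_subgroupOf_eq_of_le hRD]
      haveI hHn : ((H ⊓ D).subgroupOf D).Normal :=
        (normal_subgroupOf_iff_le_normalizer inf_le_right).2
          (CfsgLib.Coprime.inf_le_normalizer
            (hDM.trans ((normal_subgroupOf_iff_le_normalizer hle).1 hN)) le_normalizer)
      have h := congrArg (Subgroup.map D.subtype) (kieler_normal hD R' ((H ⊓ D).subgroupOf D))
      have kk : ∀ X : Subgroup D,
          (((H ⊓ D).subgroupOf D) ⊓ centralizer (X : Set D)).map D.subtype =
            (H ⊓ D) ⊓ centralizer ((X.map D.subtype : Subgroup G) : Set G) := by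
        intro X
        ext g
        constructor
        · rintro ⟨y, ⟨hy, hc⟩, rfl⟩
          refine ⟨hy, mem_centralizer_iff.2 ?_⟩
          rintro _ ⟨x, hx, rfl⟩
          exact congrArg Subtype.val (mem_centralizer_iff.1 hc x hx)
        · rintro ⟨hg, hc⟩
          exact ⟨⟨g, hg.2⟩, ⟨hg, mem_centralizer_iff.2 fun x hx =>
            Subtype.ext (mem_centralizer_iff.1 hc _ (mem_map_of_mem D.subtype hx))⟩, rfl⟩
      rw [kk, kk, map_omegaOne_center D.subtype_injective, map_omegaOne_center D.subtype_injective,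
        Subgroup.map_inf_eq _ _ _ D.subtype_injective, map_subgroupOf_eq_of_le inf_le_right, hR',
        show TM ⊓ (H ⊓ D) = TH by
          rw [← inf_assoc, hTMH]
          exact inf_eq_left.2 ((inf_le_inf_left _ hle).trans hTD)] at h
      exact h
    have hpg : ∀ X : Subgroup G, X ≤ (T : Subgroup G) → IsPGroup p
        (Cfsg.omegaOne p (X ⊓ centralizer (X : Set G)) : Subgroup G) := fun X hX =>
      T.2.to_le ((omegaOne_le_self _).trans (inf_le_left.trans hX))
    have hnb : ∀ X : Subgroup G, X ≤ (T : Subgroup G) → X ≠ ⊥ →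
        Cfsg.omegaOne p (X ⊓ centralizer (X : Set G)) ≠ ⊥ := by
      intro X hX hX1 h0
      have hXp := T.2.to_le hX
      have hU := exists_fixed_ne_one hXp hX1 hXp le_normalizer
      obtain ⟨k, hk⟩ :=
        (hXp.to_le (inf_le_left : X ⊓ centralizer (X : Set G) ≤ X)).exists_card_eq
      obtain ⟨u, hu⟩ := exists_prime_orderOf_dvd_card' p (G := (X ⊓ centralizer (X : Set G) :
        Subgroup G)) (hk ▸ dvd_pow_self p fun h => hU (by
          rw [← Subgroup.card_eq_one, hk, h, pow_zero]))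
      have h1 : u ^ p = 1 := orderOf_dvd_iff_pow_eq_one.1 hu.dvd
      have h2 := h0.le (mem_omegaOne u.2 (congrArg Subtype.val h1))
      rw [orderOf_eq_one_iff.2 (Subtype.ext (mem_bot.1 h2) : u = 1)] at hu
      exact (Fact.out : p.Prime).ne_one hu.symm
    have hTHT : (T : Subgroup G) ⊓ H ≤ T := inf_le_left
    have hnorm : ∀ X : Subgroup G, normalizer (X : Set G) ≤ normalizer
        ((Cfsg.omegaOne p (X ⊓ centralizer (X : Set G)) : Subgroup G) : Set G) := by
      intro X
      refine le_normalizer_iff.2 fun g hg x hx => ?_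
      have := mem_map_of_mem (MulAut.conj g).toMonoidHom hx
      rw [map_omegaOne_center (MulAut.conj g).injective,
        show X.map (MulAut.conj g).toMonoidHom = X from
          CfsgLib.Coprime.conjBy_eq_self_iff.2 hg] at this
      exact this
    have hTMTH : TM ≤ normalizer (TH : Set G) := by
      rw [← hTMH]
      exact CfsgLib.Coprime.inf_le_normalizer le_normalizer
        (inf_le_right.trans ((normal_subgroupOf_iff_le_normalizer hle).1 hN))
    have e1 := key _ (le_inf (hTMTH.trans (hnorm TH)) inf_le_right) inf_le_right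
      (hloc ZH (hpg _ hTHT) (hnb _ hTHT hne) M hM)
    have e2 := key _ (le_inf (le_normalizer.trans (hnorm TM)) inf_le_right) inf_le_right
      (hloc ZM (hpg _ inf_le_left) (hnb _ inf_le_left hneM) M hM)
    have hM' := ih hneM
    refine le_antisymm (fun x hx => ?_) fun x hx => ?_
    · have hxM : x ∈ M ⊓ centralizer (ZM : Set G) := hM'.le ⟨hle hx.1, hx.2⟩
      exact ⟨hx.1, (e2.le ⟨⟨hx.1, ⟨centralizer_le_normalizer _ hxM.2, hle hx.1⟩⟩, hxM.2⟩).2⟩
    · have h1 := e1.ge ⟨⟨hx.1, ⟨centralizer_le_normalizer _ hx.2, hle hx.1⟩⟩, hx.2⟩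
      exact ⟨hx.1, (hM'.ge ⟨hle hx.1, h1.2⟩).2⟩

/-- The point stabilizer is generated by the `p`-elements centralizing `Ω₁(Z(T))`. -/
theorem pointStabilizer_eq (hH : Cfsg.IsOfLocalCharacteristic p G) (T : Sylow p G) {L : Subgroup G}
    (hL : L.IsSubnormal) :
    Cfsg.pointStabilizer p L ((T : Subgroup G) ⊓ L) =
      Cfsg.pElementClosure p (L ⊓ centralizer ((Cfsg.omegaOne p ((T : Subgroup G) ⊓
        centralizer ((T : Subgroup G) : Set G)) : Subgroup G) : Set G)) := by
  by_cases hne : (T : Subgroup G) ⊓ L = ⊥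
  · have htriv : ∀ x ∈ L, (∃ k : ℕ, orderOf x = p ^ k) → x = 1 := by
      rintro x hx ⟨k, hk⟩
      obtain ⟨R, hR⟩ := sylow_inf_subnormal T hL
      rw [hne, map_eq_bot_iff_of_injective _ L.subtype_injective] at hR
      obtain ⟨R₁, hR₁⟩ := (IsPGroup.of_card (n := k) (by rw [Nat.card_zpowers, hk]) :
        IsPGroup p (zpowers x)).comap_subtype.exists_le_sylow (G := L)
      obtain ⟨g, hg⟩ := MulAction.exists_smul_eq L R R₁
      have h0 : (R₁ : Subgroup L) = ⊥ := by
        rw [← hg, Sylow.coe_subgroup_smul, hR]; simp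
      exact congrArg (fun z : L => (z : G)) (mem_bot.1 (h0 ▸ hR₁ (show (⟨x, hx⟩ : L) ∈ _ from mem_zpowers x)))
    unfold Cfsg.pointStabilizer Cfsg.pElementClosure
    refine le_antisymm ((closure_le _).2 fun x hx => ?_) ((closure_le _).2 fun x hx => ?_)
    · rw [htriv x hx.1.1 hx.2]; exact one_mem _
    · rw [htriv x hx.1.1 hx.2]; exact one_mem _
  · unfold Cfsg.pointStabilizer Cfsg.pElementClosure
    rw [kieler_local hH T hL hne]

theorem pointStabilizer_sup (hH : Cfsg.IsOfLocalCharacteristic p G) (T : Sylow p G)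
    {L₁ L₂ : Subgroup G} (h₁ : L₁.IsSubnormal) (h₂ : L₂.IsSubnormal) :
    Cfsg.pointStabilizer p (L₁ ⊔ L₂) ((T : Subgroup G) ⊓ (L₁ ⊔ L₂)) =
      Cfsg.pointStabilizer p L₁ ((T : Subgroup G) ⊓ L₁) ⊔
        Cfsg.pointStabilizer p L₂ ((T : Subgroup G) ⊓ L₂) := by
  have hL := CfsgLib.Coprime.isSubnormal_sup h₁ h₂
  rw [pointStabilizer_eq hH T hL, pointStabilizer_eq hH T h₁, pointStabilizer_eq hH T h₂]
  set C := centralizer ((Cfsg.omegaOne p ((T : Subgroup G) ⊓
    centralizer ((T : Subgroup G) : Set G)) : Subgroup G) : Set G) with hC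
  have hTC : (T : Subgroup G) ≤ C :=
    le_centralizer_iff.1 ((omegaOne_le_self _).trans inf_le_right)
  have hmono : ∀ A B : Subgroup G, A ≤ B → Cfsg.pElementClosure p A ≤ Cfsg.pElementClosure p B :=
    fun A B h => closure_mono fun x hx => ⟨h hx.1, hx.2⟩
  have hle : ∀ A : Subgroup G, Cfsg.pElementClosure p A ≤ A := fun A =>
    (closure_le _).2 fun x hx => hx.1
  have hnorm : ∀ A : Subgroup G, A ≤ normalizer (Cfsg.pElementClosure p A : Set G) := by
    intro A
    refine le_normalizer_iff.2 fun a ha x hx => ?_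
    refine (closure_le ((Cfsg.pElementClosure p A).comap (MulAut.conj a).toMonoidHom)).2 ?_ hx
    rintro y ⟨hy, k, hk⟩
    exact subset_closure ⟨mul_mem (mul_mem ha hy) (inv_mem ha), k,
      ((MulAut.conj a).orderOf_eq y).trans hk⟩
  have hsylow : ∀ A : Subgroup G, (T : Subgroup G) ⊓ A ≤ Cfsg.pElementClosure p (A ⊓ C) := by
    intro A x hx
    obtain ⟨k, hk⟩ := T.2 ⟨x, hx.1⟩
    obtain ⟨j, -, hj⟩ := (Nat.dvd_prime_pow (Fact.out : p.Prime)).1
      (orderOf_dvd_of_pow_eq_one (congrArg Subtype.val hk))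
    exact subset_closure ⟨⟨hx.2, hTC hx.1⟩, j, hj⟩
  refine le_antisymm ?_ (sup_le (hmono _ _ (inf_le_inf_right _ le_sup_left))
    (hmono _ _ (inf_le_inf_right _ le_sup_right)))
  set J := Cfsg.pElementClosure p (L₁ ⊓ C) ⊔ Cfsg.pElementClosure p (L₂ ⊓ C) with hJ
  set K := (L₁ ⊔ L₂) ⊓ C with hK
  have hJK : J ≤ K := sup_le ((hle _).trans (inf_le_inf_right _ le_sup_left))
    ((hle _).trans (inf_le_inf_right _ le_sup_right))
  have hsnK : (J.subgroupOf K).IsSubnormal := by
    rw [hJ, subgroupOf_sup ((hle _).trans (inf_le_inf_right _ le_sup_left))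
      ((hle _).trans (inf_le_inf_right _ le_sup_right))]
    have aux : ∀ A : Subgroup G, A.IsSubnormal → A ≤ L₁ ⊔ L₂ →
        ((Cfsg.pElementClosure p (A ⊓ C)).subgroupOf K).IsSubnormal := by
      intro A hA hAL
      have hAK : A ⊓ C ≤ K := inf_le_inf_right _ hAL
      have e : (A ⊓ C).subgroupOf K = A.subgroupOf K := by
        ext x; exact ⟨fun h => h.1, fun h => ⟨h, x.2.2⟩⟩
      refine IsSubnormal.step _ ((A ⊓ C).subgroupOf K) (fun x hx => hle _ hx) (e ▸ hA.subgroupOf) ?_
      refine (normal_subgroupOf_iff_le_normalizer (show (Cfsg.pElementClosure p (A ⊓ C)).subgroupOf K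
        ≤ (A ⊓ C).subgroupOf K from fun x hx => hle _ hx)).2
        (le_normalizer_iff.2 fun a ha x hx => ?_)
      exact (mem_normalizer_iff.1 (hnorm _ ha) _).1 hx
    exact CfsgLib.Coprime.isSubnormal_sup (aux L₁ h₁ le_sup_left) (aux L₂ h₂ le_sup_right)
  obtain ⟨R, hR⟩ := sylow_inf_subnormal T hL
  have hTJ : (T : Subgroup G) ⊓ (L₁ ⊔ L₂) ≤ J := by
    rw [sylow_inf_sup T h₁ h₂]
    exact sup_le_sup (hsylow L₁) (hsylow L₂)
  have hidx : ¬ p ∣ (J.subgroupOf K).index := by
    intro hd
    refine R.not_dvd_index (hd.trans ?_)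
    have e : (R : Subgroup ↥(L₁ ⊔ L₂)) = ((T : Subgroup G) ⊓ (L₁ ⊔ L₂)).subgroupOf (L₁ ⊔ L₂) := by
      rw [← comap_map_eq_self_of_injective (Subgroup.subtype_injective _)
        (R : Subgroup ↥(L₁ ⊔ L₂)), hR]
      rfl
    rw [e]
    refine (index_dvd_of_le (show ((T : Subgroup G) ⊓ (L₁ ⊔ L₂)).subgroupOf K ≤ J.subgroupOf K from
      fun x hx => hTJ hx)).trans ?_
    exact ⟨_, (relIndex_mul_relIndex _ K _ (le_inf inf_le_right (inf_le_left.trans hTC))
      inf_le_left).symm⟩
  refine (closure_le _).2 fun x ⟨hxK, k, hk⟩ => ?_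
  have hm := CfsgLib.PGroup.pow_index_mem_of_isSubnormal hsnK (⟨x, hxK⟩ : K)
  rw [mem_subgroupOf, SubmonoidClass.coe_pow] at hm
  obtain ⟨m, hm'⟩ := exists_pow_eq_self_of_coprime (n := (J.subgroupOf K).index) (x := x)
    (by
      rw [hk]
      exact Nat.Coprime.pow_right k ((Fact.out : p.Prime).coprime_iff_not_dvd.2 hidx).symm)
  rw [← hm']
  exact pow_mem hm m

end CfsgLib.LS
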