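import Cfsg.Prelude.Def_LocalStructure
import Cfsg.Agent.Lib.LocalStructure.AmalgamBasic
import Cfsg.Agent.Lib.Fusion.Residual
import Cfsg.Agent.S2744
import Cfsg.Agent.S2750

/-!
# Iterated closures along the coset graph of an amalgam
-/

set_option autoImplicit false
set_option linter.style.haveILetI false

open Subgroup
open scoped commutatorElement

namespace CfsgLib.LS.AmalClosure

open Cfsg (CosetVertex cosetGraph vertexZ vertexQ vertexVIter pElementClosure IsSpeAmalgamPair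
  IsCharPAmalgamPair sylowCenterClosure omegaOne pCoreOf edgeStabilizer)
open CfsgLib.Fusion (conjBy)

variable {X : Type*} [Group X] {p : ℕ} {M₁ M₂ : Subgroup X}

theorem adj_smul (g : X) {a b : CosetVertex M₁ M₂} (h : (cosetGraph M₁ M₂).Adj a b) :
    (cosetGraph M₁ M₂).Adj (g • a) (g • b) := by
  rw [cosetGraph, SimpleGraph.fromRel_adj] at h ⊢
  refine ⟨fun e => h.1 (smul_left_cancel g e), h.2.imp ?_ ?_⟩ <;>
  · rintro ⟨x, rfl, rfl⟩
    exact ⟨g * x, rfl, rfl⟩

theorem dist_smul_le (hcon : (cosetGraph M₁ M₂).Connected) (g : X) (a b : CosetVertex M₁ M₂) :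
    (cosetGraph M₁ M₂).dist (g • a) (g • b) ≤ (cosetGraph M₁ M₂).dist a b := by
  obtain ⟨w, hw⟩ := hcon.exists_walk_length_eq_dist a b
  have key : ∀ {u v : CosetVertex M₁ M₂} (w : (cosetGraph M₁ M₂).Walk u v),
      ∃ w' : (cosetGraph M₁ M₂).Walk (g • u) (g • v), w'.length = w.length := by
    intro u v w
    induction w with
    | nil => exact ⟨.nil, rfl⟩
    | cons h _ ih => obtain ⟨w', hw'⟩ := ih; exact ⟨.cons (adj_smul g h) w', by simp [hw']⟩
  obtain ⟨w', hw'⟩ := key w
  exact (SimpleGraph.dist_le w').trans (hw'.trans hw).le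

variable [Fact p.Prime]

theorem conjBy_sylowCenterClosure_le {H K : Subgroup X} [Finite H] (g : X)
    (hK : conjBy g H = K) : conjBy g (sylowCenterClosure p H) ≤ sylowCenterClosure p K := by
  subst hK
  rw [sylowCenterClosure, CfsgLib.Fusion.conjBy, Subgroup.map_iSup]
  refine iSup_le fun S => ?_
  set e := H.equivMapOfInjective (MulAut.conj g).toMonoidHom (MulAut.conj g).injective
  refine le_iSup_of_le (S.mapSurjective (f := e.toMonoidHom) e.surjective) (le_of_eq ?_)
  have h1 := CfsgLib.LS.Amal.map_omZ (p := p) (f := (MulAut.conj g).toMonoidHom) (MulAut.conj g).injective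
    ((S : Subgroup H).map H.subtype)
  have h2 : ((S.mapSurjective (f := e.toMonoidHom) e.surjective : Sylow p _) : Subgroup _).map
      (H.map (MulAut.conj g).toMonoidHom).subtype =
      ((S : Subgroup H).map H.subtype).map (MulAut.conj g).toMonoidHom := by
    show ((S : Subgroup H).map e.toMonoidHom).map (H.map (MulAut.conj g).toMonoidHom).subtype = _
    rw [Subgroup.map_map, Subgroup.map_map]
    rfl
  rw [h2]
  exact h1

theorem conjBy_vertexZ_le (h : IsCharPAmalgamPair p M₁ M₂) (g : X) (μ : CosetVertex M₁ M₂) :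
    conjBy g (vertexZ p μ) ≤ vertexZ p (g • μ) :=
  haveI := CfsgLib.LS.Amal.finite_stabilizer h μ
  conjBy_sylowCenterClosure_le g (MulAction.stabilizer_smul_eq_stabilizer_map_conj g μ).symm

theorem conjBy_vIter_le (h : IsCharPAmalgamPair p M₁ M₂) (hcon : (cosetGraph M₁ M₂).Connected) (g : X) (n : ℕ) (μ : CosetVertex M₁ M₂) :
    conjBy g (vertexVIter p M₁ M₂ n μ) ≤ vertexVIter p M₁ M₂ n (g • μ) := by
  rw [vertexVIter, CfsgLib.Fusion.conjBy, Subgroup.map_iSup]
  refine iSup_le fun ν => ?_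
  refine le_trans (conjBy_vertexZ_le h g _) ?_
  exact le_iSup_of_le ⟨g • ν.1, (dist_smul_le hcon g _ _).trans ν.2⟩ le_rfl

theorem stabilizer_le_normalizer_vIter (h : IsCharPAmalgamPair p M₁ M₂) (hcon : (cosetGraph M₁ M₂).Connected) (n : ℕ)
    (μ : CosetVertex M₁ M₂) :
    MulAction.stabilizer X μ ≤ normalizer (vertexVIter p M₁ M₂ n μ : Set X) := by
  have key : ∀ g ∈ MulAction.stabilizer X μ, ∀ v ∈ vertexVIter p M₁ M₂ n μ,
      g * v * g⁻¹ ∈ vertexVIter p M₁ M₂ n μ := fun g hg v hv => by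
    have := conjBy_vIter_le h hcon g n μ (CfsgLib.Fusion.conj_mem_conjBy hv)
    rwa [MulAction.mem_stabilizer_iff.1 hg] at this
  exact fun g hg => mem_normalizer_iff.2 fun v => ⟨key g hg v, fun h => by
    simpa [mul_assoc] using key g⁻¹ (inv_mem hg) _ h⟩

theorem vIter_le (hcon : (cosetGraph M₁ M₂).Connected) {m : ℕ} {a b : CosetVertex M₁ M₂}
    (h : (cosetGraph M₁ M₂).Adj a b) :
    vertexVIter p M₁ M₂ m b ≤ vertexVIter p M₁ M₂ (m + 1) a := by
  refine iSup_le fun ν => le_iSup_of_le ⟨ν.1, ?_⟩ le_rfl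
  refine (hcon.dist_triangle (v := b)).trans ?_
  rw [SimpleGraph.dist_eq_one_iff_adj.2 h]
  have := ν.2
  omega

theorem vertexZ_le_vIter (n : ℕ) (a : CosetVertex M₁ M₂) : vertexZ p a ≤ vertexVIter p M₁ M₂ n a :=
  le_iSup_of_le (f := fun μ : {μ : CosetVertex M₁ M₂ // (cosetGraph M₁ M₂).dist a μ ≤ n} =>
    vertexZ p μ.1) ⟨a, by simp⟩ le_rfl

theorem exists_adj (h : IsCharPAmalgamPair p M₁ M₂) (a : CosetVertex M₁ M₂) :
    ∃ b, (cosetGraph M₁ M₂).Adj a b := by
  rcases a with q | q <;> obtain ⟨x, rfl⟩ := QuotientGroup.mk_surjective q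
  · exact ⟨Sum.inr x, by rw [cosetGraph, SimpleGraph.fromRel_adj]; exact ⟨by simp, Or.inl ⟨x, rfl, rfl⟩⟩⟩
  · exact ⟨Sum.inl x, by rw [cosetGraph, SimpleGraph.fromRel_adj]; exact ⟨by simp, Or.inr ⟨x, rfl, rfl⟩⟩⟩

theorem vertexZ_ne_bot (h : IsCharPAmalgamPair p M₁ M₂) (a : CosetVertex M₁ M₂) : vertexZ p a ≠ ⊥ := by
  haveI := CfsgLib.LS.Amal.finite_stabilizer h a
  set G := MulAction.stabilizer X a
  have hd : p ∣ Nat.card G := by
    obtain ⟨-, -, -, h1, h2, -⟩ := h
    rcases a with q | q <;> obtain ⟨x, rfl⟩ := QuotientGroup.mk_surjective q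
    · simp only [G, (Cfsg.Agent.S2741.result M₁ M₂ x).1, CfsgLib.LS.Amal.card_map_conj]; exact h1
    · simp only [G, (Cfsg.Agent.S2741.result M₁ M₂ x).2.1, CfsgLib.LS.Amal.card_map_conj]; exact h2
  obtain ⟨S⟩ : Nonempty (Sylow p G) := inferInstance
  haveI hnt : Nontrivial (S : Subgroup G) := by
    rw [Subgroup.nontrivial_iff_ne_bot]
    exact S.ne_bot_of_dvd_card hd
  haveI := S.2.center_nontrivial
  obtain ⟨m, hm0, hm⟩ := (S.2.to_subgroup (center (S : Subgroup G))).nontrivial_iff_card.1 inferInstance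
  obtain ⟨z, hz⟩ := exists_prime_orderOf_dvd_card' (G := center (S : Subgroup G)) p
    (hm ▸ dvd_pow_self p (by omega))
  intro hbot
  set T := (S : Subgroup G).map G.subtype
  have hzT : (((z : (S : Subgroup G)) : G) : X) ∈ omegaOne p (T ⊓ centralizer (T : Set X)) := by
    refine subset_closure ⟨⟨⟨_, (z : (S : Subgroup G)).2, rfl⟩, mem_centralizer_iff.2 ?_⟩, ?_⟩
    · rintro _ ⟨w, hw, rfl⟩
      exact congrArg Subtype.val (congrArg Subtype.val (mem_center_iff.1 z.2 ⟨w, hw⟩))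
    · have h3 : (z : center (S : Subgroup G)) ^ p = 1 := by
        have := pow_orderOf_eq_one z
        rwa [hz] at this
      exact congrArg (fun y : center (S : Subgroup G) => (((y : (S : Subgroup G)) : G) : X)) h3
  have h4 : (((z : (S : Subgroup G)) : G) : X) ∈ vertexZ p a :=
    (le_iSup (fun S : Sylow p G => omegaOne p ((((S : Subgroup G).map G.subtype)) ⊓
      centralizer ((((S : Subgroup G).map G.subtype) : Subgroup X) : Set X))) S) hzT
  rw [hbot, mem_bot] at h4
  have h5 : z = 1 := Subtype.ext (Subtype.ext (Subtype.ext h4))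
  rw [h5, orderOf_one] at hz
  exact (Fact.out : p.Prime).ne_one hz.symm

theorem vertexQ_le_centralizer_vertexZ (h : IsCharPAmalgamPair p M₁ M₂) (a : CosetVertex M₁ M₂) :
    vertexQ p a ≤ centralizer (vertexZ p a : Set X) := by
  haveI := CfsgLib.LS.Amal.finite_stabilizer h a
  rw [le_centralizer_iff]
  refine iSup_le fun S => (CfsgLib.LS.Amal.omZ_le_centralizer _).trans (centralizer_le ?_)
  exact CfsgLib.LS.Amal.pCoreOf_le_sylow _ S

/-- `L_δ` normalises whatever its `p`-residual and a Sylow subgroup normalise. -/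
theorem pElementClosure_le_normalizer {G : Subgroup X} [Finite G] (P : Sylow p G) {U : Subgroup X}
    (hP : (P : Subgroup G).map G.subtype ≤ normalizer (U : Set X))
    (hO : (Cfsg.pResidual p ↥(pElementClosure p G)).map (pElementClosure p G).subtype ≤
      normalizer (U : Set X)) : pElementClosure p G ≤ normalizer (U : Set X) := by
  set L := pElementClosure p G
  have hLG : L ≤ G := CfsgLib.LS.Amal.pElementClosure_le G
  haveI : Finite L := Finite.of_injective _ (inclusion_injective hLG)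
  have hPL : (P : Subgroup G).map G.subtype ≤ L :=
    CfsgLib.LS.Amal.isPGroup_le_pElementClosure (P.2.map G.subtype) (map_subtype_le _)
  have hc : Nat.card (((P : Subgroup G).map G.subtype).subgroupOf L) = Nat.card P := by
    rw [Nat.card_congr (subgroupOfEquivOfLe hPL).toEquiv, card_map_of_injective G.subtype_injective]
  have hPp : IsPGroup p (((P : Subgroup G).map G.subtype).subgroupOf L) :=
    IsPGroup.of_card (hc.trans P.card_eq_multiplicity)
  obtain ⟨P', hP'⟩ := hPp.exists_le_sylow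
  have hP'' : (P' : Subgroup L).map L.subtype ≤ (P : Subgroup G).map G.subtype := by
    haveI : Finite ↥((P' : Subgroup L).map L.subtype) :=
      Finite.of_injective _ (inclusion_injective (map_subtype_le _))
    refine (Subgroup.eq_of_le_of_card_ge ?_ ?_).ge
    · rw [← inf_eq_left.2 hPL, ← subgroupOf_map_subtype]
      exact map_mono hP'
    · rw [card_map_of_injective L.subtype_injective, card_map_of_injective G.subtype_injective,
        P'.card_eq_multiplicity, P.card_eq_multiplicity]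
      exact Nat.pow_le_pow_right (Fact.out : p.Prime).pos
        ((Nat.factorization_le_iff_dvd Nat.card_pos.ne' Nat.card_pos.ne').2 (card_dvd_of_le hLG) p)
  have h := congrArg (map L.subtype) (CfsgLib.Fusion.pResidual_sup_sylow P')
  rw [Subgroup.map_sup, ← MonoidHom.range_eq_map, range_subtype] at h
  exact h.ge.trans (sup_le hO (hP''.trans hP))

/-- A subgroup between a normalized one and the closure of the commutators with a nilpotent group. -/
theorem le_of_le_sup_commutator {U V Q : Subgroup X} [Group.IsNilpotent Q] (hVQ : V ≤ Q)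
    (hU : Q ≤ normalizer (U : Set X)) (h : V ≤ U ⊔ ⁅V, Q⁆) : V ≤ U := by
  have key : ∀ k, V ≤ U ⊔ Q.lowerCentralSeries k := by
    intro k
    induction k with
    | zero => exact hVQ.trans (le_sup_of_le_right (Subgroup.lowerCentralSeries_zero Q).ge)
    | succ k ih =>
      refine h.trans (sup_le le_sup_left (commutator_le.2 fun v hv q hq => ?_))
      have hnk : Q.lowerCentralSeries k ≤ Q := Q.lowerCentralSeries_antitone (Nat.zero_le k)
      have hWn : ∀ y ∈ Q, ∀ w ∈ U ⊔ Q.lowerCentralSeries (k + 1),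
          y * w * y⁻¹ ∈ U ⊔ Q.lowerCentralSeries (k + 1) := fun y hy w hw => by
        have hle : Q ≤ normalizer ((U ⊔ Q.lowerCentralSeries (k + 1) : Subgroup X) : Set X) :=
          (le_inf hU (Q.self_le_normalizer_lowerCentralSeries _)).trans
            (normalizer_inf_normalizer_le_normalizer_sup _ _)
        exact (mem_normalizer_iff.1 (hle hy) w).1 hw
      have hv' : v ∈ ((Q.lowerCentralSeries k ⊔ U : Subgroup X) : Set X) := sup_comm U _ ▸ ih hv
      rw [coe_mul_of_left_le_normalizer_right _ _ (hnk.trans hU)] at hv'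
      obtain ⟨w, hw, u, hu, rfl⟩ := Set.mem_mul.1 hv'
      rw [show ⁅w * u, q⁆ = (w * (u * (q * u⁻¹ * q⁻¹)) * w⁻¹) * ⁅w, q⁆ by
        simp only [commutatorElement_def]; group]
      refine mul_mem (hWn w (hnk hw) _ (mem_sup_left (mul_mem hu
        ((mem_normalizer_iff.1 (hU hq) _).1 (inv_mem hu))))) (mem_sup_right ?_)
      exact commutator_mem_commutator hw hq
  obtain ⟨k, hk⟩ := (Subgroup.isNilpotent_iff_lowerCentralSeries _).1 (inferInstance : Group.IsNilpotent Q)
  simpa [hk] using key k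

theorem exists_trans (h : IsSpeAmalgamPair p M₁ M₂) {δ μ : CosetVertex M₁ M₂}
    (hμ : (cosetGraph M₁ M₂).Adj δ μ) (S : Sylow p ↥(edgeStabilizer δ μ)) {c : CosetVertex M₁ M₂}
    (hc : (cosetGraph M₁ M₂).Adj δ c) :
    ∃ g ∈ pElementClosure p (MulAction.stabilizer X δ), g • μ = c := by
  classical
  obtain ⟨hchar, hnorm, -⟩ := h
  set T := (S : Subgroup ↥(edgeStabilizer δ μ)).map (edgeStabilizer δ μ).subtype with hT
  -- the normalizer of an edge Sylow subgroup fixes the edge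
  have hfix : ∀ (a b : Cfsg.CosetVertex M₁ M₂), (Cfsg.cosetGraph M₁ M₂).Adj a b →
      T ≤ Cfsg.edgeStabilizer a b → Nat.card T = Nat.card S →
      MulAction.stabilizer X a ⊓ Subgroup.normalizer (T : Set X) ≤ MulAction.stabilizer X b := by
    intro a b hab hTab hcard
    haveI := CfsgLib.LS.Amal.finite_stabilizer hchar δ
    haveI hE : Finite (Cfsg.edgeStabilizer δ μ) :=
      Finite.of_injective _ (Subgroup.inclusion_injective (inf_le_left : Cfsg.edgeStabilizer δ μ ≤ _))
    haveI : Finite M₁ := hchar.2.1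
    haveI : Finite (M₁ ⊓ M₂ : Subgroup X) :=
      Finite.of_injective _ (Subgroup.inclusion_injective (inf_le_left : M₁ ⊓ M₂ ≤ M₁))
    obtain ⟨x, hx⟩ := CfsgLib.LS.Amal.exists_edge hab
    obtain ⟨y, hy⟩ := CfsgLib.LS.Amal.exists_edge hμ
    have hcardE : ∀ (u v : Cfsg.CosetVertex M₁ M₂) (z : X),
        ((u = Sum.inl (z : X ⧸ M₁) ∧ v = Sum.inr (z : X ⧸ M₂)) ∨
          (v = Sum.inl (z : X ⧸ M₁) ∧ u = Sum.inr (z : X ⧸ M₂))) →
        Cfsg.edgeStabilizer u v = (M₁ ⊓ M₂).map (MulAut.conj z).toMonoidHom := by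
      rintro u v z (⟨rfl, rfl⟩ | ⟨rfl, rfl⟩)
      · exact (Cfsg.Agent.S2741.result M₁ M₂ z).2.2
      · rw [Cfsg.edgeStabilizer, inf_comm, ← Cfsg.edgeStabilizer]
        exact (Cfsg.Agent.S2741.result M₁ M₂ z).2.2
    have hTp : IsPGroup p T := by rw [hT]; exact S.2.map _
    -- pull back to the base edge
    set U₀ := T.map (MulAut.conj x⁻¹).toMonoidHom with hU₀
    have hU₀le : U₀ ≤ M₁ ⊓ M₂ := by
      rintro _ ⟨t, ht, rfl⟩
      have h1 := (hcardE a b x hx).le (hTab ht)
      obtain ⟨m, hm, hme⟩ := h1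
      rw [← hme]
      simpa [mul_assoc] using hm
    have hS₀c : Nat.card (U₀.subgroupOf (M₁ ⊓ M₂)) =
        p ^ (Nat.card ↥(M₁ ⊓ M₂)).factorization p := by
      rw [Nat.card_congr (Subgroup.subgroupOfEquivOfLe hU₀le).toEquiv, hU₀,
        CfsgLib.LS.Amal.card_map_conj, hcard, Sylow.card_eq_multiplicity, hcardE δ μ y hy,
        CfsgLib.LS.Amal.card_map_conj]
    let S₀ : Sylow p ↥(M₁ ⊓ M₂) := Sylow.ofCard (U₀.subgroupOf (M₁ ⊓ M₂)) hS₀c
    obtain ⟨n1, n2⟩ := hnorm S₀
    have hmap : (S₀ : Subgroup ↥(M₁ ⊓ M₂)).map (M₁ ⊓ M₂).subtype = U₀ := by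
      rw [Sylow.coe_ofCard, Subgroup.subgroupOf_map_subtype, inf_eq_left.2 hU₀le]
    rw [hmap] at n1 n2
    intro g hg
    have hg' : x⁻¹ * g * x ∈ Subgroup.normalizer (U₀ : Set X) := by
      rw [hU₀]
      refine (CfsgLib.Fusion.conjBy_normalizer x⁻¹ T).le ?_
      rw [CfsgLib.Fusion.mem_conjBy]
      simpa [mul_assoc] using hg.2
    rcases hx with ⟨ha, hb⟩ | ⟨hb, ha⟩
    · subst ha hb
      rw [(Cfsg.Agent.S2741.result M₁ M₂ x).2.1]
      have h1 := hg.1
      rw [(Cfsg.Agent.S2741.result M₁ M₂ x).1] at h1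
      obtain ⟨m, hm, hme⟩ := h1
      rw [← hme] at hg' ⊢
      exact ⟨m, (n2 ⟨hm, by simpa [mul_assoc] using hg'⟩).2, rfl⟩
    · subst ha hb
      rw [(Cfsg.Agent.S2741.result M₁ M₂ x).1]
      have h1 := hg.1
      rw [(Cfsg.Agent.S2741.result M₁ M₂ x).2.1] at h1
      obtain ⟨m, hm, hme⟩ := h1
      rw [← hme] at hg' ⊢
      exact ⟨m, (n2 (n1.ge ⟨hm, by simpa [mul_assoc] using hg'⟩)).1, rfl⟩
  obtain ⟨P, hP⟩ := CfsgLib.LS.Amal.exists_sylow_eq hchar hμ S
  haveI := CfsgLib.LS.Amal.finite_stabilizer hchar δ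
  obtain ⟨g, hg, rfl⟩ := Cfsg.Agent.S2744.result M₁ M₂ δ μ c hμ hc
  let G := MulAction.stabilizer X δ
  let K := (Cfsg.pElementClosure p G).subgroupOf G
  haveI : K.Normal := Subgroup.normal_subgroupOf_of_le_normalizer
    (CfsgLib.LS.Amal.le_normalizer_pElementClosure G)
  have hPK : (P : Subgroup G) ≤ K := fun z hz =>
    CfsgLib.LS.Amal.isPGroup_le_pElementClosure (P.2.map G.subtype)
      (Subgroup.map_subtype_le _) ⟨z, hz, rfl⟩
  have htop : (⟨g, hg⟩ : G) ∈ K ⊔ Subgroup.normalizer ((P : Subgroup G) : Set G) := by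
    rw [sup_comm]
    exact (Sylow.normalizer_sup_eq_top' P hPK).ge (Subgroup.mem_top _)
  obtain ⟨k, hk, n, hn, hkn⟩ := Subgroup.mem_sup_of_normal_left.1 htop
  refine ⟨k, hk, ?_⟩
  have hnT : (n : X) ∈ Subgroup.normalizer (T : Set X) := by
    rw [hT, ← hP]
    exact Subgroup.le_normalizer_map G.subtype ⟨n, hn, rfl⟩
  rw [show g = (k : X) * (n : X) from (congrArg Subtype.val hkn).symm, mul_smul,
    show (n : X) • μ = μ from hfix δ μ hμ (map_subtype_le _) (card_map_of_injective (subtype_injective _)) ⟨n.2, hnT⟩]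

theorem le_normalizer_pCoreOf (G : Subgroup X) : G ≤ normalizer (pCoreOf p G : Set X) := by
  haveI : (Cfsg.pCore p G).Normal := CfsgLib.Coprime.pCore_normal' p
  intro g hg
  have key : ∀ t ∈ G, ∀ x ∈ pCoreOf p G, t * x * t⁻¹ ∈ pCoreOf p G := by
    rintro t ht _ ⟨y, hy, rfl⟩
    exact ⟨⟨t, ht⟩ * y * ⟨t, ht⟩⁻¹, Normal.conj_mem inferInstance y hy _, rfl⟩
  exact mem_normalizer_iff.2 fun x => ⟨key g hg x, fun h => by
    simpa [mul_assoc] using key g⁻¹ (inv_mem hg) _ h⟩

theorem commutator_sup_le {U Z Q : Subgroup X} (hZU : Z ≤ normalizer (U : Set X))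
    (hQU : Q ≤ normalizer (U : Set X)) (hc : Q ≤ centralizer (Z : Set X)) : ⁅U ⊔ Z, Q⁆ ≤ U := by
  refine commutator_le.2 fun v hv q hq => ?_
  rw [sup_comm, ← SetLike.mem_coe, coe_mul_of_left_le_normalizer_right _ _ hZU] at hv
  obtain ⟨z, hz, u, hu, rfl⟩ := Set.mem_mul.1 hv
  have h1 : z * q = q * z := mem_centralizer_iff.1 (hc hq) z hz
  rw [show ⁅z * u, q⁆ = z * (u * (q * u⁻¹ * q⁻¹)) * z⁻¹ * (z * q * z⁻¹ * q⁻¹) by
    simp only [commutatorElement_def]; group, h1, mul_inv_cancel_right, mul_inv_cancel, mul_one]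
  exact (mem_normalizer_iff.1 (hZU hz) _).1
    (mul_mem hu ((mem_normalizer_iff.1 (hQU hq) _).1 (inv_mem hu)))

end CfsgLib.LS.AmalClosure
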