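import Cfsg.Agent.Lib.LocalStructure.BasicProperty
import Cfsg.Agent.Lib.LocalStructure.Kieler
import Cfsg.Agent.Lib.LocalStructure.FStar

/-!
# Asymmetric members with the basic property

`O_p(M)` is weakly closed when `Y_M` is asymmetric. The proof walks through the graph whose
vertices are the conjugates of `O_p(M)` and whose edges are pairs normalizing each other: along
every walk the associated `Ω₁(Z(·))` stay inside every vertex, so they generate a `p`-group
normalized by two conjugates of `M`, and both lie in one maximal subgroup of characteristic `p`.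
-/

set_option autoImplicit false
set_option linter.style.haveILetI false
set_option linter.unusedSectionVars false

namespace CfsgLib.LS

open Subgroup
open CfsgLib.Coprime (conjBy conjBy_conjBy conjBy_one conjBy_eq_self_iff conj_mem_conjBy)
open scoped commutatorElement

variable {G : Type*} [Group G] [Finite G] {p : ℕ} [Fact p.Prime]

/-- `Ω₁(Z(P))`. -/
def ozc (p : ℕ) (P : Subgroup G) : Subgroup G :=
  Cfsg.omegaOne p (P ⊓ centralizer (P : Set G))

theorem ozc_le (P : Subgroup G) : ozc p P ≤ P := (omegaOne_le_self _).trans inf_le_left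

theorem le_centralizer_ozc (P : Subgroup G) : P ≤ centralizer (ozc p P : Set G) :=
  le_centralizer_iff.1 ((omegaOne_le_self _).trans inf_le_right)

theorem conjBy_ozc (g : G) (P : Subgroup G) : conjBy g (ozc p P) = ozc p (conjBy g P) :=
  map_omegaOne_center (MulAut.conj g).injective P

theorem normalizer_le_ozc (P : Subgroup G) :
    normalizer (P : Set G) ≤ normalizer (ozc p P : Set G) := fun g hg =>
  conjBy_eq_self_iff.1 (by rw [conjBy_ozc, conjBy_eq_self_iff.2 hg])

theorem conjBy_le_normalizer {A B : Subgroup G} (g : G) (h : A ≤ normalizer (B : Set G)) :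
    conjBy g A ≤ normalizer (conjBy g B : Set G) := by
  rw [← normalizer_conjBy]; exact conjBy_mono g h

theorem largestPReducedOf_conjBy (g : G) (L : Subgroup G) :
    Cfsg.largestPReducedOf p (conjBy g L) = conjBy g (Cfsg.largestPReducedOf p L) := by
  unfold Cfsg.largestPReducedOf
  let e : L ≃* ↥(conjBy g L) := (MulAut.conj g).subgroupMap L
  rw [← map_largestPReduced_equiv (p := p) e, Subgroup.map_map,
    show conjBy g ((Cfsg.largestPReduced p L).map L.subtype) =
      ((Cfsg.largestPReduced p L).map L.subtype).map (MulAut.conj g).toMonoidHom from rfl,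
    Subgroup.map_map]
  rfl

section Frame

variable (hpar : Cfsg.IsOfParabolicCharacteristic p G) (S : Sylow p G) {M : Subgroup G}
  (hSM : (S : Subgroup G) ≤ M) (hM : Cfsg.IsInFrakM p M)

include hSM hM in
theorem fm_core_eq : Cfsg.pCoreOf p M =
    (S : Subgroup G) ⊓ centralizer ((Cfsg.largestPReducedOf p M : Subgroup G) : Set G) := by
  refine le_antisymm (le_inf (pCoreOf_le_sylow S hSM) (pCoreOf_le_centralizer_largest M)) ?_
  intro x hx
  set C := centralizer ((Cfsg.largestPReducedOf p M : Subgroup G) : Set G) with hC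
  haveI : ((M ⊓ C).subgroupOf M).Normal :=
    (normal_subgroupOf_iff_le_normalizer inf_le_left).2
      (CfsgLib.Coprime.inf_le_normalizer le_normalizer ((le_normalizer_largestPReducedOf M).trans
        (CfsgLib.Coprime.normalizer_le_normalizer_centralizer _)))
  have h := inf_le_pCore_of_isPClosed (S.subtype hSM) ((M ⊓ C).subgroupOf M)
    (isPClosed_of_equiv (subgroupOfEquivOfLe inf_le_left).symm hM.2.2.2.2.1)
    (show (⟨x, hSM hx.1⟩ : M) ∈ _ from ⟨hx.1, ⟨hSM hx.1, hx.2⟩⟩)
  exact mem_map_of_mem M.subtype h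

include hSM hM in
/-- `O_p(M)` is a maximal `p`-subgroup of `C(Y_M)`. -/
theorem fm_core_maximal {X : Subgroup G} (hX : IsPGroup p X) (hPX : Cfsg.pCoreOf p M ≤ X)
    (hXC : X ≤ centralizer ((Cfsg.largestPReducedOf p M : Subgroup G) : Set G)) :
    X = Cfsg.pCoreOf p M := by
  set C := centralizer ((Cfsg.largestPReducedOf p M : Subgroup G) : Set G) with hC
  set K := M ⊔ C with hK
  have hKC : K ≤ normalizer (C : Set G) := sup_le ((le_normalizer_largestPReducedOf M).trans
    (CfsgLib.Coprime.normalizer_le_normalizer_centralizer _)) le_normalizer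
  haveI : (C.subgroupOf K).Normal :=
    (normal_subgroupOf_iff_le_normalizer le_sup_right).2 hKC
  obtain ⟨R, hR⟩ := sylow_inf_normal (S.subtype (hSM.trans le_sup_left)) (C.subgroupOf K)
  refine le_antisymm ?_ hPX
  have hmax := R.is_maximal'
    ((hX.comap_subtype (H := X) (K := K)).comap_subtype (K := C.subgroupOf K)) (fun r hr => ?_)
  · intro x hx
    have hxK : x ∈ K := le_sup_right (a := M) (hXC hx)
    have h : (⟨⟨x, hxK⟩, mem_subgroupOf.2 (hXC hx)⟩ : C.subgroupOf K) ∈ (R : Subgroup _) := by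
      rw [← hmax]; exact hx
    have h2 := hR.le (mem_map_of_mem (C.subgroupOf K).subtype h)
    rw [fm_core_eq S hSM hM]
    exact mem_inf.2 ⟨h2.1, hXC hx⟩
  · refine hPX ?_
    rw [fm_core_eq S hSM hM]
    have h2 := hR.le (mem_map_of_mem (C.subgroupOf K).subtype hr)
    exact mem_inf.2 ⟨h2.1, mem_subgroupOf.1 r.2⟩

include hpar hSM hM in
theorem fm_dagger_eq : normalizer ((Cfsg.largestPReducedOf p M : Subgroup G) : Set G) =
    M ⊔ centralizer ((Cfsg.largestPReducedOf p M : Subgroup G) : Set G) := by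
  refine le_antisymm ?_ (sup_le (le_normalizer_largestPReducedOf M) (centralizer_le_normalizer _))
  obtain ⟨X, hX, hNX⟩ := exists_maxCharP (normalizer_largest_mem hpar S hSM hM.1)
  exact hNX.trans (hM.2.2.1 X hX ((le_normalizer_largestPReducedOf M).trans hNX)).le

include hSM hM in
theorem fm_largest_eq : Cfsg.largestPReducedOf p M = ozc p (Cfsg.pCoreOf p M) := by
  have hP := fm_core_eq S hSM hM
  set P := Cfsg.pCoreOf p M with hPdef
  have hPM : P ≤ M := pCoreOf_le_self M
  obtain ⟨-, -, hst⟩ := largest_structure (charP_of_mem hM.1) (S.subtype hSM)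
    (TL := P.subgroupOf M) rfl (by
      ext t
      simp only [mem_inf, mem_subgroupOf, hP, Sylow.coe_subtype]
      refine and_congr_right fun _ => ⟨fun h => mem_centralizer_iff.2 fun y hy =>
        Subtype.ext (mem_centralizer_iff.1 h _ (mem_map_of_mem M.subtype hy)),
        fun h => mem_centralizer_iff.2 ?_⟩
      rintro _ ⟨y, hy, rfl⟩
      exact congrArg Subtype.val (mem_centralizer_iff.1 h y hy))
  have e := congrArg (Subgroup.map M.subtype) hst
  rw [map_omegaOne_center M.subtype_injective, map_subgroupOf_eq_of_le hPM] at e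
  exact e

include hpar hSM hM in
theorem fm_normalizer_core_le : normalizer ((Cfsg.pCoreOf p M : Subgroup G) : Set G) ≤
    M ⊔ centralizer ((Cfsg.largestPReducedOf p M : Subgroup G) : Set G) := by
  rw [← fm_dagger_eq hpar S hSM hM]
  conv_rhs => rw [fm_largest_eq S hSM hM]
  exact normalizer_le_ozc _

/-- The graph walk: consecutive vertices are conjugates of `P` normalizing each other. -/
def IsCoreWalk (P : Subgroup G) (f : ℕ → Subgroup G) (n : ℕ) : Prop :=
  (∀ i ≤ n, ∃ g : G, f i = conjBy g P) ∧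
    ∀ i < n, f i ≤ normalizer (f (i + 1) : Set G) ∧ f (i + 1) ≤ normalizer (f i : Set G)

variable (hasym : ¬ Cfsg.IsSymmetricIn (Cfsg.largestPReducedOf p M))

include hasym in
theorem fm_commute {g : G} (h1 : conjBy g (Cfsg.largestPReducedOf p M) ≤
      normalizer ((Cfsg.largestPReducedOf p M : Subgroup G) : Set G))
    (h2 : Cfsg.largestPReducedOf p M ≤
      normalizer (conjBy g (Cfsg.largestPReducedOf p M) : Set G)) :
    conjBy g (Cfsg.largestPReducedOf p M) ≤
      centralizer ((Cfsg.largestPReducedOf p M : Subgroup G) : Set G) := by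
  rw [le_centralizer_iff, ← commutator_eq_bot_iff_le_centralizer]
  by_contra h
  exact hasym ⟨g, h, commutator_le_inf_of_normalizing h1 h2⟩

include hSM hM hasym in
theorem fm_walk_step {a b : Subgroup G} (ha : ∃ g : G, a = conjBy g (Cfsg.pCoreOf p M))
    (hb : ∃ g : G, b = conjBy g (Cfsg.pCoreOf p M))
    (hab : ozc p a ≤ normalizer (ozc p b : Set G)) (hba : ozc p b ≤ normalizer (ozc p a : Set G))
    {R : Subgroup G} (hR : IsPGroup p R) (hbR : b ≤ R) (haR : ozc p a ≤ R) : ozc p a ≤ b := by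
  have hY := fm_largest_eq S hSM hM
  obtain ⟨x, rfl⟩ := ha
  obtain ⟨y, rfl⟩ := hb
  set P := Cfsg.pCoreOf p M with hP
  set Y := Cfsg.largestPReducedOf p M with hYdef
  have e : ∀ g : G, ozc p (conjBy g P) = conjBy g Y := fun g => by rw [← conjBy_ozc, ← hY]
  rw [e] at hab hba haR ⊢
  rw [e] at hab hba
  have back : ∀ A B : Subgroup G, A ≤ normalizer (B : Set G) →
      conjBy y⁻¹ A ≤ normalizer (conjBy y⁻¹ B : Set G) := fun A B h => conjBy_le_normalizer _ h
  have h1 := back _ _ hab
  have h2 := back _ _ hba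
  rw [conjBy_conjBy, conjBy_conjBy, inv_mul_cancel, conjBy_one] at h1 h2
  have hc := fm_commute hasym h1 h2
  have hXp : IsPGroup p (conjBy y⁻¹ (R ⊓ centralizer (conjBy y Y : Set G)) : Subgroup G) :=
    isPGroup_conjBy (hR.to_le inf_le_left) _
  have hc' : conjBy x Y ≤ centralizer (conjBy y Y : Set G) := by
    intro z hz
    refine mem_centralizer_iff.2 ?_
    rintro _ ⟨w, hw, rfl⟩
    have hz' : y⁻¹ * z * y ∈ conjBy (y⁻¹ * x) Y := by
      rw [← conjBy_conjBy, CfsgLib.Coprime.mem_conjBy, inv_inv]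
      simpa [mul_assoc] using hz
    have := mem_centralizer_iff.1 (hc hz') w hw
    show y * w * y⁻¹ * z = z * (y * w * y⁻¹)
    calc y * w * y⁻¹ * z = y * (w * (y⁻¹ * z * y)) * y⁻¹ := by group
      _ = y * ((y⁻¹ * z * y) * w) * y⁻¹ := by rw [this]
      _ = _ := by group
  have hPc : conjBy y P ≤ centralizer (conjBy y Y : Set G) := by
    rw [← e]; exact le_centralizer_ozc _
  have hEq := fm_core_maximal S hSM hM hXp (le_conjBy_iff.2 (by
    rw [inv_inv]; exact le_inf hbR hPc)) (by
    intro z hz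
    rw [CfsgLib.Coprime.mem_conjBy, inv_inv] at hz
    refine mem_centralizer_iff.2 fun w hw => ?_
    have := mem_centralizer_iff.1 (mem_inf.1 hz).2 _ (conj_mem_conjBy (g := y) hw)
    calc w * z = y⁻¹ * ((y * w * y⁻¹) * (y * z * y⁻¹)) * y := by group
      _ = y⁻¹ * ((y * z * y⁻¹) * (y * w * y⁻¹)) * y := by rw [this]
      _ = z * w := by group)
  calc conjBy x Y ≤ R ⊓ centralizer (conjBy y Y : Set G) := le_inf haR hc'
    _ = conjBy y P := by
      rw [hP, ← hEq, conjBy_conjBy, mul_inv_cancel, conjBy_one]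

include hSM hM hasym in
theorem fm_walk : ∀ (n : ℕ) (f : ℕ → Subgroup G), IsCoreWalk (Cfsg.pCoreOf p M) f n →
    ozc p (f 0) ≤ f n ∧ ozc p (f n) ≤ f 0 := by
  have hPp : IsPGroup p (Cfsg.pCoreOf p M) := pCoreOf_isPGroup M
  intro n
  induction n with
  | zero => exact fun f _ => ⟨ozc_le _, ozc_le _⟩
  | succ n ih =>
    intro f hf
    have h1 := ih f ⟨fun i hi => hf.1 i (by omega), fun i hi => hf.2 i (by omega)⟩
    have h2 := ih (fun i => f (i + 1))
      ⟨fun i hi => hf.1 (i + 1) (by omega), fun i hi => hf.2 (i + 1) (by omega)⟩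
    obtain ⟨a1, b1⟩ := hf.2 0 (by omega)
    obtain ⟨an, bn⟩ := hf.2 n (by omega)
    have hp : ∀ i ≤ n + 1, IsPGroup p (f i) := fun i hi => by
      obtain ⟨g, hg⟩ := hf.1 i hi
      exact hg ▸ isPGroup_conjBy hPp g
    have hA : ozc p (f 0) ≤ normalizer (ozc p (f (n + 1)) : Set G) :=
      h1.1.trans (an.trans (normalizer_le_ozc _))
    have hB : ozc p (f (n + 1)) ≤ normalizer (ozc p (f 0) : Set G) :=
      h2.2.trans (b1.trans (normalizer_le_ozc _))
    refine ⟨fm_walk_step S hSM hM hasym (hf.1 0 (by omega)) (hf.1 (n + 1) le_rfl) hA hB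
      ((hp n (by omega)).to_sup_of_normal_right' (hp (n + 1) le_rfl) an) le_sup_right
      (h1.1.trans le_sup_left), ?_⟩
    exact fm_walk_step S hSM hM hasym (hf.1 (n + 1) le_rfl) (hf.1 0 (by omega)) hB hA
      ((hp 1 (by omega)).to_sup_of_normal_right' (hp 0 (by omega)) b1) le_sup_right
      (h2.2.trans le_sup_left)

include hpar hSM hM hasym in
/-- Conjugates of `O_p(M)` normalizing each other are equal. -/
theorem fm_adjacent_eq {h : G}
    (h1 : Cfsg.pCoreOf p M ≤ normalizer (conjBy h (Cfsg.pCoreOf p M) : Set G))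
    (h2 : conjBy h (Cfsg.pCoreOf p M) ≤ normalizer ((Cfsg.pCoreOf p M : Subgroup G) : Set G)) :
    conjBy h (Cfsg.pCoreOf p M) = Cfsg.pCoreOf p M := by
  classical
  set P := Cfsg.pCoreOf p M with hP
  set P' := conjBy h P with hP'
  let reach : Set (Subgroup G) := {D | ∃ f n, IsCoreWalk P f n ∧ f 0 = P ∧ f n = D}
  set Z : Subgroup G := ⨆ D : reach, ozc p (D : Subgroup G) with hZ
  have hPr : P ∈ reach := ⟨fun _ => P, 0, ⟨fun _ _ => ⟨1, (conjBy_one _).symm⟩,
    fun i hi => absurd hi (Nat.not_lt_zero i)⟩, rfl, rfl⟩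
  have hZP : Z ≤ P := iSup_le fun ⟨D, f, n, hw, h0, hn⟩ => by
    show ozc p D ≤ P
    rw [← hn, ← h0]; exact (fm_walk S hSM hM hasym n f hw).2
  have hY := fm_largest_eq S hSM hM
  have hYZ : Cfsg.largestPReducedOf p M ≤ Z :=
    hY.le.trans (le_iSup (fun D : reach => ozc p (D : Subgroup G)) ⟨P, hPr⟩)
  have hmove : ∀ k : G, (∀ D ∈ reach, conjBy k D ∈ reach) → k ∈ normalizer (Z : Set G) := by
    intro k hk
    refine conjBy_eq_self_iff.1 (eq_of_le_of_card_ge ?_ (CfsgLib.Coprime.card_conjBy k Z).ge)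
    rw [hZ, show conjBy k (⨆ D : reach, ozc p (D : Subgroup G)) =
      ⨆ D : reach, conjBy k (ozc p (D : Subgroup G)) from Subgroup.map_iSup _ _]
    refine iSup_le fun D => ?_
    rw [conjBy_ozc]
    exact le_iSup (fun D : reach => ozc p (D : Subgroup G)) ⟨_, hk D D.2⟩
  have hMZ : M ≤ normalizer (Z : Set G) := fun m hm => hmove m (by
    rintro D ⟨f, n, hw, h0, hn⟩
    have hmP : conjBy m P = P := conjBy_eq_self_iff.2
      ((le_normalizer.trans (normalizer_le_normalizer_pCoreOf M)) hm)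
    refine ⟨fun i => conjBy m (f i), n, ⟨fun i hi => ?_, fun i hi =>
      ⟨conjBy_le_normalizer m (hw.2 i hi).1, conjBy_le_normalizer m (hw.2 i hi).2⟩⟩,
      by show conjBy m (f 0) = P; rw [h0, hmP], by rw [← hn]⟩
    obtain ⟨g, hg⟩ := hw.1 i hi
    exact ⟨m * g, by show conjBy m (f i) = _; rw [hg, conjBy_conjBy]⟩)
  have hM'Z : conjBy h M ≤ normalizer (Z : Set G) := fun k hk => hmove k (by
    rintro D ⟨f, n, hw, h0, hn⟩
    have hkP' : conjBy k P' = P' := by
      refine conjBy_eq_self_iff.2 ?_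
      rw [hP', ← normalizer_conjBy]
      exact conjBy_mono h (le_normalizer.trans (normalizer_le_normalizer_pCoreOf M)) hk
    have hPP' : P ≤ normalizer (P' : Set G) ∧ P' ≤ normalizer (P : Set G) := ⟨h1, h2⟩
    have hk1 : P' ≤ normalizer (conjBy k P : Set G) ∧ conjBy k P ≤ normalizer (P' : Set G) := by
      have a := conjBy_le_normalizer k h2
      have b := conjBy_le_normalizer k h1
      rw [hkP'] at a b
      exact ⟨a, b⟩
    refine ⟨fun i => if i = 0 then P else if i = 1 then P' else conjBy k (f (i - 2)), n + 2,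
      ⟨fun i hi => ?_, fun i hi => ?_⟩, by simp, by simp [hn]⟩
    · rcases i with _ | _ | i
      · exact ⟨1, by simp [conjBy_one]⟩
      · exact ⟨h, by simp [hP']⟩
      · obtain ⟨g, hg⟩ := hw.1 i (by omega)
        exact ⟨k * g, by simp [hg, conjBy_conjBy]⟩
    · rcases i with _ | _ | i
      · simpa using hPP'
      · simpa [h0] using hk1
      · have h3 : i + 1 + 1 + 1 - 2 = i + 1 := by omega
        simpa [h3] using And.intro (conjBy_le_normalizer k (hw.2 i (by omega)).1)
          (conjBy_le_normalizer k (hw.2 i (by omega)).2))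
  set Y := Cfsg.largestPReducedOf p M with hYdef
  have hY1 : Y ≠ ⊥ := largest_ne_bot S hSM hM.1
  have hN : normalizer (Z : Set G) ∈ Cfsg.charPSubgroups p G :=
    mem_charPSubgroups hpar S (hSM.trans hMZ) (pCore_ne_bot_iff.2 fun e => hY1 (le_bot_iff.1
      (e ▸ hYZ.trans (le_pCoreOf ((pCoreOf_isPGroup M).to_le hZP) le_normalizer le_rfl))))
  obtain ⟨X, hX, hNX⟩ := exists_maxCharP hN
  set Md := M ⊔ centralizer (Y : Set G) with hMd
  have hXM : X = Md := hM.2.2.1 X hX (hMZ.trans hNX)
  have hM' : conjBy h M ≤ Md := hXM ▸ hM'Z.trans hNX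
  have hMdN := fm_dagger_eq hpar S hSM hM
  set X' := conjBy h⁻¹ Md with hX'
  have hMX' : M ≤ X' := le_conjBy_iff.2 (by rwa [inv_inv])
  have hX'N : X' = normalizer (conjBy h⁻¹ Y : Set G) := by
    rw [hX', hMd, ← hMdN, normalizer_conjBy]
  have hne : conjBy h⁻¹ Y ≠ ⊥ := fun e => hY1
    ((map_eq_bot_iff_of_injective _ (MulAut.conj h⁻¹).injective).1 e)
  have hX'mem : X' ∈ Cfsg.charPSubgroups p G := by
    refine mem_charPSubgroups hpar S (hSM.trans hMX') (pCore_ne_bot_iff.2 fun e => hne ?_)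
    rw [hX'N] at e
    exact le_bot_iff.1 (e ▸ le_pCoreOf (isPGroup_conjBy (isPGroup_of_ea (largestPReducedOf_ea M)) _)
      le_normalizer le_rfl)
  obtain ⟨X₂, hX₂, hX'X₂⟩ := exists_maxCharP hX'mem
  have hX'eq : X' = Md := by
    refine eq_of_le_of_card_ge ((hX'X₂.trans (hM.2.2.1 X₂ hX₂ (hMX'.trans hX'X₂)).le)) ?_
    exact (CfsgLib.Coprime.card_conjBy h⁻¹ Md).ge
  have hYh : conjBy h Y = Y := by
    have e1 : conjBy h⁻¹ Y = Y := by
      conv_rhs => rw [hYdef, hM.2.2.2.1]
      rw [← hMd, ← hX'eq, hX', largestPReducedOf_conjBy, hMd, ← hM.2.2.2.1]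
    calc conjBy h Y = conjBy h (conjBy h⁻¹ Y) := by rw [e1]
      _ = Y := by rw [conjBy_conjBy, mul_inv_cancel, conjBy_one]
  have hle : P' ≤ centralizer (Y : Set G) := by
    rw [← hYh, hY, conjBy_ozc]; exact le_centralizer_ozc _
  have hPc : P ≤ centralizer (Y : Set G) := pCoreOf_le_centralizer_largest M
  have := fm_core_maximal S hSM hM ((pCoreOf_isPGroup M).to_sup_of_normal_left'
    (isPGroup_conjBy (pCoreOf_isPGroup M) h) h2) le_sup_left (sup_le hPc hle)
  exact eq_of_le_of_card_ge (le_sup_right.trans this.le) (CfsgLib.Coprime.card_conjBy h P).ge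

include hpar hSM hM hasym in
theorem fm_core_wc : Cfsg.IsWeaklyClosedSubgroup p (Cfsg.pCoreOf p M) :=
  wc_of_commutator (pCoreOf_isPGroup M) fun h hh => fm_adjacent_eq hpar S hSM hM hasym
    (le_normalizer_of_commutator_le (A := conjBy h (Cfsg.pCoreOf p M))
      (by rw [commutator_comm]; exact hh.trans inf_le_right))
    (le_normalizer_of_commutator_le (hh.trans inf_le_left))

include hpar hSM hM hasym in
theorem fm_fusion {x g : G} (hx : x ∈ Cfsg.largestPReducedOf p M)
    (hg : g * x * g⁻¹ ∈ Cfsg.largestPReducedOf p M) : ∃ m ∈ M, m * x * m⁻¹ = g * x * g⁻¹ := by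
  set P := Cfsg.pCoreOf p M with hP
  set y := g * x * g⁻¹ with hy
  have hPc : ∀ u ∈ Cfsg.largestPReducedOf p M, ∀ w ∈ P, w * u = u * w := fun u hu w hw =>
    (mem_centralizer_iff.1 (pCoreOf_le_centralizer_largest M hw) u hu).symm
  have hPK : P ≤ centralizer ({y} : Set G) := fun w hw =>
    mem_centralizer_singleton_iff.2 (hPc y hg w hw)
  have hgK : conjBy g P ≤ centralizer ({y} : Set G) := by
    rintro _ ⟨w, hw, rfl⟩
    rw [mem_centralizer_singleton_iff]
    show g * w * g⁻¹ * y = y * (g * w * g⁻¹)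
    calc g * w * g⁻¹ * y = g * (w * x) * g⁻¹ := by rw [hy]; group
      _ = g * (x * w) * g⁻¹ := by rw [hPc x hx w hw]
      _ = _ := by rw [hy]; group
  obtain ⟨k, hk, e⟩ := wc_conj_in (pCoreOf_isPGroup M)
    (fm_core_wc hpar S hSM hM hasym) hPK hgK
  have hn : k⁻¹ * g ∈ normalizer (P : Set G) := conjBy_eq_self_iff.1 (by
    rw [← conjBy_conjBy, e, conjBy_conjBy, inv_mul_cancel, conjBy_one])
  have hnd := fm_normalizer_core_le hpar S hSM hM hn
  obtain ⟨c, hc, m, hm, hcm⟩ := CfsgLib.Coprime.mem_sup_exists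
    ((le_normalizer_largestPReducedOf M).trans
      (CfsgLib.Coprime.normalizer_le_normalizer_centralizer _))
    (show k⁻¹ * g ∈ centralizer ((Cfsg.largestPReducedOf p M : Subgroup G) : Set G) ⊔ M by
      rwa [sup_comm])
  refine ⟨m, hm, ?_⟩
  have hky : k⁻¹ * y * k = y := by
    rw [mul_assoc, ← mem_centralizer_singleton_iff.1 hk, inv_mul_cancel_left]
  have h1 : (c * m) * x * (c * m)⁻¹ = y := by
    rw [hcm]
    calc k⁻¹ * g * x * (k⁻¹ * g)⁻¹ = k⁻¹ * y * k := by rw [hy]; group
      _ = y := hky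
  calc m * x * m⁻¹ = c⁻¹ * ((c * m) * x * (c * m)⁻¹) * c := by group
    _ = c⁻¹ * y * c := by rw [h1]
    _ = y := by rw [mul_assoc, mem_centralizer_iff.1 hc y hg, inv_mul_cancel_left]

include hpar hSM hM hasym in
theorem fm_sylow_le {L : Subgroup G} (hPL : Cfsg.pCoreOf p M ≤ L) :
    ∃ T : Sylow p L, (T : Subgroup L).map L.subtype ≤
      normalizer ((Cfsg.pCoreOf p M : Subgroup G) : Set G) := by
  obtain ⟨T, hT⟩ := ((pCoreOf_isPGroup M).comap_subtype :
    IsPGroup p ((Cfsg.pCoreOf p M).subgroupOf L)).exists_le_sylow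
  refine ⟨T, le_normalizer.trans (normalizer_le_of_wc (fm_core_wc hpar S hSM hM hasym)
    (T.2.map _) ?_)⟩
  rw [← map_subgroupOf_eq_of_le hPL]
  exact map_mono hT

include hpar hSM hM hasym in
theorem fm_parabolic {L : Subgroup G} (hPL : Cfsg.pCoreOf p M ≤ L) :
    Cfsg.IsParabolic p ((L ⊓ (M ⊔ centralizer
      ((Cfsg.largestPReducedOf p M : Subgroup G) : Set G))).subgroupOf L) := by
  obtain ⟨T, hT⟩ := fm_sylow_le hpar S hSM hM hasym hPL
  exact ⟨T, fun t ht => mem_subgroupOf.2 (mem_inf.2 ⟨t.2,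
    fm_normalizer_core_le hpar S hSM hM (hT (mem_map_of_mem _ ht))⟩)⟩

end Frame

end CfsgLib.LS
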