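import Cfsg.Agent.Lib.LocalStructure.WeaklyClosed
import Cfsg.Agent.Lib.LocalStructure.FStar
import Cfsg.Agent.Lib.PGroup.CommutatorChain

/-!
# Factorizations of the weak closure of a weakly closed subgroup
-/

set_option autoImplicit false
set_option linter.style.haveILetI false
set_option linter.unusedSectionVars false

namespace CfsgLib.LS

open Subgroup
open CfsgLib.Coprime (conjBy conjBy_conjBy conjBy_one conjBy_eq_self_iff conj_mem_conjBy)
open scoped commutatorElement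

variable {G : Type*} [Group G]

theorem normalizer_inf_le_normalizer_commutator (A B : Subgroup G) :
    normalizer (A : Set G) ⊓ normalizer (B : Set G) ≤
      normalizer ((⁅A, B⁆ : Subgroup G) : Set G) := by
  refine le_normalizer_iff.2 fun g hg x hx => ?_
  have hA : conjBy g A = A := conjBy_eq_self_iff.2 (mem_inf.1 hg).1
  have hB : conjBy g B = B := conjBy_eq_self_iff.2 (mem_inf.1 hg).2
  have h : conjBy g ⁅A, B⁆ = ⁅A, B⁆ := by
    calc conjBy g ⁅A, B⁆ = ⁅conjBy g A, conjBy g B⁆ := map_commutator _ _ _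
      _ = ⁅A, B⁆ := by rw [hA, hB]
  exact (mem_normalizer_iff.1 (conjBy_eq_self_iff.1 h) x).1 hx

variable [Finite G] {p : ℕ} [Fact p.Prime]

/-- Elements of order prime to `p` of `KP` lie in `K`. -/
theorem mem_of_coprime_sup {K P : Subgroup G} (hP : IsPGroup p P)
    (hn : P ≤ normalizer (K : Set G)) {g : G} (hg : g ∈ K ⊔ P) (hc : (orderOf g).Coprime p) :
    g ∈ K := by
  obtain ⟨k, hk, x, hx, rfl⟩ := CfsgLib.Coprime.mem_sup_exists hn hg
  have key : ∀ n : ℕ, (k * x) ^ n * (x ^ n)⁻¹ ∈ K := by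
    intro n
    induction n with
    | zero => simp
    | succ n ih =>
      rw [show (k * x) ^ (n + 1) * (x ^ (n + 1))⁻¹ =
        (k * x) ^ n * (x ^ n)⁻¹ * (x ^ n * k * (x ^ n)⁻¹) by rw [pow_succ, pow_succ]; group]
      exact mul_mem ih ((mem_normalizer_iff.1 (hn (pow_mem hx n)) k).1 hk)
  obtain ⟨a, ha⟩ := hP ⟨x, hx⟩
  have h := key (p ^ a)
  rw [show x ^ p ^ a = 1 from congrArg Subtype.val ha, inv_one, mul_one] at h
  exact mem_of_coprime_of_pow_mem hc h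

theorem resOf_le_of_le_sup {X K P : Subgroup G} (hP : IsPGroup p P)
    (hn : P ≤ normalizer (K : Set G)) (h : X ≤ K ⊔ P) :
    (Cfsg.pResidual p X).map X.subtype ≤ K :=
  resOf_le fun _ hg hc => mem_of_coprime_sup hP hn (h hg) hc

theorem normalizer_le_normalizer_resOf' (A : Subgroup G) :
    normalizer (A : Set G) ≤
      normalizer (((Cfsg.pResidual p A).map A.subtype : Subgroup G) : Set G) := by
  refine le_normalizer_iff.2 fun g hg x hx => ?_
  have h : (Cfsg.pResidual p A).map A.subtype ≤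
      ((Cfsg.pResidual p A).map A.subtype).comap (MulAut.conj g).toMonoidHom :=
    resOf_le fun y hy hc => mem_comap.2 (mem_resOf ((mem_normalizer_iff.1 hg y).1 hy)
      (by rw [MulEquiv.coe_toMonoidHom, MulEquiv.orderOf_eq]; exact hc))
  exact h hx

/-- A weak closure lies in every subgroup it normalizes that contains `Q`. -/
theorem weakClosure_le_of_normalizes {Q : Subgroup G} (hQp : IsPGroup p Q)
    (hwc : Cfsg.IsWeaklyClosedSubgroup p Q) {M X : Subgroup G} (hQM : Q ≤ M) (hQX : Q ≤ X)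
    (hn : Cfsg.weakClosure Q M ≤ normalizer (X : Set G)) : Cfsg.weakClosure Q M ≤ X := by
  refine iSup_le fun g => ?_
  obtain ⟨k, hk, e⟩ := wc_conj_in hQp hwc (self_le_weakClosure hQM) (le_weakClosure (g := (g : G)) g.2)
  refine le_of_eq_of_le e ?_
  exact conjBy_le_of_mem_normalizer (hn hk) hQX

/-- `L = O^p(L) Q` for a weak closure `L` of `Q`. -/
theorem weakClosure_eq_sup {Q : Subgroup G} (hQp : IsPGroup p Q)
    (hwc : Cfsg.IsWeaklyClosedSubgroup p Q) {M : Subgroup G} (hQM : Q ≤ M) :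
    Cfsg.weakClosure Q M =
      (Cfsg.pResidual p (Cfsg.weakClosure Q M)).map (Cfsg.weakClosure Q M).subtype ⊔ Q := by
  set L := Cfsg.weakClosure Q M with hL
  have hQL : Q ≤ L := self_le_weakClosure hQM
  refine le_antisymm ?_ (sup_le (map_subtype_le _) hQL)
  set R := Cfsg.pResidual p L with hR
  haveI : R.Normal := CfsgLib.Fusion.pResidual_normal
  by_contra hne
  have htop : R ⊔ Q.subgroupOf L ≠ ⊤ := by
    intro e
    refine hne (le_of_eq ?_)
    calc L = (⊤ : Subgroup L).map L.subtype := by rw [← MonoidHom.range_eq_map, range_subtype]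
      _ = R.map L.subtype ⊔ Q := by rw [← e, Subgroup.map_sup, map_subgroupOf_eq_of_le hQL]
  obtain ⟨C, hC, hle⟩ := (eq_top_or_exists_le_coatom (R ⊔ Q.subgroupOf L)).resolve_left htop
  haveI hQn : Group.IsNilpotent (L ⧸ R) :=
    (CfsgLib.Fusion.isPGroup_quotient_pResidual (p := p) R le_rfl).isNilpotent
  have hCc : (C.map (QuotientGroup.mk' R)).comap (QuotientGroup.mk' R) = C := by
    rw [comap_map_eq_self]
    rw [QuotientGroup.ker_mk']
    exact le_sup_left.trans hle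
  have hco : IsCoatom (C.map (QuotientGroup.mk' R)) := by
    refine ⟨fun e => hC.1 (by rw [← hCc, e, comap_top]), fun Y hY => ?_⟩
    have hlt : C < Y.comap (QuotientGroup.mk' R) := by
      rw [← hCc]
      exact (comap_lt_comap_of_surjective (QuotientGroup.mk'_surjective R)).2 hY
    rw [← map_comap_eq_self_of_surjective (QuotientGroup.mk'_surjective R) Y, hC.2 _ hlt,
      map_top_of_surjective _ (QuotientGroup.mk'_surjective R)]
  haveI hn : (C.map (QuotientGroup.mk' R)).Normal :=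
    Group.normalizerCondition_of_isNilpotent.normal_of_coatom _ hco
  haveI : C.Normal := hCc ▸ hn.comap _
  have h := weakClosure_le_of_normalizes hQp hwc hQM (X := C.map L.subtype) (fun x hx =>
    ⟨⟨x, hQL hx⟩, hle (mem_sup_right (mem_subgroupOf.2 hx)), rfl⟩) (le_normalizer_iff.2
      fun g hg x hx => by
        obtain ⟨y, hy, rfl⟩ := hx
        exact ⟨⟨g, hg⟩ * y * ⟨g, hg⟩⁻¹, (inferInstance : C.Normal).conj_mem y hy _, rfl⟩)
  refine hC.1 (eq_top_iff.2 fun x _ => ?_)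
  obtain ⟨y, hy, hyx⟩ := h x.2
  exact (Subtype.ext hyx : y = x) ▸ hy

section Factor

variable {Q : Subgroup G} (hQp : IsPGroup p Q) (hwc : Cfsg.IsWeaklyClosedSubgroup p Q)
  {Hc H₁ H₂ : Subgroup G} (hHc : Hc = Cfsg.weakClosure Q ⊤)
  (h₁ : H₁ ≤ Hc) (hn₁ : Hc ≤ normalizer (H₁ : Set G))
  (h₂ : H₂ ≤ Hc) (hn₂ : Hc ≤ normalizer (H₂ : Set G))
  (hprod : H₁ ⊔ H₂ = Hc) (hcomm : ⁅H₁, H₂⁆ ≤ normalizer (Q : Set G))

include h₂ hn₁ in
theorem wcf_comm_le_left : ⁅H₁, H₂⁆ ≤ H₁ := commutator_le_of_normalizes (h₂.trans hn₁)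

include hn₁ hn₂ in
theorem wcf_comm_normal : Hc ≤ normalizer ((⁅H₁, H₂⁆ : Subgroup G) : Set G) :=
  (le_inf hn₁ hn₂).trans (normalizer_inf_le_normalizer_commutator _ _)

include hn₁ hn₂ in
theorem wcf_core_normal :
    Hc ≤ normalizer ((Cfsg.pCoreOf p ⁅H₁, H₂⁆ : Subgroup G) : Set G) :=
  (wcf_comm_normal hn₁ hn₂).trans (normalizer_le_normalizer_pCoreOf _)

include hQp hwc hHc h₁ hn₁ h₂ hn₂ hcomm in
/-- `[H₁, H₂]` is central in `Hc` modulo its `p`-core. -/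
theorem wcf_central : ⁅⁅H₁, H₂⁆, Hc⁆ ≤ Cfsg.pCoreOf p ⁅H₁, H₂⁆ := by
  set N := ⁅H₁, H₂⁆ with hN
  have hNH : N ≤ Hc := (wcf_comm_le_left hn₁ h₂).trans h₁
  have hW : Hc ≤ normalizer ((Cfsg.pCoreOf p N : Subgroup G) : Set G) :=
    wcf_core_normal hn₁ hn₂
  have hQH : Q ≤ Hc := hHc ▸ self_le_weakClosure le_top
  rw [commutator_le]
  intro n hn y hy
  have hy' : y ∈ ⨆ g : {g : G // Q.map (MulAut.conj g).toMonoidHom ≤ ⊤},
      Q.map (MulAut.conj (g : G)).toMonoidHom := by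
    rw [hHc] at hy; exact hy
  suffices h : ∀ n ∈ N, ⁅n, y⁆ ∈ Cfsg.pCoreOf p N ∧ y ∈ Hc from (h n hn).1
  refine Subgroup.iSup_induction (C := fun z => ∀ n ∈ N, ⁅n, z⁆ ∈ Cfsg.pCoreOf p N ∧ z ∈ Hc)
    _ hy' ?_ ?_ ?_
  · intro g z hz m hm
    have hle : conjBy (g : G) Q ≤ Hc := hHc ▸ le_weakClosure g.2
    refine ⟨?_, hle hz⟩
    obtain ⟨k, hk, e⟩ := wc_conj_in hQp hwc hQH hle
    have hNn : N ≤ normalizer (conjBy (g : G) Q : Set G) := by
      rw [e, ← normalizer_conjBy]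
      refine le_of_eq_of_le ?_ (conjBy_mono k hcomm)
      exact (conjBy_eq_self_iff.2 (wcf_comm_normal hn₁ hn₂ hk)).symm
    have hQn : conjBy (g : G) Q ≤ normalizer (N : Set G) := hle.trans (wcf_comm_normal hn₁ hn₂)
    have h1 : ⁅N, conjBy (g : G) Q⁆ ≤ N ⊓ conjBy (g : G) Q :=
      commutator_le_inf_of_normalizing hQn hNn
    refine le_pCoreOf ((isPGroup_conjBy hQp _).to_le (h1.trans inf_le_right)) (h1.trans inf_le_left)
      (normalizer_commutator_ge_left _ _) (commutator_mem_commutator hm hz)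
  · intro m _
    exact ⟨by rw [commutatorElement_one_right]; exact one_mem _, one_mem _⟩
  · intro a b ha hb m hm
    refine ⟨?_, mul_mem (ha m hm).2 (hb m hm).2⟩
    rw [show ⁅m, a * b⁆ = ⁅m, a⁆ * (a * ⁅m, b⁆ * a⁻¹) by
      simp only [commutatorElement_def]; group]
    exact mul_mem (ha m hm).1 ((mem_normalizer_iff.1 (hW (ha m hm).2) _).1 (hb m hm).1)

variable {K₁ : Subgroup G}
  (hK₁ : K₁ = (Cfsg.pResidual p (Cfsg.weakClosure Q (H₁ ⊔ Q))).map
    (Cfsg.weakClosure Q (H₁ ⊔ Q)).subtype)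

include hQp hHc hn₁ in
theorem wcf_closure_normal :
    H₁ ⊔ Q ≤ normalizer ((Cfsg.weakClosure Q (H₁ ⊔ Q) : Subgroup G) : Set G) := by
  refine le_normalizer_iff.2 fun g hg x hx => ?_
  have h : Cfsg.weakClosure Q (H₁ ⊔ Q) ≤
      (Cfsg.weakClosure Q (H₁ ⊔ Q)).comap (MulAut.conj g).toMonoidHom := by
    refine iSup_le fun k => map_le_iff_le_comap.1 ?_
    refine le_of_eq_of_le (conjBy_conjBy g (k : G) Q) (le_weakClosure ?_)
    rw [← conjBy_conjBy]
    exact conjBy_le_of_mem_normalizer (le_normalizer hg) k.2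
  exact h hx

include hQp hHc hn₁ hK₁ in
theorem wcf_le : K₁ ≤ H₁ := by
  rw [hK₁]
  refine resOf_le_of_le_sup hQp ?_ weakClosure_le
  exact (hHc ▸ self_le_weakClosure le_top : Q ≤ Hc).trans hn₁

include hQp hwc hK₁ in
theorem wcf_commutator_Q : ⁅K₁, Q⁆ = K₁ := by
  have hQL : Q ≤ Cfsg.weakClosure Q (H₁ ⊔ Q) := self_le_weakClosure le_sup_right
  have hL : Cfsg.weakClosure Q (H₁ ⊔ Q) = K₁ ⊔ Q := hK₁ ▸ weakClosure_eq_sup hQp hwc le_sup_right
  have hQK : Q ≤ normalizer (K₁ : Set G) :=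
    hK₁ ▸ (hQL.trans le_normalizer).trans (normalizer_le_normalizer_resOf' _)
  refine le_antisymm (commutator_le_of_normalizes hQK) ?_
  have hD1 : K₁ ≤ normalizer ((⁅K₁, Q⁆ : Subgroup G) : Set G) := normalizer_commutator_ge_left _ _
  have hD2 : Q ≤ normalizer ((⁅K₁, Q⁆ : Subgroup G) : Set G) := by
    rw [commutator_comm]; exact normalizer_commutator_ge_left _ _
  have hX : Cfsg.weakClosure Q (H₁ ⊔ Q) ≤ ⁅K₁, Q⁆ ⊔ Q := by
    refine weakClosure_le_of_normalizes hQp hwc le_sup_right le_sup_right ?_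
    rw [hL]
    refine sup_le (le_normalizer_iff.2 fun k hk x hx => ?_) (le_sup_right.trans le_normalizer)
    obtain ⟨d, hd, q, hq, rfl⟩ := CfsgLib.Coprime.mem_sup_exists hD2 hx
    rw [show k * (d * q) * k⁻¹ = (k * d * k⁻¹) * ⁅k, q⁆ * q by
      rw [commutatorElement_def]; group]
    exact mul_mem (mul_mem (mem_sup_left ((mem_normalizer_iff.1 (hD1 hk) d).1 hd))
      (mem_sup_left (commutator_mem_commutator hk hq))) (mem_sup_right hq)
  exact hK₁.le.trans (resOf_le_of_le_sup hQp hD2 hX)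

include hQp hwc hHc h₁ hn₁ h₂ hn₂ hprod hcomm hK₁ in
theorem wcf_main : ⁅K₁, Q⁆ = K₁ ∧ ⁅K₁, H₁⁆ = K₁ ∧ K₁ ≤ ⁅H₁, H₁⁆ ∧
    Hc ≤ normalizer (K₁ : Set G) ∧ ⁅K₁, H₂⁆ ≤ Cfsg.pCoreOf p ⁅H₁, H₂⁆ := by
  have hQH : Q ≤ Hc := hHc ▸ self_le_weakClosure le_top
  have hKQ : ⁅K₁, Q⁆ = K₁ := wcf_commutator_Q hQp hwc hK₁
  have hKH : K₁ ≤ H₁ := wcf_le hQp hHc hn₁ hK₁
  have hnK : H₁ ⊔ Q ≤ normalizer (K₁ : Set G) :=
    hK₁ ▸ (wcf_closure_normal hQp hHc hn₁).trans (normalizer_le_normalizer_resOf' _)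
  have hNW := wcf_central hQp hwc hHc h₁ hn₁ h₂ hn₂ hcomm
  have hWn := wcf_core_normal (p := p) hn₁ hn₂
  set N := ⁅H₁, H₂⁆ with hN
  set W := Cfsg.pCoreOf p N with hW
  have hWp : IsPGroup p W := pCoreOf_isPGroup _
  have hNH₁ : N ≤ H₁ := wcf_comm_le_left hn₁ h₂
  have hWH₁ : W ≤ H₁ := (pCoreOf_le_self _).trans hNH₁
  have hM1 : H₁ ≤ normalizer ((⁅K₁, H₁⁆ : Subgroup G) : Set G) := by
    rw [commutator_comm]; exact normalizer_commutator_ge_left _ _
  have hM2 : Q ≤ normalizer ((⁅K₁, H₁⁆ : Subgroup G) : Set G) :=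
    (le_inf (le_sup_right.trans hnK) (hQH.trans hn₁)).trans
      (normalizer_inf_le_normalizer_commutator _ _)
  set M := ⁅K₁, H₁⁆ with hM
  have hMK : M ≤ K₁ := commutator_le_of_normalizes (le_sup_left.trans hnK)
  have s1 : ⁅K₁, Q⁆ ≤ M ⊔ N := by
    rw [commutator_le]
    intro k hk q hq
    obtain ⟨a₁, ha₁, a₂, ha₂, rfl⟩ := CfsgLib.Coprime.mem_sup_exists (h₂.trans hn₁)
      (show q ∈ H₁ ⊔ H₂ from hprod ▸ hQH hq)
    rw [show ⁅k, a₁ * a₂⁆ = ⁅k, a₁⁆ * (a₁ * ⁅k, a₂⁆ * a₁⁻¹) by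
      simp only [commutatorElement_def]; group]
    exact mul_mem (mem_sup_left (commutator_mem_commutator hk ha₁))
      (mem_sup_right ((mem_normalizer_iff.1 (wcf_comm_normal hn₁ hn₂ (h₁ ha₁)) _).1
        (commutator_mem_commutator (hKH hk) ha₂)))
  have s2 : ⁅K₁, Q⁆ ≤ M ⊔ W := by
    have hle : ⁅M ⊔ N, Q⁆ ≤ M ⊔ W := by
      rw [commutator_le]
      intro x hx q hq
      obtain ⟨m, hm, n, hn, rfl⟩ := CfsgLib.Coprime.mem_sup_exists (hNH₁.trans hM1) hx
      rw [show ⁅m * n, q⁆ = m * ⁅n, q⁆ * m⁻¹ * ⁅m, q⁆ by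
        simp only [commutatorElement_def]; group]
      exact mul_mem (mul_mem (mul_mem (mem_sup_left hm)
        (mem_sup_right (hNW (commutator_mem_commutator hn (hQH hq))))) (inv_mem (mem_sup_left hm)))
        (mem_sup_left (commutator_le_of_normalizes hM2 (commutator_mem_commutator hm hq)))
    calc ⁅K₁, Q⁆ = ⁅⁅K₁, Q⁆, Q⁆ := by rw [hKQ, hKQ]
      _ ≤ ⁅M ⊔ N, Q⁆ := commutator_mono s1 le_rfl
      _ ≤ M ⊔ W := hle
  have hKres : K₁ ≤ (Cfsg.pResidual p K₁).map K₁.subtype := by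
    conv_lhs => rw [hK₁]
    exact resOf_le fun g hg hc => mem_resOf (hK₁ ▸ mem_resOf hg hc) hc
  have hKM : ⁅K₁, H₁⁆ = K₁ :=
    le_antisymm hMK (hKres.trans (resOf_le_of_le_sup hWp (hWH₁.trans hM1) (le_of_eq_of_le hKQ.symm s2)))
  have hKD : K₁ ≤ ⁅H₁, H₁⁆ := hKM.ge.trans (commutator_mono hKH le_rfl)
  have hKW : ⁅K₁, H₂⁆ ≤ W := by
    refine (commutator_mono hKD le_rfl).trans ?_
    haveI : (W.subgroupOf Hc).Normal :=
      (normal_subgroupOf_iff_le_normalizer (hWH₁.trans h₁)).2 hWn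
    have hsub : ∀ A B C : Subgroup G, A ≤ Hc → B ≤ Hc → C ≤ Hc → (⁅⁅A, B⁆, C⁆ ≤ W ↔
        ⁅⁅A.subgroupOf Hc, B.subgroupOf Hc⁆, C.subgroupOf Hc⁆ ≤ W.subgroupOf Hc) := by
      intro A B C hA hB hC
      rw [← map_le_map_iff_of_injective Hc.subtype_injective, map_commutator, map_commutator,
        map_subgroupOf_eq_of_le hA, map_subgroupOf_eq_of_le hB, map_subgroupOf_eq_of_le hC,
        map_subgroupOf_eq_of_le (hWH₁.trans h₁)]
    rw [hsub _ _ _ h₁ h₁ h₂]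
    refine CfsgLib.PGroup.commutator_commutator_le_of_rotate_normal ?_ ?_
    · rw [← hsub _ _ _ h₁ h₂ h₁]
      exact (commutator_mono le_rfl h₁).trans hNW
    · rw [← hsub _ _ _ h₂ h₁ h₁, commutator_comm H₂ H₁]
      exact (commutator_mono le_rfl h₁).trans hNW
  refine ⟨hKQ, hKM, hKD, ?_, hKW⟩
  rw [← hprod]
  refine sup_le (le_sup_left.trans hnK) (le_normalizer_iff.2 fun g hg x hx => ?_)
  have h : K₁ ≤ K₁.comap (MulAut.conj g).toMonoidHom := by
    refine hKres.trans (resOf_le fun y hy hc => mem_comap.2 ?_)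
    refine mem_of_coprime_sup hWp (hWH₁.trans (le_sup_left.trans hnK)) ?_
      (by rw [MulEquiv.coe_toMonoidHom, MulEquiv.orderOf_eq]; exact hc)
    show g * y * g⁻¹ ∈ K₁ ⊔ W
    rw [show g * y * g⁻¹ = ⁅y, g⁆⁻¹ * y by rw [commutatorElement_def]; group]
    exact mul_mem (mem_sup_right (inv_mem (hKW (commutator_mem_commutator hy hg)))) (mem_sup_left hy)
  exact h hx

include hQp hwc hK₁ in
theorem wcf_conj_mem {h q : G} (hh : h ∈ H₁) (hq : q ∈ Q) : h * q * h⁻¹ ∈ K₁ ⊔ Q := by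
  rw [hK₁, ← weakClosure_eq_sup hQp hwc le_sup_right]
  refine le_weakClosure (g := h) ?_ (conj_mem_conjBy hq)
  exact conjBy_le_of_mem_normalizer (le_normalizer (mem_sup_left hh)) le_sup_right

end Factor

end CfsgLib.LS
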