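import Cfsg.Agent.Lib.LocalStructure.Asymmetric
import Cfsg.Agent.Lib.LocalStructure.WeakClosureFactor

/-!
# Overgroups of `O_p(M)` in the asymmetric case: the family `ℌ`
-/

set_option autoImplicit false
set_option linter.style.haveILetI false
set_option linter.unusedSectionVars false

namespace CfsgLib.LS

open Subgroup
open CfsgLib.Coprime (conjBy conjBy_conjBy conjBy_one conjBy_eq_self_iff conj_mem_conjBy)
open scoped commutatorElement

variable {G : Type*} [Group G] [Finite G] {p : ℕ} [Fact p.Prime]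

theorem charP_conjBy {L : Subgroup G} (h : centralizer (Cfsg.pCore p L : Set L) ≤ Cfsg.pCore p L)
    (g : G) : centralizer (Cfsg.pCore p (conjBy g L) : Set (conjBy g L)) ≤
      Cfsg.pCore p (conjBy g L) := by
  let e : L ≃* ↥(conjBy g L) := (MulAut.conj g).subgroupMap L
  rw [← CfsgLib.Coprime.map_pCore_equiv e p]
  intro x hx
  obtain ⟨y, rfl⟩ := e.surjective x
  refine mem_map_of_mem e.toMonoidHom (h (mem_centralizer_iff.2 fun z hz => e.injective ?_))
  rw [map_mul, map_mul]
  exact mem_centralizer_iff.1 hx _ (mem_map_of_mem e.toMonoidHom hz)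

theorem pCoreOf_conjBy (g : G) (L : Subgroup G) :
    Cfsg.pCoreOf p (conjBy g L) = conjBy g (Cfsg.pCoreOf p L) := by
  unfold Cfsg.pCoreOf
  let e : L ≃* ↥(conjBy g L) := (MulAut.conj g).subgroupMap L
  rw [← CfsgLib.Coprime.map_pCore_equiv e p, Subgroup.map_map,
    show conjBy g ((Cfsg.pCore p L).map L.subtype) =
      ((Cfsg.pCore p L).map L.subtype).map (MulAut.conj g).toMonoidHom from rfl, Subgroup.map_map]
  rfl

/-- A coatom containing `O^p` is normal. -/
theorem coatom_normal_of_pResidual_le {C : Subgroup G} (hC : IsCoatom C)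
    (hle : Cfsg.pResidual p G ≤ C) : C.Normal := by
  haveI := CfsgLib.Fusion.pResidual_normal (G := G) (p := p)
  set R := Cfsg.pResidual p G
  haveI : Group.IsNilpotent (G ⧸ R) :=
    (CfsgLib.Fusion.isPGroup_quotient_pResidual (p := p) R le_rfl).isNilpotent
  have hCc : (C.map (QuotientGroup.mk' R)).comap (QuotientGroup.mk' R) = C := by
    rw [comap_map_eq_self]
    rw [QuotientGroup.ker_mk']
    exact hle
  have hco : IsCoatom (C.map (QuotientGroup.mk' R)) := by
    refine ⟨fun e => hC.1 (by rw [← hCc, e, comap_top]), fun Y hY => ?_⟩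
    have hlt : C < Y.comap (QuotientGroup.mk' R) := by
      rw [← hCc]
      exact (comap_lt_comap_of_surjective (QuotientGroup.mk'_surjective R)).2 hY
    rw [← map_comap_eq_self_of_surjective (QuotientGroup.mk'_surjective R) Y, hC.2 _ hlt,
      map_top_of_surjective _ (QuotientGroup.mk'_surjective R)]
  haveI := Group.normalizerCondition_of_isNilpotent.normal_of_coatom _ hco
  exact hCc ▸ (inferInstance : (C.map (QuotientGroup.mk' R)).Normal).comap _

section Frame

variable (hpar : Cfsg.IsOfParabolicCharacteristic p G) (S : Sylow p G) {M : Subgroup G}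
  (hSM : (S : Subgroup G) ≤ M) (hM : Cfsg.IsInFrakM p M)
  (hasym : ¬ Cfsg.IsSymmetricIn (Cfsg.largestPReducedOf p M))

include hpar hSM hM hasym in
theorem fm_core_le_normalizer {R : Subgroup G} (hR : IsPGroup p R)
    (h : Cfsg.pCoreOf p M ≤ normalizer (R : Set G)) :
    R ≤ normalizer ((Cfsg.pCoreOf p M : Subgroup G) : Set G) :=
  le_normalizer_of_wc (pCoreOf_isPGroup M) (fm_core_wc hpar S hSM hM hasym) hR h

include hM in
theorem fm_centralizer_core_le :
    centralizer ((Cfsg.pCoreOf p M : Subgroup G) : Set G) ≤ Cfsg.pCoreOf p M := hM.1.2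

include hSM hM in
theorem fm_largest_le_core : Cfsg.largestPReducedOf p M ≤ Cfsg.pCoreOf p M :=
  (fm_largest_eq S hSM hM).le.trans (ozc_le _)

include hM in
/-- A subgroup acting as a `p`-group on `Y_M` and normalized by the preimage of `F*` acts
trivially. -/
theorem fm_act_trivial
    [((centralizer ((Cfsg.largestPReducedOf p M : Subgroup G) : Set G)).subgroupOf
      (M ⊔ centralizer ((Cfsg.largestPReducedOf p M : Subgroup G) : Set G))).Normal]
    {X : Subgroup G} (hXM : X ≤ M ⊔ centralizer ((Cfsg.largestPReducedOf p M : Subgroup G) : Set G))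
    (hp : ∀ x ∈ X, ∃ k : ℕ, x ^ p ^ k ∈ centralizer ((Cfsg.largestPReducedOf p M : Subgroup G) : Set G))
    (hF : ((Cfsg.generalizedFittingSubgroup (↥(M ⊔ centralizer
      ((Cfsg.largestPReducedOf p M : Subgroup G) : Set G)) ⧸
      (centralizer ((Cfsg.largestPReducedOf p M : Subgroup G) : Set G)).subgroupOf
        (M ⊔ centralizer ((Cfsg.largestPReducedOf p M : Subgroup G) : Set G)))).comap
      (QuotientGroup.mk' ((centralizer ((Cfsg.largestPReducedOf p M : Subgroup G) : Set G)).subgroupOf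
        (M ⊔ centralizer ((Cfsg.largestPReducedOf p M : Subgroup G) : Set G))))).map
      (M ⊔ centralizer ((Cfsg.largestPReducedOf p M : Subgroup G) : Set G)).subtype ≤
        normalizer (X : Set G)) :
    X ≤ centralizer ((Cfsg.largestPReducedOf p M : Subgroup G) : Set G) := by
  set Y := Cfsg.largestPReducedOf p M with hY
  set C := centralizer (Y : Set G) with hC
  set K := M ⊔ C with hK
  set π := QuotientGroup.mk' (C.subgroupOf K) with hπ
  have hYK : Y ≤ K := (largestPReducedOf_le M).trans le_sup_left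
  have hspec : Cfsg.IsPReducedNormal p (Y.subgroupOf K) := by
    have h := largestPReducedOf_spec (p := p) K
    rwa [hK, ← hM.2.2.2.1] at h
  obtain ⟨-, -, hred⟩ := isPReducedNormal_iff.1 hspec
  have hCc : ∀ x : K, x ∈ centralizer ((Y.subgroupOf K : Subgroup K) : Set K) ↔
      x ∈ C.subgroupOf K := fun x =>
    ⟨fun h => mem_centralizer_iff.2 fun y hy =>
      congrArg Subtype.val (mem_centralizer_iff.1 h ⟨y, hYK hy⟩ hy),
    fun h => mem_centralizer_iff.2 fun y hy =>
      Subtype.ext (mem_centralizer_iff.1 (mem_subgroupOf.1 h) y hy)⟩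
  have hO : Cfsg.pCore p (↥K ⧸ C.subgroupOf K) = ⊥ := by
    haveI := CfsgLib.Coprime.pCore_normal' (G := ↥K ⧸ C.subgroupOf K) p
    have h1 := hred ((Cfsg.pCore p (↥K ⧸ C.subgroupOf K)).comap π) inferInstance fun x hx => by
      obtain ⟨k, hk⟩ := CfsgLib.Coprime.pCore_isPGroup (G := ↥K ⧸ C.subgroupOf K) p ⟨_, hx⟩
      refine ⟨k, (hCc _).2 ?_⟩
      rw [← QuotientGroup.eq_one_iff, QuotientGroup.mk_pow]
      exact congrArg Subtype.val hk
    rw [← Subgroup.map_comap_eq_self_of_surjective (QuotientGroup.mk'_surjective _)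
      (Cfsg.pCore p (↥K ⧸ C.subgroupOf K)), Subgroup.map_eq_bot_iff, QuotientGroup.ker_mk']
    exact fun x hx => (hCc x).1 (h1 hx)
  set Fs := Cfsg.generalizedFittingSubgroup (↥K ⧸ C.subgroupOf K) with hFs
  haveI : Fs.Normal := CfsgLib.Coprime.generalizedFitting_normal
  set X' := (X.subgroupOf K).map π with hX'
  have hX'p : IsPGroup p X' := by
    rintro ⟨_, x, hx, rfl⟩
    obtain ⟨k, hk⟩ := hp x hx
    refine ⟨k, Subtype.ext ?_⟩
    rw [SubmonoidClass.coe_pow]
    show (π x) ^ p ^ k = 1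
    rw [← map_pow]
    exact (QuotientGroup.eq_one_iff _).2 (mem_subgroupOf.2 hk)
  have hn : Fs ≤ normalizer (X' : Set (↥K ⧸ C.subgroupOf K)) := by
    refine le_normalizer_iff.2 fun f hf x hx => ?_
    obtain ⟨f', rfl⟩ := QuotientGroup.mk'_surjective _ f
    obtain ⟨x', hx', rfl⟩ := hx
    refine ⟨f' * x' * f'⁻¹, ?_, by rw [map_mul, map_mul, map_inv]⟩
    exact (mem_normalizer_iff.1 (hF (mem_map_of_mem K.subtype (mem_comap.2 hf))) (x' : G)).1 hx'
  have hcomm : ⁅X', Fs⁆ = ⊥ := by
    have h1 : ⁅X', Fs⁆ ≤ X' ⊓ Fs :=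
      commutator_le_inf_of_normalizing hn (by rw [normalizer_eq_top]; exact le_top)
    have hsn : (X' ⊓ Fs).IsSubnormal := IsSubnormal.step _ Fs inf_le_right
      (Subgroup.Normal.isSubnormal inferInstance)
      ((normal_subgroupOf_iff_le_normalizer inf_le_right).2
        (CfsgLib.Coprime.inf_le_normalizer hn le_normalizer))
    have h2 := CfsgLib.Coprime.le_pCore_of_isSubnormal hsn (hX'p.to_le inf_le_left)
    rw [hO, le_bot_iff] at h2
    exact le_bot_iff.1 (h2 ▸ h1)
  have hX'1 : X' = ⊥ := eq_bot_of_coprime hX'p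
    (commutator_eq_bot_iff_le_centralizer.1 hcomm) (coprime_centralizer_fstar hO)
  rw [hX', Subgroup.map_eq_bot_iff, QuotientGroup.ker_mk'] at hX'1
  exact fun x hx => mem_subgroupOf.1 (hX'1 (show (⟨x, hXM hx⟩ : K) ∈ X.subgroupOf K from hx))

include hpar hSM hM hasym in
theorem fm_largest_le_of_charP
    [((centralizer ((Cfsg.largestPReducedOf p M : Subgroup G) : Set G)).subgroupOf
      (M ⊔ centralizer ((Cfsg.largestPReducedOf p M : Subgroup G) : Set G))).Normal]
    {F H : Subgroup G}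
    (hFdef : F = ((Cfsg.generalizedFittingSubgroup (↥(M ⊔ centralizer
      ((Cfsg.largestPReducedOf p M : Subgroup G) : Set G)) ⧸
      (centralizer ((Cfsg.largestPReducedOf p M : Subgroup G) : Set G)).subgroupOf
        (M ⊔ centralizer ((Cfsg.largestPReducedOf p M : Subgroup G) : Set G)))).comap
      (QuotientGroup.mk' ((centralizer ((Cfsg.largestPReducedOf p M : Subgroup G) : Set G)).subgroupOf
        (M ⊔ centralizer ((Cfsg.largestPReducedOf p M : Subgroup G) : Set G))))).map
      (M ⊔ centralizer ((Cfsg.largestPReducedOf p M : Subgroup G) : Set G)).subtype)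
    (hFH : F ≤ H) (hH : centralizer (Cfsg.pCore p H : Set H) ≤ Cfsg.pCore p H) :
    Cfsg.largestPReducedOf p M ≤ Cfsg.largestPReducedOf p H := by
  set Y := Cfsg.largestPReducedOf p M with hY
  set C := centralizer (Y : Set G) with hC
  set K := M ⊔ C with hK
  have hFK : F ≤ K := hFdef ▸ map_subtype_le _
  have hCF : C ≤ F := fun x hx => by
    rw [hFdef]
    refine ⟨⟨x, le_sup_right (a := M) hx⟩, mem_comap.2 ?_, rfl⟩
    have e : QuotientGroup.mk' (C.subgroupOf K) ⟨x, le_sup_right (a := M) hx⟩ = 1 :=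
      (QuotientGroup.eq_one_iff _).2 hx
    rw [e]; exact one_mem _
  have hPH : Cfsg.pCoreOf p M ≤ H := (pCoreOf_le_centralizer_largest M).trans (hCF.trans hFH)
  set R := Cfsg.pCoreOf p H with hR
  have hHR : H ≤ normalizer (R : Set G) := le_normalizer.trans (normalizer_le_normalizer_pCoreOf H)
  have hRK : R ≤ K := (fm_core_le_normalizer hpar S hSM hM hasym (pCoreOf_isPGroup H)
    (hPH.trans hHR)).trans (fm_normalizer_core_le hpar S hSM hM)
  have hpow : ∀ {X : Subgroup G}, IsPGroup p X → ∀ x ∈ X, ∃ k : ℕ, x ^ p ^ k ∈ C := by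
    intro X hX x hx
    obtain ⟨k, hk⟩ := hX ⟨x, hx⟩
    exact ⟨k, by rw [show x ^ p ^ k = 1 from congrArg Subtype.val hk]; exact one_mem _⟩
  have hRC : R ≤ C := fm_act_trivial hM hRK (hpow (pCoreOf_isPGroup H))
    (hFdef ▸ hFH.trans hHR)
  have hYC : Y ≤ C := le_centralizer_self_of_ea (largestPReducedOf_ea M)
  have hYH : Y ≤ H := hYC.trans (hCF.trans hFH)
  have hYR : Y ≤ R := fun y hy => (charP_iff H).1 hH
    ⟨hYH hy, le_centralizer_iff.1 hRC hy⟩
  set Y' := Y.subgroupOf H with hY'
  set V := normalClosure (Y' : Set H) with hV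
  haveI := CfsgLib.Coprime.pCore_normal' (G := H) p
  set W := Cfsg.omegaOne p (Cfsg.pCore p H ⊓ centralizer (Cfsg.pCore p H : Set H)) with hW
  haveI hWn : W.Normal := ⟨fun w hw g => by
    have h := mem_map_of_mem (MulAut.conj g).toMonoidHom hw
    rw [map_omegaOne_center (MulAut.conj g).injective] at h
    rw [show (Cfsg.pCore p H).map (MulAut.conj g).toMonoidHom = Cfsg.pCore p H from
      CfsgLib.Coprime.map_pCore_equiv (MulAut.conj g) p] at h
    exact h⟩
  have hY'W : Y' ≤ W := by
    intro y hy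
    refine mem_omegaOne (p := p) (mem_inf.2 ⟨?_, mem_centralizer_iff.2 fun r hr => Subtype.ext ?_⟩)
      (Subtype.ext ((largestPReducedOf_ea M).2 _ hy))
    · obtain ⟨z, hz, e⟩ := hYR hy
      exact (Subtype.ext e : z = y) ▸ hz
    · exact (mem_centralizer_iff.1 (hRC (mem_map_of_mem H.subtype hr)) _ hy).symm
  have hVW : V ≤ W := normalClosure_le_normal hY'W
  have hred : Cfsg.IsPReducedNormal p V := by
    refine isPReducedNormal_iff.2 ⟨inferInstance, isElementaryAbelian_of_le
      hVW (omegaOne_center_ea _), fun X hX hpX => ?_⟩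
    haveI := hX
    have hVc : centralizer (V : Set H) ≤ C.subgroupOf H := by
      intro x hx
      refine mem_subgroupOf.2 (mem_centralizer_iff.2 fun y hy => ?_)
      exact congrArg Subtype.val (mem_centralizer_iff.1 hx ⟨y, hYH hy⟩
        (Subgroup.le_normalClosure (H := Y') hy))
    set Xg := X.map H.subtype ⊓ K with hXg
    have hXgC : Xg ≤ C := by
      refine fm_act_trivial hM inf_le_right ?_ (hFdef ▸ CfsgLib.Coprime.inf_le_normalizer
        (hFH.trans ?_) (hFK.trans le_normalizer))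
      · intro x hx
        obtain ⟨z, hz, rfl⟩ := (mem_inf.1 hx).1
        obtain ⟨k, hk⟩ := hpX z hz
        exact ⟨k, mem_subgroupOf.1 (hVc hk)⟩
      · exact (normal_subgroupOf_iff_le_normalizer (map_subtype_le X)).1 (by
          rw [Subgroup.subgroupOf, comap_map_eq_self_of_injective H.subtype_injective]; exact hX)
    -- `X` centralizes `Y`
    obtain ⟨T, hT⟩ := fm_sylow_le hpar S hSM hM hasym hPH
    obtain ⟨RX, hRX⟩ := sylow_inf_normal T X
    have hXC : X ≤ C.subgroupOf H := by
      intro x hx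
      have hD : (⊤ : Subgroup X) ≤ (C.subgroupOf H).subgroupOf X := by
        rw [← CfsgLib.Fusion.pResidual_sup_sylow RX]
        refine sup_le (pResidual_le fun g hg => ?_) fun r hr => ?_
        · obtain ⟨k, hk⟩ := hpX g g.2
          exact mem_of_coprime_of_pow_mem hg (k := k) (mem_subgroupOf.2 (by
            rw [SubmonoidClass.coe_pow]; exact hVc hk))
        · have h := hRX.le (mem_map_of_mem X.subtype hr)
          exact mem_subgroupOf.2 (mem_subgroupOf.2 (hXgC (mem_inf.2
            ⟨mem_map_of_mem H.subtype r.2,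
              (fm_normalizer_core_le hpar S hSM hM) (hT (mem_map_of_mem H.subtype h.1))⟩)))
      exact mem_subgroupOf.1 (hD (mem_top ⟨x, hx⟩))
    rw [le_centralizer_iff]
    haveI : (centralizer (X : Set H)).Normal := Subgroup.normal_centralizer
    refine normalClosure_le_normal (fun y hy => mem_centralizer_iff.2 fun x hx => Subtype.ext ?_)
    exact (mem_centralizer_iff.1 (mem_subgroupOf.1 (hXC hx)) _ hy).symm
  calc Y = Y'.map H.subtype := (map_subgroupOf_eq_of_le hYH).symm
    _ ≤ _ := map_mono (Subgroup.le_normalClosure.trans (le_largestPReduced hred))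

include hpar hSM hM hasym in
theorem fm_frakH_nonempty (htall : Cfsg.IsCharPTall p (Cfsg.largestPReducedOf p M)) :
    ∃ H : Subgroup G, Cfsg.IsInFrakH p M H := by
  set Y := Cfsg.largestPReducedOf p M with hY
  set C := centralizer (Y : Set G) with hC
  set P := Cfsg.pCoreOf p M with hP
  obtain ⟨T, L, hTL, hL, hYL⟩ := htall
  have hPC : P ≤ C := pCoreOf_le_centralizer_largest M
  obtain ⟨T₁, hT₁⟩ := ((pCoreOf_isPGroup M).comap_subtype :
    IsPGroup p (P.subgroupOf C)).exists_le_sylow
  have hT₁eq : (T₁ : Subgroup C).map C.subtype = P := fm_core_maximal S hSM hM (T₁.2.map _)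
    (show P ≤ _ by rw [← map_subgroupOf_eq_of_le hPC]; exact map_mono hT₁) (map_subtype_le _)
  obtain ⟨c, hc⟩ := MulAction.exists_smul_eq C T T₁
  set L₁ := conjBy (c : G) L with hL₁
  have hPL : P ≤ L₁ := by
    rw [← hT₁eq, ← hc]
    intro x hx
    obtain ⟨y, hy, rfl⟩ := hx
    obtain ⟨t, ht, rfl⟩ := hy
    exact conj_mem_conjBy (g := (c : G)) (hTL (mem_map_of_mem C.subtype ht))
  have hcY : conjBy (c : G) Y = Y := conjBy_eq_self_iff.2 (centralizer_le_normalizer _ c.2)
  have hYL₁ : ¬ Y ≤ Cfsg.pCoreOf p L₁ := by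
    intro h
    rw [hL₁, pCoreOf_conjBy] at h
    refine hYL ?_
    have := conjBy_mono (c : G)⁻¹ h
    rw [conjBy_conjBy, inv_mul_cancel, conjBy_one] at this
    refine le_trans ?_ this
    conv_rhs => rw [← hcY]
    rw [conjBy_conjBy, inv_mul_cancel, conjBy_one]
  obtain ⟨H, ⟨hHL, hPH, hYH⟩, hmin⟩ := Set.Finite.exists_minimal
    (Set.toFinite {H : Subgroup G | H ≤ L₁ ∧ P ≤ H ∧ ¬ Y ≤ Cfsg.pCoreOf p H})
    ⟨L₁, le_rfl, hPL, hYL₁⟩
  refine ⟨H, (charP_iff H).2 ?_, hPH, hYH, fun P' hP' hlt => ?_⟩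
  · exact wc_charP_step (pCoreOf_isPGroup M) (fm_core_wc hpar S hSM hM hasym)
      (fm_centralizer_core_le hM) hPH hPL (inf_le_right.trans hHL) (charP_conjBy hL _)
  · by_contra hc'
    exact hlt.not_ge (hmin ⟨hlt.le.trans hHL, hP', hc'⟩ hlt.le)

variable {H : Subgroup G} (hH : Cfsg.IsInFrakH p M H)

include hpar hSM hM hasym hH in
theorem fh_sylow (T : Sylow p ↥(H ⊓ (M ⊔ centralizer
      ((Cfsg.largestPReducedOf p M : Subgroup G) : Set G)))) :
    ∃ P : Sylow p H, (P : Subgroup H).map H.subtype =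
      (T : Subgroup ↥(H ⊓ (M ⊔ centralizer ((Cfsg.largestPReducedOf p M : Subgroup G) : Set G)))).map
        (H ⊓ (M ⊔ centralizer ((Cfsg.largestPReducedOf p M : Subgroup G) : Set G))).subtype := by
  obtain ⟨T₀, hT₀⟩ := fm_parabolic hpar S hSM hM hasym hH.2.1
  generalize hD : H ⊓ (M ⊔ centralizer ((Cfsg.largestPReducedOf p M : Subgroup G) : Set G)) = D
    at T hT₀ ⊢
  set Tg := (T : Subgroup D).map D.subtype with hTg
  have hTH : Tg ≤ H := (map_subtype_le _).trans (hD ▸ inf_le_left)
  obtain ⟨P, hP⟩ := ((T.2.map _).comap_subtype : IsPGroup p (Tg.subgroupOf H)).exists_le_sylow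
  refine ⟨P, ?_⟩
  have h1 : Tg ≤ (P : Subgroup H).map H.subtype := by
    rw [← map_subgroupOf_eq_of_le hTH]; exact map_mono hP
  refine (eq_of_le_of_card_ge h1 ?_).symm
  rw [hTg, card_map_of_injective D.subtype_injective, card_map_of_injective H.subtype_injective,
    show Nat.card P = Nat.card T₀ by rw [Sylow.card_eq_multiplicity, Sylow.card_eq_multiplicity]]
  set T₀g := (T₀ : Subgroup H).map H.subtype with hT₀g
  have hT₀D : T₀g ≤ D := by
    rintro _ ⟨t, ht, rfl⟩
    exact hT₀ ht
  obtain ⟨T', hT'⟩ := ((T₀.2.map _).comap_subtype : IsPGroup p (T₀g.subgroupOf D)).exists_le_sylow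
  rw [show Nat.card T = Nat.card T' by rw [Sylow.card_eq_multiplicity, Sylow.card_eq_multiplicity]]
  calc Nat.card T₀ = Nat.card (T₀g.subgroupOf D) := by
        rw [Nat.card_congr (subgroupOfEquivOfLe hT₀D).toEquiv, hT₀g,
          card_map_of_injective H.subtype_injective]
    _ ≤ Nat.card T' := Nat.le_of_dvd Nat.card_pos (Subgroup.card_dvd_of_le hT')

include hpar hSM hM hasym hH in
theorem fh_core_le : Cfsg.pCoreOf p H ≤ normalizer ((Cfsg.pCoreOf p M : Subgroup G) : Set G) ⊓
    normalizer ((Cfsg.largestPReducedOf p M : Subgroup G) : Set G) := by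
  have h := fm_core_le_normalizer hpar S hSM hM hasym (pCoreOf_isPGroup H)
    (hH.2.1.trans (le_normalizer.trans (normalizer_le_normalizer_pCoreOf H)))
  refine le_inf h (h.trans ?_)
  rw [fm_dagger_eq hpar S hSM hM]
  exact fm_normalizer_core_le hpar S hSM hM

include hSM hM hH in
theorem fh_normalClosure : normalClosure (((Cfsg.pCoreOf p M).subgroupOf H : Subgroup H) : Set H) =
    ⊤ := by
  by_contra hne
  set N := normalClosure (((Cfsg.pCoreOf p M).subgroupOf H : Subgroup H) : Set H)
  have hPN : Cfsg.pCoreOf p M ≤ N.map H.subtype := by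
    rw [← map_subgroupOf_eq_of_le hH.2.1]; exact map_mono Subgroup.le_normalClosure
  have hlt : N.map H.subtype < H := lt_of_le_of_ne (map_subtype_le N) fun e => hne (by
    refine Subgroup.map_injective H.subtype_injective ?_
    rw [← MonoidHom.range_eq_map, range_subtype]; exact e)
  exact hH.2.2.1 ((hH.2.2.2 _ hPN hlt).trans (pCoreOf_le_pCoreOf hlt.le
    ((normal_subgroupOf_iff_le_normalizer (map_subtype_le N)).1 (by
      rw [Subgroup.subgroupOf, comap_map_eq_self_of_injective H.subtype_injective]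
      infer_instance))))

include hSM hM hH in
theorem fh_sup_core : (Cfsg.pResidual p H).map H.subtype ⊔ Cfsg.pCoreOf p M = H := by
  refine le_antisymm (sup_le (map_subtype_le _) hH.2.1) ?_
  have htop : Cfsg.pResidual p H ⊔ (Cfsg.pCoreOf p M).subgroupOf H = ⊤ := by
    by_contra hne
    obtain ⟨C, hC, hle⟩ := (eq_top_or_exists_le_coatom _).resolve_left hne
    haveI := coatom_normal_of_pResidual_le hC (le_sup_left.trans hle)
    exact hC.1 (eq_top_iff.2 ((fh_normalClosure S hSM hM hH).ge.trans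
      (normalClosure_le_normal (fun x hx => hle (mem_sup_right hx)))))
  calc H = (⊤ : Subgroup H).map H.subtype := by rw [← MonoidHom.range_eq_map, range_subtype]
    _ ≤ _ := by rw [← htop, Subgroup.map_sup, map_subgroupOf_eq_of_le hH.2.1]

include hSM hM hH in
theorem fh_commutator : ⁅(Cfsg.pResidual p H).map H.subtype, Cfsg.largestPReducedOf p M⁆ =
      (Cfsg.pResidual p H).map H.subtype ∧
    (Cfsg.pResidual p H).map H.subtype ⊔ Cfsg.largestPReducedOf p M =
      (normalClosure (((Cfsg.largestPReducedOf p M).subgroupOf H : Subgroup H) : Set H)).map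
        H.subtype := by
  set R := (Cfsg.pResidual p H).map H.subtype with hR
  set P := Cfsg.pCoreOf p M with hP
  set Y := Cfsg.largestPReducedOf p M with hY
  have hsup := fh_sup_core S hSM hM hH
  have hYP : Y ≤ P := fm_largest_le_core S hSM hM
  have hYH : Y ≤ H := hYP.trans hH.2.1
  have hHR : H ≤ normalizer (R : Set G) := le_normalizer.trans (normalizer_le_normalizer_resOf H)
  have hPY : P ≤ normalizer (Y : Set G) :=
    (pCoreOf_le_self M).trans (le_normalizer_largestPReducedOf M)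
  set D := ⁅R, Y⁆ with hD
  have hDR : D ≤ R := commutator_le_of_normalizes (hYH.trans hHR)
  have hRD : R ≤ normalizer (D : Set G) := normalizer_commutator_ge_left R Y
  have hPD : P ≤ normalizer (D : Set G) := by
    refine le_normalizer_iff.2 fun g hg x hx => ?_
    have h : conjBy g D ≤ D := by
      show D.map _ ≤ D
      rw [hD, map_commutator]
      exact commutator_mono (conjBy_le_of_mem_normalizer (hHR (hH.2.1 hg)) le_rfl)
        (conjBy_le_of_mem_normalizer (hPY hg) le_rfl)
    exact h (conj_mem_conjBy hx)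
  have hYD : Y ≤ normalizer (D : Set G) := hYP.trans hPD
  have hDY : H ≤ normalizer ((D ⊔ Y : Subgroup G) : Set G) := by
    rw [← hsup]
    refine sup_le (le_normalizer_iff.2 fun r hr x hx => ?_)
      ((le_inf hPD hPY).trans (Subgroup.normalizer_inf_normalizer_le_normalizer_sup D Y))
    obtain ⟨d, hd, y, hy, rfl⟩ := CfsgLib.Coprime.mem_sup_exists hYD hx
    rw [show r * (d * y) * r⁻¹ = (r * d * r⁻¹) * ⁅r, y⁆ * y by rw [commutatorElement_def]; group]
    exact mul_mem (mul_mem (mem_sup_left ((mem_normalizer_iff.1 (hRD hr) d).1 hd))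
      (mem_sup_left (commutator_mem_commutator hr hy))) (mem_sup_right hy)
  have hncl : (normalClosure ((Y.subgroupOf H : Subgroup H) : Set H)).map H.subtype = D ⊔ Y := by
    refine le_antisymm ?_ (sup_le ?_ ?_)
    · have hDYH : D ⊔ Y ≤ H := sup_le (hDR.trans (map_subtype_le _)) hYH
      haveI := (normal_subgroupOf_iff_le_normalizer hDYH).2 hDY
      rw [← map_subgroupOf_eq_of_le hDYH]
      exact map_mono (normalClosure_le_normal
        (fun x hx => mem_subgroupOf.2 (mem_sup_right (mem_subgroupOf.1 hx))))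
    · calc D ≤ ⁅(⊤ : Subgroup H).map H.subtype, (normalClosure
            ((Y.subgroupOf H : Subgroup H) : Set H)).map H.subtype⁆ :=
          commutator_mono (map_mono le_top)
            ((map_subgroupOf_eq_of_le hYH).ge.trans (map_mono Subgroup.le_normalClosure))
        _ ≤ _ := by rw [← map_commutator]; exact map_mono (commutator_le_right _ _)
    · exact (map_subgroupOf_eq_of_le hYH).ge.trans (map_mono Subgroup.le_normalClosure)
  have hRD' : D = R := by
    refine le_antisymm hDR ?_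
    by_cases h : D ⊔ P = H
    · exact resOf_le_of_le_sup (pCoreOf_isPGroup M) hPD h.ge
    exfalso
    have hlt : D ⊔ P < H := lt_of_le_of_ne (sup_le (hDR.trans (map_subtype_le _)) hH.2.1) h
    have h1 := hH.2.2.2 _ le_sup_right hlt
    have hle : D ⊔ Y ≤ D ⊔ P := sup_le_sup_left hYP _
    have h2 : (D ⊔ Y) ⊓ Cfsg.pCoreOf p (D ⊔ P) ≤ Cfsg.pCoreOf p (D ⊔ Y) :=
      le_pCoreOf ((pCoreOf_isPGroup _).to_le inf_le_right) inf_le_left
        (CfsgLib.Coprime.inf_le_normalizer le_normalizer
          (hle.trans (le_normalizer.trans (normalizer_le_normalizer_pCoreOf _))))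
    exact hH.2.2.1 ((le_inf le_sup_right h1).trans (h2.trans
      (pCoreOf_le_pCoreOf (sup_le (hDR.trans (map_subtype_le _)) hYH) hDY)))
  exact ⟨hRD', by rw [hncl, hRD']⟩

include hpar hSM hM hasym hH in
/-- A member of `ℌ` normalizing a `p`-subgroup `Q'`. -/
theorem fh_normalized {Q' : Subgroup G} (hQ'p : IsPGroup p Q')
    (hHQ : H ≤ normalizer (Q' : Set G)) :
    Q' ≤ Cfsg.pCoreOf p (H ⊔ Q') ∧
      Cfsg.pCoreOf p (H ⊔ Q') ≤ normalizer ((Cfsg.pCoreOf p M : Subgroup G) : Set G) ∧
      (H.subgroupOf (H ⊔ Q')).Normal ∧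
      (Cfsg.pResidual p H).map H.subtype =
        (Cfsg.pResidual p ↥(H ⊔ Q')).map (H ⊔ Q').subtype ∧
      Cfsg.IsPIrreducible p ↥(H ⊔ Q') := by
  set P := Cfsg.pCoreOf p M with hP
  set Y := Cfsg.largestPReducedOf p M with hY
  set K := H ⊔ Q' with hK
  have hHK : H ≤ K := le_sup_left
  have hPK : P ≤ K := hH.2.1.trans hHK
  have hKQ : K ≤ normalizer (Q' : Set G) := sup_le hHQ le_normalizer
  have hQO : Q' ≤ Cfsg.pCoreOf p K := le_pCoreOf hQ'p le_sup_right hKQ
  have hKO : K ≤ normalizer ((Cfsg.pCoreOf p K : Subgroup G) : Set G) :=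
    le_normalizer.trans (normalizer_le_normalizer_pCoreOf K)
  have hON := fm_core_le_normalizer hpar S hSM hM hasym (pCoreOf_isPGroup K) (hPK.trans hKO)
  have hQH : Q' ≤ normalizer (H : Set G) := by
    refine le_normalizer_iff.2 fun q hq => ?_
    have h : (⊤ : Subgroup H) ≤ (H.comap (MulAut.conj q).toMonoidHom).subgroupOf H := by
      rw [← fh_normalClosure S hSM hM hH, normalClosure, Subgroup.closure_le]
      intro x hx
      obtain ⟨w, hw, hwx⟩ := Group.mem_conjugatesOfSet_iff.1 hx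
      obtain ⟨c, rfl⟩ := isConj_iff.1 hwx
      show q * ((c : G) * w * (c : G)⁻¹) * q⁻¹ ∈ H
      have hq' : (c : G)⁻¹ * q * c ∈ Q' := (mem_normalizer_iff''.1 (hHQ c.2) q).1 hq
      have hw' : ((c : G)⁻¹ * q * c) * w * ((c : G)⁻¹ * q * c)⁻¹ ∈ P :=
        (mem_normalizer_iff.1 (hON (hQO hq')) _).1 hw
      rw [show q * ((c : G) * w * (c : G)⁻¹) * q⁻¹ =
        (c : G) * (((c : G)⁻¹ * q * c) * w * ((c : G)⁻¹ * q * c)⁻¹) * (c : G)⁻¹ by group]
      exact mul_mem (mul_mem c.2 (hH.2.1 hw')) (inv_mem c.2)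
    exact fun x hx => h (mem_top ⟨x, hx⟩)
  have hKH : K ≤ normalizer (H : Set G) := sup_le le_normalizer hQH
  have hres : (Cfsg.pResidual p H).map H.subtype = (Cfsg.pResidual p K).map K.subtype :=
    le_antisymm (resOf_mono hHK) (resOf_le fun g hg hc =>
      mem_resOf (mem_of_coprime_sup hQ'p hQH hg hc) hc)
  have hHn : (H.subgroupOf K).Normal := (normal_subgroupOf_iff_le_normalizer hHK).2 hKH
  refine ⟨hQO, hON, hHn, hres, ?_, fun N hN hnc => ?_⟩
  · intro hc
    have hH' : Cfsg.IsPClosed p H := by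
      haveI := hHn
      have h : Cfsg.IsPClosed p (H.subgroupOf K) := isPClosed_of_le (M := (⊤ : Subgroup K)) le_top
        (isPClosed_of_equiv topEquiv.symm hc)
      exact isPClosed_of_equiv (subgroupOfEquivOfLe hHK) h
    obtain ⟨T, hT⟩ := ((pCoreOf_isPGroup M).comap_subtype :
      IsPGroup p (P.subgroupOf H)).exists_le_sylow
    refine hH.2.2.1 ((fm_largest_le_core S hSM hM).trans ?_)
    rw [← map_subgroupOf_eq_of_le hH.2.1]
    exact map_mono (hT.trans ((isPClosed_iff_sylow_le T).1 hH'))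
  haveI := hN
  set O' := Cfsg.pCoreOf p K with hO'
  set O := Cfsg.pCoreOf p H with hO
  set Ng := N.map K.subtype with hNg
  have hKN : K ≤ normalizer (Ng : Set G) :=
    (normal_subgroupOf_iff_le_normalizer (map_subtype_le N)).1 (by
      rw [Subgroup.subgroupOf, comap_map_eq_self_of_injective K.subtype_injective]; exact hN)
  have hO'K : O' ≤ K := pCoreOf_le_self K
  set W := (Ng ⊔ O') ⊓ H with hW
  have hKW : K ≤ normalizer (W : Set G) := CfsgLib.Coprime.inf_le_normalizer
    ((le_inf hKN hKO).trans (Subgroup.normalizer_inf_normalizer_le_normalizer_sup Ng O')) hKH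
  by_cases h : W ⊔ P = H
  · refine pResidual_le fun g hg => ?_
    have h1 : (g : G) ∈ W := by
      refine (hres.ge.trans (resOf_le_of_le_sup (pCoreOf_isPGroup M) (hPK.trans hKW) h.ge))
        (mem_resOf g.2 ?_)
      rwa [Subgroup.orderOf_coe]
    have h2 := mem_of_coprime_sup (pCoreOf_isPGroup K) (hO'K.trans hKN) (mem_inf.1 h1).1
      (show (orderOf (g : G)).Coprime p by rwa [Subgroup.orderOf_coe])
    obtain ⟨z, hz, e⟩ := h2
    exact (Subtype.ext e : z = g) ▸ hz
  exfalso
  -- otherwise `W` is `p`-closed, hence so is `N`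
  have hlt : W ⊔ P < H := lt_of_le_of_ne (sup_le inf_le_right hH.2.1) h
  have hYcore := hH.2.2.2 _ le_sup_right hlt
  have hWWP : W ⊔ P ≤ normalizer (W : Set G) := sup_le le_normalizer (hPK.trans hKW)
  have hWY : ⁅W, Y⁆ ≤ O := by
    have h1 : ⁅W, Cfsg.pCoreOf p (W ⊔ P)⁆ ≤ W ⊓ Cfsg.pCoreOf p (W ⊔ P) :=
      commutator_le_inf_of_normalizing ((pCoreOf_le_self _).trans hWWP)
        (le_sup_left.trans (le_normalizer.trans (normalizer_le_normalizer_pCoreOf _)))
    refine (commutator_mono le_rfl hYcore).trans (h1.trans ?_)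
    exact (le_pCoreOf ((pCoreOf_isPGroup _).to_le inf_le_right) inf_le_left
      (CfsgLib.Coprime.inf_le_normalizer le_normalizer (le_sup_left.trans
        (le_normalizer.trans (normalizer_le_normalizer_pCoreOf _))))).trans
      (pCoreOf_le_pCoreOf inf_le_right (hHK.trans hKW))
  set R := (Cfsg.pResidual p H).map H.subtype with hR
  have hRH : R ≤ H := map_subtype_le _
  have hYH : Y ≤ H := (fm_largest_le_core S hSM hM).trans hH.2.1
  have hRW : ⁅R, W⁆ ≤ O := by
    have hRY : ⁅R, Y⁆ = R := (fh_commutator S hSM hM hH).1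
    rw [← hRY]
    have hOn : (O.subgroupOf H).Normal := (normal_subgroupOf_iff_le_normalizer
      (pCoreOf_le_self H)).2 (le_normalizer.trans (normalizer_le_normalizer_pCoreOf H))
    have hsub : ∀ A B C : Subgroup G, A ≤ H → B ≤ H → C ≤ H → (⁅⁅A, B⁆, C⁆ ≤ O ↔
        ⁅⁅A.subgroupOf H, B.subgroupOf H⁆, C.subgroupOf H⁆ ≤ O.subgroupOf H) := by
      intro A B C hA hB hC
      rw [← map_le_map_iff_of_injective H.subtype_injective, map_commutator, map_commutator,
        map_subgroupOf_eq_of_le hA, map_subgroupOf_eq_of_le hB, map_subgroupOf_eq_of_le hC,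
        map_subgroupOf_eq_of_le (pCoreOf_le_self H)]
    have hHO : H ≤ normalizer (O : Set G) :=
      le_normalizer.trans (normalizer_le_normalizer_pCoreOf H)
    rw [hsub _ _ _ hRH hYH inf_le_right]
    haveI := hOn
    refine CfsgLib.PGroup.commutator_commutator_le_of_rotate_normal ?_ ?_
    · rw [← hsub _ _ _ hYH inf_le_right hRH, commutator_comm Y W]
      exact (commutator_mono hWY le_rfl).trans (commutator_le_of_normalizes (hRH.trans hHO))
    · rw [← hsub _ _ _ inf_le_right hRH hYH]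
      exact (commutator_mono (commutator_le_of_normalizes (hRH.trans (hHK.trans hKW))) le_rfl).trans
        hWY
  haveI := hHn
  obtain ⟨T, hT⟩ : ∃ T : Sylow p K, P.subgroupOf K ≤ (T : Subgroup K) :=
    ((pCoreOf_isPGroup M).comap_subtype : IsPGroup p (P.subgroupOf K)).exists_le_sylow
  set T₀ := (T : Subgroup K).map K.subtype ⊓ H with hT₀
  have hPT₀ : P ≤ T₀ := le_inf (by rw [← map_subgroupOf_eq_of_le hPK]; exact map_mono hT) hH.2.1
  have hHT₀ : R ⊔ T₀ = H := le_antisymm (sup_le hRH inf_le_right)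
    ((fh_sup_core S hSM hM hH).ge.trans (sup_le_sup_left hPT₀ _))
  have hT₀n : T₀ ≤ normalizer ((T₀ ⊓ W : Subgroup G) : Set G) :=
    CfsgLib.Coprime.inf_le_normalizer le_normalizer ((inf_le_right.trans hHK).trans hKW)
  have hT₀W : T₀ ⊓ W ≤ O := by
    set Z := (T₀ ⊓ W) ⊔ O with hZ
    have hHO : H ≤ normalizer (O : Set G) :=
      le_normalizer.trans (normalizer_le_normalizer_pCoreOf H)
    have hTO : T₀ ⊓ W ≤ normalizer (O : Set G) := (inf_le_right.trans inf_le_right).trans hHO
    have hZp : IsPGroup p Z := ((T.2.map K.subtype).to_le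
      (inf_le_left.trans inf_le_left)).to_sup_of_normal_right' (pCoreOf_isPGroup H) hTO
    refine le_sup_left.trans (le_pCoreOf hZp
      (sup_le (inf_le_right.trans inf_le_right) (pCoreOf_le_self H)) ?_)
    rw [← hHT₀]
    refine sup_le (le_normalizer_iff.2 fun r hr x hx => ?_) ((le_inf hT₀n
      (inf_le_right.trans hHO)).trans (Subgroup.normalizer_inf_normalizer_le_normalizer_sup _ _))
    rw [sup_comm] at hx
    obtain ⟨o, ho, z, hz, rfl⟩ := CfsgLib.Coprime.mem_sup_exists hTO hx
    rw [show r * (o * z) * r⁻¹ = (r * o * r⁻¹) * ⁅r, z⁆ * z by rw [commutatorElement_def]; group]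
    exact mul_mem (mul_mem (mem_sup_right ((mem_normalizer_iff.1 (hHO (hRH hr)) o).1 ho))
      (mem_sup_right (hRW (commutator_mem_commutator hr (mem_inf.1 hz).2)))) (mem_sup_left hz)
  have hO'T : O' ≤ (T : Subgroup K).map K.subtype :=
    map_mono (CfsgLib.PGroup.pCore_le_sylow T)
  refine hnc (isPClosed_of_inf_le_pCore T N fun z hz => ?_)
  have hzK : (z : G) ∈ H ⊔ O' := (sup_le_sup_left hQO H : K ≤ _) z.2
  rw [sup_comm] at hzK
  obtain ⟨o, ho, x, hx, e⟩ := CfsgLib.Coprime.mem_sup_exists (hHK.trans hKO) hzK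
  have hxe : x = o⁻¹ * (z : G) := by rw [← e, inv_mul_cancel_left]
  have hxT : x ∈ T₀ := mem_inf.2 ⟨by
    rw [hxe]
    exact mul_mem (inv_mem (hO'T ho)) (mem_map_of_mem K.subtype (mem_inf.1 hz).1), hx⟩
  have hxW : x ∈ W := mem_inf.2 ⟨by
    rw [hxe]
    exact mul_mem (mem_sup_right (inv_mem ho))
      (mem_sup_left (mem_map_of_mem K.subtype (mem_inf.1 hz).2)), hx⟩
  have hzO : (z : G) ∈ O' := e ▸ mul_mem ho
    ((pCoreOf_le_pCoreOf hHK hKH) (hT₀W (mem_inf.2 ⟨hxT, hxW⟩)))
  obtain ⟨w, hw, e'⟩ := hzO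
  exact (Subtype.ext e' : w = z) ▸ hw

end Frame

end CfsgLib.LS
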