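import Cfsg.Agent.Lib.LocalStructure.Largest
import Cfsg.Agent.Lib.LocalStructure.WeaklyClosed

/-!
# Members with the basic property
-/

set_option autoImplicit false
set_option linter.style.haveILetI false
set_option linter.unusedSectionVars false

namespace CfsgLib.LS

open Subgroup
open CfsgLib.Coprime (conjBy conjBy_conjBy conjBy_one conjBy_eq_self_iff conj_mem_conjBy)

variable {G : Type*} [Group G] [Finite G] {p : ℕ} [Fact p.Prime]

/-- The largest reduced subgroup along a factorization, normalizer version. -/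
theorem largest_transfer (T : Sylow p G) {L M T₀ Ls : Subgroup G} (hTL : (T : Subgroup G) ≤ L)
    (hTM : (T : Subgroup G) ≤ M) (hL : centralizer (Cfsg.pCore p L : Set L) ≤ Cfsg.pCore p L)
    (hT₀ : T₀ = (T : Subgroup G) ⊓ centralizer ((Cfsg.largestPReducedOf p L : Subgroup G) : Set G))
    (hfac : M ⊔ centralizer ((Cfsg.largestPReducedOf p L : Subgroup G) : Set G) =
      L ⊔ centralizer ((Cfsg.largestPReducedOf p L : Subgroup G) : Set G))
    (hLs : Ls = M ⊓ normalizer (T₀ : Set G)) :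
    (T : Subgroup G) ≤ Ls ∧ Cfsg.largestPReducedOf p L ≤ T₀ ∧
      Cfsg.largestPReducedOf p Ls = Cfsg.largestPReducedOf p L ∧
      L ⊔ centralizer ((Cfsg.largestPReducedOf p L : Subgroup G) : Set G) =
        Ls ⊔ centralizer ((Cfsg.largestPReducedOf p L : Subgroup G) : Set G) := by
  set Y := Cfsg.largestPReducedOf p L with hY
  set C := centralizer (Y : Set G) with hC
  have hYN : normalizer (Y : Set G) ≤ normalizer (C : Set G) :=
    CfsgLib.Coprime.normalizer_le_normalizer_centralizer _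
  have hMN : M ≤ normalizer (Y : Set G) :=
    (le_sup_left.trans hfac.le).trans
      (sup_le (le_normalizer_largestPReducedOf L) (centralizer_le_normalizer _))
  have hYT : Y ≤ (T : Subgroup G) := largestPReducedOf_le_sylow T hTL
  have hYc : Y ≤ C := le_centralizer_self_of_ea (largestPReducedOf_ea L)
  have hT₀M : T₀ ≤ M := (hT₀.le.trans inf_le_left).trans hTM
  have hYT₀ : Y ≤ T₀ := hT₀ ▸ le_inf hYT hYc
  have hTT₀ : (T : Subgroup G) ≤ normalizer (T₀ : Set G) := by
    rw [hT₀]
    exact CfsgLib.Coprime.inf_le_normalizer le_normalizer ((hTM.trans hMN).trans hYN)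
  have hTLs : (T : Subgroup G) ≤ Ls := hLs ▸ le_inf hTM hTT₀
  have hT₀Ls : T₀ ≤ Ls := (hT₀.le.trans inf_le_left).trans hTLs
  haveI : (C.subgroupOf M).Normal :=
    (normal_subgroupOf_iff_le_normalizer_inf).2
      (CfsgLib.Coprime.inf_le_normalizer (hMN.trans hYN) le_normalizer)
  obtain ⟨R, hR⟩ := sylow_inf_normal (T.subtype hTM) (C.subgroupOf M)
  have hfr := R.normalizer_sup_eq_top
  have hsup : L ⊔ C = Ls ⊔ C := by
    refine le_antisymm ?_ ?_
    · rw [← hfac]
      refine sup_le (fun m hm => ?_) le_sup_right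
      have hm' : (⟨m, hm⟩ : M) ∈ _ := hfr.ge (mem_top _)
      rw [← SetLike.mem_coe, Subgroup.mul_normal] at hm'
      obtain ⟨a, ha, c, hc, e⟩ := hm'
      rw [show m = (a : G) * c from (congrArg Subtype.val e).symm]
      refine mul_mem (mem_sup_left (hLs ▸ mem_inf.2 ⟨a.2, ?_⟩)) (mem_sup_right hc)
      refine mem_normalizer_iff.2 fun x => ?_
      have key : ∀ b : M, ∀ y : G, b ∈ normalizer
          (((R : Subgroup (C.subgroupOf M)).map (C.subgroupOf M).subtype : Subgroup M) : Set M) →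
          y ∈ T₀ → (b : G) * y * (b : G)⁻¹ ∈ T₀ := by
        intro b y hb hy
        have hy' : (⟨y, hT₀M hy⟩ : M) ∈
            (R : Subgroup (C.subgroupOf M)).map (C.subgroupOf M).subtype := by
          rw [hR]; exact hT₀.le hy
        have h := hR.le ((mem_normalizer_iff.1 hb _).1 hy')
        rw [hT₀]
        exact h
      refine ⟨key a x ha, fun h => ?_⟩
      have := key a⁻¹ _ (inv_mem ha) h
      simpa [mul_assoc] using this
    · rw [← hfac]
      exact sup_le_sup_right (hLs ▸ inf_le_left) _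
  refine ⟨hTLs, hYT₀, le_antisymm ?_ ?_, hsup⟩
  · haveI : (T₀.subgroupOf Ls).Normal :=
      (normal_subgroupOf_iff_le_normalizer hT₀Ls).2 (hLs ▸ inf_le_right)
    have hp : IsPGroup p (T₀.subgroupOf Ls) :=
      (T.2.to_le (hT₀.le.trans inf_le_left)).of_equiv (subgroupOfEquivOfLe hT₀Ls).symm
    have hYLs : Y ≤ Cfsg.largestPReducedOf p Ls :=
      le_largestPReducedOf (hYT.trans hTLs) (reduced_transfer
        (largestPReducedOf_le L) (hYT.trans hTLs) (largestPReducedOf_spec L) hsup.symm)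
    have hXC : Cfsg.largestPReducedOf p Ls ≤ C :=
      (le_centralizer_self_of_ea (largestPReducedOf_ea Ls)).trans
        (Subgroup.centralizer_le (SetLike.coe_subset_coe.2 hYLs))
    have hXT : Cfsg.largestPReducedOf p Ls ≤ T₀ :=
      hT₀ ▸ le_inf (largestPReducedOf_le_sylow T hTLs) hXC
    have hXc : Cfsg.largestPReducedOf p Ls ≤ centralizer (T₀ : Set G) := by
      rintro _ ⟨x, hx, rfl⟩
      refine mem_centralizer_iff.2 fun t ht => ?_
      exact (congrArg Subtype.val (mem_centralizer_iff.1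
        (reduced_pgroup_le_centralizer (largestPReduced_spec (G := Ls) (p := p)) hp
          (x := ⟨t, hT₀Ls ht⟩) ht) x hx)).symm
    have hT₀L : T₀ ≤ L := (hT₀.le.trans inf_le_left).trans hTL
    obtain ⟨-, -, hst⟩ := largest_structure hL (T.subtype hTL) (TL := T₀.subgroupOf L) rfl (by
        ext t
        simp only [mem_inf, mem_subgroupOf, hT₀, Sylow.coe_subtype]
        refine and_congr_right fun _ => ⟨fun h => mem_centralizer_iff.2 fun y hy =>
          Subtype.ext (mem_centralizer_iff.1 h _ (mem_map_of_mem L.subtype hy)),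
          fun h => mem_centralizer_iff.2 ?_⟩
        rintro _ ⟨y, hy, rfl⟩
        exact congrArg Subtype.val (mem_centralizer_iff.1 h y hy))
    have e := congrArg (Subgroup.map L.subtype) hst
    rw [map_omegaOne_center L.subtype_injective, map_subgroupOf_eq_of_le hT₀L] at e
    rw [show Y = _ from e]
    exact le_omegaOne_center (largestPReducedOf_ea Ls) hXT hXc
  · exact le_largestPReducedOf (hYT.trans hTLs) (reduced_transfer
      (largestPReducedOf_le L) (hYT.trans hTLs) (largestPReducedOf_spec L) hsup.symm)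

theorem pCore_ne_bot_iff {L : Subgroup G} : Cfsg.pCore p L ≠ ⊥ ↔ Cfsg.pCoreOf p L ≠ ⊥ :=
  not_congr (map_eq_bot_iff_of_injective _ L.subtype_injective).symm

theorem mem_charPSubgroups (hpar : Cfsg.IsOfParabolicCharacteristic p G) (S : Sylow p G)
    {A : Subgroup G} (hSA : (S : Subgroup G) ≤ A) (hA : Cfsg.pCore p A ≠ ⊥) :
    A ∈ Cfsg.charPSubgroups p G := by
  refine ⟨hA, ?_⟩
  set P := Cfsg.pCoreOf p A with hP
  set N := normalizer (P : Set G) with hN
  have hAN : A ≤ N := le_normalizer.trans (normalizer_le_normalizer_pCoreOf A)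
  have hc := (charP_iff N).1
    (hpar P (pCoreOf_isPGroup A) (pCore_ne_bot_iff.1 hA) ⟨S, hSA.trans hAN⟩)
  have hle : Cfsg.pCoreOf p N ≤ P :=
    le_pCoreOf (pCoreOf_isPGroup N) ((pCoreOf_le_sylow S (hSA.trans hAN)).trans hSA)
      (hAN.trans (le_normalizer.trans (normalizer_le_normalizer_pCoreOf N)))
  intro x hx
  exact hle (hc ⟨centralizer_le_normalizer _ hx,
    Subgroup.centralizer_le (SetLike.coe_subset_coe.2 hle) hx⟩)

theorem charP_of_mem {A : Subgroup G} (hA : A ∈ Cfsg.charPSubgroups p G) :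
    centralizer (Cfsg.pCore p A : Set A) ≤ Cfsg.pCore p A :=
  (charP_iff A).2 (inf_le_right.trans hA.2)

theorem largest_mono (S : Sylow p G) {A B : Subgroup G} (hSA : (S : Subgroup G) ≤ A) (hAB : A ≤ B)
    (hB : centralizer (Cfsg.pCore p B : Set B) ≤ Cfsg.pCore p B) :
    Cfsg.largestPReducedOf p A ≤ Cfsg.largestPReducedOf p B := by
  have hle : ((S.subtype (hSA.trans hAB) : Sylow p B) : Subgroup B) ≤ A.subgroupOf B :=
    fun x hx => hSA hx
  have h := le_largestPReduced (normalClosure_reduced hB (S.subtype (hSA.trans hAB)) hle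
    (largestPReduced_spec (G := A.subgroupOf B) (p := p)))
  rw [← largestPReducedOf_subgroupOf hAB]
  exact map_mono (Subgroup.le_normalClosure.trans h)

theorem largest_ne_bot (S : Sylow p G) {A : Subgroup G} (hSA : (S : Subgroup G) ≤ A)
    (hA : A ∈ Cfsg.charPSubgroups p G) : Cfsg.largestPReducedOf p A ≠ ⊥ := by
  intro h0
  have hY : Cfsg.largestPReduced p A = ⊥ :=
    (map_eq_bot_iff_of_injective _ A.subtype_injective).1 h0
  set S' := (S.subtype hSA : Sylow p A) with hS'
  have hne : (S' : Subgroup A) ≠ ⊥ := fun h =>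
    hA.1 (le_bot_iff.1 (h ▸ CfsgLib.PGroup.pCore_le_sylow S'))
  have hU := exists_fixed_ne_one (S'.2) hne S'.2 le_normalizer
  obtain ⟨u, huo⟩ : ∃ x : ((S' : Subgroup A) ⊓ centralizer ((S' : Subgroup A) : Set A) :
      Subgroup A), orderOf x = p := by
    obtain ⟨k, hk⟩ := (S'.2.to_le (inf_le_left :
      (S' : Subgroup A) ⊓ centralizer ((S' : Subgroup A) : Set A) ≤ _)).exists_card_eq
    refine exists_prime_orderOf_dvd_card' p (hk ▸ dvd_pow_self p fun h => hU ?_)
    rw [← Subgroup.card_eq_one, hk, h, pow_zero]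
  have h1 : u ^ p = 1 := orderOf_dvd_iff_pow_eq_one.1 huo.dvd
  have hu : (u : A) = 1 := by
    have := omegaOne_center_sylow_le (charP_of_mem hA) S'
      (mem_omegaOne u.2 (congrArg Subtype.val h1))
    rwa [hY, mem_bot] at this
  rw [orderOf_eq_one_iff.2 (Subtype.ext hu : u = 1)] at huo
  exact (Fact.out : p.Prime).ne_one huo.symm

theorem exists_maxCharP {L : Subgroup G} (hL : L ∈ Cfsg.charPSubgroups p G) :
    ∃ X ∈ Cfsg.maxCharPSubgroups p G, L ≤ X := by
  obtain ⟨X, hLX, hX, hmax⟩ :=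
    Set.Finite.exists_le_maximal (Set.toFinite (Cfsg.charPSubgroups p G)) hL
  exact ⟨X, ⟨hX, fun B hB hXB => le_antisymm (hmax hB hXB) hXB⟩, hLX⟩

theorem normalizer_largest_mem (hpar : Cfsg.IsOfParabolicCharacteristic p G) (S : Sylow p G)
    {A : Subgroup G} (hSA : (S : Subgroup G) ≤ A) (hA : A ∈ Cfsg.charPSubgroups p G) :
    normalizer ((Cfsg.largestPReducedOf p A : Subgroup G) : Set G) ∈ Cfsg.charPSubgroups p G :=
  mem_charPSubgroups hpar S (hSA.trans (le_normalizer_largestPReducedOf A))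
    (pCore_ne_bot_iff.2 fun h => largest_ne_bot S hSA hA (le_bot_iff.1 (h ▸
      le_pCoreOf (isPGroup_of_ea (largestPReducedOf_ea A)) le_normalizer le_rfl)))

theorem centralizer_largest_le_of_max (hpar : Cfsg.IsOfParabolicCharacteristic p G) (S : Sylow p G)
    {X : Subgroup G} (hSX : (S : Subgroup G) ≤ X) (hX : X ∈ Cfsg.maxCharPSubgroups p G) :
    centralizer ((Cfsg.largestPReducedOf p X : Subgroup G) : Set G) ≤ X :=
  (centralizer_le_normalizer _).trans
    (hX.2 _ (normalizer_largest_mem hpar S hSX hX.1) (le_normalizer_largestPReducedOf X)).le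

/-- Every member of `𝓛` over a Sylow subgroup reaches a member with the basic property. -/
theorem exists_basic_member (hpar : Cfsg.IsOfParabolicCharacteristic p G) (S : Sylow p G)
    {L : Subgroup G} (hSL : (S : Subgroup G) ≤ L) (hL : L ∈ Cfsg.charPSubgroups p G) :
    ∃ M Ls : Subgroup G, (S : Subgroup G) ≤ M ∧ Cfsg.IsInFrakM p M ∧ (S : Subgroup G) ≤ Ls ∧
      Ls ≤ M ∧ Ls ∈ Cfsg.charPSubgroups p G ∧
      Cfsg.largestPReducedOf p L = Cfsg.largestPReducedOf p Ls ∧
      Cfsg.largestPReducedOf p L ≤ Cfsg.largestPReducedOf p M ∧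
      L ⊔ centralizer ((Cfsg.largestPReducedOf p L : Subgroup G) : Set G) =
        Ls ⊔ centralizer ((Cfsg.largestPReducedOf p L : Subgroup G) : Set G) := by
  set Y := Cfsg.largestPReducedOf p L with hY
  set C₀ := centralizer (Y : Set G) with hC₀
  set L' := L ⊔ C₀ with hL'
  let good : Set (Subgroup G) := {X | X ∈ Cfsg.maxCharPSubgroups p G ∧ (S : Subgroup G) ≤ X ∧
    L ≤ (X ⊓ L') ⊔ C₀}
  obtain ⟨X₀, hX₀, hLX₀⟩ := exists_maxCharP hL
  obtain ⟨X, ⟨hXmax, hSX, hLX⟩, hXbig⟩ := Set.exists_max_image good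
    (fun X => Nat.card (Cfsg.largestPReducedOf p X)) (Set.toFinite _)
    ⟨X₀, hX₀, hSL.trans hLX₀, (le_inf hLX₀ le_sup_left).trans le_sup_left⟩
  have hYX : Y ≤ Cfsg.largestPReducedOf p X := by
    have hSA : (S : Subgroup G) ≤ X ⊓ L' := le_inf hSX (hSL.trans le_sup_left)
    have hYA : Y ≤ X ⊓ L' := (largestPReducedOf_le_sylow S hSL).trans hSA
    exact (le_largestPReducedOf hYA (reduced_transfer (largestPReducedOf_le L) hYA
      (largestPReducedOf_spec L) (le_antisymm (sup_le inf_le_right le_sup_right)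
        (sup_le hLX le_sup_right)))).trans (largest_mono S hSA inf_le_left (charP_of_mem hXmax.1))
  set YX := Cfsg.largestPReducedOf p X with hYXdef
  set C := centralizer (YX : Set G) with hC
  have hCX : C ≤ X := centralizer_largest_le_of_max hpar S hSX hXmax
  have hCC₀ : C ≤ C₀ := Subgroup.centralizer_le (SetLike.coe_subset_coe.2 hYX)
  set TX := (S : Subgroup G) ⊓ C with hTX
  have hCn : normalizer (YX : Set G) ≤ normalizer (C : Set G) :=
    CfsgLib.Coprime.normalizer_le_normalizer_centralizer _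
  have hSTX : (S : Subgroup G) ≤ normalizer (TX : Set G) :=
    CfsgLib.Coprime.inf_le_normalizer le_normalizer
      ((hSX.trans (le_normalizer_largestPReducedOf X)).trans hCn)
  have hfacX := largest_transfer S hSX hSX (charP_of_mem hXmax.1) hTX rfl rfl
  obtain ⟨M, ⟨hSM, hMX, hXM⟩, hMmin⟩ := Set.Finite.exists_minimal
    (Set.toFinite {M : Subgroup G | (S : Subgroup G) ≤ M ∧ M ≤ X ⊓ normalizer (TX : Set G) ∧
      X ≤ M ⊔ C})
    ⟨X ⊓ normalizer (TX : Set G), le_inf hSX hSTX, le_rfl, le_sup_left.trans hfacX.2.2.2.le⟩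
  have hMN : M ⊓ normalizer (TX : Set G) = M := inf_eq_left.2 (hMX.trans inf_le_right)
  have hMC : M ⊔ C = X := le_antisymm (sup_le (hMX.trans inf_le_left) hCX) hXM
  obtain ⟨-, hYTX, hYM, -⟩ := largest_transfer S hSX hSM (charP_of_mem hXmax.1) hTX
    (by rw [hMC, sup_eq_left.2 hCX]) hMN.symm
  have hTXM : TX ≤ M := inf_le_left.trans hSM
  have hTXcore : TX ≤ Cfsg.pCoreOf p M :=
    le_pCoreOf (S.2.to_le inf_le_left) hTXM (hMX.trans inf_le_right)
  have hMmem : M ∈ Cfsg.charPSubgroups p G := mem_charPSubgroups hpar S hSM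
    (pCore_ne_bot_iff.2 fun h => largest_ne_bot S hSX hXmax.1
      (le_bot_iff.1 (h ▸ hYTX.trans hTXcore)))
  have hMY : M ≤ normalizer (YX : Set G) :=
    (hMX.trans inf_le_left).trans (le_normalizer_largestPReducedOf X)
  haveI hN'n : ((M ⊓ C).subgroupOf M).Normal :=
    (normal_subgroupOf_iff_le_normalizer inf_le_left).2
      (CfsgLib.Coprime.inf_le_normalizer le_normalizer (hMY.trans hCn))
  set N' := (M ⊓ C).subgroupOf M with hN'
  have hinf : ((S.subtype hSM : Sylow p M) : Subgroup M) ⊓ N' ≤ Cfsg.pCore p M := by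
    intro x hx
    obtain ⟨y, hy, e⟩ := hTXcore (show (x : G) ∈ TX from mem_inf.2 ⟨hx.1, hx.2.2⟩)
    rwa [← Subtype.ext e]
  refine ⟨M, M ⊓ L' ⊓ normalizer (((S : Subgroup G) ⊓ C₀ : Subgroup G) : Set G), hSM,
    ⟨hMmem, ?_, ?_, ?_, ?_, ?_⟩, ?_⟩
  · rw [hYM, hMC]; exact hXmax
  · intro X' hX' hMX'
    rw [hYM, hMC]
    have hSX' : (S : Subgroup G) ≤ X' := hSM.trans hMX'
    have hgood : X' ∈ good := by
      refine ⟨hX', hSX', hLX.trans (sup_le (fun x hx => ?_) le_sup_right)⟩
      obtain ⟨c, hc, m, hm, e⟩ := CfsgLib.Coprime.mem_sup_exists (N := C) (H := M)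
        (hMY.trans hCn) (show x ∈ C ⊔ M by rw [sup_comm]; exact hXM hx.1)
      rw [← e]
      refine mul_mem (mem_sup_right (hCC₀ hc)) (mem_sup_left (mem_inf.2 ⟨hMX' hm, ?_⟩))
      rw [show m = c⁻¹ * x by rw [← e, inv_mul_cancel_left]]
      exact mul_mem (mem_sup_right (inv_mem (hCC₀ hc))) hx.2
    have hle : YX ≤ Cfsg.largestPReducedOf p X' := by
      exact hYM.ge.trans (largest_mono S hSM hMX' (charP_of_mem hX'.1))
    have heq := eq_of_le_of_card_ge hle (hXbig X' hgood)
    have hN := normalizer_largest_mem hpar S hSX hXmax.1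
    rw [← hX'.2 _ hN (by rw [← hYXdef, heq]; exact le_normalizer_largestPReducedOf X'),
      hXmax.2 _ hN (le_normalizer_largestPReducedOf X)]
  · rw [hYM, hMC]
  · rw [hYM]
    exact isPClosed_of_equiv (subgroupOfEquivOfLe inf_le_left)
      (isPClosed_of_inf_le_pCore (S.subtype hSM) N' hinf)
  · rw [hYM]
    refine le_iInf₂ fun B hB => ?_
    by_contra hnot
    haveI := CfsgLib.Coprime.pCore_normal' (G := M) p
    have hs := QuotientGroup.mk'_surjective (Cfsg.pCore p M)
    set M₀ := B.comap (QuotientGroup.mk' (Cfsg.pCore p M)) with hM₀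
    have hO : Cfsg.pCore p M ≤ M₀ := (QuotientGroup.ker_mk' _).ge.trans (ker_le_comap _ B)
    have hM₀top : M₀ ≠ ⊤ := fun e => hB.1 (by
      rw [← map_comap_eq_self_of_surjective hs B, ← hM₀, e, map_top_of_surjective _ hs])
    have hsupt : M₀ ⊔ N' = ⊤ := by
      have h1 : B ⊔ N'.map (QuotientGroup.mk' (Cfsg.pCore p M)) = ⊤ :=
        hB.2 _ (lt_of_le_of_ne le_sup_left fun e => hnot (le_sup_right.trans e.ge))
      have := congrArg (Subgroup.comap (QuotientGroup.mk' (Cfsg.pCore p M))) h1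
      rw [← map_comap_eq_self_of_surjective hs B, ← Subgroup.map_sup, comap_map_eq,
        QuotientGroup.ker_mk', comap_top, ← hM₀] at this
      rwa [sup_eq_left.2 (hO.trans le_sup_left)] at this
    obtain ⟨R, hR⟩ := sylow_inf_normal (S.subtype hSM) N'
    have hidx : ¬ p ∣ M₀.index := by
      intro hd
      refine R.not_dvd_index (hd.trans ?_)
      have e : M₀.index = M₀.relIndex N' := by
        have h1 := relIndex_mul_index (inf_le_left : M₀ ⊓ N' ≤ M₀)
        have h2 := relIndex_mul_index (inf_le_right : M₀ ⊓ N' ≤ N')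
        have h3 : N'.relIndex M₀ = N'.index := by
          rw [← relIndex_sup_right (H := M₀) (K := N'), hsupt, relIndex_top_right]
        rw [inf_relIndex_left, h3] at h1
        rw [inf_relIndex_right, ← h1, mul_comm] at h2
        exact (Nat.eq_of_mul_eq_mul_left (Nat.pos_of_ne_zero N'.index_ne_zero_of_finite) h2).symm
      rw [e]
      refine (relIndex_dvd_of_le_left N' hO).trans (index_dvd_of_le ?_)
      intro x hx
      exact hinf (hR.le (mem_map_of_mem N'.subtype hx))
    obtain ⟨P⟩ : Nonempty (Sylow p M₀) := inferInstance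
    have hP' : ¬ p ∣ ((P : Subgroup M₀).map M₀.subtype).index := by
      rw [index_map_subtype]
      exact (Fact.out : p.Prime).not_dvd_mul P.not_dvd_index hidx
    obtain ⟨m, hm⟩ := MulAction.exists_smul_eq M ((P.2.map M₀.subtype).toSylow hP') (S.subtype hSM)
    set M₁ := conjBy m M₀ with hM₁
    have hSM₁ : ((S.subtype hSM : Sylow p M) : Subgroup M) ≤ M₁ := by
      rw [← hm]
      exact map_mono (map_subtype_le _)
    have hsup₁ : M₁ ⊔ N' = ⊤ := by
      have := congrArg (conjBy m) hsupt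
      rw [CfsgLib.Coprime.conjBy, Subgroup.map_sup,
        show Subgroup.map (MulAut.conj m).toMonoidHom N' = N' from
          conjBy_eq_self_iff.2 (normalizer_eq_top_iff.2 hN'n ▸ mem_top m)] at this
      rw [hM₁]
      refine this.trans ?_
      rw [CfsgLib.Coprime.conjBy, map_top_of_surjective _ (MulAut.conj m).surjective]
    have hmem : M₁.map M.subtype ∈ {M : Subgroup G | (S : Subgroup G) ≤ M ∧
        M ≤ X ⊓ normalizer (TX : Set G) ∧ X ≤ M ⊔ C} := by
      refine ⟨fun x hx => ⟨⟨x, hSM hx⟩, hSM₁ hx, rfl⟩, (map_subtype_le _).trans hMX, ?_⟩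
      rw [← hMC]
      refine sup_le (fun x hx => ?_) le_sup_right
      have h := hsup₁.ge (mem_top (⟨x, hx⟩ : M))
      rw [← SetLike.mem_coe, Subgroup.mul_normal] at h
      obtain ⟨a, ha, b, hb, e⟩ := h
      rw [show x = (a : G) * b from (congrArg Subtype.val e).symm]
      exact mul_mem (mem_sup_left (mem_map_of_mem M.subtype ha)) (mem_sup_right hb.2)
    refine hM₀top ?_
    have hMle := hMmin hmem (map_subtype_le _)
    have hM₁top : M₁ = ⊤ := eq_top_iff.2 fun x _ => by
      obtain ⟨y, hy, e⟩ := hMle x.2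
      rwa [← Subtype.ext e]
    have := congrArg (conjBy m⁻¹) hM₁top
    rw [hM₁, conjBy_conjBy, inv_mul_cancel, conjBy_one] at this
    refine this.trans ?_
    rw [CfsgLib.Coprime.conjBy, map_top_of_surjective _ (MulAut.conj m⁻¹).surjective]
  · have hfac : M ⊓ L' ⊔ C₀ = L ⊔ C₀ := by
      refine le_antisymm (sup_le inf_le_right le_sup_right) (sup_le ?_ le_sup_right)
      refine hLX.trans (sup_le (fun x hx => ?_) le_sup_right)
      obtain ⟨c, hc, m, hm, e⟩ := CfsgLib.Coprime.mem_sup_exists (N := C) (H := M)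
        (hMY.trans hCn) (show x ∈ C ⊔ M by rw [sup_comm]; exact hXM hx.1)
      rw [← e]
      refine mul_mem (mem_sup_right (hCC₀ hc)) (mem_sup_left (mem_inf.2 ⟨hm, ?_⟩))
      rw [show m = c⁻¹ * x by rw [← e, inv_mul_cancel_left]]
      exact mul_mem (mem_sup_right (inv_mem (hCC₀ hc))) hx.2
    obtain ⟨hSLs, hYT₀, hYLs, hsup⟩ := largest_transfer S hSL
      (le_inf hSM (hSL.trans le_sup_left)) (charP_of_mem hL) rfl hfac rfl
    refine ⟨hSLs, inf_le_left.trans inf_le_left, ?_, hYLs.symm, hYX.trans hYM.ge, hsup⟩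
    refine mem_charPSubgroups hpar S hSLs (pCore_ne_bot_iff.2 fun h => largest_ne_bot S hSL hL
      (le_bot_iff.1 (h ▸ hYT₀.trans (le_pCoreOf (S.2.to_le inf_le_left)
        (inf_le_left.trans hSLs) inf_le_right))))

theorem large_parabolic {Q : Subgroup G} (hQp : IsPGroup p Q) (hQ1 : Q ≠ ⊥) (hL : Cfsg.IsLarge Q) :
    Cfsg.IsOfParabolicCharacteristic p G := by
  intro R hR hR1 ⟨T, hT⟩
  set N := normalizer (R : Set G) with hN
  obtain ⟨g, hg⟩ := exists_conj_le_sylow hQp T
  have hQg : conjBy g⁻¹ Q ≤ N := (le_conjBy_iff.1 hg).trans hT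
  refine (large_charP (isPGroup_conjBy hQp g⁻¹) (fun h => hQ1 ?_) (large_conjBy hL g⁻¹) hQg
    (fun h => hR1 (le_bot_iff.1 (h ▸ le_pCoreOf hR le_normalizer le_rfl)))).2.2
  exact (map_eq_bot_iff_of_injective _ (MulAut.conj g⁻¹).injective).1 h

theorem large_weakClosure_sup {Q L Y : Subgroup G} (hQp : IsPGroup p Q) (hQ1 : Q ≠ ⊥)
    (hLg : Cfsg.IsLarge Q) (hQL : Q ≤ L) (hYp : IsPGroup p Y) (hY1 : Y ≠ ⊥)
    (hLY : L ≤ normalizer (Y : Set G)) :
    Cfsg.weakClosure Q L = Cfsg.weakClosure Q (L ⊔ centralizer (Y : Set G)) := by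
  refine le_antisymm (weakClosure_mono le_sup_left) (iSup_le fun g => ?_)
  obtain ⟨k, hk, e⟩ := wc_conj_in hQp (large_wc hQp hQ1 hLg) (hQL.trans le_sup_left) g.2
  obtain ⟨c, hc, l, hl, rfl⟩ := CfsgLib.Coprime.mem_sup_exists
    (hLY.trans (CfsgLib.Coprime.normalizer_le_normalizer_centralizer _))
    (show k ∈ centralizer (Y : Set G) ⊔ L by rwa [sup_comm])
  have hl' : conjBy l Q ≤ L := conjBy_le_of_mem_normalizer (le_normalizer hl) hQL
  have hc' : c ∈ normalizer (conjBy l Q : Set G) :=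
    large_centralizer_le (isPGroup_conjBy hQp l) (large_conjBy hLg l) hYp hY1 (hl'.trans hLY) hc
  show conjBy (g : G) Q ≤ _
  rw [show conjBy (g : G) Q = conjBy l Q by
    rw [show conjBy (g : G) Q = conjBy (c * l) Q from e, ← conjBy_conjBy, conjBy_eq_self_iff.2 hc']]
  exact le_weakClosure hl'

theorem weakClosure_ne_self {Q L : Subgroup G} (hQL : Q ≤ L)
    (h : ¬ L ≤ normalizer (Q : Set G)) : Cfsg.weakClosure Q L ≠ Q := fun e => h fun l hl => by
  have := (le_weakClosure (conjBy_le_of_mem_normalizer (le_normalizer hl) hQL)).trans e.le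
  exact conjBy_eq_self_iff.1 (eq_of_le_of_card_ge this (CfsgLib.Coprime.card_conjBy l Q).ge)

end CfsgLib.LS
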