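import Cfsg.Prelude.Def_BaumannBlocks
import Cfsg.Agent.Lib.LocalStructure.BaumannNormal
import Cfsg.Agent.Lib.JComp.Prelim
import Mathlib.LinearAlgebra.Matrix.SpecialLinearGroup

/-!
# Blocks relative to the Baumann subgroup: what the module conditions give
-/

set_option autoImplicit false
set_option linter.unusedSectionVars false

open Subgroup
open scoped commutatorElement MatrixGroups

namespace CfsgLib.BaumannBlock

open CfsgLib.Fusion (IsMaxEA conjBy)

/-! ### Irreducibility of the two modules -/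

section SL2

variable {F : Type*} [Field F]

/-- Upper unitriangular matrix. -/
private def upperT (x : F) : SL(2, F) := ⟨!![1, x; 0, 1], by simp [Matrix.det_fin_two]⟩

/-- Lower unitriangular matrix. -/
private def lowerT (x : F) : SL(2, F) := ⟨!![1, 0; x, 1], by simp [Matrix.det_fin_two]⟩

private def diagT (a : F) (ha : a ≠ 0) : SL(2, F) :=
  ⟨!![a, 0; 0, a⁻¹], by simp [Matrix.det_fin_two, ha]⟩

private def wT : SL(2, F) := ⟨!![0, 1; -1, 0], by simp [Matrix.det_fin_two]⟩

private theorem upperT_coe (x : F) :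
    ((upperT x : SL(2, F)) : Matrix (Fin 2) (Fin 2) F) = !![1, x; 0, 1] := rfl

private theorem lowerT_coe (x : F) :
    ((lowerT x : SL(2, F)) : Matrix (Fin 2) (Fin 2) F) = !![1, 0; x, 1] := rfl

private theorem diagT_coe (a : F) (ha : a ≠ 0) :
    ((diagT a ha : SL(2, F)) : Matrix (Fin 2) (Fin 2) F) = !![a, 0; 0, a⁻¹] := rfl

private theorem wT_coe : ((wT : SL(2, F)) : Matrix (Fin 2) (Fin 2) F) = !![0, 1; -1, 0] := rfl

private theorem upperT_mulVec (x : F) (v : Fin 2 → F) :
    ((upperT x : SL(2, F)) : Matrix (Fin 2) (Fin 2) F).mulVec v = ![v 0 + x * v 1, v 1] := by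
  ext i; fin_cases i <;> simp [upperT, Matrix.mulVec, dotProduct, Fin.sum_univ_two]

private theorem lowerT_mulVec (x : F) (v : Fin 2 → F) :
    ((lowerT x : SL(2, F)) : Matrix (Fin 2) (Fin 2) F).mulVec v = ![v 0, x * v 0 + v 1] := by
  ext i; fin_cases i <;> simp [lowerT, Matrix.mulVec, dotProduct, Fin.sum_univ_two]

private theorem upperT_mem {a : F} (ha : a ≠ 0) (ha2 : a * a - 1 ≠ 0) (x : F) :
    upperT x ∈ commutator SL(2, F) := by
  suffices h : ∀ y : F, upperT ((a * a - 1) * y) ∈ commutator SL(2, F) by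
    simpa [mul_div_cancel₀ _ ha2] using h (x / (a * a - 1))
  intro y
  have h : ⁅diagT a ha, upperT y⁆ ∈ commutator SL(2, F) :=
    commutator_mem_commutator (mem_top _) (mem_top _)
  convert h using 1
  rw [commutatorElement_def]
  apply Subtype.ext
  simp only [Matrix.SpecialLinearGroup.coe_mul, Matrix.SpecialLinearGroup.coe_inv, diagT_coe, upperT_coe]
  ext i j
  fin_cases i <;> fin_cases j <;>
    simp [Matrix.mul_apply, Fin.sum_univ_two, Matrix.adjugate_fin_two] <;> field_simp <;> ring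

private theorem lowerT_mem {a : F} (ha : a ≠ 0) (ha2 : a * a - 1 ≠ 0) (x : F) :
    lowerT x ∈ commutator SL(2, F) := by
  have h : wT * upperT (-x) * wT⁻¹ ∈ commutator SL(2, F) :=
    Subgroup.Normal.conj_mem inferInstance _ (upperT_mem ha ha2 (-x)) wT
  convert h using 1
  apply Subtype.ext
  simp only [Matrix.SpecialLinearGroup.coe_mul, Matrix.SpecialLinearGroup.coe_inv, wT_coe, upperT_coe, lowerT_coe]
  ext i j
  fin_cases i <;> fin_cases j <;> simp [Matrix.mul_apply, Fin.sum_univ_two, Matrix.adjugate_fin_two]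

/-- The natural module of the derived group of `SL₂` has no proper invariant subgroup. -/
theorem sl2_invariant [Fintype F] (S : AddSubgroup (Fin 2 → F))
    (hS : ∀ g ∈ commutator SL(2, F), ∀ v ∈ S, (g : Matrix (Fin 2) (Fin 2) F).mulVec v ∈ S) :
    S = ⊥ ∨ S = ⊤ := by
  classical
  rcases eq_or_ne S ⊥ with h | h
  · exact Or.inl h
  right
  obtain ⟨v, hv, hv0⟩ := (S.ne_bot_iff_exists_ne_zero).1 h |> fun ⟨⟨v, hv⟩, hne⟩ =>
    (⟨v, hv, fun h0 => hne (Subtype.ext h0)⟩ : ∃ v ∈ S, v ≠ 0)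
  suffices hh : ∀ s : F, ![s, 0] ∈ S ∧ ![0, s] ∈ S by
    rw [eq_top_iff]
    intro u _
    have := S.add_mem (hh (u 0)).1 (hh (u 1)).2
    convert this using 1
    ext i; fin_cases i <;> simp
  by_cases hbig : ∃ a : F, a ≠ 0 ∧ a * a - 1 ≠ 0
  · obtain ⟨a, ha, ha2⟩ := hbig
    have hU : ∀ x : F, ∀ u ∈ S, ![x * u 1, 0] ∈ S := by
      intro x u hu
      have := S.sub_mem (hS _ (upperT_mem ha ha2 x) u hu) hu
      rw [upperT_mulVec] at this
      convert this using 1
      ext i; fin_cases i <;> simp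
    have hL : ∀ x : F, ∀ u ∈ S, ![0, x * u 0] ∈ S := by
      intro x u hu
      have := S.sub_mem (hS _ (lowerT_mem ha ha2 x) u hu) hu
      rw [lowerT_mulVec] at this
      convert this using 1
      ext i; fin_cases i <;> simp
    have h10 : ∀ s : F, ![s, 0] ∈ S := by
      intro s
      by_cases h1 : v 1 = 0
      · have h0 : v 0 ≠ 0 := fun h0 => hv0 (by ext i; fin_cases i <;> simp [h0, h1])
        have := hU (s / v 0) _ (hL 1 v hv)
        simpa [h0] using this
      · simpa [h1] using hU (s / v 1) v hv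
    refine fun s => ⟨h10 s, ?_⟩
    simpa using hL s _ (h10 1)
  -- two or three elements
  push Not at hbig
  have hel : ∀ a : F, a = 0 ∨ a = 1 ∨ a = -1 := by
    intro a
    rcases eq_or_ne a 0 with h0 | h0
    · exact Or.inl h0
    · have := sub_eq_zero.1 (hbig a h0)
      rcases mul_self_eq_one_iff.1 this with h | h
      · exact Or.inr (Or.inl h)
      · exact Or.inr (Or.inr h)
  have hg : ∀ x : F, ∀ u ∈ S, ![-(x * u 1), x * x * u 1 - x * u 0] ∈ S := by
    intro x u hu
    have hgm : ⁅wT, upperT x⁆ ∈ commutator SL(2, F) :=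
      commutator_mem_commutator (mem_top _) (mem_top _)
    have := S.sub_mem (hS _ hgm u hu) hu
    convert this using 1
    ext i
    fin_cases i <;>
      simp [commutatorElement_def, Matrix.SpecialLinearGroup.coe_mul, Matrix.SpecialLinearGroup.coe_inv, wT_coe, upperT_coe,
        Matrix.adjugate_fin_two, Matrix.mulVec, dotProduct, Fin.sum_univ_two, Matrix.mul_apply] <;> ring
  -- a vector with second coordinate nonzero
  obtain ⟨u, hu, hu1⟩ : ∃ u ∈ S, u 1 ≠ 0 := by
    by_cases h1 : v 1 = 0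
    · exact ⟨_, hg 1 v hv, by
        have h0 : v 0 ≠ 0 := fun h0 => hv0 (by ext i; fin_cases i <;> simp [h0, h1])
        simp [h1, h0]⟩
    · exact ⟨v, hv, h1⟩
  have hc1 : ![(1 : F), 0] ∈ S ∧ ![(0 : F), 1] ∈ S := by
    have ha := hg 1 u hu
    have hb := hg (-1) u hu
    -- sum and difference
    have hs : ![0, 2 * u 1] ∈ S := by
      convert S.add_mem ha hb using 1
      ext i; fin_cases i <;> simp <;> ring
    have hd : ![2 * u 1, 2 * u 0] ∈ S := by
      convert S.sub_mem hb ha using 1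
      ext i; fin_cases i <;> simp <;> ring
    by_cases h2 : (2 : F) = 0
    · have hz : ∀ a : F, a = 0 ∨ a = 1 := fun a => by
        rcases hel a with h | h | h
        · exact Or.inl h
        · exact Or.inr h
        · exact Or.inr (h.trans (neg_eq_iff_add_eq_zero.2 (by rw [← h2]; norm_num)))
      have hm : (-1 : F) = 1 := neg_eq_iff_add_eq_zero.2 (by rw [← h2]; norm_num)
      have hu1' : u 1 = 1 := (hz _).resolve_left hu1
      rcases hz (u 0) with h0 | h0
      · have e1 : ![(1 : F), 1] ∈ S := by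
          convert ha using 1
          ext i; fin_cases i <;> simp [hu1', h0, hm]
        have e2 : ![(0 : F), 1] ∈ S := by
          convert hu using 1
          ext i; fin_cases i <;> simp [hu1', h0]
        refine ⟨?_, e2⟩
        convert S.sub_mem e1 e2 using 1
        ext i; fin_cases i <;> simp
      · have e1 : ![(1 : F), 0] ∈ S := by
          convert ha using 1
          ext i; fin_cases i <;> simp [hu1', h0, hm]
        have e2 : ![(1 : F), 1] ∈ S := by
          convert hu using 1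
          ext i; fin_cases i <;> simp [hu1', h0]
        refine ⟨e1, ?_⟩
        convert S.sub_mem e2 e1 using 1
        ext i; fin_cases i <;> simp
    · -- `2` is invertible, and every element is `0` or `±1`
      have hcl : ∀ (s : F) (w : Fin 2 → F), w ∈ S → s • w ∈ S := fun s w hw => by
        rcases hel s with h | h | h <;> subst h
        · simp [S.zero_mem]
        · simp [hw]
        · simp [hw]
      have e1 : ![(0 : F), 1] ∈ S := by
        convert hcl (2 * u 1)⁻¹ _ hs using 1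
        ext i; fin_cases i <;> simp [mul_ne_zero h2 hu1]
        field_simp
      refine ⟨?_, e1⟩
      have := S.sub_mem (hcl (2 * u 1)⁻¹ _ hd) (hcl ((2 * u 1)⁻¹ * (2 * u 0)) _ e1)
      convert this using 1
      ext i; fin_cases i <;> simp [mul_ne_zero h2 hu1] <;> field_simp
  intro s
  rcases hel s with h | h | h <;> subst h
  · exact ⟨by convert S.zero_mem using 1; ext i; fin_cases i <;> simp,
      by convert S.zero_mem using 1; ext i; fin_cases i <;> simp⟩
  · exact hc1
  · exact ⟨by convert S.neg_mem hc1.1 using 1; ext i; fin_cases i <;> simp,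
      by convert S.neg_mem hc1.2 using 1; ext i; fin_cases i <;> simp⟩

end SL2

/-- The even weight module of an alternating group of odd degree has no proper invariant subgroup. -/
theorem perm_invariant (m : ℕ) (S : AddSubgroup (Fin (2 * m + 1) → ZMod 2))
    (hev : ∀ v ∈ S, ∑ i, v i = 0)
    (hS : ∀ g ∈ alternatingGroup (Fin (2 * m + 1)), ∀ v ∈ S, (fun i => v (g⁻¹ i)) ∈ S) :
    S = ⊥ ∨ ∀ v : Fin (2 * m + 1) → ZMod 2, ∑ i, v i = 0 → v ∈ S := by
  classical
  rcases eq_or_ne S ⊥ with h | h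
  · exact Or.inl h
  right
  obtain ⟨⟨v, hv⟩, hne⟩ := (S.ne_bot_iff_exists_ne_zero).1 h
  have hv0 : v ≠ 0 := fun h0 => hne (Subtype.ext h0)
  have h01 : ∀ a : ZMod 2, a = 0 ∨ a = 1 := by decide
  have hab : ∃ a b, v a = 1 ∧ v b = 0 := by
    obtain ⟨a, ha⟩ := Function.ne_iff.1 hv0
    refine ⟨a, ?_⟩
    by_contra hcon
    push Not at hcon
    have ha1 := (h01 (v a)).resolve_left ha
    have hall : ∀ b, v b = 1 := fun b => (h01 (v b)).resolve_left (hcon b ha1)
    have := hev v hv
    simp [hall] at this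
    rw [show (2 : ZMod 2) = 0 from by decide] at this
    simp at this
  obtain ⟨a, b, ha, hb⟩ := hab
  have hab' : a ≠ b := fun h => by rw [h, hb] at ha; exact zero_ne_one ha
  let e : Fin (2 * m + 1) → Fin (2 * m + 1) → (Fin (2 * m + 1) → ZMod 2) :=
    fun i j => Pi.single i 1 + Pi.single j 1
  have hcyc : ∀ i j k : Fin (2 * m + 1), i ≠ j → j ≠ k → i ≠ k →
      Equiv.swap i j * Equiv.swap j k ∈ alternatingGroup (Fin (2 * m + 1)) := by
    intro i j k hij hjk _
    rw [Equiv.Perm.mem_alternatingGroup]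
    simp [Equiv.Perm.sign_swap hij, Equiv.Perm.sign_swap hjk]
  -- a third point
  have h3 : ∃ c, c ≠ a ∧ c ≠ b := by
    by_contra hcon
    push Not at hcon
    have hsub : (Finset.univ : Finset (Fin (2 * m + 1))) ⊆ {a, b} := fun c _ => by
      by_cases hc : c = a
      · simp [hc]
      · simp [hcon c hc]
    have := Finset.card_le_card hsub
    rw [Finset.card_univ, Fintype.card_fin, Finset.card_pair hab'] at this
    have : m = 0 := by omega
    subst this
    exact hab' (Fin.ext (by omega))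
  obtain ⟨c, hca, hcb⟩ := h3
  -- a pair among `a`, `b`, `c`
  have hpair : ∃ i j, i ≠ j ∧ e i j ∈ S := by
    have hσ' := hS _ (hcyc a b c hab' hcb.symm hca.symm) v hv
    have key : ∀ i, i ≠ a → i ≠ b → i ≠ c → (Equiv.swap a b * Equiv.swap b c)⁻¹ i = i := by
      intro i hia hib hic
      simp [Equiv.swap_apply_of_ne_of_ne hia hib, Equiv.swap_apply_of_ne_of_ne hib hic]
    have hva : (Equiv.swap a b * Equiv.swap b c)⁻¹ a = c := by
      simp [Equiv.swap_apply_left, Equiv.swap_apply_right]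
    have hvb : (Equiv.swap a b * Equiv.swap b c)⁻¹ b = a := by
      simp [Equiv.swap_apply_left, Equiv.swap_apply_right, Equiv.swap_apply_of_ne_of_ne hab' hca.symm]
    have hvc : (Equiv.swap a b * Equiv.swap b c)⁻¹ c = b := by
      simp [Equiv.swap_apply_left, Equiv.swap_apply_right, Equiv.swap_apply_of_ne_of_ne hca hcb]
    obtain ⟨σ, hσe⟩ : ∃ σ : Equiv.Perm (Fin (2 * m + 1)), σ = (Equiv.swap a b * Equiv.swap b c)⁻¹ :=
      ⟨_, rfl⟩
    simp only [← hσe] at hva hvb hvc key hσ'
    have hsum := S.add_mem hv hσ'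
    rcases h01 (v c) with hc | hc
    · refine ⟨a, b, hab', ?_⟩
      convert hsum using 1
      ext i
      by_cases hia : i = a
      · subst hia
        simp [e, hva, ha, hc, hab']
      by_cases hib : i = b
      · subst hib
        simp [e, hvb, ha, hb, hia]
      by_cases hic : i = c
      · subst hic
        simp [e, hvc, hb, hc, hca, hcb]
      · simp [e, key i hia hib hic, hia, hib, CharTwo.add_self_eq_zero]
    · refine ⟨b, c, hcb.symm, ?_⟩
      convert hsum using 1
      ext i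
      by_cases hia : i = a
      · subst hia
        simp [e, hva, ha, hc, hab', hca.symm, CharTwo.add_self_eq_zero]
      by_cases hib : i = b
      · subst hib
        simp [e, hvb, ha, hb, hcb.symm]
      by_cases hic : i = c
      · subst hic
        simp [e, hvc, hb, hc, hcb]
      · simp [e, key i hia hib hic, hib, hic, CharTwo.add_self_eq_zero]
  obtain ⟨i, j, hij, hp⟩ := hpair
  have hik : ∀ k, e i k ∈ S := by
    intro k
    by_cases hki : k = i
    · subst hki
      convert S.zero_mem using 1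
      simp only [e]
      ext t; simp [CharTwo.add_self_eq_zero]
    by_cases hkj : k = j
    · exact hkj ▸ hp
    have hσ := hS _ (hcyc i j k hij (Ne.symm hkj) (Ne.symm hki)) (e i j) hp
    have hjk : e j k ∈ S := by
      convert hσ using 1
      ext t
      have hs : (Equiv.swap i j * Equiv.swap j k)⁻¹ t = i ↔ t = j := by
        rw [Equiv.Perm.inv_eq_iff_eq]
        simp [Equiv.Perm.mul_apply, Equiv.swap_apply_of_ne_of_ne hij (Ne.symm hki)]
      have ht : (Equiv.swap i j * Equiv.swap j k)⁻¹ t = j ↔ t = k := by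
        rw [Equiv.Perm.inv_eq_iff_eq]
        simp [Equiv.Perm.mul_apply, Equiv.swap_apply_of_ne_of_ne hki hkj]
      simp only [e, Pi.add_apply, Pi.single_apply, hs, ht]
    convert S.add_mem hp hjk using 1
    simp only [e]
    ext t; simp [add_assoc, CharTwo.add_cancel_left]
  intro w hw
  have : w = ∑ k, if w k = 1 then e i k else 0 := by
    ext t
    simp only [e, Finset.sum_apply]
    have : ∀ k, (if w k = 1 then (Pi.single i 1 + Pi.single k 1 : Fin (2 * m + 1) → ZMod 2) else 0) t =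
        w k * (Pi.single i 1 : Fin (2 * m + 1) → ZMod 2) t + (if k = t then w t else 0) := by
      intro k
      rcases h01 (w k) with hk | hk
      · by_cases hkt : k = t
        · subst hkt; simp [hk]
        · simp [hk, hkt]
      · by_cases hkt : k = t
        · subst hkt; simp [hk]
        · simp [hk, hkt, Ne.symm hkt]
    simp only [this, Finset.sum_add_distrib, ← Finset.sum_mul, hw, zero_mul, zero_add,
      Finset.sum_ite_eq', Finset.mem_univ, if_true]
  rw [this]
  exact S.sum_mem fun k _ => by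
    by_cases hk : w k = 1
    · simp [hk, hik k]
    · simp [hk, S.zero_mem]

/-! ### From modules to subgroups -/

variable {G : Type*} [Group G]

theorem sl2_section_invariant {F : Type*} [Field F] [Fintype F] {E U U₀ M : Subgroup G}
    (h : Cfsg.ActsAsSL2OnSection F (commutator SL(2, F)) E U U₀) (hMU : M ≤ U) (hM₀ : U₀ ≤ M)
    (hEM : E ≤ normalizer (M : Set G)) : M = U₀ ∨ M = U := by
  obtain ⟨-, hU₀, ρ, ψ, hρ, hψ, hker, hact⟩ := h
  let S : AddSubgroup (Fin 2 → F) := Subgroup.toAddSubgroup' ((M.subgroupOf U).map ψ)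
  have hSmem : ∀ v, v ∈ S ↔ ∃ u : U, (u : G) ∈ M ∧ Multiplicative.toAdd (ψ u) = v := by
    intro v
    constructor
    · rintro ⟨u, hu, he⟩; exact ⟨u, hu, congrArg Multiplicative.toAdd he⟩
    · rintro ⟨u, hu, rfl⟩; exact ⟨u, hu, rfl⟩
  rcases sl2_invariant S (by
    intro g hg v hv
    rw [hSmem] at hv ⊢
    obtain ⟨u, hu, rfl⟩ := hv
    obtain ⟨x, rfl⟩ : g ∈ ρ.range := hρ ▸ hg
    obtain ⟨w, hw, hwv⟩ := hact x u
    exact ⟨w, hw ▸ (mem_normalizer_iff.1 (hEM x.2) u).1 hu, hwv⟩) with hbot | htop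
  · left
    refine le_antisymm (fun x hx => (hker ⟨x, hMU hx⟩).1 ?_) hM₀
    have : Multiplicative.toAdd (ψ ⟨x, hMU hx⟩) ∈ S := (hSmem _).2 ⟨_, hx, rfl⟩
    rw [hbot] at this
    exact toAdd_eq_zero.1 ((AddSubgroup.mem_bot).1 this)
  · right
    refine le_antisymm hMU fun x hx => ?_
    obtain ⟨u, hu, he⟩ := (hSmem (Multiplicative.toAdd (ψ ⟨x, hx⟩))).1 (by rw [htop]; exact AddSubgroup.mem_top _)
    have hx' : ψ (u⁻¹ * ⟨x, hx⟩) = 1 := by
      rw [map_mul, map_inv, inv_mul_eq_one]
      exact Multiplicative.toAdd.injective he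
    have h1 : (u : G)⁻¹ * x ∈ M := hM₀ ((hker _).1 hx')
    simpa using mul_mem hu h1

theorem perm_section_invariant {m : ℕ} {E U U₀ M : Subgroup G}
    (h : Cfsg.ActsAsOddPermModuleOnSection (2 * m + 1) (alternatingGroup (Fin (2 * m + 1))) E U U₀)
    (hMU : M ≤ U) (hM₀ : U₀ ≤ M) (hEM : E ≤ normalizer (M : Set G)) : M = U₀ ∨ M = U := by
  obtain ⟨-, hU₀, ρ, ψ, hρ, hev, -, hker, hact⟩ := h
  let S : AddSubgroup (Fin (2 * m + 1) → ZMod 2) := Subgroup.toAddSubgroup' ((M.subgroupOf U).map ψ)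
  have hSmem : ∀ v, v ∈ S ↔ ∃ u : U, (u : G) ∈ M ∧ Multiplicative.toAdd (ψ u) = v := by
    intro v
    constructor
    · rintro ⟨u, hu, he⟩; exact ⟨u, hu, congrArg Multiplicative.toAdd he⟩
    · rintro ⟨u, hu, rfl⟩; exact ⟨u, hu, rfl⟩
  rcases perm_invariant m S (by
      intro v hv
      obtain ⟨u, -, rfl⟩ := (hSmem v).1 hv
      exact hev u) (by
    intro g hg v hv
    rw [hSmem] at hv ⊢
    obtain ⟨u, hu, rfl⟩ := hv
    obtain ⟨x, rfl⟩ : g ∈ ρ.range := hρ ▸ hg
    obtain ⟨w, hw, hwv⟩ := hact x u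
    exact ⟨w, hw ▸ (mem_normalizer_iff.1 (hEM x.2) u).1 hu, funext hwv⟩) with hbot | htop
  · left
    refine le_antisymm (fun x hx => (hker ⟨x, hMU hx⟩).1 ?_) hM₀
    have : Multiplicative.toAdd (ψ ⟨x, hMU hx⟩) ∈ S := (hSmem _).2 ⟨_, hx, rfl⟩
    rw [hbot] at this
    exact toAdd_eq_zero.1 ((AddSubgroup.mem_bot).1 this)
  · right
    refine le_antisymm hMU fun x hx => ?_
    obtain ⟨u, hu, he⟩ := (hSmem (Multiplicative.toAdd (ψ ⟨x, hx⟩))).1 (htop _ (hev _))
    have hx' : ψ (u⁻¹ * ⟨x, hx⟩) = 1 := by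
      rw [map_mul, map_inv, inv_mul_eq_one]
      exact Multiplicative.toAdd.injective he
    have h1 : (u : G)⁻¹ * x ∈ M := hM₀ ((hker _).1 hx')
    simpa using mul_mem hu h1

theorem omegaOne_le (p : ℕ) (H : Subgroup G) : Cfsg.omegaOne p H ≤ H :=
  (closure_le _).2 fun _ hx => hx.1

theorem omegaOneCenter_le (p : ℕ) (X : Subgroup G) :
    Cfsg.omegaOneCenter p X ≤ X ⊓ centralizer (X : Set G) := omegaOne_le p _

theorem eq_bot_of_isPGroup [Finite G] {p : ℕ} [Fact p.Prime] {E : Subgroup G}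
    (hE : IsPGroup p E) (hres : Cfsg.pResidualOf p E = E) : E = ⊥ := by
  rw [← hres, CfsgLib.BaumannNormal.pResidualOf_eq_closure, closure_eq_bot_iff]
  rintro x ⟨hx, ho⟩
  obtain ⟨n, hn⟩ := hE ⟨x, hx⟩
  rw [Set.mem_singleton_iff, ← orderOf_eq_one_iff]
  exact Nat.eq_one_of_dvd_coprimes (Nat.Coprime.pow_right n ho) dvd_rfl
    (orderOf_dvd_of_pow_eq_one (congrArg Subtype.val hn))

/-- `W = Ω₁(Z(O_p(E)))`. -/
abbrev bW (p : ℕ) (E : Subgroup G) : Subgroup G := Cfsg.omegaOneCenter p (Cfsg.pCoreOf p E)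

/-- `Z = C_W(E)`. -/
abbrev bZ (p : ℕ) (E : Subgroup G) : Subgroup G := bW p E ⊓ centralizer (E : Set G)

/-- What is used of a block. -/
structure BlockFacts (p : ℕ) (E : Subgroup G) : Prop where
  res : Cfsg.pResidualOf p E = E
  commQ : ⁅Cfsg.pCoreOf p E, E⁆ = Cfsg.pCoreOf p E
  normW : E ≤ normalizer (bW p E : Set G)
  ker : E ⊓ centralizer (bW p E : Set G) ≤ Cfsg.pCoreOf p E
  irr : ∀ M : Subgroup G, M ≤ bW p E → bZ p E ≤ M → E ≤ normalizer (M : Set G) →
    M = bZ p E ∨ M = bW p E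
  quot : Cfsg.pCoreOf p E = bW p E ∨
    ((∀ M : Subgroup G, M ≤ Cfsg.pCoreOf p E → bW p E ≤ M → E ≤ normalizer (M : Set G) →
        M = bW p E ∨ M = Cfsg.pCoreOf p E) ∧
      ⁅Cfsg.pCoreOf p E, Cfsg.pCoreOf p E⁆ = bZ p E ∧ bZ p E ≠ ⊥)

theorem pCoreOf_eq_map (p : ℕ) (E : Subgroup G) :
    Cfsg.pCoreOf p E = (Cfsg.pCore p E).map E.subtype := rfl

theorem blockFacts [Finite G] {p : ℕ} [Fact p.Prime] {T E : Subgroup G}
    (h : Cfsg.IsBaumannBlock p T E) : BlockFacts p E := by
  obtain ⟨hres, -, hQ, -, hmod⟩ := h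
  have hnW : E ≤ normalizer (bW p E : Set G) := by
    rcases hmod with ⟨F, i₁, i₂, n, -, -, hW, -⟩ | ⟨-, m, -, hW, -⟩ <;> exact hW.1
  have hQW : ∀ q ∈ Cfsg.pCoreOf p E, ∀ w ∈ bW p E, q * w = w * q := fun q hq w hw =>
    mem_centralizer_iff.1 (mem_inf.1 (omegaOneCenter_le p _ hw)).2 q hq
  -- a homomorphism from `E` onto a copy of `E / Q` that kills exactly `Q`
  have hkey : ∀ {X : Type} [Group X] (ρ : E →* X) (R : Subgroup X), ρ.range = R →
      Nonempty (E ⧸ Cfsg.pCore p E ≃* R) →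
      (∀ x : E, (x : G) ∈ centralizer (bW p E : Set G) → ρ x = 1) →
      E ⊓ centralizer (bW p E : Set G) ≤ Cfsg.pCoreOf p E := by
    intro X _ ρ R hR ⟨φ⟩ htriv
    have hle : Cfsg.pCore p E ≤ ρ.ker := fun x hx => htriv x (mem_centralizer_iff.2 fun w hw =>
      (hQW _ ⟨x, hx, rfl⟩ w hw).symm)
    have hc : Nat.card ρ.range * Nat.card ρ.ker = Nat.card E := by
      rw [← Nat.card_congr (QuotientGroup.quotientKerEquivRange ρ).toEquiv]
      exact (card_eq_card_quotient_mul_card_subgroup _).symm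
    have heq : Cfsg.pCore p E = ρ.ker := by
      refine eq_of_le_of_card_ge hle ?_
      rw [hR, ← Nat.card_congr φ.toEquiv,
        card_eq_card_quotient_mul_card_subgroup (Cfsg.pCore p E)] at hc
      exact (Nat.eq_of_mul_eq_mul_left Nat.card_pos hc).le
    intro x hx
    obtain ⟨hxE, hxC⟩ := mem_inf.1 hx
    exact ⟨⟨x, hxE⟩, heq.ge (htriv ⟨x, hxE⟩ hxC), rfl⟩
  rcases hmod with ⟨F, i₁, i₂, n, hF, hiso, hW, hcase⟩ | ⟨-, m, hiso, hW, hcase⟩
  · refine ⟨hres, hQ, hnW, ?_, fun M h1 h2 h3 => sl2_section_invariant hW h1 h2 h3, ?_⟩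
    · obtain ⟨-, -, ρ, ψ, hρ, hψ, hker, hact⟩ := hW
      refine hkey ρ _ hρ hiso fun x hx => ?_
      apply Subtype.ext
      refine Matrix.mulVec_injective (funext fun v => ?_)
      obtain ⟨u, hu⟩ := hψ (Multiplicative.ofAdd v)
      obtain ⟨w, hw, hwv⟩ := hact x u
      have : w = u := Subtype.ext (by
        rw [hw, mul_inv_eq_iff_eq_mul]
        exact (mem_centralizer_iff.1 hx _ u.2).symm)
      subst this
      rw [hu] at hwv
      simpa using hwv.symm
    · rcases hcase with h0 | ⟨rfl, hQmod, hQ', -, hZ, hcard, -⟩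
      · exact Or.inl h0
      · refine Or.inr ⟨fun M h1 h2 h3 => sl2_section_invariant hQmod h1 h2 h3, hQ', fun hb => ?_⟩
        rw [hZ, show Cfsg.omegaOneCenter 3 (Cfsg.pCoreOf 3 E) ⊓ centralizer (E : Set G) = ⊥ from hb,
          card_bot] at hcard
        rcases Nat.eq_zero_or_pos n with hn | hn
        · rw [hn, pow_zero] at hF
          exact (Fintype.one_lt_card (α := F)).ne' hF
        · exact (Nat.one_lt_pow hn.ne' (by norm_num)).ne hcard
  · refine ⟨hres, hQ, hnW, ?_, fun M h1 h2 h3 => perm_section_invariant hW h1 h2 h3, Or.inl hcase⟩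
    obtain ⟨-, -, ρ, ψ, hρ, hev, hsur, hker, hact⟩ := hW
    refine hkey ρ _ hρ hiso fun x hx => ?_
    have hfix : ∀ v : Fin (2 * m + 1) → ZMod 2, ∑ i, v i = 0 → ∀ i, v ((ρ x)⁻¹ i) = v i := by
      intro v hv i
      obtain ⟨u, hu⟩ := hsur v hv
      obtain ⟨w, hw, hwv⟩ := hact x u
      have : w = u := Subtype.ext (by
        rw [hw, mul_inv_eq_iff_eq_mul]
        exact (mem_centralizer_iff.1 hx _ u.2).symm)
      subst this
      rw [← hu]
      exact (hwv i).symm
    -- a permutation fixing every even vector is trivial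
    rw [← inv_eq_one]
    refine Equiv.ext fun i => ?_
    by_contra hne
    rw [Equiv.Perm.one_apply] at hne
    obtain ⟨j, hji, hjk⟩ : ∃ j, j ≠ i ∧ j ≠ (ρ x)⁻¹ i := by
      by_contra hcon
      push Not at hcon
      have hsub : (Finset.univ : Finset (Fin (2 * m + 1))) ⊆ {i, (ρ x)⁻¹ i} := fun c _ => by
        by_cases hc : c = i
        · simp [hc]
        · rw [hcon c hc]; simp
      have := Finset.card_le_card hsub
      rw [Finset.card_univ, Fintype.card_fin, Finset.card_pair (Ne.symm hne)] at this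
      have : m = 0 := by omega
      subst this
      exact hne (Fin.ext (by omega))
    have := hfix (Pi.single i 1 + Pi.single j 1) (by simp [Finset.sum_add_distrib, CharTwo.add_self_eq_zero]) i
    simp only [Pi.add_apply, Pi.single_apply, if_neg hne, if_neg hjk.symm, if_pos rfl,
      if_neg hji.symm] at this
    simp at this

theorem pCoreOf_le_centralizer_bW [Finite G] (p : ℕ) (E : Subgroup G) :
    Cfsg.pCoreOf p E ≤ centralizer (bW p E : Set G) :=
  le_centralizer_iff.1 ((omegaOneCenter_le p _).trans inf_le_right)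

theorem comm_of_mem_bW [Finite G] {p : ℕ} {E : Subgroup G} {x y : G} (hx : x ∈ bW p E)
    (hy : y ∈ bW p E) : x * y = y * x :=
  mem_centralizer_iff.1 (mem_inf.1 (omegaOneCenter_le p _ hy)).2 x
    (mem_inf.1 (omegaOneCenter_le p _ hx)).1

theorem pow_eq_one_of_mem_omegaOne [Finite G] {p : ℕ} {H : Subgroup G}
    (hH : ∀ a ∈ H, ∀ b ∈ H, a * b = b * a) {x : G} (hx : x ∈ Cfsg.omegaOne p H) : x ^ p = 1 := by
  have hsub : ∀ y ∈ Cfsg.omegaOne p H, y ∈ H ∧ y ^ p = 1 := by
    intro y hy
    rw [Cfsg.omegaOne] at hy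
    induction hy using closure_induction with
    | mem a ha => exact ha
    | one => exact ⟨one_mem _, one_pow _⟩
    | mul a b _ _ ha hb =>
      exact ⟨mul_mem ha.1 hb.1, by rw [(Commute.mul_pow (hH a ha.1 b hb.1)), ha.2, hb.2, one_mul]⟩
    | inv a _ ha => exact ⟨inv_mem ha.1, by rw [inv_pow, ha.2, inv_one]⟩
  exact (hsub x hx).2

end CfsgLib.BaumannBlock
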