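import Cfsg.Agent.Lib.Coprime.Action
import Cfsg.Agent.Lib.PGroup.ElementaryBasic
import Mathlib.GroupTheory.QuotientGroup.Basic
import Mathlib.GroupTheory.Commutator.Basic

/-!
# The subgroup of an abelian group of operators centralising the commutator with the module

If `A` is abelian and normalises the abelian group `Z`, the subgroup `A ∩ C([Z, A])` together with its
fixed points in `Z` is at least as large as `A`, as soon as `A` is largest among such products.
-/

set_option autoImplicit false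

open Subgroup
open scoped commutatorElement

namespace CfsgLib.LocalStructure.JFive

universe u

variable {G : Type u} [Group G]

/-- The elements of `A` centralising all `[γ, z]`, for `γ` in `A` and `z` in `Z`. -/
def commFix (A Z : Subgroup G) : Subgroup G :=
  A ⊓ centralizer {x | ∃ γ ∈ A, ∃ z ∈ Z, x = ⁅γ, z⁆}

theorem commFix_le (A Z : Subgroup G) : commFix A Z ≤ A := inf_le_left

theorem comm_of_abelian {A : Subgroup G} (hA : IsMulCommutative A) {a b : G} (ha : a ∈ A)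
    (hb : b ∈ A) : a * b = b * a :=
  congrArg Subtype.val (hA.is_comm.comm ⟨a, ha⟩ ⟨b, hb⟩)

theorem centralizer_sup' (H K : Subgroup G) :
    centralizer ((H ⊔ K : Subgroup G) : Set G) = centralizer (H : Set G) ⊓ centralizer (K : Set G) :=
  le_antisymm (le_inf (centralizer_le (le_sup_left (a := H) (b := K))) (centralizer_le (le_sup_right (a := H) (b := K))))
    (le_centralizer_iff.1 (sup_le (le_centralizer_iff.1 inf_le_left) (le_centralizer_iff.1 inf_le_right)))

theorem commutator_mem_of_le_normalizer {A Z : Subgroup G} (hn : A ≤ normalizer (Z : Set G))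
    {γ z : G} (hγ : γ ∈ A) (hz : z ∈ Z) : ⁅γ, z⁆ ∈ Z := by
  rw [commutatorElement_def]
  exact mul_mem ((Subgroup.mem_normalizer_iff.1 (hn hγ) z).1 hz) (inv_mem hz)

/-- In the action of an abelian group on an abelian group the two operators commute. -/
theorem swap_comm {A Z : Subgroup G} (hA : IsMulCommutative A) (hZ : IsMulCommutative Z)
    (hn : A ≤ normalizer (Z : Set G)) {γ x z : G} (hγ : γ ∈ A) (hx : x ∈ A) (hz : z ∈ Z) :
    ⁅γ, ⁅x, z⁆⁆ = ⁅x, ⁅γ, z⁆⁆ := by
  have hc : ∀ {s : G}, s ∈ A → s * z * s⁻¹ ∈ Z := fun {s} hs =>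
    (Subgroup.mem_normalizer_iff.1 (hn hs) z).1 hz
  have e : ∀ {s t : G}, s ∈ A → t ∈ A →
      ⁅s, ⁅t, z⁆⁆ = (s * t) * z * (s * t)⁻¹ * z * (t * z * t⁻¹)⁻¹ * (s * z * s⁻¹)⁻¹ := by
    intro s t hs ht
    have h1 : ⁅s, ⁅t, z⁆⁆ = (s * t) * z * (s * t)⁻¹ * (s * z * s⁻¹)⁻¹ * (z * (t * z * t⁻¹)⁻¹) := by
      simp only [commutatorElement_def]; group
    have h2 : (s * z * s⁻¹)⁻¹ * (z * (t * z * t⁻¹)⁻¹) = z * (t * z * t⁻¹)⁻¹ * (s * z * s⁻¹)⁻¹ :=
      comm_of_abelian hZ (inv_mem (hc hs)) (mul_mem hz (inv_mem (hc ht)))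
    rw [h1, mul_assoc, h2]
    simp only [mul_assoc]
  rw [e hγ hx, e hx hγ, comm_of_abelian hA hγ hx, mul_assoc _ (x * z * x⁻¹)⁻¹,
    mul_assoc _ (γ * z * γ⁻¹)⁻¹, comm_of_abelian hZ (inv_mem (hc hx)) (inv_mem (hc hγ))]

/-- Elements of `commFix` carry `Z` into the fixed points of `A`. -/
theorem commutator_mem_fix {A Z : Subgroup G} (hA : IsMulCommutative A) (hZ : IsMulCommutative Z)
    (hn : A ≤ normalizer (Z : Set G)) {x z : G} (hx : x ∈ commFix A Z) (hz : z ∈ Z) :
    ⁅x, z⁆ ∈ Z ⊓ centralizer (A : Set G) := by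
  refine mem_inf.2 ⟨commutator_mem_of_le_normalizer hn (mem_inf.1 hx).1 hz, ?_⟩
  refine mem_centralizer_iff.2 fun γ hγ => ?_
  have h : ⁅γ, ⁅x, z⁆⁆ = 1 := by
    rw [swap_comm hA hZ hn hγ (mem_inf.1 hx).1 hz, commutatorElement_eq_one_iff_mul_comm]
    exact (mem_centralizer_iff.1 (mem_inf.1 hx).2 _ ⟨γ, hγ, z, hz, rfl⟩).symm
  exact commutatorElement_eq_one_iff_mul_comm.1 h

/-- The weight `|X| |C_Z(X)|`. -/
noncomputable def weight (Z X : Subgroup G) : ℕ :=
  Nat.card X * Nat.card ↥(Z ⊓ centralizer (X : Set G))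

variable [Finite G] {A Z : Subgroup G}

/-- The products `X C_Z(X)` are not larger than `A`, so `A` has the largest weight. -/
theorem weight_le (hA : IsMulCommutative A) (hZ : IsMulCommutative Z)
    (hmax : ∀ B : Subgroup G, B ≤ Z ⊔ A → IsMulCommutative B → Nat.card B ≤ Nat.card A)
    {X : Subgroup G} (hX : X ≤ A) : weight Z X ≤ weight Z A := by
  obtain ⟨C, hC⟩ : ∃ C, C = Z ⊓ centralizer (X : Set G) := ⟨_, rfl⟩
  have hXC : X ≤ centralizer (C : Set G) :=
    le_centralizer_iff.1 (hC.le.trans inf_le_right)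
  have hXab : IsMulCommutative X := ⟨⟨fun a b => Subtype.ext (comm_of_abelian hA (hX a.2) (hX b.2))⟩⟩
  have hCab : IsMulCommutative C :=
    ⟨⟨fun a b => Subtype.ext (comm_of_abelian hZ (mem_inf.1 (hC.le a.2)).1 (mem_inf.1 (hC.le b.2)).1)⟩⟩
  have hab : IsMulCommutative ↥(X ⊔ C) := by
    haveI := hXab; haveI := hCab
    refine le_centralizer_iff_isMulCommutative.1 ?_
    rw [centralizer_sup']
    exact le_inf (sup_le (le_centralizer X) (le_centralizer_iff.1 hXC))
      (sup_le hXC (le_centralizer C))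
  have h1 := hmax _ (sup_le (hX.trans le_sup_right) (hC.le.trans (inf_le_left.trans le_sup_left))) hab
  have h2 := CfsgLib.EABasic.card_sup_mul_card_inf_of_le_normalizer
    (hXC.trans (CfsgLib.Coprime.centralizer_le_normalizer_self C))
  have h3 : Nat.card ↥(X ⊓ C) ≤ Nat.card ↥(Z ⊓ centralizer (A : Set G)) := by
    refine Nat.card_le_card_of_injective (Subgroup.inclusion ?_) (Subgroup.inclusion_injective _)
    intro x hx
    refine mem_inf.2 ⟨(mem_inf.1 (hC.le (mem_inf.1 hx).2)).1, ?_⟩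
    exact mem_centralizer_iff.2 fun a ha => comm_of_abelian hA ha (hX (mem_inf.1 hx).1)
  rw [weight, weight, ← hC, ← h2]
  exact Nat.mul_le_mul h1 h3

/-- The intersection of two subgroups of largest weight has largest weight. -/
theorem weight_inf (hA : IsMulCommutative A) (hZ : IsMulCommutative Z)
    (hmax : ∀ B : Subgroup G, B ≤ Z ⊔ A → IsMulCommutative B → Nat.card B ≤ Nat.card A)
    {X Y : Subgroup G} (hX : X ≤ A) (hY : Y ≤ A) (hXw : weight Z X = weight Z A)
    (hYw : weight Z Y = weight Z A) : weight Z (X ⊓ Y) = weight Z A := by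
  refine le_antisymm (weight_le hA hZ hmax (inf_le_left.trans hX)) ?_
  obtain ⟨CX, hCX⟩ : ∃ C, C = Z ⊓ centralizer (X : Set G) := ⟨_, rfl⟩
  obtain ⟨CY, hCY⟩ : ∃ C, C = Z ⊓ centralizer (Y : Set G) := ⟨_, rfl⟩
  have hXYn : X ≤ normalizer (Y : Set G) := fun x hx => le_normalizer_iff_commutator_le_left.2
    (commutator_le.2 fun y hy s hs => by
      rw [commutatorElement_eq_one_iff_mul_comm.2 (comm_of_abelian hA (hY hy) (hX hs))]
      exact one_mem _) hx
  have hCn : CX ≤ normalizer (CY : Set G) := fun x hx => le_normalizer_iff_commutator_le_left.2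
    (commutator_le.2 fun y hy s hs => by
      rw [commutatorElement_eq_one_iff_mul_comm.2
        (comm_of_abelian hZ (mem_inf.1 (hCY.le hy)).1 (mem_inf.1 (hCX.le hs)).1)]
      exact one_mem _) hx
  have h1 := CfsgLib.EABasic.card_sup_mul_card_inf_of_le_normalizer hXYn
  have h2 := CfsgLib.EABasic.card_sup_mul_card_inf_of_le_normalizer hCn
  have h3 : Nat.card ↥(CX ⊔ CY) ≤ Nat.card ↥(Z ⊓ centralizer ((X ⊓ Y : Subgroup G) : Set G)) :=
    Nat.card_le_card_of_injective (Subgroup.inclusion (sup_le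
      (hCX.le.trans (inf_le_inf le_rfl (centralizer_le inf_le_left)))
      (hCY.le.trans (inf_le_inf le_rfl (centralizer_le inf_le_right)))))
      (Subgroup.inclusion_injective _)
  have h4 : Nat.card ↥(CX ⊓ CY) = Nat.card ↥(Z ⊓ centralizer ((X ⊔ Y : Subgroup G) : Set G)) := by
    rw [centralizer_sup', hCX, hCY, ← inf_inf_distrib_left]
  have h5 : weight Z X * weight Z Y ≤ weight Z (X ⊔ Y) * weight Z (X ⊓ Y) := by
    unfold weight
    rw [← hCX, ← hCY, ← h4]
    calc Nat.card X * Nat.card CX * (Nat.card Y * Nat.card CY)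
        = (Nat.card X * Nat.card Y) * (Nat.card CX * Nat.card CY) := by ring
      _ = (Nat.card ↥(X ⊔ Y) * Nat.card ↥(X ⊓ Y)) * (Nat.card ↥(CX ⊔ CY) * Nat.card ↥(CX ⊓ CY)) := by
          rw [h1, h2]
      _ = Nat.card ↥(X ⊔ Y) * Nat.card ↥(CX ⊓ CY) * (Nat.card ↥(X ⊓ Y) * Nat.card ↥(CX ⊔ CY)) := by
          ring
      _ ≤ _ := Nat.mul_le_mul le_rfl (Nat.mul_le_mul le_rfl h3)
  rw [hXw, hYw] at h5
  have h6 := le_trans h5 (Nat.mul_le_mul_right _ (weight_le hA hZ hmax (sup_le hX hY)))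
  exact Nat.le_of_mul_le_mul_left h6 (Nat.mul_pos Nat.card_pos Nat.card_pos)

/-- The centraliser in `A` of `[z, A]` has largest weight. -/
theorem weight_single (hA : IsMulCommutative A) (hZ : IsMulCommutative Z)
    (hn : A ≤ normalizer (Z : Set G))
    (hmax : ∀ B : Subgroup G, B ≤ Z ⊔ A → IsMulCommutative B → Nat.card B ≤ Nat.card A)
    {z : G} (hz : z ∈ Z) :
    weight Z (A ⊓ centralizer {x | ∃ γ ∈ A, x = ⁅γ, z⁆}) = weight Z A := by
  refine le_antisymm (weight_le hA hZ hmax inf_le_left) ?_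
  obtain ⟨X, hX⟩ : ∃ X, X = A ⊓ centralizer {x | ∃ γ ∈ A, x = ⁅γ, z⁆} := ⟨_, rfl⟩
  rw [← hX]
  obtain ⟨CA, hCA⟩ : ∃ C, C = Z ⊓ centralizer (A : Set G) := ⟨_, rfl⟩
  obtain ⟨CX, hCX⟩ : ∃ C, C = Z ⊓ centralizer (X : Set G) := ⟨_, rfl⟩
  have hmem : ∀ a : A, ⁅(a : G), z⁆ ∈ CX := fun a => hCX.ge (mem_inf.2
    ⟨commutator_mem_of_le_normalizer hn a.2 hz, mem_centralizer_iff.2 fun x hx =>
      (mem_centralizer_iff.1 (mem_inf.1 (hX.le hx)).2 _ ⟨a, a.2, rfl⟩).symm⟩)
  have hCAX : CA ≤ CX := by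
    rw [hCA, hCX]
    exact inf_le_inf le_rfl (centralizer_le (hX.le.trans inf_le_left))
  let f : A → CX ⧸ CA.subgroupOf CX := fun a => QuotientGroup.mk ⟨⁅(a : G), z⁆, hmem a⟩
  have hf : ∀ a b : A, f a = f b → (b : G)⁻¹ * a ∈ X := by
    intro a b hab
    have hm : (⁅(a : G), z⁆)⁻¹ * ⁅(b : G), z⁆ ∈ CA := mem_subgroupOf.1 (QuotientGroup.eq.1 hab)
    refine hX.ge (mem_inf.2 ⟨mul_mem (inv_mem b.2) a.2, mem_centralizer_iff.2 ?_⟩)
    rintro _ ⟨γ, hγ, rfl⟩
    have hfixed : γ * ((⁅(a : G), z⁆)⁻¹ * ⁅(b : G), z⁆) * γ⁻¹ = (⁅(a : G), z⁆)⁻¹ * ⁅(b : G), z⁆ := by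
      rw [mem_centralizer_iff.1 (mem_inf.1 (hCA.le hm)).2 γ hγ, mul_inv_cancel_right]
    have h1 : ⁅γ, ⁅(b : G), z⁆⁆ = ⁅γ, ⁅(a : G), z⁆⁆ := by
      have hab' := comm_of_abelian hZ
        (inv_mem (commutator_mem_of_le_normalizer hn a.2 hz))
        (commutator_mem_of_le_normalizer hn b.2 hz)
      have e : γ * ⁅(b : G), z⁆ * γ⁻¹ * (⁅(b : G), z⁆)⁻¹ =
          (γ * ⁅(a : G), z⁆ * γ⁻¹) * (γ * ((⁅(a : G), z⁆)⁻¹ * ⁅(b : G), z⁆) * γ⁻¹) *
            (⁅(b : G), z⁆)⁻¹ := by group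
      rw [commutatorElement_def γ, commutatorElement_def γ, e, hfixed]
      group
    rw [swap_comm hA hZ hn hγ b.2 hz, swap_comm hA hZ hn hγ a.2 hz] at h1
    have h2 : (b : G) * ⁅γ, z⁆ * (b : G)⁻¹ = (a : G) * ⁅γ, z⁆ * (a : G)⁻¹ := by
      have h3 := congrArg (· * ⁅γ, z⁆) h1
      simpa [commutatorElement_def, mul_assoc] using h3
    have h4 := congrArg (fun w => (b : G)⁻¹ * w * (a : G)) h2
    simpa [mul_assoc] using h4
  have hcard : Nat.card A ≤ Nat.card X * Nat.card (CX ⧸ CA.subgroupOf CX) := by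
    have hinj : Function.Injective (fun a : A => ((⟨((Function.surjInv (f := Set.rangeFactorization f)
        Set.rangeFactorization_surjective (Set.rangeFactorization f a) : A) : G)⁻¹ * a, hf _ _ (by
          have := Function.surjInv_eq (f := Set.rangeFactorization f)
            Set.rangeFactorization_surjective (Set.rangeFactorization f a)
          exact (congrArg Subtype.val this).symm)⟩ : X), f a)) := by
      intro a b hab
      have h1 : f a = f b := congrArg Prod.snd hab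
      have h2 : Set.rangeFactorization f a = Set.rangeFactorization f b := Subtype.ext h1
      have h3 := congrArg (fun q => ((q.1 : X) : G)) hab
      simp only [h2] at h3
      exact Subtype.ext (mul_left_cancel h3)
    exact (Nat.card_le_card_of_injective _ hinj).trans (Nat.card_prod _ _).le
  have hq : Nat.card CX = Nat.card (CX ⧸ CA.subgroupOf CX) * Nat.card CA := by
    rw [Subgroup.card_eq_card_quotient_mul_card_subgroup (CA.subgroupOf CX),
      Nat.card_congr (Subgroup.subgroupOfEquivOfLe hCAX).toEquiv]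
  unfold weight
  rw [← hCA, ← hCX, hq, ← mul_assoc]
  exact Nat.mul_le_mul hcard le_rfl

theorem weight_commFix (hA : IsMulCommutative A) (hZ : IsMulCommutative Z)
    (hn : A ≤ normalizer (Z : Set G))
    (hmax : ∀ B : Subgroup G, B ≤ Z ⊔ A → IsMulCommutative B → Nat.card B ≤ Nat.card A) :
    weight Z (commFix A Z) = weight Z A := by
  classical
  have key : ∀ s : Finset G, (∀ z ∈ s, z ∈ Z) →
      weight Z (A ⊓ centralizer {x | ∃ γ ∈ A, ∃ z ∈ s, x = ⁅γ, z⁆}) = weight Z A := by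
    intro s
    induction s using Finset.induction with
    | empty =>
      intro _
      congr 1
      refine inf_eq_left.2 fun a _ => mem_centralizer_iff.2 ?_
      rintro _ ⟨γ, -, z, hz, rfl⟩
      exact absurd hz (Finset.notMem_empty z)
    | insert z t _ ih =>
      intro h
      have h1 := weight_inf hA hZ hmax inf_le_left inf_le_left
        (ih fun w hw => h w (Finset.mem_insert_of_mem hw))
        (weight_single hA hZ hn hmax (h z (Finset.mem_insert_self z t)))
      rw [← h1]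
      congr 1
      apply le_antisymm
      · refine le_inf (le_inf inf_le_left fun x hx => ?_) (le_inf inf_le_left fun x hx => ?_)
        · refine mem_centralizer_iff.2 ?_
          rintro _ ⟨γ, hγ, w, hw, rfl⟩
          exact mem_centralizer_iff.1 (mem_inf.1 hx).2 _ ⟨γ, hγ, w, Finset.mem_insert_of_mem hw, rfl⟩
        · refine mem_centralizer_iff.2 ?_
          rintro _ ⟨γ, hγ, rfl⟩
          exact mem_centralizer_iff.1 (mem_inf.1 hx).2 _ ⟨γ, hγ, z, Finset.mem_insert_self z t, rfl⟩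
      · intro x hx
        obtain ⟨h2, h3⟩ := mem_inf.1 hx
        refine mem_inf.2 ⟨(mem_inf.1 h2).1, mem_centralizer_iff.2 ?_⟩
        rintro _ ⟨γ, hγ, w, hw, rfl⟩
        rcases Finset.mem_insert.1 hw with rfl | hw
        · exact mem_centralizer_iff.1 (mem_inf.1 h3).2 _ ⟨γ, hγ, rfl⟩
        · exact mem_centralizer_iff.1 (mem_inf.1 h2).2 _ ⟨γ, hγ, w, hw, rfl⟩
  have := key (Set.toFinite (Z : Set G)).toFinset fun z hz => (Set.Finite.mem_toFinset _).1 hz
  rw [← this]
  congr 1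
  apply le_antisymm <;> intro x hx <;>
    refine mem_inf.2 ⟨(mem_inf.1 hx).1, mem_centralizer_iff.2 ?_⟩
  · rintro _ ⟨γ, hγ, z, hz, rfl⟩
    exact mem_centralizer_iff.1 (mem_inf.1 hx).2 _
      ⟨γ, hγ, z, (Set.Finite.mem_toFinset _).1 hz, rfl⟩
  · rintro _ ⟨γ, hγ, z, hz, rfl⟩
    exact mem_centralizer_iff.1 (mem_inf.1 hx).2 _
      ⟨γ, hγ, z, (Set.Finite.mem_toFinset _).2 hz, rfl⟩

/-- `commFix A Z` with its fixed points in `Z` is at least as large as `A`. -/
theorem card_le_commFix_sup (hA : IsMulCommutative A) (hZ : IsMulCommutative Z)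
    (hn : A ≤ normalizer (Z : Set G))
    (hmax : ∀ B : Subgroup G, B ≤ Z ⊔ A → IsMulCommutative B → Nat.card B ≤ Nat.card A) :
    Nat.card A ≤ Nat.card ↥(commFix A Z ⊔ (Z ⊓ centralizer (commFix A Z : Set G))) := by
  obtain ⟨X, hX⟩ : ∃ X, X = commFix A Z := ⟨_, rfl⟩
  obtain ⟨C, hC⟩ : ∃ C, C = Z ⊓ centralizer (X : Set G) := ⟨_, rfl⟩
  have hXA : X ≤ A := hX.le.trans inf_le_left
  have hw : weight Z X = weight Z A := hX ▸ weight_commFix hA hZ hn hmax
  have hXC : X ≤ centralizer (C : Set G) := le_centralizer_iff.1 (hC.le.trans inf_le_right)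
  have h2 := CfsgLib.EABasic.card_sup_mul_card_inf_of_le_normalizer
    (hXC.trans (CfsgLib.Coprime.centralizer_le_normalizer_self C))
  have h3 : Nat.card ↥(X ⊓ C) ≤ Nat.card ↥(Z ⊓ centralizer (A : Set G)) := by
    refine Nat.card_le_card_of_injective (Subgroup.inclusion ?_) (Subgroup.inclusion_injective _)
    intro x hx
    exact mem_inf.2 ⟨(mem_inf.1 (hC.le (mem_inf.1 hx).2)).1,
      mem_centralizer_iff.2 fun a ha => comm_of_abelian hA ha (hXA (mem_inf.1 hx).1)⟩
  unfold weight at hw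
  rw [← hC, ← h2] at hw
  rw [← hX, ← hC]
  refine Nat.le_of_mul_le_mul_right ?_ (Nat.card_pos (α := ↥(Z ⊓ centralizer (A : Set G))))
  rw [← hw]
  exact Nat.mul_le_mul le_rfl h3

end CfsgLib.LocalStructure.JFive
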