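import Mathlib
import Cfsg.Prelude.Def_Local
import Cfsg.Agent.Lib.Coprime.Core
import Cfsg.Agent.Lib.Fusion.Sylow

/-!
# A normal `p`-subgroup as Sylow subgroup of the preimage of `O_p(N/C(H))`
-/

set_option autoImplicit false

namespace CfsgLib.LS.CentricCore

variable {N : Type*} [Group N] [Finite N] {p : ℕ} [Fact p.Prime]

/-- If the Sylow part of the centralizer is inside `H`, then `C(H) ≤ H O_{p'}(N)`. -/
theorem centralizer_le_sup (H C : Subgroup N) [H.Normal] [C.Normal]
    (hC : C = Subgroup.centralizer (H : Set N)) (S : Sylow p N)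
    (hS : (S : Subgroup N) ⊓ C ≤ H) : C ≤ H ⊔ Cfsg.pPrimeCore p N := by
  have hi := CfsgLib.Fusion.not_dvd_relIndex_inf_of_normal S C
  set P : Subgroup C := ((S : Subgroup N) ⊓ C).subgroupOf C with hP
  have hPp : IsPGroup p P :=
    (S.2.to_le inf_le_left).of_equiv (Subgroup.subgroupOfEquivOfLe inf_le_right).symm
  let Q : Sylow p C := hPp.toSylow hi
  have hQ : (Q : Subgroup C) = P := rfl
  have hcen : ∀ a ∈ (Q : Subgroup C), ∀ x : C, a * x = x * a := fun a ha x => by
    refine Subtype.ext ?_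
    have hx : (x : N) ∈ Subgroup.centralizer (H : Set N) := hC.le x.2
    exact Subgroup.mem_centralizer_iff.1 hx a (hS ha)
  have hn : Subgroup.normalizer ((Q : Subgroup C) : Set C) ≤
      Subgroup.centralizer ((Q : Subgroup C) : Set C) := fun x _ =>
    Subgroup.mem_centralizer_iff.2 fun a ha => hcen a ha x
  have hcompl := MonoidHom.ker_transferSylow_isComplement' Q hn
  set K₀ := (MonoidHom.transferSylow Q hn).ker with hK₀
  haveI : K₀.Normal := by rw [hK₀]; infer_instance
  have hKc : (Nat.card K₀).Coprime p := by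
    rw [Nat.coprime_comm, (Fact.out : p.Prime).coprime_iff_not_dvd]
    intro hd
    refine Q.not_dvd_index ?_
    rw [Subgroup.IsComplement'.index_eq_card hcompl]
    exact hd
  have hle : (Cfsg.pPrimeCore p C).map C.subtype ≤ Cfsg.pPrimeCore p N := by
    haveI := CfsgLib.Coprime.pPrimeCore_characteristic (G := C) p
    haveI : ((Cfsg.pPrimeCore p C).map C.subtype).Normal := inferInstance
    refine CfsgLib.Coprime.le_pPrimeCore ?_
    rw [Subgroup.card_map_of_injective C.subtype_injective]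
    exact CfsgLib.Coprime.pPrimeCore_coprime Fact.out
  intro c hc
  obtain ⟨k, hk, a, ha, hka⟩ := Subgroup.mem_sup_of_normal_left.1
    (hcompl.sup_eq_top ▸ Subgroup.mem_top (⟨c, hc⟩ : C) : (⟨c, hc⟩ : C) ∈ K₀ ⊔ (Q : Subgroup C))
  rw [show c = (k : N) * (a : N) from (congrArg Subtype.val hka).symm]
  exact mul_mem (Subgroup.mem_sup_right (hle ⟨k, CfsgLib.Coprime.le_pPrimeCore hKc hk, rfl⟩))
    (Subgroup.mem_sup_left (hS ha))

theorem le_comap_pCore {H : Subgroup N} [H.Normal] (hH : IsPGroup p H) (C : Subgroup N) [C.Normal] :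
    H ≤ (Cfsg.pCore p (N ⧸ C)).comap (QuotientGroup.mk' C) := by
  haveI : (H.map (QuotientGroup.mk' C)).Normal :=
    Subgroup.Normal.map ‹_› _ (QuotientGroup.mk'_surjective C)
  exact Subgroup.map_le_iff_le_comap.1 (CfsgLib.Coprime.le_pCore (hH.map _))

theorem comap_pCore_le {C D : Subgroup N} [C.Normal] [D.Normal]
    (h : ∀ c ∈ C, ∃ i : ℕ, c ^ p ^ i ∈ D) :
    (Cfsg.pCore p (N ⧸ C)).comap (QuotientGroup.mk' C) ≤
      (Cfsg.pCore p (N ⧸ D)).comap (QuotientGroup.mk' D) := by
  set L := (Cfsg.pCore p (N ⧸ C)).comap (QuotientGroup.mk' C) with hL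
  haveI : L.Normal := (CfsgLib.Coprime.pCore_normal' (G := N ⧸ C) p).comap _
  haveI : (L.map (QuotientGroup.mk' D)).Normal :=
    Subgroup.Normal.map ‹_› _ (QuotientGroup.mk'_surjective D)
  refine Subgroup.map_le_iff_le_comap.1 (CfsgLib.Coprime.le_pCore ?_)
  rintro ⟨_, x, hx, rfl⟩
  obtain ⟨j, hj⟩ := (CfsgLib.Coprime.pCore_isPGroup (G := N ⧸ C) p) ⟨_, hx⟩
  have hxC : x ^ p ^ j ∈ C := by
    have h1 := congrArg Subtype.val hj
    simp only [SubgroupClass.coe_pow, OneMemClass.coe_one] at h1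
    rw [← map_pow] at h1
    exact (QuotientGroup.eq_one_iff _).1 h1
  obtain ⟨i, hi⟩ := h _ hxC
  refine ⟨j + i, Subtype.ext ?_⟩
  simp only [SubgroupClass.coe_pow, OneMemClass.coe_one]
  rw [← map_pow, pow_add, pow_mul]
  exact (QuotientGroup.eq_one_iff _).2 hi

theorem sylow_in_comap_pCore_iff (H C : Subgroup N) [H.Normal] [C.Normal]
    (hC : C = Subgroup.centralizer (H : Set N)) (hH : IsPGroup p H) (S : Sylow p N) :
    ¬ p ∣ H.relIndex ((Cfsg.pCore p (N ⧸ C)).comap (QuotientGroup.mk' C)) ↔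
      ((S : Subgroup N) ⊓ C ≤ H ∧ Cfsg.pPrimePCore p N = H ⊔ C) := by
  have hp : p.Prime := Fact.out
  set L := (Cfsg.pCore p (N ⧸ C)).comap (QuotientGroup.mk' C) with hL
  haveI := CfsgLib.Coprime.pPrimeCore_characteristic (G := N) p
  set K := Cfsg.pPrimeCore p N with hK
  have hHS : H ≤ (S : Subgroup N) := hH.le_sylow_of_normal S
  have hKC : K ≤ C := by
    rw [hC]
    intro k hk
    refine Subgroup.mem_centralizer_iff.2 fun h hh => ?_
    have hd : Disjoint H K := by
      refine Subgroup.disjoint_of_coprime_natCard ?_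
      obtain ⟨n, hn⟩ := IsPGroup.iff_card.1 hH
      rw [hn]
      exact Nat.Coprime.pow_left _ (CfsgLib.Coprime.pPrimeCore_coprime hp).symm
    exact Subgroup.commute_of_normal_of_disjoint H K inferInstance inferInstance hd h k hh hk
  have hKM : K ≤ Cfsg.pPrimePCore p N := by
    rw [Cfsg.pPrimePCore]
    conv_lhs => rw [hK, ← QuotientGroup.ker_mk' (Cfsg.pPrimeCore p N)]
    exact Subgroup.ker_le_comap _ _
  have hHM : H ≤ Cfsg.pPrimePCore p N := le_comap_pCore hH K
  have hML : Cfsg.pPrimePCore p N ≤ L := comap_pCore_le fun c hc => ⟨0, by simpa using hKC hc⟩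
  have hHL : H ≤ L := le_comap_pCore hH C
  have hCL : C ≤ L := by
    conv_lhs => rw [← QuotientGroup.ker_mk' C]
    exact Subgroup.ker_le_comap _ _
  constructor
  · intro hi
    haveI : L.Normal := (CfsgLib.Coprime.pCore_normal' (G := N ⧸ C) p).comap _
    have hSC : (S : Subgroup N) ⊓ C ≤ H := (inf_le_inf_left _ hCL).trans
      (CfsgLib.Fusion.eq_of_le_of_isPGroup_of_not_dvd_relIndex (S.2.to_le inf_le_left)
        (le_inf hHS hHL) inf_le_right hi).le
    refine ⟨hSC, ?_⟩
    have hcov := centralizer_le_sup H C hC S hSC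
    have hLeq : L = H ⊔ C := by
      refine le_antisymm (Subgroup.relIndex_eq_one.1 ?_) (sup_le hHL hCL)
      obtain ⟨k, hk⟩ := IsPGroup.iff_card.1 (CfsgLib.Coprime.pCore_isPGroup (G := N ⧸ C) p)
      have h1 : C.relIndex L = Nat.card (Cfsg.pCore p (N ⧸ C)) := by
        have h := Subgroup.relIndex_comap ⊥ (QuotientGroup.mk' C) L
        rw [MonoidHom.comap_bot, QuotientGroup.ker_mk', Subgroup.relIndex_bot_left] at h
        rw [h, hL, Subgroup.map_comap_eq_self_of_surjective (QuotientGroup.mk'_surjective _)]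
      have h2 : (H ⊔ C).relIndex L ∣ p ^ k :=
        hk ▸ h1 ▸ Subgroup.relIndex_dvd_of_le_left _ le_sup_right
      obtain ⟨j, -, hj⟩ := (Nat.dvd_prime_pow hp).1 h2
      rcases Nat.eq_zero_or_pos j with rfl | hj0
      · rw [hj, pow_zero]
      · exact absurd ((dvd_pow_self p hj0.ne').trans
          (hj ▸ Subgroup.relIndex_dvd_of_le_left _ le_sup_left)) hi
    exact le_antisymm (hML.trans hLeq.le) (sup_le hHM (hcov.trans (sup_le hHM hKM)))
  · rintro ⟨hSC, hM⟩
    have hcov := centralizer_le_sup H C hC S hSC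
    have hLM : L ≤ Cfsg.pPrimePCore p N := by
      refine comap_pCore_le fun c hc => ?_
      obtain ⟨h, hh, k, hk, rfl⟩ := Subgroup.mem_sup_of_normal_right.1 (hcov hc)
      obtain ⟨i, hi⟩ := hH ⟨h, hh⟩
      refine ⟨i, ?_⟩
      have hcomm : Commute h k := by
        have := hKC hk
        rw [hC] at this
        exact Subgroup.mem_centralizer_iff.1 this h hh
      have hi' : h ^ p ^ i = 1 := congrArg Subtype.val hi
      rw [hcomm.mul_pow, hi', one_mul]
      exact pow_mem hk _
    intro hd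
    have hd' : p ∣ H.relIndex (C ⊔ H) :=
      hd.trans (dvd_of_eq (by rw [le_antisymm (hLM.trans (hM.le.trans (sup_comm H C).le))
        (sup_le hCL hHL)]))
    rw [Subgroup.relIndex_sup_right, ← Subgroup.inf_relIndex_right] at hd'
    refine CfsgLib.Fusion.not_dvd_relIndex_inf_of_normal S C (hd'.trans ?_)
    exact Subgroup.relIndex_dvd_of_le_left _ (le_inf hSC inf_le_right)

end CfsgLib.LS.CentricCore
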