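import Mathlib
import Cfsg.Agent.Lib.Fusion.Sylow

/-!
# A dihedral group of order `2r` on top of a `2`-group with fixed-point-free rotation
-/

set_option autoImplicit false

open Subgroup

namespace CfsgLib.LS.DihedralTop

variable {G : Type*} [Group G] {r : ℕ} [Fact r.Prime]

theorem rotation_pow {j : ZMod r} (hj : j ≠ 0) (k : ZMod r) :
    ∃ n : ℕ, (DihedralGroup.r j) ^ n = DihedralGroup.r k := by
  haveI : NeZero r := ⟨(Fact.out : r.Prime).ne_zero⟩
  refine ⟨(k / j).val, ?_⟩
  rw [DihedralGroup.r_pow, ZMod.natCast_val, ZMod.cast_id, mul_div_cancel₀ _ hj]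

theorem sr_conj (hr : r ≠ 2) (i j : ZMod r) :
    ∃ k : ZMod r, DihedralGroup.r k * DihedralGroup.sr j * (DihedralGroup.r k)⁻¹ =
      DihedralGroup.sr i := by
  have h2 : (2 : ZMod r) ≠ 0 := by
    intro h
    have h' : ((2 : ℕ) : ZMod r) = 0 := by exact_mod_cast h
    rw [ZMod.natCast_eq_zero_iff] at h'
    exact hr ((Nat.prime_dvd_prime_iff_eq Fact.out Nat.prime_two).1 h')
  refine ⟨(j - i) / 2, ?_⟩
  rw [DihedralGroup.inv_r, DihedralGroup.r_mul_sr, DihedralGroup.sr_mul_r]
  congr 1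
  field_simp
  ring

theorem orderOf_two_cases (hr : r ≠ 2) {d : DihedralGroup r} (hd : d ≠ 1) (h2 : d * d = 1) :
    ∃ i, d = DihedralGroup.sr i := by
  rcases d with j | i
  · exfalso
    rw [DihedralGroup.r_mul_r, DihedralGroup.one_def, DihedralGroup.r.injEq, ← two_mul] at h2
    have h2' : (2 : ZMod r) ≠ 0 := by
      intro h
      have h' : ((2 : ℕ) : ZMod r) = 0 := by exact_mod_cast h
      rw [ZMod.natCast_eq_zero_iff] at h'
      exact hr ((Nat.prime_dvd_prime_iff_eq Fact.out Nat.prime_two).1 h')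
    exact hd (by rw [(mul_eq_zero.1 h2).resolve_left h2', DihedralGroup.one_def])
  · exact ⟨i, rfl⟩

theorem rot_conj (g : DihedralGroup r) {x : DihedralGroup r}
    (hx : x ∈ Subgroup.zpowers (DihedralGroup.r (1 : ZMod r))) :
    g * x * g⁻¹ ∈ Subgroup.zpowers (DihedralGroup.r (1 : ZMod r)) := by
  obtain ⟨k, rfl⟩ := Subgroup.mem_zpowers_iff.1 hx
  rw [DihedralGroup.r_one_zpow]
  rcases g with a | a
  · rw [show DihedralGroup.r a * DihedralGroup.r (k : ZMod r) * (DihedralGroup.r a)⁻¹ =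
      DihedralGroup.r 1 ^ k by
        rw [DihedralGroup.inv_r, DihedralGroup.r_mul_r, DihedralGroup.r_mul_r,
          DihedralGroup.r_one_zpow]; congr 1; ring]
    exact Subgroup.zpow_mem _ (Subgroup.mem_zpowers _) k
  · rw [show DihedralGroup.sr a * DihedralGroup.r (k : ZMod r) * (DihedralGroup.sr a)⁻¹ =
      DihedralGroup.r 1 ^ (-k) by
        rw [DihedralGroup.inv_sr, DihedralGroup.sr_mul_r, DihedralGroup.sr_mul_sr,
          DihedralGroup.r_one_zpow]; congr 1; push_cast; ring]
    exact Subgroup.zpow_mem _ (Subgroup.mem_zpowers _) (-k)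

variable (φ : G →* DihedralGroup r) (s : DihedralGroup r →* G)
  (hφs : ∀ d, φ (s d) = d) (hC : ∀ o, φ o = 1 → Commute o (s (DihedralGroup.r 1)) → o = 1)

include hC in
theorem eq_one_of_commute {j : ZMod r} (hj : j ≠ 0) {o : G} (ho : φ o = 1)
    (hc : Commute o (s (DihedralGroup.r j))) : o = 1 := by
  obtain ⟨n, hn⟩ := rotation_pow hj 1
  refine hC o ho ?_
  rw [← hn, map_pow]
  exact hc.pow_right n

include hC hφs in
/-- Every element over a rotation is a kernel conjugate of the lifted rotation. -/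
theorem exists_conj_eq [Finite G] {j : ZMod r} (hj : j ≠ 0) {y : G}
    (hy : φ y = DihedralGroup.r j) :
    ∃ o, φ o = 1 ∧ o * s (DihedralGroup.r j) * o⁻¹ = y := by
  let f : φ.ker → φ.ker := fun o =>
    ⟨(o : G) * s (DihedralGroup.r j) * (o : G)⁻¹ * (s (DihedralGroup.r j))⁻¹, by
      rw [MonoidHom.mem_ker, map_mul, map_mul, map_mul, map_inv, map_inv, o.2, hφs]
      group⟩
  have hf : Function.Injective f := by
    intro o o' h
    have h1 := congrArg Subtype.val h
    simp only [f, mul_left_inj] at h1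
    have h2 : (o' : G)⁻¹ * o = 1 := eq_one_of_commute φ s hC hj
      (by rw [map_mul, map_inv, o.2, o'.2, inv_one, one_mul]) (by
        have h3 : (o' : G)⁻¹ * ((o : G) * s (DihedralGroup.r j) * (o : G)⁻¹) * o' =
            s (DihedralGroup.r j) := by rw [h1]; group
        rw [commute_iff_eq]
        calc (o' : G)⁻¹ * o * s (DihedralGroup.r j)
            = (o' : G)⁻¹ * ((o : G) * s (DihedralGroup.r j) * (o : G)⁻¹) * o' *
              ((o' : G)⁻¹ * o) := by group
          _ = _ := by rw [h3])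
    exact Subtype.ext (inv_mul_eq_one.1 h2).symm
  obtain ⟨o, ho⟩ := Finite.surjective_of_injective hf ⟨y * (s (DihedralGroup.r j))⁻¹, by
    rw [MonoidHom.mem_ker, map_mul, map_inv, hy, hφs, mul_inv_cancel]⟩
  refine ⟨o, o.2, ?_⟩
  have h1 := congrArg Subtype.val ho
  simp only [f, mul_left_inj] at h1
  exact h1

include hC hφs in
/-- Two involutions over reflections, conjugated into the complement simultaneously. -/
theorem exists_conj_pair [Finite G] {b c : G} {i i' : ZMod r} (hb : φ b = DihedralGroup.sr i)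
    (hc : φ c = DihedralGroup.sr i') (hii : i ≠ i') (hb2 : b * b = 1) (hc2 : c * c = 1) :
    ∃ o, φ o = 1 ∧ o * s (DihedralGroup.sr i) * o⁻¹ = b ∧
      o * s (DihedralGroup.sr i') * o⁻¹ = c := by
  have hj : i' - i ≠ 0 := sub_ne_zero.2 (Ne.symm hii)
  obtain ⟨o, ho, hoe⟩ := exists_conj_eq φ s hφs hC hj
    (y := b * c) (by rw [map_mul, hb, hc, DihedralGroup.sr_mul_sr])
  have hinv : ∀ x : G, ∀ k, φ x = DihedralGroup.sr k → x * x = 1 →
      x * (b * c) * x = (b * c)⁻¹ → o * s (DihedralGroup.sr k) * o⁻¹ = x := by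
    intro x k hx hx2 hxinv
    set R := s (DihedralGroup.r (i' - i)) with hR
    set S := s (DihedralGroup.sr k) with hS
    have hS2 : S * S = 1 := by rw [hS, ← map_mul, DihedralGroup.sr_mul_self, map_one]
    have hSR : S * R * S = R⁻¹ := by
      rw [hS, hR, ← map_mul, ← map_mul, ← map_inv, DihedralGroup.sr_mul_r, DihedralGroup.sr_mul_sr,
        DihedralGroup.inv_r]
      congr 2
      ring
    set u := o⁻¹ * x * o with hu
    have hu2 : u * u = 1 := by
      rw [hu, show o⁻¹ * x * o * (o⁻¹ * x * o) = o⁻¹ * (x * x) * o by group, hx2]; group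
    have huR : u * R * u = R⁻¹ := by
      rw [hu, show o⁻¹ * x * o * R * (o⁻¹ * x * o) = o⁻¹ * (x * (o * R * o⁻¹) * x) * o by group,
        hoe, hxinv, ← hoe]
      group
    have h1 : S * u = 1 := eq_one_of_commute φ s hC hj
      (by rw [map_mul, hS, hφs, hu, map_mul, map_mul, map_inv, ho, hx]; simp) (by
        have e1 : u * R = R⁻¹ * u := by
          calc u * R = u * R * (u * u) := by rw [hu2, mul_one]
            _ = (u * R * u) * u := by group
            _ = _ := by rw [huR]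
        have e2 : S * R⁻¹ = R * S := by
          rw [← hSR, show S * (S * R * S) = (S * S) * (R * S) by group, hS2, one_mul]
        rw [commute_iff_eq]
        calc S * u * R = S * (u * R) := by group
          _ = S * R⁻¹ * u := by rw [e1]; group
          _ = R * (S * u) := by rw [e2]; group)
    have h3 : u = S := by
      calc u = (S * S) * u := by rw [hS2, one_mul]
        _ = S * (S * u) := by group
        _ = S := by rw [h1, mul_one]
    rw [← h3, hu]; group
  have hbi : b⁻¹ = b := inv_eq_of_mul_eq_one_right hb2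
  have hci : c⁻¹ = c := inv_eq_of_mul_eq_one_right hc2
  refine ⟨o, ho, hinv b i hb hb2 ?_, hinv c i' hc hc2 ?_⟩
  · rw [mul_inv_rev, hbi, hci, show b * (b * c) * b = (b * b) * (c * b) by group, hb2, one_mul]
  · rw [mul_inv_rev, hbi, hci, show c * (b * c) * c = (c * b) * (c * c) by group, hc2, mul_one]

include hC hφs in
theorem isConj_involution [Finite G] (hr : r ≠ 2) (i : ZMod r) {b : G} (hb1 : φ b ≠ 1)
    (hb2 : b * b = 1) : ∃ g : G, g * s (DihedralGroup.sr i) * g⁻¹ = b := by
  obtain ⟨k, hk⟩ := orderOf_two_cases hr hb1 (by rw [← map_mul, hb2, map_one])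
  obtain ⟨o, -, ho, -⟩ := exists_conj_pair φ s hφs hC hk (hφs (DihedralGroup.sr (k + 1)))
    (fun h => one_ne_zero (left_eq_add.1 h)) hb2
    (by rw [← map_mul, DihedralGroup.sr_mul_self, map_one])
  obtain ⟨t, ht⟩ := sr_conj hr k i
  refine ⟨o * s (DihedralGroup.r t), ?_⟩
  rw [← ho, ← ht, map_mul, map_mul, map_inv]
  group

include hC hφs in
theorem card_fixed_sq [Finite G] (hr : r ≠ 2) (i : ZMod r) :
    Nat.card (φ.ker ⊓ centralizer ({s (DihedralGroup.sr i)} : Set G) : Subgroup G) ^ 2 =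
      Nat.card φ.ker := by
  let Cc : ZMod r → Subgroup φ.ker := fun k =>
    (centralizer ({s (DihedralGroup.sr k)} : Set G)).subgroupOf φ.ker
  have hmem : ∀ k (x : φ.ker), x ∈ Cc k ↔ Commute (x : G) (s (DihedralGroup.sr k)) := fun k x => by
    rw [Subgroup.mem_subgroupOf, Subgroup.mem_centralizer_singleton_iff]; rfl
  let f : φ.ker → (φ.ker ⧸ Cc i) × (φ.ker ⧸ Cc (i + 1)) := fun o => (o, o)
  have hinj : Function.Injective f := by
    intro o o' h
    have h1 : Commute ((o⁻¹ * o' : φ.ker) : G) (s (DihedralGroup.sr i)) :=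
      (hmem _ _).1 (QuotientGroup.eq.1 (congrArg Prod.fst h))
    have h2 : Commute ((o⁻¹ * o' : φ.ker) : G) (s (DihedralGroup.sr (i + 1))) :=
      (hmem _ _).1 (QuotientGroup.eq.1 (congrArg Prod.snd h))
    have h3 := h1.mul_right h2
    rw [← map_mul, DihedralGroup.sr_mul_sr] at h3
    exact inv_mul_eq_one.1 (Subtype.ext (eq_one_of_commute φ s hC
      (by rw [add_sub_cancel_left]; exact one_ne_zero) (o⁻¹ * o' : φ.ker).2 h3))
  have hsurj : Function.Surjective f := by
    rintro ⟨a, b⟩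
    induction a using QuotientGroup.induction_on with | _ a => ?_
    induction b using QuotientGroup.induction_on with | _ b => ?_
    have him : ∀ (x : φ.ker) k,
        φ ((x : G) * s (DihedralGroup.sr k) * (x : G)⁻¹) = DihedralGroup.sr k := fun x k => by
      rw [map_mul, map_mul, map_inv, x.2, hφs]; simp
    have hsq : ∀ (x : G) k, (x * s (DihedralGroup.sr k) * x⁻¹) *
        (x * s (DihedralGroup.sr k) * x⁻¹) = 1 := fun x k => by
      rw [show (x * s (DihedralGroup.sr k) * x⁻¹) * (x * s (DihedralGroup.sr k) * x⁻¹) =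
        x * (s (DihedralGroup.sr k) * s (DihedralGroup.sr k)) * x⁻¹ by group, ← map_mul,
        DihedralGroup.sr_mul_self, map_one]
      group
    obtain ⟨o, ho, h1, h2⟩ := exists_conj_pair φ s hφs hC (him a i) (him b (i + 1))
      (fun h => one_ne_zero (left_eq_add.1 h)) (hsq _ _) (hsq _ _)
    refine ⟨⟨o, ho⟩, Prod.ext (QuotientGroup.eq.2 ((hmem _ _).2 ?_))
      (QuotientGroup.eq.2 ((hmem _ _).2 ?_))⟩
    · show o⁻¹ * (a : G) * s (DihedralGroup.sr i) = s (DihedralGroup.sr i) * (o⁻¹ * (a : G))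
      calc o⁻¹ * (a : G) * s (DihedralGroup.sr i)
          = o⁻¹ * ((a : G) * s (DihedralGroup.sr i) * (a : G)⁻¹) * (a : G) := by group
        _ = _ := by rw [← h1]; group
    · show o⁻¹ * (b : G) * s (DihedralGroup.sr (i + 1)) =
        s (DihedralGroup.sr (i + 1)) * (o⁻¹ * (b : G))
      calc o⁻¹ * (b : G) * s (DihedralGroup.sr (i + 1))
          = o⁻¹ * ((b : G) * s (DihedralGroup.sr (i + 1)) * (b : G)⁻¹) * (b : G) := by group
        _ = _ := by rw [← h2]; group
  have hcard := Nat.card_congr (Equiv.ofBijective f ⟨hinj, hsurj⟩)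
  rw [Nat.card_prod] at hcard
  have e1 := Subgroup.card_eq_card_quotient_mul_card_subgroup (Cc i)
  have e2 := Subgroup.card_eq_card_quotient_mul_card_subgroup (Cc (i + 1))
  obtain ⟨t, ht⟩ := sr_conj hr (i + 1) i
  have hA : ∀ k, Nat.card (φ.ker ⊓ centralizer ({s (DihedralGroup.sr k)} : Set G) : Subgroup G) =
      Nat.card (Cc k) := fun k => by
    rw [← Subgroup.card_map_of_injective (K := Cc k) φ.ker.subtype_injective,
      Subgroup.subgroupOf_map_subtype, inf_comm]
  have hX := hA i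
  have hc : Nat.card (Cc i) = Nat.card (Cc (i + 1)) := by
    rw [← hA, ← hA, ← CfsgLib.Fusion.card_conjBy (s (DihedralGroup.r t))
      (φ.ker ⊓ centralizer ({s (DihedralGroup.sr i)} : Set G)), CfsgLib.Fusion.conjBy,
      Subgroup.map_inf _ _ _ (MulAut.conj _).injective, ← CfsgLib.Fusion.conjBy,
      ← CfsgLib.Fusion.conjBy, show CfsgLib.Fusion.conjBy (s (DihedralGroup.r t)) φ.ker = φ.ker from
        CfsgLib.Fusion.conjBy_eq_iff.2 (Subgroup.normalizer_eq_top φ.ker ▸ Subgroup.mem_top _)]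
    suffices h : CfsgLib.Fusion.conjBy (s (DihedralGroup.r t))
        (centralizer ({s (DihedralGroup.sr i)} : Set G)) =
        centralizer ({s (DihedralGroup.sr (i + 1))} : Set G) by rw [h]
    ext x
    rw [CfsgLib.Fusion.mem_conjBy, Subgroup.mem_centralizer_singleton_iff,
      Subgroup.mem_centralizer_singleton_iff, ← ht, map_mul, map_mul, map_inv]
    constructor
    · intro h
      have h1 := congrArg (fun z => s (DihedralGroup.r t) * z * (s (DihedralGroup.r t))⁻¹) h
      simpa [mul_assoc] using h1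
    · intro h
      have h1 := congrArg (fun z => (s (DihedralGroup.r t))⁻¹ * z * s (DihedralGroup.r t)) h
      simpa [mul_assoc] using h1
  rw [hX]
  rw [← hc] at e2
  have hpos : 0 < Nat.card φ.ker := Nat.card_pos
  apply Nat.eq_of_mul_eq_mul_left hpos
  calc Nat.card φ.ker * Nat.card (Cc i) ^ 2
      = (Nat.card (φ.ker ⧸ Cc i) * Nat.card (Cc i)) *
        (Nat.card (φ.ker ⧸ Cc (i + 1)) * Nat.card (Cc i)) := by rw [hcard]; ring
    _ = _ := by rw [← e1, ← e2]

omit φ s in
/-- A section over the quotient with image the Sylow normalizer. -/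
theorem exists_section [Finite G] (hr : r ≠ 2) {φ : G →* DihedralGroup r}
    (hφ : Function.Surjective φ) (hO : IsPGroup 2 φ.ker) (R : Sylow r G)
    (hC : φ.ker ⊓ centralizer ((R : Subgroup G) : Set G) = ⊥) :
    ∃ s : DihedralGroup r →* G, (∀ d, φ (s d) = d) ∧ Function.Injective s ∧
      s.range = normalizer ((R : Subgroup G) : Set G) ∧
      ∀ o, φ o = 1 → Commute o (s (DihedralGroup.r 1)) → o = 1 := by
  haveI : Fact (Nat.Prime 2) := ⟨Nat.prime_two⟩
  have hrp : r.Prime := Fact.out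
  haveI : NeZero r := ⟨hrp.ne_zero⟩
  set N := normalizer ((R : Subgroup G) : Set G)
  set rot : Subgroup (DihedralGroup r) := Subgroup.zpowers (DihedralGroup.r 1) with hrot
  have hrotc : Nat.card rot = r := by rw [hrot, Nat.card_zpowers, DihedralGroup.orderOf_r_one]
  have hdisj : ∀ x ∈ (R : Subgroup G), φ x = 1 → x = 1 := fun x hx h1 => by
    obtain ⟨a, ha⟩ := IsPGroup.iff_card.1 R.2
    obtain ⟨b, hb⟩ := IsPGroup.iff_card.1 hO
    exact Subgroup.mem_bot.1 ((Subgroup.disjoint_of_coprime_natCard (by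
      rw [ha, hb]
      exact Nat.Coprime.pow _ _ ((Nat.coprime_primes hrp Nat.prime_two).2 hr))).le_bot
      (⟨hx, h1⟩ : x ∈ (R : Subgroup G) ⊓ φ.ker))
  have hRrot : (R : Subgroup G).map φ = rot := by
    let T : Sylow r (DihedralGroup r) := R.mapSurjective hφ
    have hTc : (T : Subgroup (DihedralGroup r)) = (R : Subgroup G).map φ := Sylow.coe_mapSurjective _ _
    haveI : rot.Normal := ⟨fun x hx g => rot_conj g hx⟩
    have hle : rot ≤ (T : Subgroup (DihedralGroup r)) :=
      (IsPGroup.of_card (n := 1) (by rw [hrotc, pow_one])).le_sylow_of_normal T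
    refine hTc ▸ (Subgroup.eq_of_le_of_card_ge hle ?_).symm
    rw [hrotc, T.card_eq_multiplicity, DihedralGroup.nat_card,
      Nat.factorization_mul (by norm_num) hrp.ne_zero, Finsupp.add_apply,
      Nat.factorization_eq_zero_of_not_dvd
        (fun h => hr ((Nat.prime_dvd_prime_iff_eq hrp Nat.prime_two).1 h)),
      hrp.factorization_self, zero_add, pow_one]
  have hNO : ∀ x ∈ N, φ x = 1 → x = 1 := fun x hx h1 => by
    refine Subgroup.mem_bot.1 (hC.le ⟨h1, Subgroup.mem_centralizer_iff.2 fun y hy => ?_⟩)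
    have h2 : x * y * x⁻¹ * y⁻¹ = 1 := hdisj _ (Subgroup.mul_mem _
        ((Subgroup.mem_normalizer_iff.1 hx y).1 hy) (Subgroup.inv_mem _ hy))
      (by simp [h1])
    exact (eq_mul_inv_iff_mul_eq.1 (mul_inv_eq_one.1 h2).symm).symm ▸ rfl
  have hsurjN : ∀ d, ∃ n ∈ N, φ n = d := by
    intro d
    obtain ⟨g, rfl⟩ := hφ d
    set H := rot.comap φ
    have hRH : (R : Subgroup G) ≤ H := Subgroup.map_le_iff_le_comap.1 hRrot.le
    obtain ⟨k, hk, hkR⟩ := CfsgLib.Fusion.exists_conj_le_of_not_dvd_relIndex R.2 hRH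
      (fun h => R.not_dvd_index (h.trans (Subgroup.relIndex_dvd_index_of_le hRH)))
      (CfsgLib.Fusion.isPGroup_conjBy g R.2) (CfsgLib.Fusion.conjBy_le_iff.2 fun x hx => by
        show φ (g * x * g⁻¹) ∈ rot
        rw [map_mul, map_mul, map_inv]
        exact rot_conj _ (hRH hx))
    rw [CfsgLib.Fusion.conjBy_conjBy] at hkR
    have hkN : k * g ∈ N :=
      CfsgLib.Fusion.conjBy_eq_iff.1 (CfsgLib.Fusion.conjBy_eq_of_le hkR)
    obtain ⟨x, hx, hxk⟩ := hRrot.ge (show φ k ∈ rot from hk)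
    exact ⟨x⁻¹ * (k * g), mul_mem (inv_mem (Subgroup.le_normalizer hx)) hkN,
      by rw [map_mul, map_inv, hxk, map_mul, inv_mul_cancel_left]⟩
  have hbij : Function.Bijective (φ.comp N.subtype) := by
    refine ⟨(injective_iff_map_eq_one _).2 fun x hx => Subtype.ext (hNO x x.2 hx), fun d => ?_⟩
    obtain ⟨n, hn, hnd⟩ := hsurjN d
    exact ⟨⟨n, hn⟩, hnd⟩
  let e := MulEquiv.ofBijective _ hbij
  let s : DihedralGroup r →* G := N.subtype.comp e.symm.toMonoidHom
  have hφs : ∀ d, φ (s d) = d := fun d => e.apply_symm_apply d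
  refine ⟨s, hφs, fun a b h => by rw [← hφs a, ← hφs b, h], ?_, fun o ho hc => ?_⟩
  · refine le_antisymm ?_ fun n hn => ⟨e ⟨n, hn⟩, congrArg Subtype.val (e.symm_apply_apply ⟨n, hn⟩)⟩
    rintro _ ⟨d, rfl⟩
    exact (e.symm d).2
  · refine Subgroup.mem_bot.1 (hC.le ⟨ho, Subgroup.mem_centralizer_iff.2 fun x hx => ?_⟩)
    obtain ⟨k, hk⟩ := Subgroup.mem_zpowers_iff.1 (hRrot.le ⟨x, hx, rfl⟩)
    have hxs : x = s (DihedralGroup.r 1) ^ k := by
      rw [← map_zpow, hk]
      exact (congrArg Subtype.val (e.symm_apply_apply ⟨x, Subgroup.le_normalizer hx⟩)).symm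
    rw [hxs]
    exact (hc.zpow_right k).eq.symm

end CfsgLib.LS.DihedralTop
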