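import Cfsg.Agent.Lib.LocalStructure.FStar
import Mathlib.GroupTheory.Frattini

/-!
# The fixed complement of `[F*, Q]`
-/

set_option autoImplicit false
set_option linter.style.haveILetI false
set_option linter.unusedSectionVars false

namespace CfsgLib.LS

open Subgroup
open scoped commutatorElement

variable {G : Type*} [Group G]

/-- A `p`-element stabilising `1 ≤ ⟨z⟩ ≤ ⟨x, z⟩` with `z` of order prime to `p` fixes `x`. -/
theorem eq_one_of_stab {p : ℕ} {c x z : G} (hcz : Commute c z) (h : c * x * c⁻¹ = x * z) {a : ℕ}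
    (hc : c ^ p ^ a = 1) (hz : (orderOf z).Coprime p) : z = 1 := by
  have key : ∀ n : ℕ, c ^ n * x * (c ^ n)⁻¹ = x * z ^ n := by
    intro n
    induction n with
    | zero => simp
    | succ n ih =>
      have hzc : c * z ^ n * c⁻¹ = z ^ n := by rw [(hcz.pow_right n).eq, mul_inv_cancel_right]
      calc c ^ (n + 1) * x * (c ^ (n + 1))⁻¹
          = c * (c ^ n * x * (c ^ n)⁻¹) * c⁻¹ := by rw [pow_succ']; group
        _ = c * (x * z ^ n) * c⁻¹ := by rw [ih]
        _ = (c * x * c⁻¹) * (c * z ^ n * c⁻¹) := by group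
        _ = x * z ^ (n + 1) := by rw [h, hzc, pow_succ', mul_assoc]
  have h1 := key (p ^ a)
  rw [hc, one_mul, inv_one, mul_one] at h1
  have h2 : z ^ p ^ a = 1 := by
    have := congrArg (x⁻¹ * ·) h1
    simpa using this.symm
  exact orderOf_eq_one_iff.1
    (Nat.eq_one_of_dvd_coprimes (hz.pow_right a) dvd_rfl (orderOf_dvd_of_pow_eq_one h2))

theorem normal_of_central {N : Subgroup G} (h : N ≤ center G) : N.Normal :=
  ⟨fun n hn g => by rw [mem_center_iff.1 (h hn) g, mul_inv_cancel_right]; exact hn⟩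

variable [Finite G] {p : ℕ} [Fact p.Prime]

section Fixed

variable (hO : Cfsg.pCore p G = ⊥) {Q L F : Subgroup G} (hQ : IsPGroup p Q)
  (hL : L = ⁅Cfsg.generalizedFittingSubgroup G, Q⁆)
  (hF : F = Cfsg.generalizedFittingSubgroup G ⊓ centralizer ((L ⊔ Q : Subgroup G) : Set G))

include hL in
theorem fc_le : L ≤ Cfsg.generalizedFittingSubgroup G := by
  haveI := CfsgLib.Coprime.generalizedFitting_normal (G := G)
  rw [hL]
  exact commutator_le_left _ _

include hL in
theorem fc_subnormal : L.IsSubnormal := by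
  haveI := CfsgLib.Coprime.generalizedFitting_normal (G := G)
  refine IsSubnormal.step L (Cfsg.generalizedFittingSubgroup G) (fc_le hL)
    (Subgroup.Normal.isSubnormal inferInstance) ?_
  rw [normal_subgroupOf_iff_le_normalizer (fc_le hL), hL]
  exact normalizer_commutator_ge_left _ _

include hO hQ hL in
theorem fc_split : L ⊔ (Cfsg.generalizedFittingSubgroup G ⊓ centralizer (Q : Set G)) =
    Cfsg.generalizedFittingSubgroup G ∧ ⁅L, Q⁆ = L := by
  haveI := CfsgLib.Coprime.generalizedFitting_normal (G := G)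
  have hsn : (Cfsg.generalizedFittingSubgroup G).IsSubnormal :=
    Subgroup.Normal.isSubnormal inferInstance
  obtain ⟨h1, h2⟩ := fstar_splitting (G := G) hQ (by rw [normalizer_eq_top]; exact le_top)
    (fstar_eq_top hsn le_rfl) (pCore_eq_bot_of_subnormal hO hsn)
  rw [hL]
  exact ⟨h1, h2.symm⟩

include hL in
/-- An element normalising `Q` normalises `L`. -/
theorem fc_normalizer_le : normalizer (Q : Set G) ≤ normalizer (L : Set G) := by
  haveI := CfsgLib.Coprime.generalizedFitting_normal (G := G)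
  refine le_normalizer_iff.2 fun g hg x hx => ?_
  have h : (⁅Cfsg.generalizedFittingSubgroup G, Q⁆).map (MulAut.conj g).toMonoidHom =
      ⁅Cfsg.generalizedFittingSubgroup G, Q⁆ := by
    have hQ' : Q.map (MulAut.conj g).toMonoidHom = Q := by
      refine le_antisymm ?_ ?_
      · rintro _ ⟨y, hy, rfl⟩
        exact (mem_normalizer_iff.1 hg y).1 hy
      · intro y hy
        exact ⟨g⁻¹ * y * g, (mem_normalizer_iff''.1 hg y).1 hy, by simp [mul_assoc]⟩
    rw [map_commutator, hQ', show (Cfsg.generalizedFittingSubgroup G).map (MulAut.conj g).toMonoidHom = _ from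
      Subgroup.Normal.map_conj_eq _ g]
  rw [← hL] at h
  rw [← h]
  exact ⟨x, hx, rfl⟩

include hL hF in
theorem fc_normalizer_le_fixed :
    normalizer (Q : Set G) ≤ normalizer (F : Set G) := by
  haveI := CfsgLib.Coprime.generalizedFitting_normal (G := G)
  refine le_normalizer_iff.2 fun g hg y hy => ?_
  rw [hF] at hy ⊢
  refine mem_inf.2 ⟨(inferInstance : (Cfsg.generalizedFittingSubgroup G).Normal).conj_mem _
    (mem_inf.1 hy).1 g, ?_⟩
  have hy2 := (mem_inf.1 hy).2
  have key : L ⊔ Q ≤ centralizer {g * y * g⁻¹} := by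
    refine sup_le ?_ ?_ <;> intro u hu <;> rw [mem_centralizer_singleton_iff]
    · have h : g⁻¹ * u * g ∈ L := (mem_normalizer_iff''.1 (fc_normalizer_le hL hg) u).1 hu
      have e := mem_centralizer_iff.1 hy2 _ (mem_sup_left h)
      calc u * (g * y * g⁻¹) = g * ((g⁻¹ * u * g) * y) * g⁻¹ := by group
        _ = g * (y * (g⁻¹ * u * g)) * g⁻¹ := by rw [e]
        _ = g * y * g⁻¹ * u := by group
    · have h : g⁻¹ * u * g ∈ Q := (mem_normalizer_iff''.1 hg u).1 hu
      have e := mem_centralizer_iff.1 hy2 _ (mem_sup_right h)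
      calc u * (g * y * g⁻¹) = g * ((g⁻¹ * u * g) * y) * g⁻¹ := by group
        _ = g * (y * (g⁻¹ * u * g)) * g⁻¹ := by rw [e]
        _ = g * y * g⁻¹ * u := by group
  exact mem_centralizer_iff.2 fun u hu => mem_centralizer_singleton_iff.1 (key hu)

include hO hQ hL hF in
theorem fc_normal : Cfsg.generalizedFittingSubgroup G ≤ normalizer (F : Set G) := by
  rw [← (fc_split hO hQ hL).1]
  refine sup_le ?_ ?_
  · refine le_trans ?_ (Subgroup.centralizer_le_normalizer _)
    rw [le_centralizer_iff]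
    rw [hF]
    exact inf_le_right.trans (centralizer_le (SetLike.coe_subset_coe.2 le_sup_left))
  · exact inf_le_right.trans ((Subgroup.centralizer_le_normalizer _).trans
      (fc_normalizer_le_fixed hL hF))

include hL hF in
theorem fc_maximal {N : Subgroup G} (hN : N ≤ Cfsg.generalizedFittingSubgroup G)
    (hn : Cfsg.generalizedFittingSubgroup G ≤ normalizer (N : Set G))
    (hc : Q ≤ centralizer (N : Set G)) : N ≤ F := by
  rw [hF]
  refine le_inf hN ?_
  rw [le_centralizer_iff]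
  refine sup_le ?_ hc
  rw [← commutator_eq_bot_iff_le_centralizer, hL]
  have hQN : ⁅Q, N⁆ = ⊥ := commutator_eq_bot_iff_le_centralizer.2 hc
  refine commutator_commutator_eq_bot_of_rotate ?_ ?_
  · rw [hQN, commutator_bot_left]
  · rw [eq_bot_iff, ← hQN, commutator_comm Q N]
    exact commutator_mono (commutator_le_of_normalizes hn) le_rfl

include hF in
theorem fc_le_centralizer_L : F ≤ centralizer (L : Set G) :=
  hF.le.trans (inf_le_right.trans (centralizer_le (SetLike.coe_subset_coe.2 le_sup_left)))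

include hF in
theorem fc_le_centralizer_Q : F ≤ centralizer (Q : Set G) :=
  hF.le.trans (inf_le_right.trans (centralizer_le (SetLike.coe_subset_coe.2 le_sup_right)))

include hF in
theorem fc_center : (L ⊓ F).subgroupOf L ≤ center L := by
  intro z hz
  exact mem_center_iff.2 fun y => Subtype.ext
    (mem_centralizer_iff.1 (fc_le_centralizer_L hF (mem_inf.1 (mem_subgroupOf.1 hz)).2) y y.2)

include hO hL hF in
theorem fc_coprime_inf : (Nat.card ↥(L ⊓ F)).Coprime p := by
  haveI hn : ((L ⊓ F).subgroupOf L).Normal := normal_of_central (fc_center hF)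
  haveI : IsMulCommutative ↥(L ⊓ F) := ⟨⟨fun a b => Subtype.ext
    (mem_centralizer_iff.1 (fc_le_centralizer_L hF (mem_inf.1 b.2).2) a (mem_inf.1 a.2).1)⟩⟩
  have hsn : (L ⊓ F).IsSubnormal :=
    IsSubnormal.step _ L inf_le_left (fc_subnormal hL) hn
  have hnil : Group.IsNilpotent ↥(L ⊓ F) := by open scoped IsMulCommutative in infer_instance
  exact (coprime_fitting hO).coprime_dvd_left
    (Subgroup.card_dvd_of_le (CfsgLib.Coprime.le_fitting_of_isSubnormal hsn hnil))

include hO hL in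
theorem fc_coprime_abelianization : (Nat.card (Abelianization L)).Coprime p := by
  have hFL := fstar_eq_top (fc_subnormal hL) (fc_le hL)
  have hlay : (Cfsg.layer L).map (Abelianization.of (G := L)) = ⊥ := by
    rw [Subgroup.map_eq_bot_iff, Abelianization.ker_of, ← CfsgLib.Coprime.layer_isPerfect]
    exact commutator_mono le_top le_top
  have hmap : (Cfsg.fittingSubgroup L).map (Abelianization.of (G := L)) = ⊤ := by
    have h := congrArg (Subgroup.map (Abelianization.of (G := L))) hFL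
    rw [Cfsg.generalizedFittingSubgroup, Subgroup.map_sup, hlay, bot_sup_eq,
      Subgroup.map_top_of_surjective (Abelianization.of (G := L))
        (fun x => QuotientGroup.mk_surjective x)] at h
    exact h
  have h2 := Subgroup.card_map_dvd (Cfsg.fittingSubgroup L) (Abelianization.of (G := L))
  rw [hmap, Subgroup.card_top] at h2
  exact (coprime_fitting (pCore_eq_bot_of_subnormal hO (fc_subnormal hL))).coprime_dvd_left h2

include hO hQ hL hF in
/-- `L ∩ F ≤ L'`. -/
theorem fc_inf_le_commutator : (L ⊓ F).subgroupOf L ≤ commutator L := by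
  classical
  haveI : Fintype Q := Fintype.ofFinite Q
  have hLQ : Q ≤ normalizer (L : Set G) := le_normalizer.trans (fc_normalizer_le hL)
  let cj : Q → L → L := fun q x =>
    ⟨(q : G) * x * (q : G)⁻¹, (mem_normalizer_iff.1 (hLQ q.2) _).1 x.2⟩
  have hcj : ∀ q x y, cj q (x * y) = cj q x * cj q y := fun q x y =>
    Subtype.ext (by simp only [cj, Subgroup.coe_mul]; group)
  let ψ : L →* Abelianization L :=
    MonoidHom.mk' (fun x => ∏ q : Q, Abelianization.of (cj q x)) fun x y => by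
      simp only [hcj, map_mul, Finset.prod_mul_distrib]
  have hfix : ∀ (q : Q) (x : L), ψ (cj q x) = ψ x := fun q x => by
    refine Fintype.prod_equiv (Equiv.mulRight q) _ _ fun r => ?_
    congr 1
    exact Subtype.ext (by simp only [cj, Equiv.coe_mulRight, Subgroup.coe_mul]; group)
  have hker : L ≤ ψ.ker.map L.subtype := by
    refine (fc_split hO hQ hL).2.ge.trans ?_
    rw [commutator_le]
    intro x hx q hq
    refine ⟨⟨x, hx⟩ * (cj ⟨q, hq⟩ ⟨x, hx⟩)⁻¹, ?_, ?_⟩
    · show ψ _ = 1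
      rw [map_mul, map_inv, hfix, mul_inv_cancel]
    · simp only [cj, Subgroup.coe_subtype, Subgroup.coe_mul, Subgroup.coe_inv, commutatorElement_def]
      group
  intro z hz
  obtain ⟨w, hw, hwz⟩ := hker z.2
  rw [Subtype.ext hwz (a2 := z)] at hw
  have hval : ∀ q : Q, cj q z = z := fun q => Subtype.ext (by
    show (q : G) * z * (q : G)⁻¹ = z
    rw [mem_centralizer_iff.1 (fc_le_centralizer_Q hF (mem_inf.1 (mem_subgroupOf.1 hz)).2) q q.2,
      mul_inv_cancel_right])
  have hpow : Abelianization.of z ^ Nat.card Q = 1 := by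
    have h : ψ z = 1 := hw
    simpa [ψ, hval, Finset.prod_const, Nat.card_eq_fintype_card] using h
  obtain ⟨k, hk⟩ := IsPGroup.iff_card.1 hQ
  have hc : (Nat.card Q).Coprime (Nat.card (Abelianization L)) := by
    rw [hk]; exact ((fc_coprime_abelianization hO hL).pow_right k).symm
  exact (Abelianization.ker_of L).le (orderOf_eq_one_iff.1 (Nat.eq_one_of_dvd_coprimes hc
    (orderOf_dvd_of_pow_eq_one hpow) (orderOf_dvd_natCard _)))

include hO hQ hL hF in
theorem fc_inf_le_frattini : L ⊓ F ≤ (frattini ↥L).map L.subtype := by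
  have hcomm := fc_inf_le_commutator hO hQ hL hF
  have hc := fc_center (L := L) hF
  intro z hz
  refine ⟨⟨z, (mem_inf.1 hz).1⟩, ?_, rfl⟩
  have hz' : (⟨z, (mem_inf.1 hz).1⟩ : L) ∈ (L ⊓ F).subgroupOf L := mem_subgroupOf.2 hz
  refine (show (L ⊓ F).subgroupOf L ≤ frattini L from le_iInf fun M => le_iInf fun hM => ?_) hz'
  by_contra hle
  have htop : M ⊔ (L ⊓ F).subgroupOf L = ⊤ := hM.2 _ (lt_of_le_of_ne le_sup_left
    fun e => hle (e ▸ le_sup_right))
  haveI : ((L ⊓ F).subgroupOf L).Normal := normal_of_central hc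
  refine hle (hcomm.trans ?_)
  rw [_root_.commutator_def, commutator_le]
  intro a _ b _
  have ha : a ∈ ((M ⊔ (L ⊓ F).subgroupOf L : Subgroup L) : Set L) := by rw [htop]; trivial
  have hb : b ∈ ((M ⊔ (L ⊓ F).subgroupOf L : Subgroup L) : Set L) := by rw [htop]; trivial
  rw [mul_normal] at ha hb
  obtain ⟨m₁, hm₁, z₁, hz₁, rfl⟩ := ha
  obtain ⟨m₂, hm₂, z₂, hz₂, rfl⟩ := hb
  have e1 : ∀ u, z₁ * u = u * z₁ := fun u => (mem_center_iff.1 (hc hz₁) u).symm
  have e2 : ∀ u, z₂ * u = u * z₂ := fun u => (mem_center_iff.1 (hc hz₂) u).symm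
  have e : ⁅m₁ * z₁, m₂ * z₂⁆ = ⁅m₁, m₂⁆ := by
    rw [commutatorElement_def, commutatorElement_def]
    calc m₁ * z₁ * (m₂ * z₂) * (m₁ * z₁)⁻¹ * (m₂ * z₂)⁻¹
        = m₁ * (z₁ * (m₂ * z₂)) * z₁⁻¹ * m₁⁻¹ * z₂⁻¹ * m₂⁻¹ := by group
      _ = m₁ * m₂ * (z₂ * m₁⁻¹) * z₂⁻¹ * m₂⁻¹ := by rw [e1]; group
      _ = m₁ * m₂ * m₁⁻¹ * m₂⁻¹ := by rw [e2]; group
  rw [e, commutatorElement_def]
  exact mul_mem (mul_mem (mul_mem hm₁ hm₂) (inv_mem hm₁)) (inv_mem hm₂)

include hO hQ hL hF in
/-- A `p`-group normalising `Q` and acting trivially on `L` modulo `F` centralises `L`. -/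
theorem fc_trivial {B : Subgroup G} (hB : IsPGroup p B) (hBQ : B ≤ normalizer (Q : Set G))
    (hLB : ⁅L, B⁆ ≤ F) : ⁅L, B⁆ = ⊥ := by
  have hLQ : Q ≤ normalizer (L : Set G) := le_normalizer.trans (fc_normalizer_le hL)
  have hBL : B ≤ normalizer (L : Set G) := hBQ.trans (fc_normalizer_le hL)
  have hZ : ∀ x ∈ L, ∀ b ∈ B, ⁅x, b⁆ ∈ L ⊓ F := fun x hx b hb =>
    mem_inf.2 ⟨commutator_le_of_normalizes hBL (commutator_mem_commutator hx hb),
      hLB (commutator_mem_commutator hx hb)⟩
  have hQZ : ∀ q ∈ Q, ∀ z ∈ L ⊓ F, q * z = z * q := fun q hq z hz =>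
    mem_centralizer_iff.1 (fc_le_centralizer_Q hF (mem_inf.1 hz).2) q hq
  -- `[B, Q]` centralises `F*`
  have hBQc : ∀ q ∈ Q, ∀ b ∈ B, q * b = b * q := by
    intro q hq b hb
    set c := q * b * q⁻¹ * b⁻¹ with hc
    have hcQ : c ∈ Q := by
      rw [hc, show q * b * q⁻¹ * b⁻¹ = q * (b * q⁻¹ * b⁻¹) by group]
      exact mul_mem hq ((mem_normalizer_iff.1 (hBQ hb) _).1 (inv_mem hq))
    have hcL : ∀ x ∈ L, ⁅x, c⁆ ∈ L ⊓ F := by
      intro x hx
      have hx' : q⁻¹ * x * q ∈ L := (mem_normalizer_iff''.1 (hLQ hq) x).1 hx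
      have h1 : ⁅x, q * b * q⁻¹⁆ = ⁅q⁻¹ * x * q, b⁆ := by
        calc ⁅x, q * b * q⁻¹⁆ = q * ⁅q⁻¹ * x * q, b⁆ * q⁻¹ := by
              rw [commutatorElement_def, commutatorElement_def]; group
          _ = ⁅q⁻¹ * x * q, b⁆ := by
              rw [hQZ q hq _ (hZ _ hx' b hb), mul_inv_cancel_right]
      have hw := hZ x hx b⁻¹ (inv_mem hb)
      have h2 : ⁅x, c⁆ = ⁅x, q * b * q⁻¹⁆ * ((q * b * q⁻¹) * ⁅x, b⁻¹⁆ * (q * b * q⁻¹)⁻¹) := by
        rw [hc, commutatorElement_def, commutatorElement_def, commutatorElement_def]; group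
      have h3 : (q * b * q⁻¹) * ⁅x, b⁻¹⁆ * (q * b * q⁻¹)⁻¹ = b * ⁅x, b⁻¹⁆ * b⁻¹ := by
        have hbw : b * ⁅x, b⁻¹⁆ * b⁻¹ ∈ L ⊓ F := mem_inf.2
          ⟨(mem_normalizer_iff.1 (hBL hb) _).1 (mem_inf.1 hw).1,
            (mem_normalizer_iff.1 (fc_normalizer_le_fixed hL hF (hBQ hb)) _).1 (mem_inf.1 hw).2⟩
        calc (q * b * q⁻¹) * ⁅x, b⁻¹⁆ * (q * b * q⁻¹)⁻¹
            = q * b * (q⁻¹ * ⁅x, b⁻¹⁆) * q * b⁻¹ * q⁻¹ := by group
          _ = q * (b * ⁅x, b⁻¹⁆ * b⁻¹) * q⁻¹ := by rw [hQZ _ (inv_mem hq) _ hw]; group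
          _ = b * ⁅x, b⁻¹⁆ * b⁻¹ := by rw [hQZ q hq _ hbw, mul_inv_cancel_right]
      rw [h2, h1, h3]
      refine mul_mem (hZ _ hx' b hb) (mem_inf.2
        ⟨(mem_normalizer_iff.1 (hBL hb) _).1 (mem_inf.1 hw).1,
          (mem_normalizer_iff.1 (fc_normalizer_le_fixed hL hF (hBQ hb)) _).1 (mem_inf.1 hw).2⟩)
    obtain ⟨a, ha⟩ := hQ ⟨c, hcQ⟩
    have hca : c ^ p ^ a = 1 := congrArg Subtype.val ha
    have hfix : ∀ x ∈ L, c * x = x * c := by
      intro x hx
      have hz := hcL x⁻¹ (inv_mem hx)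
      have h0 : c * x * c⁻¹ = x * ⁅x⁻¹, c⁆ := by rw [commutatorElement_def]; group
      have hz1 : ⁅x⁻¹, c⁆ = 1 := eq_one_of_stab (hQZ c hcQ _ hz) h0 hca
        ((fc_coprime_inf hO hL hF).coprime_dvd_left (Subgroup.orderOf_dvd_natCard _ hz))
      rw [hz1, mul_one] at h0
      exact mul_inv_eq_iff_eq_mul.1 h0
    have hcF : c ∈ centralizer (Cfsg.generalizedFittingSubgroup G : Set G) := by
      refine mem_centralizer_iff.2 fun u hu => ?_
      suffices h : Cfsg.generalizedFittingSubgroup G ≤ centralizer {c} from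
        mem_centralizer_singleton_iff.1 (h hu)
      rw [← (fc_split hO hQ hL).1]
      refine sup_le ?_ ?_ <;> intro v hv <;> rw [mem_centralizer_singleton_iff]
      · exact (hfix v hv).symm
      · exact (mem_centralizer_iff.1 (mem_inf.1 hv).2 c hcQ).symm
    have h1 : c = 1 := CfsgLib.Coprime.Large.eq_one_of_both hQ hcQ
      ((coprime_centralizer_fstar hO).coprime_dvd_left (Subgroup.orderOf_dvd_natCard _ hcF))
    have h2 : q * b * (b * q)⁻¹ = 1 := by rw [← h1, hc]; group
    exact mul_inv_eq_one.1 h2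
  rw [commutator_eq_bot_iff_le_centralizer, ← (fc_split hO hQ hL).2, commutator_le]
  intro y hy q hq
  refine mem_centralizer_iff.2 fun b hb => ?_
  set w := b * y * b⁻¹ * y⁻¹ with hw
  have hwZ : w ∈ L ⊓ F := by
    have := inv_mem (hZ y hy b hb)
    rwa [commutatorElement_def, show (y * b * y⁻¹ * b⁻¹)⁻¹ = w by rw [hw]; group] at this
  set y' := q * y * q⁻¹ with hy'
  have hy'L : y' ∈ L := (mem_normalizer_iff.1 (hLQ hq) _).1 hy
  have e2 : b * y' * b⁻¹ = w * y' := by
    calc b * y' * b⁻¹ = b * q * y * (b * q)⁻¹ := by rw [hy']; group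
      _ = q * b * y * (q * b)⁻¹ := by rw [hBQc q hq b hb]
      _ = q * w * (y * q⁻¹) := by rw [hw]; group
      _ = w * y' := by rw [hQZ q hq w hwZ, hy']; group
  have e3 : b * (y * y'⁻¹) * b⁻¹ = y * y'⁻¹ := by
    have hwc : w * (y * y'⁻¹) = y * y'⁻¹ * w :=
      (mem_centralizer_iff.1 (fc_le_centralizer_L hF (mem_inf.1 hwZ).2) _
        (mul_mem hy (inv_mem hy'L))).symm
    calc b * (y * y'⁻¹) * b⁻¹ = (b * y * b⁻¹) * (b * y' * b⁻¹)⁻¹ := by group
      _ = w * (y * y'⁻¹) * w⁻¹ := by rw [e2, hw]; group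
      _ = y * y'⁻¹ := by rw [hwc, mul_inv_cancel_right]
  rw [commutatorElement_def, show y * q * y⁻¹ * q⁻¹ = y * y'⁻¹ by rw [hy']; group]
  exact mul_inv_eq_iff_eq_mul.1 e3

include hO hQ hL hF in
theorem fc_coprime_centralizer :
    (Nat.card ↥(centralizer ((F ⊔ L : Subgroup G) : Set G))).Coprime p := by
  haveI := CfsgLib.Coprime.fitting_normal (G := G)
  haveI := CfsgLib.Coprime.layer_normal (G := G)
  haveI := CfsgLib.Coprime.generalizedFitting_normal (G := G)
  refine coprime_of_forall fun x hx a ha => ?_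
  have hxFL : F ⊔ L ≤ centralizer {x} := fun u hu =>
    mem_centralizer_singleton_iff.2 (mem_centralizer_iff.1 hx u hu)
  have hQn : Q ≤ normalizer (Cfsg.fittingSubgroup G : Set G) := by
    rw [normalizer_eq_top]; exact le_top
  -- components
  have hE : Cfsg.layer G ≤ centralizer {x} := by
    refine sSup_le fun K hK => ?_
    rcases CfsgLib.Coprime.component_le_or_commutator_eq_bot hK (fc_subnormal hL) with h | h
    · exact h.trans (le_sup_right.trans hxFL)
    refine le_trans ?_ (le_sup_left.trans hxFL)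
    have hKK := CfsgLib.Coprime.commutator_self_of_isComponent hK
    have hKF : K ≤ Cfsg.generalizedFittingSubgroup G :=
      (CfsgLib.Coprime.component_le_layer hK).trans le_sup_left
    refine fc_maximal hL hF hKF (sup_le (CfsgLib.Coprime.layer_le_normalizer_component hK) ?_) ?_
    · exact le_trans (CfsgLib.Coprime.fitting_le_centralizer_layer.trans
        (centralizer_le (SetLike.coe_subset_coe.2 (CfsgLib.Coprime.component_le_layer hK))))
        (Subgroup.centralizer_le_normalizer _)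
    · rw [le_centralizer_iff, ← commutator_eq_bot_iff_le_centralizer, ← hKK]
      have h2 : ⁅⁅K, Q⁆, K⁆ = ⊥ := by
        rw [eq_bot_iff, ← h, commutator_comm K L, hL]
        exact commutator_mono (commutator_mono hKF le_rfl) le_rfl
      exact commutator_commutator_eq_bot_of_rotate h2 (by rw [commutator_comm Q]; exact h2)
  -- the Fitting subgroup
  set N := Cfsg.fittingSubgroup G with hN
  set A := ⁅N, Q⁆ with hAdef
  have hAN : A ≤ N := commutator_le_left _ _
  have hAL : A ≤ L := by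
    rw [hL]; exact commutator_mono le_sup_right le_rfl
  set C₁ := N ⊓ centralizer (A : Set G) with hC₁
  have hcopN := coprime_fitting (G := G) (p := p) hO
  have hNA : N ≤ normalizer (A : Set G) := normalizer_commutator_ge_left N Q
  have hQA : Q ≤ normalizer (A : Set G) := by
    rw [hAdef, commutator_comm]; exact normalizer_commutator_ge_left Q N
  have hCn : normalizer (A : Set G) ≤ normalizer (C₁ : Set G) := by
    refine le_normalizer_iff.2 fun g hg u hu => ?_
    refine mem_inf.2 ⟨(inferInstance : N.Normal).conj_mem _ (mem_inf.1 hu).1 g, ?_⟩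
    refine mem_centralizer_iff.2 fun v hv => ?_
    have hv' : g⁻¹ * v * g ∈ A := (mem_normalizer_iff''.1 hg v).1 hv
    have e := mem_centralizer_iff.1 (mem_inf.1 hu).2 _ hv'
    calc v * (g * u * g⁻¹) = g * ((g⁻¹ * v * g) * u) * g⁻¹ := by group
      _ = g * (u * (g⁻¹ * v * g)) * g⁻¹ := by rw [e]
      _ = g * u * g⁻¹ * v := by group
  have hsol : Group.IsSolvable Q := by
    haveI := hQ.isNilpotent
    infer_instance
  have hCQF : C₁ ⊓ centralizer (Q : Set G) ≤ F := by
    intro c hc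
    obtain ⟨hc1, hcQ⟩ := mem_inf.1 hc
    rw [hF]
    refine mem_inf.2 ⟨CfsgLib.Coprime.fitting_le_generalizedFitting (mem_inf.1 hc1).1, ?_⟩
    suffices h : L ⊔ Q ≤ centralizer {c} from
      mem_centralizer_iff.2 fun u hu => mem_centralizer_singleton_iff.1 (h hu)
    refine sup_le (le_trans ?_ (sup_le ?_ ?_ : Cfsg.layer G ⊔ A ≤ centralizer {c})) ?_
    · rw [hL, commutator_le]
      intro g hg q hq
      obtain ⟨e, he, f, hf, rfl⟩ := CfsgLib.Coprime.exists_mul_of_mem_generalizedFitting hg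
      rw [show ⁅e * f, q⁆ = e * ⁅f, q⁆ * e⁻¹ * ⁅e, q⁆ by
        rw [commutatorElement_def, commutatorElement_def, commutatorElement_def]; group]
      exact mul_mem (mul_mem (mul_mem (mem_sup_left he)
        (mem_sup_right (commutator_mem_commutator hf hq))) (mem_sup_left (inv_mem he)))
        (mem_sup_left (commutator_le_left _ _ (commutator_mem_commutator he hq)))
    · intro u hu
      exact mem_centralizer_singleton_iff.2 (mem_centralizer_iff.1
        (CfsgLib.Coprime.fitting_le_centralizer_layer (mem_inf.1 hc1).1) u hu)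
    · intro u hu
      exact mem_centralizer_singleton_iff.2 (mem_centralizer_iff.1 (mem_inf.1 hc1).2 u hu)
    · intro u hu
      exact mem_centralizer_singleton_iff.2 (mem_centralizer_iff.1 hcQ u hu)
  have hC₁x : C₁ ≤ centralizer {x} := by
    rw [← CfsgLib.Coprime.commutator_sup_centralizer (hQA.trans hCn)
      (coprime_card_of_isPGroup hQ (hcopN.coprime_dvd_left (Subgroup.card_dvd_of_le inf_le_left)))
      (Or.inl hsol)]
    exact sup_le ((commutator_mono inf_le_left le_rfl).trans (hAL.trans (le_sup_right.trans hxFL)))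
      (hCQF.trans (le_sup_left.trans hxFL))
  set U := A ⊔ C₁ with hU
  have hUx : U ≤ centralizer {x} := sup_le (hAL.trans (le_sup_right.trans hxFL)) hC₁x
  have hNU : N ≤ normalizer (U : Set G) :=
    (le_inf hNA (hNA.trans hCn)).trans (Subgroup.normalizer_inf_normalizer_le_normalizer_sup A C₁)
  have hNx : N ≤ centralizer {x} := by
    intro n hn
    rw [mem_centralizer_singleton_iff]
    set z := n⁻¹ * (x * n * x⁻¹) with hz
    have hzN : z ∈ N := mul_mem (inv_mem hn) ((inferInstance : N.Normal).conj_mem _ hn x)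
    have hzU : z ∈ U := by
      refine le_sup_right (a := A) (mem_inf.2 ⟨hzN, mem_centralizer_iff.2 fun u hu => ?_⟩)
      have hu' : n * u * n⁻¹ ∈ U := (mem_normalizer_iff.1 (hNU hn) _).1 (mem_sup_left hu)
      have hx1 : n * u * n⁻¹ * x = x * (n * u * n⁻¹) := mem_centralizer_singleton_iff.1 (hUx hu')
      have hx2 : u * x = x * u := mem_centralizer_singleton_iff.1 (hUx (mem_sup_left hu))
      have e : x * n * x⁻¹ * u * (x * n⁻¹ * x⁻¹) = n * u * n⁻¹ := by
        calc x * n * x⁻¹ * u * (x * n⁻¹ * x⁻¹) = x * n * (x⁻¹ * (u * x)) * n⁻¹ * x⁻¹ := by group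
          _ = x * (n * u * n⁻¹) * x⁻¹ := by rw [hx2]; group
          _ = n * u * n⁻¹ := by rw [← hx1]; group
      have e2 : z * u * z⁻¹ = u := by
        calc z * u * z⁻¹ = n⁻¹ * (x * n * x⁻¹ * u * (x * n⁻¹ * x⁻¹)) * n := by rw [hz]; group
          _ = u := by rw [e]; group
      exact (mul_inv_eq_iff_eq_mul.1 e2).symm
    have hz1 : z = 1 := eq_one_of_stab
      ((mem_centralizer_singleton_iff.1 (hUx hzU)).symm) (show x * n * x⁻¹ = n * z by rw [hz]; group)
      ha (hcopN.coprime_dvd_left (Subgroup.orderOf_dvd_natCard _ hzN))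
    have h1 : x * n * x⁻¹ = n * z := by rw [hz]; group
    rw [hz1, mul_one] at h1
    exact (mul_inv_eq_iff_eq_mul.1 h1).symm
  have hxc : x ∈ centralizer (Cfsg.generalizedFittingSubgroup G : Set G) :=
    mem_centralizer_iff.2 fun u hu => mem_centralizer_singleton_iff.1 ((sup_le hE hNx) hu)
  exact orderOf_eq_one_iff.1 (Nat.eq_one_of_dvd_coprimes
    (((coprime_centralizer_fstar hO).coprime_dvd_left (Subgroup.orderOf_dvd_natCard _ hxc)).pow_right a)
    dvd_rfl (orderOf_dvd_of_pow_eq_one ha))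

end Fixed

end CfsgLib.LS
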