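import Cfsg.Agent.Lib.LocalStructure.WeaklyClosed
import Cfsg.Agent.Lib.Coprime.Action

/-!
# A noncentral chief factor of a group generated by `L = ⟨Y, Y^h⟩` and `P`
-/

set_option autoImplicit false
set_option linter.style.haveILetI false
set_option linter.unusedSectionVars false

namespace CfsgLib.LS

open Subgroup
open scoped commutatorElement
open CfsgLib.Coprime (conjBy conjBy_conjBy conjBy_one conjBy_eq_self_iff conjBy_eq_self_of_mem
  mem_conjBy conj_mem_conjBy conjBy_map)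

variable {G : Type*} [Group G]

/-- The elements stabilising `C ≤ V` and acting trivially modulo `C`. -/
def modKer (V C : Subgroup G) : Subgroup G where
  carrier := {g | g ∈ normalizer (C : Set G) ∧ g ∈ normalizer (V : Set G) ∧
    ∀ v ∈ V, g * v * g⁻¹ * v⁻¹ ∈ C}
  one_mem' := ⟨one_mem _, one_mem _, fun v _ => by simp⟩
  mul_mem' := fun {a b} ha hb => ⟨mul_mem ha.1 hb.1, mul_mem ha.2.1 hb.2.1, fun v hv => by
    have h := mul_mem (ha.2.2 _ ((mem_normalizer_iff.1 hb.2.1 v).1 hv)) (hb.2.2 v hv)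
    convert h using 1
    group⟩
  inv_mem' := fun {a} ha => ⟨inv_mem ha.1, inv_mem ha.2.1, fun v hv => by
    have h := inv_mem (ha.2.2 _ ((mem_normalizer_iff''.1 ha.2.1 v).1 hv))
    convert h using 1
    group⟩

theorem conj_mem_modKer {V C : Subgroup G} {z g : G} (hV : z ∈ normalizer (V : Set G))
    (hC : z ∈ normalizer (C : Set G)) (hg : g ∈ modKer V C) : z * g * z⁻¹ ∈ modKer V C := by
  refine ⟨mul_mem (mul_mem hC hg.1) (inv_mem hC), mul_mem (mul_mem hV hg.2.1) (inv_mem hV),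
    fun v hv => ?_⟩
  have h := (mem_normalizer_iff.1 hC _).1 (hg.2.2 _ ((mem_normalizer_iff''.1 hV v).1 hv))
  convert h using 1
  group

theorem eq_one_of_pow_coprime {p : ℕ} {g z : G} (hg : (orderOf g).Coprime p)
    (hzg : Commute g z) {x : G} (h : g * x * g⁻¹ = z * x) {k : ℕ} (hz : z ^ p ^ k = 1) : z = 1 := by
  have key : ∀ n : ℕ, g ^ n * x * (g ^ n)⁻¹ = z ^ n * x := by
    intro n
    induction n with
    | zero => simp
    | succ n ih =>
      calc g ^ (n + 1) * x * (g ^ (n + 1))⁻¹ = g * (g ^ n * x * (g ^ n)⁻¹) * g⁻¹ := by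
            rw [pow_succ', mul_inv_rev]; group
        _ = (g * z ^ n * g⁻¹) * (g * x * g⁻¹) := by rw [ih]; group
        _ = z ^ n * (z * x) := by rw [(hzg.pow_right n).eq, mul_inv_cancel_right, h]
        _ = z ^ (n + 1) * x := by rw [pow_succ]; group
  have h1 := key (orderOf g)
  rw [pow_orderOf_eq_one, one_mul, inv_one, mul_one] at h1
  exact orderOf_eq_one_iff.1 (Nat.eq_one_of_dvd_coprimes (hg.pow_right k)
    (orderOf_dvd_of_pow_eq_one (mul_eq_right.1 h1.symm)) (orderOf_dvd_of_pow_eq_one hz))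

/-- The data of a noncentral chief factor `V`. -/
structure FactorData (p : ℕ) (V P L Y : Subgroup G) (h : G) : Prop where
  vn : V.Normal
  vc : ∀ a ∈ V, ∀ b ∈ V, a * b = b * a
  vne : V ≠ ⊥
  vmin : ∀ Z : Subgroup G, Z.Normal → Z ≤ V → Z = ⊥ ∨ Z = V
  vfix : ∀ v ∈ V, (∀ g : G, g * v = v * g) → v = 1
  vp : IsPGroup p V
  pp : IsPGroup p P
  hYP : Y ≤ P
  cen : ⁅P, Y⁆ = ⊥
  vpy : ⁅⁅V, P⁆, Y⁆ = ⊥
  vyp : ⁅⁅V, Y⁆, P⁆ = ⊥
  gen : L ⊔ P = ⊤
  hh : h ∈ L
  lgen : L = Y ⊔ conjBy h Y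

namespace FactorData

variable [Finite G] {p : ℕ} [Fact p.Prime] {V P L Y : Subgroup G} {h : G}
variable (d : FactorData p V P L Y h)
include d

theorem conj_V (g : G) : conjBy g V = V :=
  conjBy_eq_self_iff.2 (by rw [normalizer_eq_top_iff.2 d.vn]; exact mem_top g)

theorem norm_V (K : Subgroup G) : K ≤ normalizer (V : Set G) := by
  rw [normalizer_eq_top_iff.2 d.vn]; exact le_top

theorem le_cen {Z : Subgroup G} (hZ : Z ≤ V) : V ≤ normalizer (Z : Set G) :=
  fun v hv => centralizer_le_normalizer _ (mem_centralizer_iff.2 fun z hz => d.vc z (hZ hz) v hv)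

theorem comm_le (K : Subgroup G) : ⁅V, K⁆ ≤ V := by
  haveI := d.vn
  exact commutator_le_left V K

theorem A_le_C : ⁅V, Y⁆ ≤ V ⊓ centralizer (Y : Set G) :=
  le_inf (d.comm_le Y) ((commutator_eq_bot_iff_le_centralizer.1 d.vyp).trans
    (centralizer_le (SetLike.coe_subset_coe.2 d.hYP)))

theorem VP_le_C : ⁅V, P⁆ ≤ V ⊓ centralizer (Y : Set G) :=
  le_inf (d.comm_le P) (commutator_eq_bot_iff_le_centralizer.1 d.vpy)

theorem conj_L : conjBy h L = L := conjBy_eq_self_of_mem d.hh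

theorem gen_h : L ⊔ conjBy h P = ⊤ := by
  have e := congrArg (conjBy h) d.gen
  rw [show conjBy h (L ⊔ P) = conjBy h L ⊔ conjBy h P from Subgroup.map_sup _ _ _, d.conj_L,
    show conjBy h (⊤ : Subgroup G) = ⊤ from
      Subgroup.map_top_of_surjective _ (MulAut.conj h).surjective] at e
  exact e

theorem le_centralizer_L {W : Subgroup G} (h1 : W ≤ centralizer (Y : Set G))
    (h2 : W ≤ centralizer (conjBy h Y : Set G)) : W ≤ centralizer (L : Set G) := by
  rw [le_centralizer_iff] at h1 h2 ⊢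
  exact d.lgen.le.trans (sup_le h1 h2)

theorem eq_bot_of_fixed {W K : Subgroup G} (hK : L ⊔ K = ⊤) (hW : W ≤ V)
    (hL : W ≤ centralizer (L : Set G)) (hKc : W ≤ centralizer (K : Set G)) : W = ⊥ := by
  refine (eq_bot_iff_forall _).2 fun w hw => d.vfix w (hW hw) fun g => ?_
  have htop : (⊤ : Subgroup G) ≤ centralizer (W : Set G) :=
    hK.ge.trans (sup_le (le_centralizer_iff.1 hL) (le_centralizer_iff.1 hKc))
  exact (mem_centralizer_iff.1 (htop (mem_top g)) w hw).symm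

theorem conj_C : conjBy h (V ⊓ centralizer (Y : Set G)) = V ⊓ centralizer (conjBy h Y : Set G) := by
  refine le_antisymm (le_inf ((map_mono inf_le_left).trans (d.conj_V h).le) ?_) ?_
  · rintro _ ⟨c, hc, rfl⟩
    refine mem_centralizer_iff.2 ?_
    rintro _ ⟨y, hy, rfl⟩
    show MulAut.conj h y * MulAut.conj h c = MulAut.conj h c * MulAut.conj h y
    rw [← map_mul, ← map_mul, mem_centralizer_iff.1 hc.2 y hy]
  · rintro v ⟨hvV, hvC⟩
    refine mem_conjBy.2 ⟨?_, mem_centralizer_iff.2 fun y hy => ?_⟩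
    · exact (mem_normalizer_iff''.1 (d.norm_V ⊤ (mem_top h)) v).1 hvV
    · have e := mem_centralizer_iff.1 hvC _ (conj_mem_conjBy (g := h) hy)
      calc y * (h⁻¹ * v * h) = h⁻¹ * ((h * y * h⁻¹) * v) * h := by group
        _ = h⁻¹ * (v * (h * y * h⁻¹)) * h := by rw [e]
        _ = h⁻¹ * v * h * y := by group

theorem conj_A : conjBy h ⁅V, Y⁆ = ⁅V, conjBy h Y⁆ := by
  show ⁅V, Y⁆.map _ = _
  rw [Subgroup.map_commutator]
  exact congrArg (fun Z => ⁅Z, conjBy h Y⁆) (d.conj_V h)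

theorem B_le : ⁅V, conjBy h Y⁆ ≤ V ⊓ centralizer (conjBy h Y : Set G) := by
  rw [← d.conj_A, ← d.conj_C]; exact map_mono d.A_le_C

theorem VPh_le : ⁅V, conjBy h P⁆ ≤ V ⊓ centralizer (conjBy h Y : Set G) := by
  have e : ⁅V, conjBy h P⁆ = conjBy h ⁅V, P⁆ := by
    show _ = ⁅V, P⁆.map _
    rw [Subgroup.map_commutator]
    exact congrArg (fun Z => ⁅Z, conjBy h P⁆) (d.conj_V h).symm
  rw [e, ← d.conj_C]; exact map_mono d.VP_le_C

theorem A_ne_bot : ⁅V, Y⁆ ≠ ⊥ := by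
  intro e
  have hVY : V ≤ centralizer (Y : Set G) := commutator_eq_bot_iff_le_centralizer.1 e
  have hVYh : V ≤ centralizer (conjBy h Y : Set G) := by
    refine commutator_eq_bot_iff_le_centralizer.1 ?_
    rw [← d.conj_A, e, conjBy, Subgroup.map_bot]
  exact exists_fixed_ne_one d.vp d.vne d.pp (d.norm_V P)
    (d.eq_bot_of_fixed d.gen inf_le_left (inf_le_left.trans (d.le_centralizer_L hVY hVYh))
      inf_le_right)

/-- `V = [V, Y] C_V(Y^h)`. -/
theorem A_sup_Ch : ⁅V, Y⁆ ⊔ (V ⊓ centralizer (conjBy h Y : Set G)) = V := by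
  set Z := ⁅V, Y⁆ ⊔ (V ⊓ centralizer (conjBy h Y : Set G)) with hZ
  have hZV : Z ≤ V := sup_le (d.comm_le Y) inf_le_left
  have h1 : Y ≤ normalizer (Z : Set G) :=
    le_normalizer_of_commutator_le ((commutator_mono hZV le_rfl).trans le_sup_left)
  have h2 : conjBy h Y ≤ normalizer (Z : Set G) :=
    le_normalizer_of_commutator_le ((commutator_mono hZV le_rfl).trans (d.B_le.trans le_sup_right))
  have h3 : conjBy h P ≤ normalizer (Z : Set G) :=
    le_normalizer_of_commutator_le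
      ((commutator_mono hZV le_rfl).trans (d.VPh_le.trans le_sup_right))
  have hn : Z.Normal := by
    rw [← normalizer_eq_top_iff, eq_top_iff, ← d.gen_h]
    exact sup_le (d.lgen.le.trans (sup_le h1 h2)) h3
  refine (d.vmin Z hn hZV).resolve_left fun e => d.A_ne_bot ?_
  exact le_bot_iff.1 (e ▸ (le_sup_left : ⁅V, Y⁆ ≤ Z))

theorem A_inf_Ch : ⁅V, Y⁆ ⊓ (V ⊓ centralizer (conjBy h Y : Set G)) = ⊥ := by
  refine d.eq_bot_of_fixed d.gen (inf_le_left.trans (d.comm_le Y)) ?_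
    (inf_le_left.trans (commutator_eq_bot_iff_le_centralizer.1 d.vyp))
  exact d.le_centralizer_L (inf_le_left.trans (d.A_le_C.trans inf_le_right))
    (inf_le_right.trans inf_le_right)

theorem mem_sup_V {Z W : Subgroup G} (hZ : Z ≤ V) (hW : W ≤ V) {v : G} (hv : v ∈ Z ⊔ W) :
    ∃ z ∈ Z, ∃ w ∈ W, z * w = v :=
  CfsgLib.Coprime.mem_sup_exists (hW.trans (d.le_cen hZ)) hv

theorem centralizer_L_le : V ⊓ centralizer (L : Set G) ≤
    (V ⊓ centralizer (Y : Set G)) ⊓ (V ⊓ centralizer (conjBy h Y : Set G)) :=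
  le_inf (inf_le_inf_left _ (centralizer_le (SetLike.coe_subset_coe.2
      (le_sup_left.trans d.lgen.ge))))
    (inf_le_inf_left _ (centralizer_le (SetLike.coe_subset_coe.2
      (le_sup_right.trans d.lgen.ge))))

/-- `C_V(Y) = [V, Y] C_V(L)`. -/
theorem C_eq : V ⊓ centralizer (Y : Set G) = ⁅V, Y⁆ ⊔ (V ⊓ centralizer (L : Set G)) := by
  refine le_antisymm (fun c hc => ?_)
    (sup_le d.A_le_C (d.centralizer_L_le.trans inf_le_left))
  obtain ⟨a, ha, c', hc', e⟩ := d.mem_sup_V (d.comm_le Y) inf_le_left (d.A_sup_Ch.ge hc.1)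
  have hcY : c' ∈ V ⊓ centralizer (Y : Set G) := by
    have := mul_mem (inv_mem (d.A_le_C ha)) hc
    rwa [← e, inv_mul_cancel_left] at this
  rw [← e]
  refine mul_mem (mem_sup_left ha) (mem_sup_right (mem_inf.2 ⟨hc'.1, ?_⟩))
  exact (d.le_centralizer_L (W := (V ⊓ centralizer (Y : Set G)) ⊓
    (V ⊓ centralizer (conjBy h Y : Set G))) (inf_le_left.trans inf_le_right)
    (inf_le_right.trans inf_le_right)) (mem_inf.2 ⟨hcY, hc'⟩)

/-- `C_V(Y) ∩ ([V, Y] [V, Y^h]) = [V, Y]`. -/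
theorem C_inf_D :
    (V ⊓ centralizer (Y : Set G)) ⊓ (⁅V, Y⁆ ⊔ ⁅V, conjBy h Y⁆) = ⁅V, Y⁆ := by
  refine le_antisymm (fun c hc => ?_) (le_inf d.A_le_C le_sup_left)
  obtain ⟨a, ha, b, hb, e⟩ := d.mem_sup_V (d.comm_le Y) (d.comm_le _) hc.2
  have hbC : b ∈ (V ⊓ centralizer (Y : Set G)) ⊓ ⁅V, conjBy h Y⁆ := by
    refine mem_inf.2 ⟨?_, hb⟩
    have := mul_mem (inv_mem (d.A_le_C ha)) hc.1
    rwa [← e, inv_mul_cancel_left] at this
  have hPh : ⁅V, conjBy h Y⁆ ≤ centralizer (conjBy h P : Set G) := by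
    rw [← commutator_eq_bot_iff_le_centralizer, ← d.conj_A]
    show ⁅(⁅V, Y⁆).map _, P.map _⁆ = ⊥
    rw [← Subgroup.map_commutator, d.vyp, Subgroup.map_bot]
  have hb1 : (V ⊓ centralizer (Y : Set G)) ⊓ ⁅V, conjBy h Y⁆ = ⊥ :=
    d.eq_bot_of_fixed d.gen_h (inf_le_left.trans inf_le_left)
      (d.le_centralizer_L (inf_le_left.trans inf_le_right)
        (inf_le_right.trans (d.B_le.trans inf_le_right)))
      (inf_le_right.trans hPh)
  rw [hb1, mem_bot] at hbC
  rw [← e, hbC, mul_one]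
  exact ha

theorem L_le_normalizer_D : L ≤ normalizer ((⁅V, Y⁆ ⊔ ⁅V, conjBy h Y⁆ : Subgroup G) : Set G) := by
  refine d.lgen.le.trans (sup_le ?_ ?_) <;> refine le_normalizer_of_commutator_le ?_ <;>
    refine (commutator_mono (sup_le (d.comm_le Y) (d.comm_le _)) le_rfl).trans ?_
  · exact le_sup_left
  · exact le_sup_right

/-- An element `x ∈ L` with `Y^x ≤ P` stabilises `[V, Y]` and `C_V(Y)`. -/
theorem conj_fixed {x : G} (hx : x ∈ L) (hxY : conjBy x Y ≤ P) :
    conjBy x ⁅V, Y⁆ = ⁅V, Y⁆ ∧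
      conjBy x (V ⊓ centralizer (Y : Set G)) = V ⊓ centralizer (Y : Set G) := by
  have hA : conjBy x ⁅V, Y⁆ = ⁅V, Y⁆ := by
    refine (eq_of_le_of_card_ge (fun a ha => ?_) (CfsgLib.Coprime.card_conjBy x _).le).symm
    have hD : x⁻¹ * a * x ∈ ⁅V, Y⁆ ⊔ ⁅V, conjBy h Y⁆ :=
      (mem_normalizer_iff''.1 (d.L_le_normalizer_D hx) a).1 (mem_sup_left ha)
    have hC : x⁻¹ * a * x ∈ V ⊓ centralizer (Y : Set G) := by
      refine mem_inf.2 ⟨(mem_normalizer_iff''.1 (d.norm_V L hx) a).1 (d.comm_le Y ha),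
        mem_centralizer_iff.2 fun y hy => ?_⟩
      have e := mem_centralizer_iff.1 (commutator_eq_bot_iff_le_centralizer.1 d.vyp ha)
        _ (hxY (conj_mem_conjBy (g := x) hy))
      calc y * (x⁻¹ * a * x) = x⁻¹ * ((x * y * x⁻¹) * a) * x := by group
        _ = x⁻¹ * (a * (x * y * x⁻¹)) * x := by rw [e]
        _ = x⁻¹ * a * x * y := by group
    exact mem_conjBy.2 (d.C_inf_D.le (mem_inf.2 ⟨hC, hD⟩))
  refine ⟨hA, ?_⟩
  rw [d.C_eq, conjBy, Subgroup.map_sup]
  refine congrArg₂ _ hA ?_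
  refine conjBy_eq_self_iff.2 (CfsgLib.Coprime.inf_le_normalizer (d.norm_V L) ?_ hx)
  exact le_normalizer.trans (CfsgLib.Coprime.normalizer_le_normalizer_centralizer L)

theorem P_norm_C : P ≤ normalizer ((V ⊓ centralizer (Y : Set G) : Subgroup G) : Set G) :=
  CfsgLib.Coprime.inf_le_normalizer (d.norm_V P)
    (((commutator_eq_bot_iff_le_centralizer.1 d.cen).trans (centralizer_le_normalizer _)).trans
      (CfsgLib.Coprime.normalizer_le_normalizer_centralizer Y))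

theorem P_cen_A : P ≤ centralizer ((⁅V, Y⁆ : Subgroup G) : Set G) :=
  le_centralizer_iff.1 (commutator_eq_bot_iff_le_centralizer.1 d.vyp)

theorem P_mod_C {u v : G} (hu : u ∈ P) (hv : v ∈ V) :
    u * v * u⁻¹ * v⁻¹ ∈ V ⊓ centralizer (Y : Set G) := by
  refine d.VP_le_C ?_
  rw [commutator_comm]
  exact commutator_mem_commutator hu hv

/-- Elements of order prime to `p` of `⟨P, P^x⟩` centralise the factor. -/
theorem commute_of_sup_conj {x : G} (hx : x ∈ L) (hxY : conjBy x Y ≤ P) {g : G}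
    (hg : g ∈ P ⊔ conjBy x P) (hco : (orderOf g).Coprime p) {v : G} (hv : v ∈ V) :
    g * v = v * g := by
  obtain ⟨hxA, hxC⟩ := d.conj_fixed hx hxY
  set A := ⁅V, Y⁆ with hAdef
  set C := V ⊓ centralizer (Y : Set G) with hCdef
  have hxAn : x ∈ normalizer (A : Set G) := conjBy_eq_self_iff.1 hxA
  have hxCn : x ∈ normalizer (C : Set G) := conjBy_eq_self_iff.1 hxC
  have hPA : P ≤ normalizer (A : Set G) := d.P_cen_A.trans (centralizer_le_normalizer _)
  have hPC := d.P_norm_C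
  have hnV : ∀ z : G, z ∈ normalizer (V : Set G) := fun z => d.norm_V ⊤ (mem_top z)
  let KV : Subgroup G := centralizer (A : Set G) ⊓ modKer C A ⊓ modKer V C
  have hPK : P ≤ normalizer (KV : Set G) := by
    have key : ∀ u ∈ P, ∀ z ∈ KV, u * z * u⁻¹ ∈ KV := fun u hu z hz =>
      mem_inf.2 ⟨mem_inf.2 ⟨mul_mem (mul_mem (d.P_cen_A hu) hz.1.1) (inv_mem (d.P_cen_A hu)),
        conj_mem_modKer (hPC hu) (hPA hu) hz.1.2⟩, conj_mem_modKer (hnV u) (hPC hu) hz.2⟩
    intro u hu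
    refine mem_normalizer_iff.2 fun z => ⟨key u hu z, fun hz => ?_⟩
    simpa [mul_assoc] using key u⁻¹ (inv_mem hu) _ hz
  have hKV : ∀ u ∈ P, x * u * x⁻¹ * u⁻¹ ∈ KV := by
    intro u hu
    have hkA : x * u * x⁻¹ * u⁻¹ ∈ centralizer (A : Set G) := by
      refine mul_mem ?_ (inv_mem (d.P_cen_A hu))
      refine mem_centralizer_iff.2 fun a ha => ?_
      have e := mem_centralizer_iff.1 (d.P_cen_A hu) _ ((mem_normalizer_iff''.1 hxAn a).1 ha)
      calc a * (x * u * x⁻¹) = x * ((x⁻¹ * a * x) * u) * x⁻¹ := by group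
        _ = x * (u * (x⁻¹ * a * x)) * x⁻¹ := by rw [e]
        _ = x * u * x⁻¹ * a := by group
    have hkC : x * u * x⁻¹ * u⁻¹ ∈ normalizer (C : Set G) :=
      mul_mem (mul_mem (mul_mem hxCn (hPC hu)) (inv_mem hxCn)) (inv_mem (hPC hu))
    refine mem_inf.2 ⟨mem_inf.2 ⟨hkA, mul_mem (mul_mem (mul_mem hxAn (hPA hu)) (inv_mem hxAn))
      (inv_mem (hPA hu)), hkC, fun c hc => ?_⟩, hkC, hnV _, fun w hw => ?_⟩
    · -- the action on `C / A`
      set w := u⁻¹ * c * u with hwdef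
      have hwC : w ∈ C := (mem_normalizer_iff''.1 (hPC hu) c).1 hc
      obtain ⟨a, ha, l, hl, e⟩ := d.mem_sup_V (d.comm_le Y) inf_le_left (d.C_eq.le hwC)
      obtain ⟨a', ha', l', hl', e'⟩ := d.mem_sup_V (d.comm_le Y) inf_le_left
        (d.C_eq.le ((mem_normalizer_iff.1 (hPC hu) l).1 ((d.C_eq.ge (mem_sup_right hl)))))
      have hxl : x * l = l * x := mem_centralizer_iff.1 hl.2 x hx
      have hxl' : x * l' = l' * x := mem_centralizer_iff.1 hl'.2 x hx
      have hua : ∀ b ∈ A, u * b * u⁻¹ = b := fun b hb => by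
        rw [← mem_centralizer_iff.1 (d.P_cen_A hu) b hb, mul_inv_cancel_right]
      have hb : x⁻¹ * a * x ∈ A := (mem_normalizer_iff''.1 hxAn a).1 ha
      have hc' : c = a * (u * l * u⁻¹) := by
        calc c = u * w * u⁻¹ := by rw [hwdef]; group
          _ = u * (a * l) * u⁻¹ := by rw [e]
          _ = (u * a * u⁻¹) * (u * l * u⁻¹) := by group
          _ = _ := by rw [hua a ha]
      have hk : x * u * x⁻¹ * u⁻¹ * c * (x * u * x⁻¹ * u⁻¹)⁻¹ = (a * (x * a' * x⁻¹)) * l' := by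
        calc x * u * x⁻¹ * u⁻¹ * c * (x * u * x⁻¹ * u⁻¹)⁻¹
            = x * (u * (x⁻¹ * w * x) * u⁻¹) * x⁻¹ := by rw [hwdef]; group
          _ = x * (u * ((x⁻¹ * a * x) * (x⁻¹ * (l * x))) * u⁻¹) * x⁻¹ := by rw [← e]; group
          _ = x * (u * ((x⁻¹ * a * x) * l) * u⁻¹) * x⁻¹ := by
              rw [← hxl, inv_mul_cancel_left]
          _ = x * ((u * (x⁻¹ * a * x) * u⁻¹) * (u * l * u⁻¹)) * x⁻¹ := by group
          _ = x * ((x⁻¹ * a * x) * (a' * l')) * x⁻¹ := by rw [hua _ hb, e']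
          _ = (a * (x * a' * x⁻¹)) * (x * l' * x⁻¹) := by group
          _ = _ := by rw [hxl', mul_inv_cancel_right]
      rw [hk, hc', ← e', mul_inv_rev, mul_inv_rev]
      have hA1 : a * (x * a' * x⁻¹) * a'⁻¹ * a⁻¹ ∈ A :=
        mul_mem (mul_mem (mul_mem ha ((mem_normalizer_iff.1 hxAn a').1 ha')) (inv_mem ha'))
          (inv_mem ha)
      convert hA1 using 1
      group
    · -- the action on `V / C`
      have hw' := d.P_mod_C hu
        ((mem_normalizer_iff''.1 (hnV x) _).1 ((mem_normalizer_iff''.1 (hnV u) w).1 hw))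
      have h1 := (mem_normalizer_iff.1 hxCn _).1 hw'
      have h2 := d.P_mod_C (inv_mem hu) hw
      rw [inv_inv] at h2
      have h3 := mul_mem h1 h2
      convert h3 using 1
      group
  have hR : P ⊔ conjBy x P ≤ KV ⊔ P := by
    refine sup_le le_sup_right ?_
    rintro _ ⟨u, hu, rfl⟩
    show x * u * x⁻¹ ∈ _
    rw [show x * u * x⁻¹ = (x * u * x⁻¹ * u⁻¹) * u by group]
    exact mul_mem (mem_sup_left (hKV u hu)) (mem_sup_right hu)
  obtain ⟨k, hk, u, hu, rfl⟩ := CfsgLib.Coprime.mem_sup_exists hPK (hR hg)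
  have key : ∀ n : ℕ, ∃ k' ∈ KV, (k * u) ^ n = k' * u ^ n := by
    intro n
    induction n with
    | zero => exact ⟨1, one_mem _, by simp⟩
    | succ n ih =>
      obtain ⟨k', hk', e⟩ := ih
      refine ⟨k' * (u ^ n * k * (u ^ n)⁻¹),
        mul_mem hk' ((mem_normalizer_iff.1 (hPK (pow_mem hu n)) k).1 hk), ?_⟩
      rw [pow_succ, e, pow_succ]
      group
  obtain ⟨e, he⟩ := d.pp ⟨u, hu⟩
  have hgK : k * u ∈ KV := by
    obtain ⟨k', hk', e'⟩ := key (p ^ e)
    rw [show u ^ p ^ e = 1 from congrArg Subtype.val he, mul_one] at e'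
    have h1 : k * u ∈ zpowers ((k * u) ^ p ^ e) :=
      mem_zpowers_pow_iff.2 (hco.symm.pow_left e)
    exact (zpowers_le.2 (e' ▸ hk')) h1
  generalize k * u = g at hgK hco ⊢
  obtain ⟨⟨hgA, -, -, hgC⟩, -, -, hgV⟩ := hgK
  have hpow : ∀ z ∈ V, ∃ n : ℕ, z ^ p ^ n = 1 := fun z hz =>
    (d.vp ⟨z, hz⟩).imp fun n hn => congrArg Subtype.val hn
  have hgCfix : ∀ c ∈ C, g * c = c * g := by
    intro c hc
    set z := g * c * g⁻¹ * c⁻¹ with hz
    have hzA : z ∈ A := hgC c hc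
    obtain ⟨n, hn⟩ := hpow z (d.comm_le Y hzA)
    have := eq_one_of_pow_coprime hco
      (show Commute g z from (mem_centralizer_iff.1 hgA z hzA).symm)
      (x := c) (by rw [hz, inv_mul_cancel_right]) hn
    rw [hz, mul_inv_eq_one, mul_inv_eq_iff_eq_mul] at this
    exact this
  set z := g * v * g⁻¹ * v⁻¹ with hz
  have hzC : z ∈ C := hgV v hv
  obtain ⟨n, hn⟩ := hpow z hzC.1
  have := eq_one_of_pow_coprime hco (show Commute g z from hgCfix z hzC)
    (x := v) (by rw [hz, inv_mul_cancel_right]) hn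
  rw [hz, mul_inv_eq_one, mul_inv_eq_iff_eq_mul] at this
  exact this

/-- An element of `L` centralising `[V, Y]` and `[V, Y^h]` centralises `V`. -/
theorem commute_of_fix {g : G} (hg : g ∈ L) (hA : g ∈ centralizer ((⁅V, Y⁆ : Subgroup G) : Set G))
    (hB : g ∈ centralizer ((⁅V, conjBy h Y⁆ : Subgroup G) : Set G)) : g ∈ centralizer (V : Set G) := by
  have hL : conjBy h (V ⊓ centralizer (L : Set G)) = V ⊓ centralizer (L : Set G) :=
    conjBy_eq_self_iff.2 (CfsgLib.Coprime.inf_le_normalizer (d.norm_V L)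
      (le_normalizer.trans (CfsgLib.Coprime.normalizer_le_normalizer_centralizer L)) d.hh)
  have hle : V ≤ centralizer (zpowers g : Set G) := by
    rw [← d.A_sup_Ch, ← d.conj_C, d.C_eq, conjBy, Subgroup.map_sup]
    refine sup_le (le_centralizer_iff.1 (zpowers_le.2 hA)) (sup_le ?_ ?_)
    · change conjBy h ⁅V, Y⁆ ≤ _
      rw [d.conj_A]
      exact le_centralizer_iff.1 (zpowers_le.2 hB)
    · change conjBy h (V ⊓ centralizer (L : Set G)) ≤ _
      rw [hL]
      exact inf_le_right.trans (centralizer_le (SetLike.coe_subset_coe.2 (zpowers_le.2 hg)))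
  exact le_centralizer_iff.1 hle (mem_zpowers g)

/-- An element of `Y` normalising `Y^h` centralises `V`. -/
theorem commute_of_mem_Y {y : G} (hy : y ∈ Y) (hyN : y ∈ normalizer (conjBy h Y : Set G)) :
    y ∈ centralizer (V : Set G) := by
  refine mem_centralizer_iff.2 fun v hv => ?_
  obtain ⟨a, ha, c, hc, rfl⟩ := d.mem_sup_V (d.comm_le Y) inf_le_left (d.A_sup_Ch.ge hv)
  have hn : y ∈ normalizer ((V ⊓ centralizer (conjBy h Y : Set G) : Subgroup G) : Set G) :=
    CfsgLib.Coprime.inf_le_normalizer (A := zpowers y) (d.norm_V _)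
      ((zpowers_le.2 hyN).trans (CfsgLib.Coprime.normalizer_le_normalizer_centralizer _))
      (mem_zpowers y)
  have h1 : c * (y * c⁻¹ * y⁻¹) ∈ ⁅V, Y⁆ := by
    have := commutator_mem_commutator (H₁ := V) (H₂ := Y) hc.1 hy
    rw [commutatorElement_def] at this
    convert this using 1
    group
  have h2 : c * (y * c⁻¹ * y⁻¹) ∈ V ⊓ centralizer (conjBy h Y : Set G) :=
    mul_mem hc ((mem_normalizer_iff.1 hn _).1 (inv_mem hc))
  have h3 : c * (y * c⁻¹ * y⁻¹) = 1 := mem_bot.1 (d.A_inf_Ch ▸ mem_inf.2 ⟨h1, h2⟩)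
  have hcy : c * y = y * c := by
    calc c * y = (c * (y * c⁻¹ * y⁻¹)) * (y * c) := by group
      _ = _ := by rw [h3, one_mul]
  have hay : y * a = a * y := mem_centralizer_iff.1 (d.A_le_C ha).2 y hy
  rw [mul_assoc, hcy, ← mul_assoc, ← hay, mul_assoc]

/-- `L` is not generated by `Y` and a subgroup centralising `V`. -/
theorem not_le_sup {R : Subgroup G} (hR : R ≤ centralizer (V : Set G)) : ¬ L ≤ R ⊔ Y := by
  intro hle
  have hL : L ≤ centralizer ((V ⊓ centralizer (Y : Set G) : Subgroup G) : Set G) :=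
    hle.trans (sup_le (hR.trans (centralizer_le (SetLike.coe_subset_coe.2 inf_le_left)))
      (le_centralizer_iff.1 inf_le_right))
  exact d.A_ne_bot (d.eq_bot_of_fixed d.gen (d.comm_le Y)
    (d.A_le_C.trans (le_centralizer_iff.1 hL)) (commutator_eq_bot_iff_le_centralizer.1 d.vyp))

end FactorData

end CfsgLib.LS
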