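import Cfsg.Agent.Lib.LocalStructure.FrakLFactor
import Cfsg.Agent.Lib.LocalStructure.AsymmetricOvergroups
import Cfsg.Agent.Lib.Invol.NormalCore

/-!
# The minimal subgroups `L` of a member of `ℌ`
-/

set_option autoImplicit false
set_option linter.style.haveILetI false
set_option linter.unusedSectionVars false

namespace CfsgLib.LS

open Subgroup
open scoped commutatorElement
open CfsgLib.Coprime (conjBy conjBy_conjBy conjBy_one conjBy_eq_self_iff conjBy_eq_self_of_mem
  mem_conjBy conj_mem_conjBy conjBy_map)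

variable {G : Type*} [Group G] [Finite G] {p : ℕ} [Fact p.Prime]

theorem commutator_le_of_le_normalizer {A B : Subgroup G} (h : A ≤ normalizer (B : Set G)) :
    ⁅A, B⁆ ≤ B :=
  commutator_le.2 fun a ha b hb =>
    mul_mem ((mem_normalizer_iff.1 (h ha) b).1 hb) (inv_mem hb)

/-- The data of `L` inside a member of `ℌ`. -/
structure LData (p : ℕ) (O P L Y : Subgroup G) (h : G) : Prop where
  on : O.Normal
  op : IsPGroup p O
  charp : centralizer (O : Set G) ≤ O
  pp : IsPGroup p P
  hYP : Y ≤ P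
  cen : ⁅P, Y⁆ = ⊥
  oP : O ≤ normalizer (P : Set G)
  oY : O ≤ normalizer (Y : Set G)
  gen : L ⊔ P = ⊤
  hh : h ∈ L
  lgen : L = Y ⊔ conjBy h Y

/-- A noncentral chief factor below `O`. -/
structure IsFac (O V W : Subgroup G) : Prop where
  vn : V.Normal
  wn : W.Normal
  le : V ≤ O
  lt : W < V
  chief : ∀ Z : Subgroup G, Z.Normal → W ≤ Z → Z ≤ V → Z = W ∨ Z = V
  noncentral : ¬ ⁅V, (⊤ : Subgroup G)⁆ ≤ W

theorem commute_of_fac_aux {O : Subgroup G} (hop : IsPGroup p O) {g : G}
    (hg : (orderOf g).Coprime p)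
    (hfac : ∀ V W : Subgroup G, IsFac O V W → ∀ v ∈ V, g * v * g⁻¹ * v⁻¹ ∈ W) :
    ∀ (n : ℕ) (V : Subgroup G), Nat.card V ≤ n → V.Normal → V ≤ O → ∀ v ∈ V, g * v = v * g := by
  intro n
  induction n using Nat.strongRecOn with
  | ind n ih =>
    intro V hn hV hVO v hv
    by_cases hV1 : V = ⊥
    · rw [hV1, mem_bot] at hv
      rw [hv, mul_one, one_mul]
    obtain ⟨W, ⟨hW, hWV⟩, hmax⟩ := Set.Finite.exists_maximal
      (Set.toFinite {W : Subgroup G | W.Normal ∧ W < V}) ⟨⊥, inferInstance, bot_lt_iff_ne_bot.2 hV1⟩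
    have hlt : Nat.card W < Nat.card V :=
      lt_of_le_of_ne (card_le_of_le hWV.le) fun e => hWV.ne (eq_of_le_of_card_ge hWV.le e.ge)
    have hgW : ∀ w ∈ W, g * w = w * g :=
      ih (Nat.card W) (lt_of_lt_of_le hlt hn) W le_rfl hW (hWV.le.trans hVO)
    set z := g * v * g⁻¹ * v⁻¹ with hz
    have hzW : z ∈ W := by
      by_cases hc : ⁅V, (⊤ : Subgroup G)⁆ ≤ W
      · rw [commutator_comm] at hc
        exact hc (commutator_mem_commutator (mem_top g) hv)
      · refine hfac V W ⟨hV, hW, hVO, hWV, fun Z hZ hWZ hZV => ?_, hc⟩ v hv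
        rcases eq_or_lt_of_le hZV with e | e
        · exact Or.inr e
        · exact Or.inl (le_antisymm (hmax ⟨hZ, e⟩ hWZ) hWZ)
    obtain ⟨k, hk⟩ := hop ⟨z, hVO (hWV.le hzW)⟩
    have h1 := eq_one_of_pow_coprime hg (hgW z hzW) (x := v) (by rw [hz, inv_mul_cancel_right])
      (congrArg Subtype.val hk)
    rw [hz, mul_inv_eq_one, mul_inv_eq_iff_eq_mul] at h1
    exact h1

namespace LData

variable {O P L Y : Subgroup G} {h : G} (d : LData p O P L Y h)
include d

theorem comm_eq_bot_map {V W : Subgroup G} [W.Normal] (hVO : V ≤ O) {A B : Subgroup G}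
    (hA : ⁅O, A⁆ ≤ B) {C : Subgroup G} (hB : ⁅B, C⁆ = ⊥) :
    ⁅⁅V.map (QuotientGroup.mk' W), A.map (QuotientGroup.mk' W)⁆,
      C.map (QuotientGroup.mk' W)⁆ = ⊥ := by
  rw [← Subgroup.map_commutator, ← Subgroup.map_commutator,
    le_bot_iff.1 (((commutator_mono ((commutator_mono hVO le_rfl).trans hA) le_rfl).trans hB.le)),
    Subgroup.map_bot]

theorem factorData {V W : Subgroup G} [W.Normal] (f : IsFac O V W) :
    FactorData p (V.map (QuotientGroup.mk' W)) (P.map (QuotientGroup.mk' W))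
      (L.map (QuotientGroup.mk' W)) (Y.map (QuotientGroup.mk' W)) (QuotientGroup.mk' W h) := by
  set q := QuotientGroup.mk' W with hq
  have hs : Function.Surjective q := QuotientGroup.mk'_surjective W
  have hVn : (V.map q).Normal := f.vn.map q hs
  haveI := hVn
  have hne : V.map q ≠ ⊥ := fun e => f.lt.not_ge (by
    rwa [Subgroup.map_eq_bot_iff, QuotientGroup.ker_mk'] at e)
  have hmin : ∀ Z : Subgroup (G ⧸ W), Z.Normal → Z ≤ V.map q → Z = ⊥ ∨ Z = V.map q := by
    intro Z hZ hZV
    have hle : Z.comap q ≤ V := by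
      refine (comap_mono hZV).trans ?_
      rw [comap_map_eq, QuotientGroup.ker_mk', sup_eq_left.2 f.lt.le]
    rcases f.chief (Z.comap q) (hZ.comap q)
      ((QuotientGroup.ker_mk' W).ge.trans (ker_le_comap q Z)) hle with e | e
    · left
      rw [← map_comap_eq_self_of_surjective hs Z, e, QuotientGroup.map_mk'_self]
    · right
      rw [← map_comap_eq_self_of_surjective hs Z, e]
  have hnc : ¬ V.map q ≤ center (G ⧸ W) := fun hc => f.noncentral (by
    rw [commutator_le]
    intro v hv g _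
    rw [← QuotientGroup.eq_one_iff, ← QuotientGroup.mk'_apply, map_commutatorElement,
      commutatorElement_eq_one_iff_mul_comm]
    exact (mem_center_iff.1 (hc (mem_map_of_mem q hv)) _).symm)
  have hVp : IsPGroup p (V.map q) := (d.op.to_le f.le).map q
  refine ⟨hVn, ?_, hne, hmin, fun v hv hc => ?_, hVp, d.pp.map q, map_mono d.hYP, ?_,
    d.comm_eq_bot_map f.le (commutator_le_of_le_normalizer d.oP) d.cen,
    d.comm_eq_bot_map f.le (commutator_le_of_le_normalizer d.oY)
      (by rw [commutator_comm]; exact d.cen), ?_, mem_map_of_mem q d.hh, ?_⟩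
  · haveI : Group.IsSolvable (V.map q) := by
      haveI := hVp.isNilpotent
      infer_instance
    have hlt : ⁅V.map q, V.map q⁆ < V.map q := by
      have h0 : (⊤ : Subgroup (V.map q)) ≠ ⊥ := by
        intro e
        exact hne (by rw [← range_subtype (V.map q), MonoidHom.range_eq_map, e, Subgroup.map_bot])
      have h1 := map_lt_map_iff_of_injective (V.map q).subtype_injective |>.2
        (Group.IsSolvable.commutator_lt_of_ne_bot h0)
      rwa [Subgroup.map_commutator, ← MonoidHom.range_eq_map, range_subtype] at h1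
    have hbot := (hmin _ inferInstance hlt.le).resolve_right hlt.ne
    intro a ha b hb
    exact commutatorElement_eq_one_iff_mul_comm.1
      ((mem_bot.1 (hbot ▸ commutator_mem_commutator ha hb)))
  · have h1 := (hmin (V.map q ⊓ center (G ⧸ W)) inferInstance inf_le_left).resolve_right
      fun e => hnc (e.ge.trans inf_le_right)
    exact mem_bot.1 (h1 ▸ mem_inf.2 ⟨hv, mem_center_iff.2 hc⟩)
  · rw [← Subgroup.map_commutator, d.cen, Subgroup.map_bot]
  · rw [← Subgroup.map_sup, d.gen, map_top_of_surjective q hs]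
  · conv_lhs => rw [d.lgen, Subgroup.map_sup, conjBy_map]

theorem mem_of_commute_fac {g : G} (hg : (orderOf g).Coprime p)
    (hfac : ∀ V W : Subgroup G, IsFac O V W → ∀ v ∈ V, g * v * g⁻¹ * v⁻¹ ∈ W) : g = 1 := by
  have hgO : g ∈ O := d.charp (mem_centralizer_iff.2 fun v hv =>
    (commute_of_fac_aux d.op hg hfac (Nat.card O) O le_rfl d.on le_rfl v hv).symm)
  obtain ⟨k, hk⟩ := d.op ⟨g, hgO⟩
  exact orderOf_eq_one_iff.1 (Nat.eq_one_of_dvd_coprimes (hg.symm.pow_left k)
    (orderOf_dvd_of_pow_eq_one (congrArg Subtype.val hk)) dvd_rfl)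

theorem isPGroup_sup_conj {x : G} (hx : x ∈ L) (hxY : conjBy x Y ≤ P) :
    IsPGroup p (P ⊔ conjBy x P : Subgroup G) := by
  refine isPGroup_of_coprime_trivial fun g hg hco => d.mem_of_commute_fac hco fun V W f v hv => ?_
  haveI := f.wn
  set q := QuotientGroup.mk' W with hq
  have h1 := (d.factorData f).commute_of_sup_conj (mem_map_of_mem q hx)
    (by rw [← conjBy_map]; exact map_mono hxY) (g := q g)
    (by rw [← conjBy_map, ← Subgroup.map_sup]; exact mem_map_of_mem q hg)
    (hco.coprime_dvd_left (orderOf_map_dvd q g)) (mem_map_of_mem q hv)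
  rw [← QuotientGroup.eq_one_iff, ← QuotientGroup.mk'_apply, map_mul, map_mul, map_mul, map_inv,
    map_inv, h1, mul_inv_cancel_right, mul_inv_cancel]

theorem eq_one_of_fix {g : G} (hg : g ∈ L) (hco : (orderOf g).Coprime p)
    (hA : ∀ z ∈ ⁅O, Y⁆, g * z = z * g) (hB : ∀ z ∈ ⁅O, conjBy h Y⁆, g * z = z * g) : g = 1 := by
  refine d.mem_of_commute_fac hco fun V W f v hv => ?_
  haveI := f.wn
  set q := QuotientGroup.mk' W with hq
  have key : ∀ Z : Subgroup G, (∀ z ∈ ⁅O, Z⁆, g * z = z * g) →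
      q g ∈ centralizer ((⁅V.map q, Z.map q⁆ : Subgroup (G ⧸ W)) : Set (G ⧸ W)) := by
    intro Z hZ
    rw [← Subgroup.map_commutator]
    refine mem_centralizer_iff.2 ?_
    rintro _ ⟨z, hz, rfl⟩
    rw [← map_mul, ← map_mul, hZ z (commutator_mono f.le le_rfl hz)]
  have h1 := mem_centralizer_iff.1 ((d.factorData f).commute_of_fix (mem_map_of_mem q hg)
    (key Y hA) (by rw [← conjBy_map]; exact key _ hB)) (q v) (mem_map_of_mem q hv)
  rw [← QuotientGroup.eq_one_iff, ← QuotientGroup.mk'_apply, map_mul, map_mul, map_mul, map_inv,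
    map_inv, ← h1, mul_inv_cancel_right, mul_inv_cancel]

theorem mem_pCore_of_normalizes {y : G} (hy : y ∈ Y)
    (hyN : y ∈ normalizer (conjBy h Y : Set G)) : y ∈ Cfsg.pCore p G := by
  let K : Subgroup G := ⨅ f : {f : Subgroup G × Subgroup G // IsFac O f.1 f.2},
    letI := f.2.wn
    (centralizer ((f.1.1.map (QuotientGroup.mk' f.1.2) : Subgroup (G ⧸ f.1.2)) :
      Set (G ⧸ f.1.2))).comap (QuotientGroup.mk' f.1.2)
  haveI : K.Normal := normal_iInf_normal fun f => by
    letI := f.2.wn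
    haveI : (f.1.1.map (QuotientGroup.mk' f.1.2)).Normal :=
      f.2.vn.map _ (QuotientGroup.mk'_surjective _)
    exact (Subgroup.normal_centralizer).comap _
  have hKp : IsPGroup p K := isPGroup_of_coprime_trivial fun g hg hco =>
    d.mem_of_commute_fac hco fun V W f v hv => by
      haveI := f.wn
      set q := QuotientGroup.mk' W with hq
      have h1 := mem_centralizer_iff.1 (show q g ∈ _ from mem_iInf.1 hg ⟨(V, W), f⟩) (q v)
        (mem_map_of_mem q hv)
      rw [← QuotientGroup.eq_one_iff, ← QuotientGroup.mk'_apply, map_mul, map_mul, map_mul,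
        map_inv, map_inv, ← h1, mul_inv_cancel_right, mul_inv_cancel]
  refine CfsgLib.Coprime.le_pCore hKp (mem_iInf.2 fun ⟨⟨V, W⟩, f⟩ => ?_)
  haveI := f.wn
  set q := QuotientGroup.mk' W with hq
  show q y ∈ centralizer ((V.map q : Subgroup (G ⧸ W)) : Set (G ⧸ W))
  exact (d.factorData f).commute_of_mem_Y (mem_map_of_mem q hy) (by
    rw [← conjBy_map]
    exact le_normalizer_map q ⟨y, hyN, rfl⟩)

theorem false_of_fac {V W R : Subgroup G} (f : IsFac O V W) (hR : ⁅V, R⁆ ≤ W) (hL : L ≤ R ⊔ Y) :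
    False := by
  haveI := f.wn
  set q := QuotientGroup.mk' W with hq
  refine (d.factorData f).not_le_sup (R := R.map q) ?_ ?_
  · rw [le_centralizer_iff, ← commutator_eq_bot_iff_le_centralizer, ← Subgroup.map_commutator,
      Subgroup.map_eq_bot_iff, QuotientGroup.ker_mk']
    exact hR
  · rw [← Subgroup.map_sup]; exact map_mono hL

end LData

end CfsgLib.LS
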