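import Cfsg.Agent.Lib.LocalStructure.FrakLLemma
import Cfsg.Agent.Lib.PGroup.Isolated

/-!
# The minimal subgroups `L` of a member of `ℌ`, in the ambient group
-/

set_option autoImplicit false
set_option linter.style.haveILetI false
set_option linter.unusedSectionVars false

namespace CfsgLib.LS

open Subgroup
open scoped commutatorElement
open CfsgLib.Coprime (conjBy conjBy_conjBy conjBy_one conjBy_eq_self_iff conjBy_eq_self_of_mem
  mem_conjBy conj_mem_conjBy)

variable {G : Type*} [Group G]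

theorem conjBy_subgroupOf {H A : Subgroup G} (x : H) :
    conjBy x (A.subgroupOf H) = (conjBy (x : G) A).subgroupOf H := by
  ext y
  rw [mem_conjBy, mem_subgroupOf, mem_subgroupOf, mem_conjBy]
  rfl

theorem subgroupOf_le_normalizer {H K A : Subgroup G} (h : K ≤ normalizer (A : Set G)) :
    K.subgroupOf H ≤ normalizer ((A.subgroupOf H : Subgroup H) : Set H) := fun x hx =>
  mem_normalizer_iff.2 fun y => by
    simp only [mem_subgroupOf, coe_mul, coe_inv]
    exact mem_normalizer_iff.1 (h (mem_subgroupOf.1 hx)) y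

theorem commutator_subgroupOf_map {H A B : Subgroup G} (hA : A ≤ H) (hB : B ≤ H) :
    (⁅A.subgroupOf H, B.subgroupOf H⁆).map H.subtype = ⁅A, B⁆ := by
  rw [Subgroup.map_commutator, map_subgroupOf_eq_of_le hA, map_subgroupOf_eq_of_le hB]

variable [Finite G] {p : ℕ} [Fact p.Prime]

/-- A minimal subgroup `L` of `H ∈ ℌ` with `Y_M ≰ O_p(L)`. -/
structure LSetup (p : ℕ) (M H L : Subgroup G) : Prop where
  par : Cfsg.IsOfParabolicCharacteristic p G
  sylow : ∃ S : Sylow p G, (S : Subgroup G) ≤ M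
  frakM : Cfsg.IsInFrakM p M
  asym : ¬ Cfsg.IsSymmetricIn (Cfsg.largestPReducedOf p M)
  frakH : Cfsg.IsInFrakH p M H
  le : L ≤ H
  yl : Cfsg.largestPReducedOf p M ≤ L
  yo : ¬ Cfsg.largestPReducedOf p M ≤ Cfsg.pCoreOf p L
  min : ∀ L' : Subgroup G, L' ≤ L → Cfsg.largestPReducedOf p M ≤ L' →
    ¬ Cfsg.largestPReducedOf p M ≤ Cfsg.pCoreOf p L' → L' = L

namespace LSetup

variable {M H L : Subgroup G} (d : LSetup p M H L)
include d

theorem y_le_core : Cfsg.largestPReducedOf p M ≤ Cfsg.pCoreOf p M := by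
  obtain ⟨S, hS⟩ := d.sylow
  exact fm_largest_le_core S hS d.frakM

theorem centralizer_le :
    centralizer ((Cfsg.largestPReducedOf p M : Subgroup G) : Set G) ≤
      normalizer ((Cfsg.largestPReducedOf p M : Subgroup G) : Set G) :=
  centralizer_le_normalizer _

theorem conj_y {c : G}
    (hc : c ∈ centralizer ((Cfsg.largestPReducedOf p M : Subgroup G) : Set G)) :
    conjBy c (Cfsg.largestPReducedOf p M) = Cfsg.largestPReducedOf p M :=
  conjBy_eq_self_iff.2 (centralizer_le_normalizer _ hc)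

theorem core_le_centralizer_conj {c : G}
    (hc : c ∈ centralizer ((Cfsg.largestPReducedOf p M : Subgroup G) : Set G)) :
    conjBy c (Cfsg.pCoreOf p M) ≤
      centralizer ((Cfsg.largestPReducedOf p M : Subgroup G) : Set G) :=
  conjBy_le_of_mem_normalizer (le_normalizer hc) (pCoreOf_le_centralizer_largest M)

/-- `H = ⟨L, P^c⟩` for `c ∈ H` centralising `Y`. -/
theorem sup_core {c : G} (hcH : c ∈ H)
    (hcC : c ∈ centralizer ((Cfsg.largestPReducedOf p M : Subgroup G) : Set G)) :
    L ⊔ conjBy c (Cfsg.pCoreOf p M) = H := by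
  set X := L ⊔ conjBy c (Cfsg.pCoreOf p M) with hX
  have hXH : X ≤ H := sup_le d.le (conjBy_le_of_mem_normalizer (le_normalizer hcH) d.frakH.2.1)
  by_contra hne
  have hlt : conjBy c⁻¹ X < H := by
    refine lt_of_le_of_ne (conjBy_le_of_mem_normalizer (le_normalizer (inv_mem hcH)) hXH) fun e => ?_
    apply hne
    have := congrArg (conjBy c) e
    rwa [conjBy_conjBy, mul_inv_cancel, conjBy_one,
      conjBy_eq_self_of_mem hcH] at this
  have hY := d.frakH.2.2.2 _ (le_conjBy_iff.2 (by rw [inv_inv]; exact le_sup_right)) hlt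
  rw [pCoreOf_conjBy, le_conjBy_iff, inv_inv, d.conj_y hcC] at hY
  refine d.yo ((le_inf d.yl hY).trans (le_pCoreOf ((pCoreOf_isPGroup X).to_le inf_le_right)
    inf_le_left (CfsgLib.Coprime.inf_le_normalizer le_normalizer
      ((le_sup_left : L ≤ X).trans (le_normalizer.trans (normalizer_le_normalizer_pCoreOf X))))))

theorem sup_core' : L ⊔ Cfsg.pCoreOf p M = H := by
  have := d.sup_core (one_mem H) (one_mem _)
  rwa [conjBy_one] at this

/-- `L` is generated by two conjugates of `Y`. -/
theorem exists_gen : ∃ g ∈ L, L = Cfsg.largestPReducedOf p M ⊔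
    conjBy g (Cfsg.largestPReducedOf p M) := by
  set Y := Cfsg.largestPReducedOf p M with hYdef
  by_contra hno
  push Not at hno
  obtain ⟨N, hN, hNp, hYN⟩ := CfsgLib.Invol.exists_normal_pGroup_le (p := p) (Y.subgroupOf L)
    fun g => by
      change IsPGroup p ↥(Y.subgroupOf L ⊔ conjBy g (Y.subgroupOf L))
      set L' := Y ⊔ conjBy (g : G) Y with hL'
      have hgY : conjBy (g : G) Y ≤ L := conjBy_le_of_mem_normalizer (le_normalizer g.2) d.yl
      have hL'L : L' ≤ L := sup_le d.yl hgY
      have hne : L' ≠ L := fun e => hno g g.2 e.symm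
      have h1 : Y ≤ Cfsg.pCoreOf p L' := by
        by_contra h; exact hne (d.min L' hL'L le_sup_left h)
      have hYg : Y ≤ conjBy (g : G)⁻¹ L' := by
        rw [le_conjBy_iff, inv_inv]; exact le_sup_right
      have h2 : Y ≤ Cfsg.pCoreOf p (conjBy (g : G)⁻¹ L') := by
        by_contra h
        refine hne ?_
        have e := congrArg (conjBy (g : G))
          (d.min _ (conjBy_le_of_mem_normalizer (le_normalizer (inv_mem g.2)) hL'L) hYg h)
        rwa [conjBy_conjBy, mul_inv_cancel, conjBy_one, conjBy_eq_self_of_mem g.2] at e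
      rw [pCoreOf_conjBy, le_conjBy_iff, inv_inv] at h2
      have hp : IsPGroup p L' := (pCoreOf_isPGroup L').to_le (sup_le h1 h2)
      rw [conjBy_subgroupOf, ← subgroupOf_sup d.yl hgY]
      exact hp.of_equiv (subgroupOfEquivOfLe hL'L).symm
  haveI := hN
  refine d.yo ((map_subgroupOf_eq_of_le d.yl).ge.trans (map_mono (hYN.trans ?_)))
  exact CfsgLib.Coprime.le_pCore hNp

/-- The data of `L` inside `H`. -/
theorem lData {c : G} (hcH : c ∈ H)
    (hcC : c ∈ centralizer ((Cfsg.largestPReducedOf p M : Subgroup G) : Set G)) {h : G} (hh : h ∈ L)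
    (hgen : L = Cfsg.largestPReducedOf p M ⊔ conjBy h (Cfsg.largestPReducedOf p M)) :
    LData p (Cfsg.pCore p H) ((conjBy c (Cfsg.pCoreOf p M)).subgroupOf H) (L.subgroupOf H)
      ((Cfsg.largestPReducedOf p M).subgroupOf H) ⟨h, d.le hh⟩ := by
  obtain ⟨S, hS⟩ := d.sylow
  set Y := Cfsg.largestPReducedOf p M with hYdef
  set P := Cfsg.pCoreOf p M with hPdef
  have hcP : conjBy c P ≤ H := conjBy_le_of_mem_normalizer (le_normalizer hcH) d.frakH.2.1
  have hYH : Y ≤ H := d.yl.trans d.le
  have hO := fh_core_le d.par S hS d.frakM d.asym d.frakH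
  have hOsub : (Cfsg.pCoreOf p H).subgroupOf H = Cfsg.pCore p H :=
    comap_map_eq_self_of_injective H.subtype_injective _
  refine ⟨CfsgLib.Coprime.pCore_normal' p, CfsgLib.Coprime.pCore_isPGroup p, d.frakH.1,
    (isPGroup_conjBy (pCoreOf_isPGroup M) c).comap_subtype,
    comap_mono ?_, ?_, ?_, ?_, ?_, hh, ?_⟩
  · exact (d.conj_y hcC).ge.trans (map_mono d.y_le_core)
  · rw [← Subgroup.map_eq_bot_iff_of_injective _ H.subtype_injective,
      commutator_subgroupOf_map hcP hYH, commutator_eq_bot_iff_le_centralizer]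
    exact d.core_le_centralizer_conj hcC
  · rw [← hOsub]
    refine subgroupOf_le_normalizer ?_
    have hcO : conjBy c (Cfsg.pCoreOf p H) = Cfsg.pCoreOf p H :=
      conjBy_eq_self_iff.2 (normalizer_le_normalizer_pCoreOf H (le_normalizer hcH))
    rw [← normalizer_conjBy, ← hcO]
    exact map_mono (hO.trans inf_le_left)
  · rw [← hOsub]
    exact subgroupOf_le_normalizer (hO.trans inf_le_right)
  · rw [← subgroupOf_sup d.le hcP, d.sup_core hcH hcC, subgroupOf_self]
  · rw [conjBy_subgroupOf, ← subgroupOf_sup hYH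
      (conjBy_le_of_mem_normalizer (le_normalizer (d.le hh)) hYH), ← hgen]

/-- An element of `L` moving `Y` into its centralizer normalises `Y`. -/
theorem mem_normalizer_of_conj {x : G} (hx : x ∈ L)
    (hxY : conjBy x (Cfsg.largestPReducedOf p M) ≤
      centralizer ((Cfsg.largestPReducedOf p M : Subgroup G) : Set G)) :
    x ∈ normalizer ((Cfsg.largestPReducedOf p M : Subgroup G) : Set G) := by
  obtain ⟨S, hS⟩ := d.sylow
  obtain ⟨g, hg, hgen⟩ := d.exists_gen
  set Y := Cfsg.largestPReducedOf p M with hYdef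
  set P := Cfsg.pCoreOf p M with hPdef
  set C := centralizer (Y : Set G) with hCdef
  have hPD : P ≤ H ⊓ C := le_inf d.frakH.2.1 (pCoreOf_le_centralizer_largest M)
  have hxYD : conjBy x Y ≤ H ⊓ C :=
    le_inf (conjBy_le_of_mem_normalizer (le_normalizer (d.le hx)) (d.yl.trans d.le)) hxY
  obtain ⟨T, hT⟩ := ((pCoreOf_isPGroup M).comap_subtype :
    IsPGroup p (P.subgroupOf (H ⊓ C))).exists_le_sylow
  have hTP : (T : Subgroup ↥(H ⊓ C)).map (H ⊓ C).subtype = P :=
    fm_core_maximal S hS d.frakM (T.2.map _) ((map_subgroupOf_eq_of_le hPD).ge.trans (map_mono hT))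
      ((map_subtype_le _).trans inf_le_right)
  obtain ⟨c, hc⟩ := exists_conj_le_sylow ((isPGroup_conjBy
    ((pCoreOf_isPGroup M).to_le d.y_le_core) x).comap_subtype :
      IsPGroup p ((conjBy x Y).subgroupOf (H ⊓ C))) T
  have hcH : (c : G) ∈ H := (mem_inf.1 c.2).1
  have hcC : (c : G) ∈ C := (mem_inf.1 c.2).2
  have hxP : conjBy x Y ≤ conjBy (c : G) P := fun y hy => by
    refine mem_conjBy.2 ?_
    rw [← hTP]
    exact ⟨_, mem_conjBy.1 (hc (show (⟨y, hxYD hy⟩ : ↥(H ⊓ C)) ∈ _ from hy)), rfl⟩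
  have hp := (d.lData hcH hcC hg hgen).isPGroup_sup_conj
    (x := ⟨x, d.le hx⟩) hx (by rw [conjBy_subgroupOf]; exact comap_mono hxP)
  have hcP : conjBy (c : G) P ≤ H := conjBy_le_of_mem_normalizer (le_normalizer hcH) d.frakH.2.1
  have hxcP : conjBy x (conjBy (c : G) P) ≤ H :=
    conjBy_le_of_mem_normalizer (le_normalizer (d.le hx)) hcP
  have hp' : IsPGroup p (conjBy (c : G)⁻¹ (conjBy (c : G) P ⊔ conjBy x (conjBy (c : G) P))) := by
    refine isPGroup_conjBy ?_ _
    rw [conjBy_subgroupOf, ← subgroupOf_sup hcP hxcP] at hp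
    exact hp.of_equiv (subgroupOfEquivOfLe (sup_le hcP hxcP))
  have key := wc_spec (fm_core_wc d.par S hS d.frakM d.asym) hp' (g := (c : G)⁻¹ * x * c)
    (le_conjBy_iff.2 (by rw [inv_inv]; exact le_sup_left))
    (by
      have e : conjBy ((c : G)⁻¹ * x * c) P = conjBy (c : G)⁻¹ (conjBy x (conjBy (c : G) P)) := by
        rw [conjBy_conjBy, conjBy_conjBy]
      rw [e]; exact map_mono le_sup_right)
  have hmem : (c : G)⁻¹ * x * c ∈ normalizer (Y : Set G) := by
    rw [fm_dagger_eq d.par S hS d.frakM]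
    exact fm_normalizer_core_le d.par S hS d.frakM (conjBy_eq_self_iff.1 key)
  have := mul_mem (mul_mem (d.centralizer_le hcC) hmem) (inv_mem (d.centralizer_le hcC))
  rwa [← mul_assoc, mul_inv_cancel_left, mul_inv_cancel_right] at this

/-- An element of `L` moving `Y` into its normalizer in both directions normalises `Y`. -/
theorem mem_normalizer_of_conj_both {x : G} (hx : x ∈ L)
    (h1 : conjBy x (Cfsg.largestPReducedOf p M) ≤
      normalizer ((Cfsg.largestPReducedOf p M : Subgroup G) : Set G))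
    (h2 : conjBy x⁻¹ (Cfsg.largestPReducedOf p M) ≤
      normalizer ((Cfsg.largestPReducedOf p M : Subgroup G) : Set G)) :
    x ∈ normalizer ((Cfsg.largestPReducedOf p M : Subgroup G) : Set G) := by
  refine d.mem_normalizer_of_conj hx (fm_commute d.asym h1 ?_)
  rw [← normalizer_conjBy, le_conjBy_iff]
  exact h2

/-- `p`-subgroups of `L` containing `Y` normalise it. -/
theorem le_normalizer_of_isPGroup {R : Subgroup G} (hR : IsPGroup p R) (hRL : R ≤ L)
    (hYR : Cfsg.largestPReducedOf p M ≤ R) :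
    R ≤ normalizer ((Cfsg.largestPReducedOf p M : Subgroup G) : Set G) := by
  set N := normalizer ((Cfsg.largestPReducedOf p M : Subgroup G) : Set G) with hN
  by_contra hne
  haveI := hR.isNilpotent
  obtain ⟨r, hrR, hrN, hr⟩ := CfsgLib.Isolated.exists_mem_normalizer_inf
    (inf_le_left : R ⊓ N ≤ R) fun h => hne (h.trans inf_le_right)
  refine hr (mem_inf.2 ⟨hrR, d.mem_normalizer_of_conj_both (hRL hrR) ?_ ?_⟩)
  · exact (conjBy_le_of_mem_normalizer hrN (le_inf hYR le_normalizer)).trans inf_le_right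
  · exact (conjBy_le_of_mem_normalizer (inv_mem hrN) (le_inf hYR le_normalizer)).trans inf_le_right

theorem not_le_normalizer :
    ¬ L ≤ normalizer ((Cfsg.largestPReducedOf p M : Subgroup G) : Set G) := fun h =>
  d.yo (le_pCoreOf ((pCoreOf_isPGroup M).to_le d.y_le_core) d.yl h)

/-- Proper subgroups of `L` containing `Y` normalise it. -/
theorem le_normalizer_of_lt {X : Subgroup G} (hYX : Cfsg.largestPReducedOf p M ≤ X) (hXL : X < L) :
    X ≤ normalizer ((Cfsg.largestPReducedOf p M : Subgroup G) : Set G) := by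
  have hY : Cfsg.largestPReducedOf p M ≤ Cfsg.pCoreOf p X := by
    by_contra h; exact hXL.ne (d.min X hXL.le hYX h)
  have hO : Cfsg.pCoreOf p X ≤ normalizer ((Cfsg.largestPReducedOf p M : Subgroup G) : Set G) :=
    d.le_normalizer_of_isPGroup (pCoreOf_isPGroup X) ((pCoreOf_le_self X).trans hXL.le) hY
  intro x hx
  have hxn := normalizer_le_normalizer_pCoreOf (p := p) X (le_normalizer hx)
  exact d.mem_normalizer_of_conj_both (hXL.le hx)
    ((conjBy_le_of_mem_normalizer hxn hY).trans hO)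
    ((conjBy_le_of_mem_normalizer (inv_mem hxn) hY).trans hO)

theorem gen_of_not_mem {h : G} (hh : h ∈ L)
    (hhN : h ∉ normalizer ((Cfsg.largestPReducedOf p M : Subgroup G) : Set G)) :
    L = Cfsg.largestPReducedOf p M ⊔ conjBy h (Cfsg.largestPReducedOf p M) := by
  set Y := Cfsg.largestPReducedOf p M with hYdef
  have hhY : conjBy h Y ≤ L := conjBy_le_of_mem_normalizer (le_normalizer hh) d.yl
  by_contra hne
  have hlt : Y ⊔ conjBy h Y < L := lt_of_le_of_ne (sup_le d.yl hhY) fun e => hne e.symm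
  refine hhN (d.mem_normalizer_of_conj_both hh
    (le_sup_right.trans (d.le_normalizer_of_lt le_sup_left hlt))
    (le_sup_left.trans (d.le_normalizer_of_lt (X := conjBy h⁻¹ Y ⊔ Y) le_sup_right ?_)))
  have e : conjBy h⁻¹ Y ⊔ Y = conjBy h⁻¹ (Y ⊔ conjBy h Y) := by
    rw [show conjBy h⁻¹ (Y ⊔ conjBy h Y) = conjBy h⁻¹ Y ⊔ conjBy h⁻¹ (conjBy h Y) from
      Subgroup.map_sup _ _ _, conjBy_conjBy, inv_mul_cancel, conjBy_one]
  rw [e]
  refine lt_of_le_of_ne (conjBy_le_of_mem_normalizer (le_normalizer (inv_mem hh)) hlt.le) fun e' => ?_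
  have := congrArg (conjBy h) e'
  rw [conjBy_conjBy, mul_inv_cancel, conjBy_one, conjBy_eq_self_of_mem hh] at this
  exact hlt.ne this

theorem conj_sup_core {h : G} (hh : h ∈ L)
    (hhN : h ∉ normalizer ((Cfsg.largestPReducedOf p M : Subgroup G) : Set G)) :
    conjBy h (Cfsg.largestPReducedOf p M) ⊔ Cfsg.pCoreOf p M = H := by
  refine le_antisymm (sup_le ((conjBy_le_of_mem_normalizer (le_normalizer (d.le hh))
    (d.yl.trans d.le))) d.frakH.2.1) ?_
  calc H = L ⊔ Cfsg.pCoreOf p M := d.sup_core'.symm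
    _ ≤ _ := sup_le ((d.gen_of_not_mem hh hhN).le.trans
      (sup_le (d.y_le_core.trans le_sup_right) le_sup_left)) le_sup_right

theorem isMinimalOver : Cfsg.IsMinimalOver ((Cfsg.largestPReducedOf p M).subgroupOf L) := by
  set Y := Cfsg.largestPReducedOf p M with hYdef
  set N := normalizer (Y : Set G) with hNdef
  have hsmall : ∀ X : Subgroup L, Y.subgroupOf L ≤ X → X ≠ ⊤ → X ≤ N.subgroupOf L := by
    intro X hYX hX x hx
    refine mem_subgroupOf.2 (d.le_normalizer_of_lt
      ((map_subgroupOf_eq_of_le d.yl).ge.trans (map_mono hYX))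
      (lt_of_le_of_ne (map_subtype_le X) fun e => hX (Subgroup.map_injective L.subtype_injective ?_))
      (mem_map_of_mem L.subtype hx))
    rw [← MonoidHom.range_eq_map, range_subtype]; exact e
  have hN : N.subgroupOf L ≠ ⊤ := fun e => d.not_le_normalizer (subgroupOf_eq_top.1 e)
  have hYN : Y.subgroupOf L ≤ N.subgroupOf L := comap_mono le_normalizer
  refine ⟨?_, N.subgroupOf L, ⟨⟨hN, fun X hX => ?_⟩, hYN⟩, fun X hX => ?_⟩
  · by_contra hne
    set K := normalClosure ((Y.subgroupOf L : Subgroup L) : Set L)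
    have hlt : K.map L.subtype < L := lt_of_le_of_ne (map_subtype_le K) fun e => hne (by
      refine Subgroup.map_injective L.subtype_injective ?_
      rw [← MonoidHom.range_eq_map, range_subtype]; exact e)
    have hYK : Y ≤ K.map L.subtype :=
      (map_subgroupOf_eq_of_le d.yl).ge.trans (map_mono Subgroup.le_normalClosure)
    refine d.yo (le_trans ?_ (pCoreOf_le_pCoreOf hlt.le
      ((normal_subgroupOf_iff_le_normalizer (map_subtype_le K)).1 (by
        rw [Subgroup.subgroupOf, comap_map_eq_self_of_injective L.subtype_injective]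
        infer_instance))))
    by_contra h
    exact hlt.ne (d.min _ hlt.le hYK h)
  · by_contra hne
    exact hX.not_ge (hsmall X (hYN.trans hX.le) hne)
  · exact (hX.1.le_iff.1 (hsmall X hX.2 hX.1.1)).resolve_left hN |>.symm

theorem commutator_core_le {h : G} (hh : h ∈ L) :
    ⁅Cfsg.pCoreOf p H, conjBy h (Cfsg.largestPReducedOf p M)⁆ ≤ Cfsg.pCoreOf p L := by
  obtain ⟨S, hS⟩ := d.sylow
  set Y := Cfsg.largestPReducedOf p M with hYdef
  set O := Cfsg.pCoreOf p H with hOdef
  have hO := fh_core_le d.par S hS d.frakM d.asym d.frakH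
  have hLO : L ≤ normalizer (O : Set G) :=
    d.le.trans (le_normalizer.trans (normalizer_le_normalizer_pCoreOf H))
  have h1 : ⁅O, Y⁆ ≤ Cfsg.pCoreOf p L := by
    refine le_trans ?_ (le_pCoreOf ((pCoreOf_isPGroup H).to_le inf_le_right) inf_le_left
      (CfsgLib.Coprime.inf_le_normalizer le_normalizer hLO) : L ⊓ O ≤ _)
    refine le_inf ((commutator_le_of_le_normalizer (hO.trans inf_le_right)).trans d.yl) ?_
    rw [commutator_comm]
    exact commutator_le_of_le_normalizer (d.yl.trans hLO)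
  have e : ⁅O, conjBy h Y⁆ = conjBy h ⁅O, Y⁆ := by
    show _ = ⁅O, Y⁆.map _
    rw [Subgroup.map_commutator]
    exact congrArg (fun Z => ⁅Z, conjBy h Y⁆) (conjBy_eq_self_iff.2 (hLO hh)).symm
  rw [e]
  exact conjBy_le_of_mem_normalizer
    (normalizer_le_normalizer_pCoreOf L (le_normalizer hh)) h1

theorem charP : centralizer (Cfsg.pCore p L : Set L) ≤ Cfsg.pCore p L := by
  obtain ⟨h, hh, hgen⟩ := d.exists_gen
  set Y := Cfsg.largestPReducedOf p M with hYdef
  have hYH : Y ≤ H := d.yl.trans d.le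
  have hhY : conjBy h Y ≤ H := conjBy_le_of_mem_normalizer (le_normalizer (d.le hh)) hYH
  refine (charP_iff L).2 (le_pCoreOf (isPGroup_of_coprime_trivial fun x hx hco => ?_) inf_le_left ?_)
  · have hxL : x ∈ L := (mem_inf.1 hx).1
    have hfix : ∀ Z : Subgroup G, Z ≤ H → ⁅Cfsg.pCoreOf p H, Z⁆ ≤ Cfsg.pCoreOf p L →
        ∀ z ∈ ⁅Cfsg.pCore p H, Z.subgroupOf H⁆, (⟨x, d.le hxL⟩ : H) * z = z * ⟨x, d.le hxL⟩ := by
      intro Z hZ hle z hz
      refine Subtype.ext (mem_centralizer_iff.1 (mem_inf.1 hx).2 (z : G) (hle ?_)).symm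
      have := mem_map_of_mem H.subtype hz
      rwa [Subgroup.map_commutator, map_subgroupOf_eq_of_le hZ] at this
    have key := (d.lData (one_mem H) (one_mem _) hh hgen).eq_one_of_fix (g := ⟨x, d.le hxL⟩) hxL
      (by rwa [orderOf_mk])
      (hfix Y hYH (by have := d.commutator_core_le (one_mem L); rwa [conjBy_one] at this))
      (by rw [conjBy_subgroupOf]; exact hfix _ hhY (d.commutator_core_le hh))
    exact congrArg Subtype.val key
  · exact CfsgLib.Coprime.inf_le_normalizer le_normalizer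
      ((le_normalizer.trans (normalizer_le_normalizer_pCoreOf L)).trans
        (CfsgLib.Coprime.normalizer_le_normalizer_centralizer _))

/-- `O_p(L) ∩ Y ≤ O_p(H)`. -/
theorem inf_le_core :
    Cfsg.pCoreOf p L ⊓ Cfsg.largestPReducedOf p M ≤ Cfsg.pCoreOf p H := by
  obtain ⟨h, hh, hgen⟩ := d.exists_gen
  set Y := Cfsg.largestPReducedOf p M with hYdef
  have hON : Cfsg.pCoreOf p L ≤ normalizer (Y : Set G) := le_sup_left.trans
    (d.le_normalizer_of_isPGroup ((pCoreOf_isPGroup L).to_sup_of_normal_left'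
      ((pCoreOf_isPGroup M).to_le d.y_le_core)
      (d.yl.trans (le_normalizer.trans (normalizer_le_normalizer_pCoreOf L))))
      (sup_le (pCoreOf_le_self L) d.yl) le_sup_right)
  intro y hy
  have hyH : y ∈ H := d.le (d.yl (mem_inf.1 hy).2)
  have hyn : y ∈ normalizer (conjBy h Y : Set G) := by
    rw [← normalizer_conjBy]
    refine map_mono hON ?_
    show y ∈ conjBy h (Cfsg.pCoreOf p L)
    rw [conjBy_eq_self_iff.2 (normalizer_le_normalizer_pCoreOf L (le_normalizer hh))]
    exact (mem_inf.1 hy).1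
  have key := (d.lData (one_mem H) (one_mem _) hh hgen).mem_pCore_of_normalizes
    (y := ⟨y, hyH⟩) (mem_inf.1 hy).2 (by
      rw [conjBy_subgroupOf]
      exact subgroupOf_le_normalizer (zpowers_le.2 hyn) (mem_zpowers y))
  exact mem_map_of_mem H.subtype key

theorem resOf_sup : L ≤ (Cfsg.pResidual p L).map L.subtype ⊔ Cfsg.largestPReducedOf p M := by
  set Y := Cfsg.largestPReducedOf p M with hYdef
  set R := (Cfsg.pResidual p L).map L.subtype with hR
  by_contra hne
  have hlt : R ⊔ Y < L := lt_of_le_of_ne (sup_le (map_subtype_le _) d.yl) fun e => hne e.ge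
  have hN := d.le_normalizer_of_lt le_sup_right hlt
  obtain ⟨T, hT⟩ := (((pCoreOf_isPGroup M).to_le d.y_le_core).comap_subtype :
    IsPGroup p (Y.subgroupOf L)).exists_le_sylow
  have hTN : (T : Subgroup L).map L.subtype ≤ normalizer (Y : Set G) :=
    d.le_normalizer_of_isPGroup (T.2.map _) (map_subtype_le _)
      ((map_subgroupOf_eq_of_le d.yl).ge.trans (map_mono hT))
  refine d.not_le_normalizer ?_
  calc L = (⊤ : Subgroup L).map L.subtype := by rw [← MonoidHom.range_eq_map, range_subtype]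
    _ ≤ _ := by
      rw [← CfsgLib.Fusion.pResidual_sup_sylow T, Subgroup.map_sup]
      exact sup_le (le_sup_left.trans hN) hTN

theorem not_commutator_resOf_le {V W : Subgroup G} (hVO : V ≤ Cfsg.pCoreOf p H)
    (hVn : H ≤ normalizer (V : Set G)) (hWn : H ≤ normalizer (W : Set G)) (hlt : W < V)
    (hchief : ∀ Z : Subgroup G, H ≤ normalizer (Z : Set G) → W ≤ Z → Z ≤ V → Z = W ∨ Z = V)
    (hnc : ¬ ⁅V, H⁆ ≤ W) : ¬ ⁅V, (Cfsg.pResidual p L).map L.subtype⁆ ≤ W := by
  obtain ⟨h, hh, hgen⟩ := d.exists_gen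
  intro hle
  set R := (Cfsg.pResidual p L).map L.subtype with hR
  have hVH : V ≤ H := hVO.trans (pCoreOf_le_self H)
  have hWH : W ≤ H := hlt.le.trans hVH
  have hRH : R ≤ H := (map_subtype_le _).trans d.le
  have f : IsFac (Cfsg.pCore p H) (V.subgroupOf H) (W.subgroupOf H) := by
    refine ⟨(normal_subgroupOf_iff_le_normalizer hVH).2 hVn,
      (normal_subgroupOf_iff_le_normalizer hWH).2 hWn, ?_, ?_, fun Z hZ hWZ hZV => ?_, fun hc => ?_⟩
    · rw [← comap_map_eq_self_of_injective H.subtype_injective (Cfsg.pCore p H)]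
      exact comap_mono hVO
    · refine lt_of_le_of_ne (comap_mono hlt.le) fun e => hlt.ne ?_
      have := congrArg (Subgroup.map H.subtype) e
      rwa [map_subgroupOf_eq_of_le hWH, map_subgroupOf_eq_of_le hVH] at this
    · have hZe : (Z.map H.subtype).subgroupOf H = Z :=
        comap_map_eq_self_of_injective H.subtype_injective Z
      rcases hchief (Z.map H.subtype)
        ((normal_subgroupOf_iff_le_normalizer (map_subtype_le Z)).1 (by rwa [hZe]))
        ((map_subgroupOf_eq_of_le hWH).ge.trans (map_mono hWZ))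
        ((map_mono hZV).trans (map_subgroupOf_eq_of_le hVH).le) with e | e
      · exact Or.inl (by rw [← hZe, e])
      · exact Or.inr (by rw [← hZe, e])
    · apply hnc
      have := map_mono (f := H.subtype) hc
      rwa [Subgroup.map_commutator, map_subgroupOf_eq_of_le hVH, map_subgroupOf_eq_of_le hWH,
        ← MonoidHom.range_eq_map, range_subtype] at this
  refine (d.lData (one_mem H) (one_mem _) hh hgen).false_of_fac f (R := R.subgroupOf H) ?_ ?_
  · intro z hz
    refine mem_subgroupOf.2 (hle ?_)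
    have := mem_map_of_mem H.subtype hz
    rwa [commutator_subgroupOf_map hVH hRH] at this
  · rw [← subgroupOf_sup hRH (d.yl.trans d.le)]
    exact comap_mono d.resOf_sup

theorem normalClosure_le :
    (normalClosure (((Cfsg.pCoreOf p L ⊓ Cfsg.largestPReducedOf p M).subgroupOf L : Subgroup L) :
      Set L)).map L.subtype ≤ Cfsg.pCoreOf p H := by
  haveI : ((Cfsg.pCoreOf p H).subgroupOf L).Normal :=
    normal_subgroupOf_of_le_normalizer (d.le.trans
      (le_normalizer.trans (normalizer_le_normalizer_pCoreOf H)))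
  refine (map_mono (normalClosure_le_normal (N := (Cfsg.pCoreOf p H).subgroupOf L)
    fun x hx => mem_subgroupOf.2 (d.inf_le_core (mem_subgroupOf.1 hx)))).trans ?_
  exact map_comap_le _ _

end LSetup

end CfsgLib.LS
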