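import Mathlib
import Cfsg.Prelude.Def_SylowControl
import Cfsg.Prelude.Def_SylowChains
import Cfsg.Agent.Lib.Fusion.Sylow

/-!
# Control of Sylow intersections and strong control of fusion

The two notions for a normal family of subgroups are equivalent, and with chain-connected Sylow
subgroups they give a factorization of the group.
-/

set_option autoImplicit false

open Cfsg (sylowMembers IsNormalSet ControlsSylowIntersections FamilyStronglyControlsFusion
  conjRight subgroupConjRight IsSylowChainConnected)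
open CfsgLib.Fusion (conjBy mem_conjBy conjBy_conjBy conjBy_one conjBy_eq_iff conjBy_inv_conjBy
  conjBy_conjBy_inv)
open scoped Pointwise

namespace CfsgLib.LS.SylowControl

variable {G : Type*} [Group G] {p : ℕ} {𝓕 : Set (Subgroup G)}

theorem subgroupConjRight_eq (g : G) (X : Subgroup G) :
    subgroupConjRight g X = conjBy g⁻¹ X := rfl

theorem coe_smul_sylow (g : G) (S : Sylow p G) :
    ((g • S : Sylow p G) : Subgroup G) = conjBy g (S : Subgroup G) := rfl

theorem conjBy_self_of_mem {g : G} {X : Subgroup G} (hg : g ∈ X) : conjBy g X = X :=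
  conjBy_eq_iff.2 (Subgroup.le_normalizer hg)

theorem mem_conjBy_members (h𝓕 : IsNormalSet 𝓕) {S X : Subgroup G} (hX : X ∈ sylowMembers p 𝓕 S)
    (g : G) : conjBy g X ∈ sylowMembers p 𝓕 (conjBy g S) := by
  obtain ⟨hXF, P, hP⟩ := hX
  have hF : conjBy g X ∈ 𝓕 := by
    have := h𝓕 X hXF g⁻¹
    rwa [subgroupConjRight_eq, inv_inv] at this
  let e : X ≃* conjBy g X := X.equivMapOfInjective _ (MulAut.conj g).injective
  obtain ⟨Q, hQ⟩ : ∃ Q : Sylow p (conjBy g X), (Q : Subgroup (conjBy g X)) =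
      (P : Subgroup X).map e.toMonoidHom := by
    refine ⟨⟨(P : Subgroup X).map e.toMonoidHom, P.2.map _, fun {R} hR hle => ?_⟩, rfl⟩
    have h1 := P.3 (hR.comap_of_injective e.toMonoidHom e.injective) (Subgroup.map_le_iff_le_comap.1 hle)
    refine le_antisymm (fun r hr => ⟨e.symm r, h1.le ?_, e.apply_symm_apply r⟩) hle
    show e (e.symm r) ∈ R
    rwa [e.apply_symm_apply]
  refine ⟨hF, Q, ?_⟩
  rw [hQ]
  show ((P : Subgroup X).map e.toMonoidHom).map (conjBy g X).subtype = _
  rw [Subgroup.map_map, show (conjBy g X).subtype.comp e.toMonoidHom =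
    (MulAut.conj g).toMonoidHom.comp X.subtype from rfl, ← Subgroup.map_map, hP]
  exact Subgroup.map_inf _ _ _ (MulAut.conj g).injective

theorem prod_take_ofFn_div {n : ℕ} (u : Fin (n + 1) → G) (h0 : u 0 = 1) :
    ∀ k (hk : k < n + 1),
      ((List.ofFn fun i : Fin n => (u i.castSucc)⁻¹ * u i.succ).take k).prod = u ⟨k, hk⟩ := by
  intro k
  induction k with
  | zero => intro hk; rw [List.take_zero, List.prod_nil]; exact h0.symm
  | succ k ih =>
    intro hk
    rw [List.prod_take_succ _ k (by rw [List.length_ofFn]; omega), ih (by omega), List.getElem_ofFn]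
    exact mul_inv_cancel_left _ _

theorem prod_ofFn_div {n : ℕ} (u : Fin (n + 1) → G) (h0 : u 0 = 1) :
    (List.ofFn fun i : Fin n => (u i.castSucc)⁻¹ * u i.succ).prod = u (Fin.last n) := by
  have h := prod_take_ofFn_div u h0 n (by omega)
  rwa [List.take_of_length_le (by rw [List.length_ofFn])] at h

/-- A chain witnessing control of the intersection of `S` and `T` as a factorization. -/
theorem exists_factor (h𝓕 : IsNormalSet 𝓕) (hc : ControlsSylowIntersections p 𝓕) (S T : Sylow p G)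
    (hD : (S : Subgroup G) ⊓ (T : Subgroup G) ≠ ⊥) :
    ∃ (n : ℕ) (Y : Fin n → Subgroup G) (y : Fin n → G),
      (∀ i, Y i ∈ sylowMembers p 𝓕 (S : Subgroup G) ∧ y i ∈ Y i) ∧
      conjBy (List.ofFn y).prod (S : Subgroup G) = T ∧
      ∀ i : Fin n, (S : Subgroup G) ⊓ (T : Subgroup G) ≤
        conjBy (((List.ofFn y).take (i.val + 1)).prod) ((S : Subgroup G) ⊓ Y i) := by
  by_cases hST : S = T
  · exact ⟨0, Fin.elim0, Fin.elim0, fun i => i.elim0, by simp [conjBy_one, hST], fun i => i.elim0⟩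
  obtain ⟨n, c, X, x, hc0, hcn, hstep⟩ := hc S T hST hD
  let u : Fin (n + 1) → G := fun k => Fin.induction (1 : G) (fun i v => x i * v) k
  have hu0 : u 0 = 1 := rfl
  have hus : ∀ i : Fin n, u i.succ = x i * u i.castSucc := fun i => by
    simp only [u, Fin.induction_succ]
  have hcu : ∀ k, (c k : Subgroup G) = conjBy (u k) (S : Subgroup G) := by
    intro k
    induction k using Fin.induction with
    | zero => rw [hc0, hu0, conjBy_one]
    | succ i ih =>
      have h := congrArg (conjBy (x i)) (hstep i).2.2.2.1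
      rw [subgroupConjRight_eq, conjBy_conjBy_inv] at h
      rw [h, ih, conjBy_conjBy, hus]
  have hY : ∀ i : Fin n, conjBy (u i.succ)⁻¹ (X i) = conjBy (u i.castSucc)⁻¹ (X i) := fun i => by
    rw [hus, mul_inv_rev, ← conjBy_conjBy, conjBy_self_of_mem (inv_mem (hstep i).2.2.1)]
  refine ⟨n, fun i => conjBy (u i.castSucc)⁻¹ (X i),
    fun i => (u i.castSucc)⁻¹ * u i.succ, fun i => ⟨?_, ?_⟩, ?_, fun i => ?_⟩
  · have h := mem_conjBy_members h𝓕 (hstep i).1 (u i.castSucc)⁻¹
    rwa [hcu, conjBy_inv_conjBy] at h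
  · show (u i.castSucc)⁻¹ * u i.succ ∈ conjBy (u i.castSucc)⁻¹ (X i)
    rw [hus, ← mul_assoc, mem_conjBy]
    simpa [mul_assoc] using (hstep i).2.2.1
  · rw [prod_ofFn_div u hu0, ← hcu, hcn]
  · rw [prod_take_ofFn_div u hu0 _ (by omega)]
    refine (hstep i).2.2.2.2.trans (le_of_eq ?_)
    show (c i.succ : Subgroup G) ⊓ X i = conjBy (u i.succ) ((S : Subgroup G) ⊓ conjBy _ (X i))
    rw [← hY, CfsgLib.Fusion.conjBy, Subgroup.map_inf _ _ _ (MulAut.conj _).injective,
      ← CfsgLib.Fusion.conjBy, ← CfsgLib.Fusion.conjBy, conjBy_conjBy_inv, hcu]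

theorem conjRight_subset_iff {u : G} {A : Set G} {H : Subgroup G} :
    conjRight u A ⊆ (H : Set G) ↔ A ⊆ (conjBy u H : Set G) := by
  simp only [conjRight, Set.image_subset_iff]
  constructor
  · intro h a ha; exact mem_conjBy.2 (h ha)
  · intro h a ha; exact mem_conjBy.1 (h ha)

theorem stronglyControls_of_controls (h𝓕 : IsNormalSet 𝓕) (hc : ControlsSylowIntersections p 𝓕) :
    FamilyStronglyControlsFusion p 𝓕 := by
  intro S A g hA hne hgA
  have hgA' := conjRight_subset_iff.1 hgA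
  rw [← coe_smul_sylow] at hgA'
  obtain ⟨a, ha, ha1⟩ := hne
  have hD : (S : Subgroup G) ⊓ ((g • S : Sylow p G) : Subgroup G) ≠ ⊥ := fun h =>
    ha1 (Subgroup.mem_bot.1 (h.le ⟨hA ha, hgA' ha⟩))
  obtain ⟨n, Y, y, hy, hprod, hle⟩ := exists_factor h𝓕 hc S (g • S) hD
  refine ⟨n, Y, y, (List.ofFn y).prod⁻¹ * g, ?_, hy, by group, fun i => ?_⟩
  · rw [← conjBy_eq_iff, ← conjBy_conjBy, ← coe_smul_sylow g, ← hprod, conjBy_inv_conjBy]
  · show _ ⊆ ((((S : Subgroup G) ⊓ Y i : Subgroup G)) : Set G)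
    rw [conjRight_subset_iff]
    exact fun b hb => hle i ⟨hA hb, hgA' hb⟩

theorem controls_of_stronglyControls [Finite G] [Fact p.Prime] (h𝓕 : IsNormalSet 𝓕)
    (hc : FamilyStronglyControlsFusion p 𝓕) : ControlsSylowIntersections p 𝓕 := by
  intro S T hST hD
  obtain ⟨g, rfl⟩ := MulAction.exists_smul_eq G S T
  obtain ⟨a, ha, ha1⟩ := (Subgroup.bot_or_exists_ne_one _).resolve_left hD
  obtain ⟨n, Y, y, y₀, hy0, hy, hg, hle⟩ := hc S (((S : Subgroup G) ⊓ ((g • S : Sylow p G) :
    Subgroup G) : Subgroup G) : Set G) g (fun b hb => hb.1) ⟨a, ha, ha1⟩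
    (conjRight_subset_iff.2 fun b hb => hb.2)
  let u : Fin (n + 1) → G := fun k => ((List.ofFn y).take k).prod
  have hu0 : u 0 = 1 := by simp [u]
  have hun : u (Fin.last n) = (List.ofFn y).prod := by
    simp only [u, Fin.val_last]
    rw [List.take_of_length_le (by rw [List.length_ofFn])]
  have hus : ∀ i : Fin n, u i.succ = u i.castSucc * y i := fun i => by
    simp only [u, Fin.val_succ, Fin.val_castSucc]
    rw [List.prod_take_succ _ _ (by rw [List.length_ofFn]; omega), List.getElem_ofFn]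
  have hX : ∀ i : Fin n, conjBy (u i.succ) (Y i) = conjBy (u i.castSucc) (Y i) := fun i => by
    rw [hus, ← conjBy_conjBy, conjBy_self_of_mem (hy i).2]
  refine ⟨n, fun k => u k • S, fun i => conjBy (u i.castSucc) (Y i),
    fun i => u i.succ * (u i.castSucc)⁻¹, by show u 0 • S = S; rw [hu0, one_smul], ?_, fun i => ⟨?_, ?_, ?_, ?_, ?_⟩⟩
  · refine Sylow.ext ?_
    rw [coe_smul_sylow, coe_smul_sylow, hun, hg, ← conjBy_conjBy, conjBy_eq_iff.2 hy0]
  · rw [coe_smul_sylow]
    exact mem_conjBy_members h𝓕 (hy i).1 _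
  · show conjBy (u i.castSucc) (Y i) ∈ _
    rw [coe_smul_sylow, ← hX]
    exact mem_conjBy_members h𝓕 (hy i).1 _
  · show u i.succ * (u i.castSucc)⁻¹ ∈ conjBy (u i.castSucc) (Y i)
    rw [hus, mem_conjBy]
    simpa [mul_assoc] using (hy i).2
  · rw [coe_smul_sylow, coe_smul_sylow, subgroupConjRight_eq, conjBy_conjBy]
    congr 1
    group
  · intro b hb
    have h := (conjRight_subset_iff (H := (S : Subgroup G) ⊓ Y i)).1
      (fun z hz => hle i hz) hb
    rw [SetLike.mem_coe, mem_conjBy, Subgroup.mem_inf] at h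
    refine ⟨?_, ?_⟩
    · show b ∈ ((u i.succ • S : Sylow p G) : Subgroup G)
      rw [coe_smul_sylow, mem_conjBy]
      exact h.1
    · show b ∈ conjBy (u i.castSucc) (Y i)
      rw [← hX, mem_conjBy]
      exact h.2

theorem eq_top_of_connected [Finite G] [Fact p.Prime] (h𝓕 : IsNormalSet 𝓕)
    (hc : ControlsSylowIntersections p 𝓕) (hconn : IsSylowChainConnected p G) (S : Sylow p G) :
    (⨆ X ∈ sylowMembers p 𝓕 (S : Subgroup G), X) ⊔
      Subgroup.normalizer ((S : Subgroup G) : Set G) = ⊤ := by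
  set K := (⨆ X ∈ sylowMembers p 𝓕 (S : Subgroup G), X) ⊔
    Subgroup.normalizer ((S : Subgroup G) : Set G) with hK
  rw [eq_top_iff]
  rintro g -
  obtain ⟨m, c, hc0, hcm, -, hadj⟩ := hconn S (g • S)
  have key : ∀ i, ∃ k ∈ K, c i = k • S := by
    intro i
    induction i using Fin.induction with
    | zero => exact ⟨1, one_mem _, by rw [hc0, one_smul]⟩
    | succ i ih =>
      obtain ⟨k, hk, hki⟩ := ih
      have hne : (S : Subgroup G) ⊓ ((k⁻¹ • c i.succ : Sylow p G) : Subgroup G) ≠ ⊥ := by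
        intro h
        refine (hadj i).2 ?_
        have h2 := congrArg (conjBy k) h
        rw [CfsgLib.Fusion.conjBy, Subgroup.map_inf _ _ _ (MulAut.conj k).injective,
          ← CfsgLib.Fusion.conjBy, ← CfsgLib.Fusion.conjBy,
          show conjBy k (⊥ : Subgroup G) = ⊥ from Subgroup.map_bot _, coe_smul_sylow k⁻¹,
          conjBy_conjBy_inv, ← coe_smul_sylow, ← hki] at h2
        exact h2
      obtain ⟨n, Y, y, hy, hprod, -⟩ := exists_factor h𝓕 hc S (k⁻¹ • c i.succ) hne
      have hp : (List.ofFn y).prod ∈ K := by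
        refine list_prod_mem fun z hz => ?_
        obtain ⟨j, rfl⟩ := List.mem_ofFn.1 hz
        exact Subgroup.mem_sup_left
          (le_iSup₂_of_le (f := fun X _ => X) (Y j) (hy j).1 le_rfl (hy j).2)
      refine ⟨k * (List.ofFn y).prod, mul_mem hk hp, ?_⟩
      rw [mul_smul, show (List.ofFn y).prod • S = k⁻¹ • c i.succ from Sylow.ext hprod,
        smul_inv_smul]
  obtain ⟨k, hk, hkS⟩ := key (Fin.last m)
  rw [hcm] at hkS
  have hn : k⁻¹ * g ∈ Subgroup.normalizer ((S : Subgroup G) : Set G) := by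
    rw [← conjBy_eq_iff, ← coe_smul_sylow, mul_smul, hkS, inv_smul_smul]
  have := mul_mem hk (Subgroup.mem_sup_right (S := ⨆ X ∈ sylowMembers p 𝓕 (S : Subgroup G), X) hn)
  rwa [mul_inv_cancel_left] at this

end CfsgLib.LS.SylowControl
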