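import Mathlib
import Cfsg.Prelude.Def_SylowChains
import Cfsg.Agent.Lib.LocalStructure.SylowControl
import Cfsg.Agent.S2940

/-!
# Regularity for a normalizer functor from a factorization
-/

set_option autoImplicit false
set_option linter.style.haveILetI false

open Subgroup
open CfsgLib.Fusion (conjBy mem_conjBy conjBy_conjBy conjBy_one conjBy_inv_conjBy conjBy_mono
  conjBy_normalizer card_conjBy)
open CfsgLib.LS.SylowControl (coe_smul_sylow subgroupConjRight_eq)
open scoped Pointwise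

namespace CfsgLib.LS.FunctorReg

variable {G : Type*} [Group G] {p : ℕ}

/-- One link of a chain for the family induced by `f`. -/
def Step (p : ℕ) (f : Subgroup G → Set (Subgroup G)) (D : Subgroup G) (c c' : Sylow p G) : Prop :=
  ∃ P : Sylow p G, ∃ F ∈ f (P : Subgroup G), ∃ x ∈ normalizer (F : Set G),
    (c : Subgroup G) ≤ normalizer (F : Set G) ∧ (c' : Subgroup G) ≤ normalizer (F : Set G) ∧
    conjBy x⁻¹ (c' : Subgroup G) = c ∧ D ≤ (c' : Subgroup G)

variable {f : Subgroup G → Set (Subgroup G)} {D : Subgroup G}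

theorem Step.mono {D' : Subgroup G} {c c' : Sylow p G} (h : Step p f D c c') (hD : D' ≤ D) :
    Step p f D' c c' := by
  obtain ⟨P, F, hF, x, hx, h1, h2, h3, h4⟩ := h
  exact ⟨P, F, hF, x, hx, h1, h2, h3, hD.trans h4⟩

theorem Step.conj (hf : Cfsg.IsNormalizerFunctor p f) {c c' : Sylow p G} (h : Step p f D c c')
    (g : G) : Step p f (conjBy g D) (g • c) (g • c') := by
  obtain ⟨P, F, hF, x, hx, h1, h2, h3, h4⟩ := h
  refine ⟨g • P, conjBy g F, ?_, g * x * g⁻¹, ?_, ?_, ?_, ?_, ?_⟩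
  · rw [coe_smul_sylow, CfsgLib.Fusion.conjBy, (hf _ P.2).2 g]
    exact ⟨F, hF, rfl⟩
  · rw [← conjBy_normalizer]
    exact CfsgLib.Fusion.conj_mem_conjBy hx
  · rw [coe_smul_sylow, ← conjBy_normalizer]
    exact conjBy_mono h1
  · rw [coe_smul_sylow, ← conjBy_normalizer]
    exact conjBy_mono h2
  · rw [coe_smul_sylow, coe_smul_sylow, conjBy_conjBy, ← h3, conjBy_conjBy]
    congr 1
    group
  · rw [coe_smul_sylow]
    exact conjBy_mono h4

variable [Finite G] [Fact p.Prime]

/-- A Sylow subgroup of a subgroup containing one of `G` is one of `G`. -/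
theorem exists_sylow_of_sylow {M : Subgroup G} (S : Sylow p G) (hS : (S : Subgroup G) ≤ M)
    (c : Sylow p M) : ∃ c' : Sylow p G, (c' : Subgroup G) = (c : Subgroup M).map M.subtype := by
  refine ⟨Sylow.ofCard ((c : Subgroup M).map M.subtype) ?_, Sylow.coe_ofCard _ _⟩
  rw [card_map_of_injective M.subtype_injective, ← Sylow.card_eq_multiplicity S,
    ← Nat.card_congr (Subgroup.subgroupOfEquivOfLe hS).toEquiv, ← Sylow.coe_subtype S hS]
  exact (Sylow.card_eq_multiplicity c).trans (Sylow.card_eq_multiplicity (S.subtype hS)).symm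

/-- A member of the induced family in which a Sylow subgroup is of full order contains it. -/
theorem le_of_member {M : Subgroup G} {X : Subgroup M} {𝓕 : Set (Subgroup M)} {c : Subgroup M}
    (P : Sylow p M) (hP : (P : Subgroup M) ≤ X) (C : Sylow p M) (hc : c = C)
    (h : X ∈ Cfsg.sylowMembers p 𝓕 c) : c ≤ X := by
  obtain ⟨-, Q, hQ⟩ := h
  refine inf_eq_left.1 (Subgroup.eq_of_le_of_card_ge inf_le_left ?_)
  rw [← hQ, card_map_of_injective X.subtype_injective, hc,
    show Nat.card (C : Subgroup M) = Nat.card (P : Subgroup M) from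
      (Sylow.card_eq_multiplicity C).trans (Sylow.card_eq_multiplicity P).symm,
    show Nat.card (Q : Subgroup X) = Nat.card ((P.subtype hP : Sylow p X) : Subgroup X) from
      (Sylow.card_eq_multiplicity Q).trans (Sylow.card_eq_multiplicity _).symm,
    Sylow.coe_subtype, Nat.card_congr (Subgroup.subgroupOfEquivOfLe hP).toEquiv]

theorem chain_of_regular (hf : Cfsg.IsNormalizerFunctor p f) {M : Subgroup G}
    (hr : Cfsg.IsFunctorRegular p f M) (U T : Sylow p G) (hU : (U : Subgroup G) ≤ M)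
    (hT : (T : Subgroup G) ≤ M) (hD : D ≤ (U : Subgroup G) ⊓ T) (hD1 : D ≠ ⊥) :
    Relation.ReflTransGen (Step p f D) U T := by
  by_cases hUT : U = T
  · exact hUT ▸ Relation.ReflTransGen.refl
  have hne : U.subtype hU ≠ T.subtype hT := fun h => hUT (Sylow.ext (by
    have := congrArg (fun S : Sylow p M => (S : Subgroup M).map M.subtype) h
    simp only [Sylow.coe_subtype, Subgroup.subgroupOf_map_subtype, inf_eq_left.2 hU,
      inf_eq_left.2 hT] at this
    exact this))
  have hmeet : ((U.subtype hU : Sylow p M) : Subgroup M) ⊓ (T.subtype hT : Sylow p M) ≠ ⊥ := by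
    intro h
    refine hD1 (eq_bot_iff.2 fun d hd => ?_)
    have h1 : (⟨d, hU (hD hd).1⟩ : M) ∈ ((U.subtype hU : Sylow p M) : Subgroup M) ⊓
        (T.subtype hT : Sylow p M) :=
      ⟨by rw [Sylow.coe_subtype]; exact (hD hd).1, by rw [Sylow.coe_subtype]; exact (hD hd).2⟩
    exact Subgroup.mem_bot.2 (congrArg Subtype.val (Subgroup.mem_bot.1 (h.le h1)))
  obtain ⟨n, c, X, x, hc0, hcn, hstep⟩ := hr _ _ hne hmeet
  choose d hd using fun i => exists_sylow_of_sylow U hU (c i)
  have hd0 : d 0 = U := Sylow.ext (by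
    rw [hd, hc0, Sylow.coe_subtype, Subgroup.subgroupOf_map_subtype, inf_eq_left.2 hU])
  have hdn : d (Fin.last n) = T := Sylow.ext (by
    rw [hd, hcn, Sylow.coe_subtype, Subgroup.subgroupOf_map_subtype, inf_eq_left.2 hT])
  have hs : ∀ i : Fin n, Step p f D (d i.castSucc) (d i.succ) := by
    intro i
    obtain ⟨h1, h2, h3, h4, h5⟩ := hstep i
    obtain ⟨Y, ⟨P, F, hF, rfl⟩, hY⟩ := h1.1
    obtain ⟨P', hP'⟩ := exists_sylow_of_sylow U hU P
    have hPX : (P : Subgroup M) ≤ X i := by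
      rw [← hY]
      intro z hz
      exact ⟨z.2, ((hf _ (P.2.map M.subtype)).1 F hF).2 (le_normalizer ⟨z, hz, rfl⟩)⟩
    have hsub : ∀ {z : M}, z ∈ X i → (z : G) ∈ normalizer (F : Set G) := fun {z} hz => by
      rw [← hY] at hz; exact hz.2
    refine ⟨P', F, hP' ▸ hF, x i, hsub h3, ?_, ?_, ?_, ?_⟩
    · rw [hd]
      rintro _ ⟨z, hz, rfl⟩
      exact hsub (le_of_member P hPX _ rfl h1 hz)
    · rw [hd]
      rintro _ ⟨z, hz, rfl⟩
      exact hsub (le_of_member P hPX _ rfl h2 hz)
    · rw [hd, hd, ← h4, subgroupConjRight_eq, CfsgLib.Fusion.conjBy, CfsgLib.Fusion.conjBy,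
        Subgroup.map_map, Subgroup.map_map]
      rfl
    · rw [hd]
      intro e he
      refine ⟨⟨e, hU (hD he).1⟩, (h5 ?_).1, rfl⟩
      exact ⟨by rw [Sylow.coe_subtype]; exact (hD he).1, by rw [Sylow.coe_subtype]; exact (hD he).2⟩
  have key : ∀ i : Fin (n + 1), Relation.ReflTransGen (Step p f D) U (d i) := by
    intro i
    induction i using Fin.induction with
    | zero => rw [hd0]
    | succ i ih => exact ih.tail (hs i)
  exact hdn ▸ key (Fin.last n)

theorem regular_top (hf : Cfsg.IsNormalizerFunctor p f)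
    (h : ∀ U T : Sylow p G, (U : Subgroup G) ⊓ T ≠ ⊥ →
      Relation.ReflTransGen (Step p f ((U : Subgroup G) ⊓ T)) U T) :
    Cfsg.IsFunctorRegular p f ⊤ := by
  intro U' T' _ hmeet
  set e : (⊤ : Subgroup G) ≃* G := Subgroup.topEquiv
  obtain ⟨U, hU⟩ := exists_sylow_of_sylow (p := p) (M := ⊤) (default : Sylow p G) le_top U'
  obtain ⟨T, hT⟩ := exists_sylow_of_sylow (p := p) (M := ⊤) (default : Sylow p G) le_top T'
  have hmap : ((U' : Subgroup (⊤ : Subgroup G)) ⊓ T').map (⊤ : Subgroup G).subtype =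
      (U : Subgroup G) ⊓ T := by
    rw [Subgroup.map_inf _ _ _ (Subgroup.subtype_injective _), hU, hT]
  have hne : (U : Subgroup G) ⊓ T ≠ ⊥ := fun hb => hmeet
    ((Subgroup.map_eq_bot_iff_of_injective _ (Subgroup.subtype_injective _)).1 (hmap.trans hb))
  have hpath := h U T hne
  obtain ⟨D, hD⟩ : ∃ D, D = (U : Subgroup G) ⊓ T := ⟨_, rfl⟩
  rw [← hD] at hpath hmap
  -- lift a path to a chain
  suffices key : ∀ a : Sylow p G, Relation.ReflTransGen (Step p f D) a T →
      ∀ a' : Sylow p (⊤ : Subgroup G), (a : Subgroup G) = (a' : Subgroup _).map (⊤ : Subgroup G).subtype →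
      ∃ (n : ℕ) (c : Fin (n + 1) → Sylow p (⊤ : Subgroup G)) (X : Fin n → Subgroup (⊤ : Subgroup G))
        (x : Fin n → (⊤ : Subgroup G)), c 0 = a' ∧ c (Fin.last n) = T' ∧ ∀ i : Fin n,
        X i ∈ Cfsg.sylowMembers p ((fun X : Subgroup G => X.subgroupOf ⊤) '' Cfsg.functorFamily p f ⊤)
          (c i.castSucc : Subgroup _) ∧
        X i ∈ Cfsg.sylowMembers p ((fun X : Subgroup G => X.subgroupOf ⊤) '' Cfsg.functorFamily p f ⊤)
          (c i.succ : Subgroup _) ∧
        x i ∈ X i ∧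
        Cfsg.subgroupConjRight (x i) (c i.succ : Subgroup _) = (c i.castSucc : Subgroup _) ∧
        (U' : Subgroup (⊤ : Subgroup G)) ⊓ T' ≤ (c i.succ : Subgroup _) ⊓ X i from
    key U hpath U' hU
  intro a ha
  induction ha using Relation.ReflTransGen.head_induction_on with
  | refl =>
    intro a' ha'
    have he : a' = T' := Sylow.ext (map_injective (Subgroup.subtype_injective _) (ha'.symm.trans hT))
    exact ⟨0, fun _ => a', Fin.elim0, Fin.elim0, rfl, he, fun i => i.elim0⟩
  | head hab _ ih =>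
    rename_i a b _
    intro a' ha'
    obtain ⟨P, F, hF, x, hx, haN, hbN, hxe, hDb⟩ := hab
    have hb' : (b : Subgroup G) = ((b.subtype le_top : Sylow p (⊤ : Subgroup G)) : Subgroup _).map
        (⊤ : Subgroup G).subtype := by
      rw [Sylow.coe_subtype, Subgroup.subgroupOf_map_subtype, inf_eq_left.2 le_top]
    obtain ⟨n, c, X, y, hc0, hcn, hst⟩ := ih _ hb'
    refine ⟨n + 1, Fin.cons a' c,
      Fin.cons (((⊤ : Subgroup G) ⊓ normalizer (F : Set G)).subgroupOf ⊤) X,
      Fin.cons ⟨x, mem_top x⟩ y, Fin.cons_zero _ _, ?_, ?_⟩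
    · rw [show Fin.last (n + 1) = (Fin.last n).succ from (Fin.succ_last n).symm, Fin.cons_succ, hcn]
    have hmem : ∀ C : Sylow p (⊤ : Subgroup G),
        (C : Subgroup (⊤ : Subgroup G)).map (⊤ : Subgroup G).subtype ≤ normalizer (F : Set G) →
        ((⊤ : Subgroup G) ⊓ normalizer (F : Set G)).subgroupOf ⊤ ∈ Cfsg.sylowMembers p
          ((fun X : Subgroup G => X.subgroupOf ⊤) '' Cfsg.functorFamily p f ⊤) (C : Subgroup _) := by
      intro C hC
      have hle : (C : Subgroup (⊤ : Subgroup G)) ≤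
          ((⊤ : Subgroup G) ⊓ normalizer (F : Set G)).subgroupOf ⊤ :=
        fun z hz => ⟨mem_top _, hC ⟨z, hz, rfl⟩⟩
      refine ⟨⟨_, ⟨P.subtype le_top, F, ?_, rfl⟩, rfl⟩, C.subtype hle, ?_⟩
      · rw [Sylow.coe_subtype, Subgroup.subgroupOf_map_subtype, inf_eq_left.2 le_top]
        exact hF
      · rw [Sylow.coe_subtype, Subgroup.subgroupOf_map_subtype]
    intro i
    induction i using Fin.cases with
    | zero =>
      simp only [Fin.castSucc_zero, Fin.cons_zero, Fin.cons_succ, hc0]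
      refine ⟨hmem a' (ha' ▸ haN), hmem _ (hb' ▸ hbN), ⟨mem_top _, hx⟩, ?_, ?_⟩
      · apply map_injective (Subgroup.subtype_injective (⊤ : Subgroup G))
        rw [subgroupConjRight_eq, CfsgLib.Fusion.conjBy, ← ha', ← hxe, CfsgLib.Fusion.conjBy,
          Subgroup.map_map]
        conv_rhs => rw [hb', Subgroup.map_map]
        rfl
      · intro z hz
        have hzD : (z : G) ∈ D := hmap.le ⟨z, hz, rfl⟩
        refine ⟨?_, mem_top _, hbN (hDb hzD)⟩
        rw [Sylow.coe_subtype]
        exact hDb hzD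
    | succ i =>
      simp only [Fin.castSucc_succ, Fin.cons_succ]
      exact hst i

theorem regular_of_factorization (hf : Cfsg.IsNormalizerFunctor p f) (S : Sylow p G)
    (G₁ G₂ : Subgroup G) (h₁ : (S : Subgroup G) ≤ G₁) (h₂ : (S : Subgroup G) ≤ G₂)
    (hprod : ∀ g : G, ∃ g₁ ∈ G₁, ∃ g₂ ∈ G₂, g = g₁ * g₂)
    (hr₁ : Cfsg.IsFunctorRegular p f G₁) (hr₂ : Cfsg.IsFunctorRegular p f G₂) :
    Cfsg.IsFunctorRegular p f ⊤ := by
  have hlift : ∀ (g : G) (D : Subgroup G) (a b : Sylow p G),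
      Relation.ReflTransGen (Step p f D) a b →
      Relation.ReflTransGen (Step p f (conjBy g D)) (g • a) (g • b) :=
    fun g D a b h => h.lift (g • ·) fun _ _ hs => hs.conj hf g
  have base : ∀ (T : Sylow p G) (D : Subgroup G), D ≤ (S : Subgroup G) ⊓ T → D ≠ ⊥ →
      Relation.ReflTransGen (Step p f D) S T := by
    intro T D hD hD1
    obtain ⟨h, rfl⟩ := MulAction.exists_smul_eq G S T
    obtain ⟨U, hU1, hU2⟩ := Cfsg.Agent.S2940.result S G₁ G₂ h₁ h₂ hprod h⁻¹
    rw [subgroupConjRight_eq, inv_inv] at hU1 hU2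
    have hDU : D ≤ (U : Subgroup G) := by
      refine le_trans hD (le_trans (le_of_eq ?_) hU1)
      rw [coe_smul_sylow]
    refine (chain_of_regular hf hr₁ S U h₁ (hU2.trans inf_le_left)
      (le_inf (hD.trans inf_le_left) hDU) hD1).trans ?_
    have hgU : ((h⁻¹ • U : Sylow p G) : Subgroup G) ≤ G₂ := by
      rw [coe_smul_sylow]
      refine (conjBy_mono (hU2.trans inf_le_right)).trans (le_of_eq ?_)
      rw [conjBy_inv_conjBy]
    have hD' : conjBy h⁻¹ D ≤ ((h⁻¹ • U : Sylow p G) : Subgroup G) ⊓ S := by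
      refine le_inf ?_ ?_
      · rw [coe_smul_sylow]; exact conjBy_mono hDU
      · refine (conjBy_mono (hD.trans inf_le_right)).trans (le_of_eq ?_)
        rw [coe_smul_sylow, conjBy_inv_conjBy]
    have hc := hlift h _ _ _ (chain_of_regular hf hr₂ (h⁻¹ • U) S hgU h₂ hD'
      (fun hb => hD1 (by
        rw [CfsgLib.Fusion.conjBy] at hb
        exact (Subgroup.map_eq_bot_iff_of_injective _ (MulAut.conj h⁻¹).injective).1 hb)))
    rw [smul_inv_smul, CfsgLib.Fusion.conjBy_conjBy_inv] at hc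
    exact hc
  refine regular_top hf fun U T hne => ?_
  obtain ⟨g, rfl⟩ := MulAction.exists_smul_eq G S U
  have h := hlift g _ _ _ (base (g⁻¹ • T) (conjBy g⁻¹ (((g • S : Sylow p G) : Subgroup G) ⊓ T)) (by
      refine le_inf ?_ ?_
      · refine (conjBy_mono inf_le_left).trans (le_of_eq ?_)
        rw [coe_smul_sylow, conjBy_inv_conjBy]
      · rw [coe_smul_sylow g⁻¹ T]
        exact conjBy_mono inf_le_right)
    (fun hb => hne (by
      rw [CfsgLib.Fusion.conjBy] at hb
      exact (Subgroup.map_eq_bot_iff_of_injective _ (MulAut.conj g⁻¹).injective).1 hb)))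
  rwa [smul_inv_smul, CfsgLib.Fusion.conjBy_conjBy_inv] at h

end CfsgLib.LS.FunctorReg
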