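import Cfsg.Agent.Lib.LocalStructure.FunctorRegular
import Cfsg.Agent.Lib.Fusion.Sylow
import Cfsg.Agent.Lib.PGroup.Subnormalizer

/-!
# Normalizers from a functor and singular maximal locals control Sylow intersections
-/

set_option autoImplicit false
set_option linter.style.haveILetI false

open Subgroup
open CfsgLib.Fusion (conjBy mem_conjBy conjBy_conjBy conjBy_one conjBy_inv_conjBy conjBy_mono
  card_conjBy conjBy_conjBy_inv)
open CfsgLib.LS.SylowControl (coe_smul_sylow subgroupConjRight_eq)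
open scoped Pointwise

namespace CfsgLib.LS.FunctorSingular

variable {G : Type*} [Group G] {p : ℕ}

/-- A link through a member of a family. -/
def Step (p : ℕ) (𝓕 : Set (Subgroup G)) (D : Subgroup G) (c c' : Sylow p G) : Prop :=
  ∃ X ∈ Cfsg.sylowMembers p 𝓕 (c : Subgroup G), X ∈ Cfsg.sylowMembers p 𝓕 (c' : Subgroup G) ∧
    ∃ x ∈ X, conjBy x⁻¹ (c' : Subgroup G) = c ∧ D ≤ (c' : Subgroup G) ⊓ X

/-- Linked Sylow subgroups. -/
abbrev Link (p : ℕ) (𝓕 : Set (Subgroup G)) (D : Subgroup G) : Sylow p G → Sylow p G → Prop :=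
  Relation.ReflTransGen (Step p 𝓕 D)

variable {𝓕 : Set (Subgroup G)} {D : Subgroup G}

theorem Link.mono {D' : Subgroup G} {c c' : Sylow p G} (h : Link p 𝓕 D c c') (hD : D' ≤ D) :
    Link p 𝓕 D' c c' := by
  refine Relation.ReflTransGen.mono (r := Step p 𝓕 D) (fun a b hab => ?_) _ _ h
  obtain ⟨X, h1, h2, x, h3, h4, h5⟩ := hab
  exact ⟨X, h1, h2, x, h3, h4, hD.trans h5⟩

/-- Linked pairs give control of intersections. -/
theorem controls_of_link
    (h : ∀ S T : Sylow p G, (S : Subgroup G) ⊓ T ≠ ⊥ → Link p 𝓕 ((S : Subgroup G) ⊓ T) S T) :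
    Cfsg.ControlsSylowIntersections p 𝓕 := by
  intro S T hST hne
  have hpath := h S T hne
  generalize (S : Subgroup G) ⊓ T = D at hpath
  clear hne hST
  induction hpath using Relation.ReflTransGen.head_induction_on with
  | refl => exact ⟨0, fun _ => T, Fin.elim0, Fin.elim0, rfl, rfl, fun i => i.elim0⟩
  | head hab _ ih =>
    rename_i a b _
    obtain ⟨X, h1, h2, x, h3, h4, h5⟩ := hab
    obtain ⟨n, c, Y, y, hc0, hcn, hst⟩ := ih
    refine ⟨n + 1, Fin.cons a c, Fin.cons X Y, Fin.cons x y, Fin.cons_zero _ _, ?_, ?_⟩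
    · rw [show Fin.last (n + 1) = (Fin.last n).succ from (Fin.succ_last n).symm, Fin.cons_succ, hcn]
    intro i
    induction i using Fin.cases with
    | zero =>
      simp only [Fin.castSucc_zero, Fin.cons_zero, Fin.cons_succ, hc0]
      exact ⟨h1, h2, h3, h4, h5⟩
    | succ i =>
      simp only [Fin.castSucc_succ, Fin.cons_succ]
      exact hst i

variable [Finite G] [Fact p.Prime]

/-- The order of a Sylow subgroup. -/
noncomputable def syl (p : ℕ) (M : Subgroup G) : ℕ := p ^ (Nat.card M).factorization p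

theorem card_le_syl {M A : Subgroup G} (hA : IsPGroup p A) (hle : A ≤ M) : Nat.card A ≤ syl p M := by
  obtain ⟨P, hP⟩ := (hA.of_equiv (subgroupOfEquivOfLe hle).symm).exists_le_sylow
  rw [← Nat.card_congr (subgroupOfEquivOfLe hle).toEquiv, syl, ← P.card_eq_multiplicity]
  exact card_le_of_le hP

theorem syl_le_of_le {M N : Subgroup G} (h : M ≤ N) : syl p M ≤ syl p N :=
  Nat.pow_le_pow_right (Fact.out : p.Prime).pos
    ((Nat.factorization_le_iff_dvd Nat.card_pos.ne' Nat.card_pos.ne').2 (card_dvd_of_le h) p)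

/-- A Sylow subgroup of `G` cutting out a Sylow subgroup of `M` above a given `p`-subgroup. -/
theorem exists_cut {M A : Subgroup G} (hA : IsPGroup p A) (hle : A ≤ M) :
    ∃ C : Sylow p G, A ≤ (C : Subgroup G) ⊓ M ∧ Nat.card ↥((C : Subgroup G) ⊓ M) = syl p M := by
  obtain ⟨P, hP⟩ := (hA.of_equiv (subgroupOfEquivOfLe hle).symm).exists_le_sylow
  obtain ⟨C, hC⟩ := (P.2.map M.subtype).exists_le_sylow
  refine ⟨C, fun x hx => ⟨hC ⟨⟨x, hle hx⟩, hP hx, rfl⟩, hle hx⟩, le_antisymm
    (card_le_syl (C.2.to_le inf_le_left) inf_le_right) ?_⟩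
  rw [syl, ← P.card_eq_multiplicity, ← card_map_of_injective M.subtype_injective]
  exact card_le_of_le (le_inf hC (map_subtype_le _))

theorem exists_sylow_eq_cut {M : Subgroup G} {C : Subgroup G} (hC : IsPGroup p C)
    (h : Nat.card ↥(C ⊓ M) = syl p M) : ∃ P : Sylow p M, (P : Subgroup M).map M.subtype = C ⊓ M := by
  refine ⟨Sylow.ofCard ((C ⊓ M).subgroupOf M) ?_, ?_⟩
  · rw [Nat.card_congr (subgroupOfEquivOfLe inf_le_right).toEquiv, h, syl]
  · rw [Sylow.coe_ofCard, subgroupOf_map_subtype, inf_eq_left.2 inf_le_right]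

theorem conjBy_inf_self {M : Subgroup G} (C : Subgroup G) {m : G} (hm : m ∈ M) :
    conjBy m (C ⊓ M) = conjBy m C ⊓ M := by
  rw [CfsgLib.Fusion.conjBy, Subgroup.map_inf _ _ _ (MulAut.conj m).injective]
  congr 1
  exact CfsgLib.LS.SylowControl.conjBy_self_of_mem hm

theorem exists_maximal_local {M : Subgroup G} (hM : Cfsg.IsPLocal p M) :
    ∃ M', Cfsg.IsMaximalPLocal p M' ∧ M ≤ M' := by
  obtain ⟨M', ⟨hl, hle⟩, hmax⟩ :=
    Set.Finite.exists_maximal (s := {N : Subgroup G | Cfsg.IsPLocal p N ∧ M ≤ N}) (Set.toFinite _)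
      ⟨M, hM, le_rfl⟩
  exact ⟨M', ⟨hl, fun N hN h => le_antisymm (hmax ⟨hN, hle.trans h⟩ h) h⟩, hle⟩

theorem ne_of_card_lt {A B : Subgroup G} (h : A ≤ B) (hc : Nat.card A < Nat.card B) : A < B :=
  lt_of_le_of_ne h fun e => (e ▸ hc).false

variable {f : Subgroup G → Set (Subgroup G)}

theorem link_local (hf : Cfsg.IsNormalizerFunctor p f)
    (hf1 : ∀ P : Subgroup G, IsPGroup p ↥P → P ≠ ⊥ → ∀ F ∈ f P, F ≠ ⊥)
    (h𝓕 : ∀ X ∈ Cfsg.functorFamily p f ⊤, X ∈ 𝓕)
    (h𝓕' : ∀ M, Cfsg.IsMaximalPLocal p M → ¬ Cfsg.IsFunctorRegular p f M → M ∈ 𝓕)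
    (hD1 : D ≠ ⊥) (ihD : ∀ c c' : Sylow p G, D < (c : Subgroup G) ⊓ c' → Link p 𝓕 D c c') :
    ∀ (k : ℕ) (M : Subgroup G), Nat.card G - syl p M = k → Cfsg.IsPLocal p M →
      ∀ (S : Sylow p G) (m : G), m ∈ M → D < (S : Subgroup G) ⊓ M →
        D ≤ ((m • S : Sylow p G) : Subgroup G) → Link p 𝓕 D S (m • S) := by
  intro k
  induction k using Nat.strong_induction_on with
  | _ k ih =>
  intro M hk hM S m hm hDS hDm
  have hDM : D ≤ M := hDS.le.trans inf_le_right
  obtain ⟨C, hC, hCc⟩ := exists_cut (M := M) (S.2.to_le inf_le_left) inf_le_right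
  have hDC : D < (C : Subgroup G) ⊓ M := lt_of_lt_of_le hDS hC
  have hDmM : D ≤ conjBy m ((S : Subgroup G) ⊓ M) := by
    rw [conjBy_inf_self _ hm, ← coe_smul_sylow]; exact le_inf hDm hDM
  have hcardS : Nat.card D < Nat.card ↥((S : Subgroup G) ⊓ M) := by
    by_contra h
    exact hDS.ne (eq_of_le_of_card_ge hDS.le (not_lt.1 h))
  have l1 : Link p 𝓕 D S C := ihD S C (lt_of_lt_of_le hDS (le_inf inf_le_left (hC.trans inf_le_left)))
  have l3 : Link p 𝓕 D (m • C) (m • S) := by
    refine ihD _ _ (lt_of_lt_of_le (ne_of_card_lt hDmM (by rwa [card_conjBy])) ?_)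
    rw [coe_smul_sylow, coe_smul_sylow]
    exact le_inf (conjBy_mono (hC.trans inf_le_left)) (conjBy_mono inf_le_left)
  refine l1.trans (Relation.ReflTransGen.trans ?_ l3)
  have hDmC : D ≤ ((m • C : Sylow p G) : Subgroup G) := by
    rw [coe_smul_sylow]; exact hDmM.trans ((conjBy_mono hC).trans (conjBy_mono inf_le_left))
  obtain ⟨M', hM', hMM'⟩ := exists_maximal_local hM
  have hm' := hMM' hm
  have hbound : ∀ N : Subgroup G, syl p N ≤ Nat.card G := fun N =>
    (Nat.le_of_dvd Nat.card_pos (Nat.ordProj_dvd _ _)).trans (card_le_card_group N)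
  rcases lt_or_eq_of_le (syl_le_of_le (p := p) hMM') with hlt | heq
  · refine ih _ ?_ M' rfl hM'.1 C m hm' (lt_of_lt_of_le hDC (inf_le_inf_left _ hMM')) hDmC
    have := hbound M'
    omega
  have hcut : Nat.card ↥((C : Subgroup G) ⊓ M') = syl p M' :=
    le_antisymm (card_le_syl (C.2.to_le inf_le_left) inf_le_right)
      (heq ▸ hCc ▸ card_le_of_le (inf_le_inf_left _ hMM'))
  have hDM' : D ≤ M' := hDM.trans hMM'
  have hmcut : Nat.card ↥(((m • C : Sylow p G) : Subgroup G) ⊓ M') = syl p M' := by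
    rw [coe_smul_sylow, ← conjBy_inf_self _ hm', card_conjBy, hcut]
  by_cases hreg : Cfsg.IsFunctorRegular p f M'
  swap
  · refine Relation.ReflTransGen.single ⟨M', ⟨h𝓕' _ hM' hreg, exists_sylow_eq_cut C.2 hcut⟩,
      ⟨h𝓕' _ hM' hreg, exists_sylow_eq_cut (m • C : Sylow p G).2 hmcut⟩, m, hm', ?_, le_inf hDmC hDM'⟩
    rw [coe_smul_sylow, conjBy_inv_conjBy]
  obtain ⟨A, hA⟩ := exists_sylow_eq_cut C.2 hcut
  obtain ⟨B, hB⟩ := exists_sylow_eq_cut (m • C : Sylow p G).2 hmcut
  have hDA : D < (C : Subgroup G) ⊓ M' := lt_of_lt_of_le hDC (inf_le_inf_left _ hMM')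
  have hcardD : Nat.card D < syl p M' := by
    rw [← hcut]
    by_contra h
    exact hDA.ne (eq_of_le_of_card_ge hDA.le (not_lt.1 h))
  have hDB : D ≤ ((m • C : Sylow p G) : Subgroup G) ⊓ M' := le_inf hDmC hDM'
  have hsizes : ∀ P : Sylow p M', Nat.card ↥((P : Subgroup M').map M'.subtype) = syl p M' := fun P => by
    rw [card_map_of_injective M'.subtype_injective, syl, P.card_eq_multiplicity]
  -- two Sylow subgroups of `G` through one of `M'` are linked
  have hsame : ∀ (P : Sylow p M') (c c' : Sylow p G),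
      (P : Subgroup M').map M'.subtype ≤ (c : Subgroup G) →
      (P : Subgroup M').map M'.subtype ≤ (c' : Subgroup G) →
      D ≤ (P : Subgroup M').map M'.subtype → Link p 𝓕 D c c' := fun P c c' h1 h2 h3 =>
    ihD c c' (lt_of_lt_of_le (ne_of_card_lt h3 (by rw [hsizes]; exact hcardD)) (le_inf h1 h2))
  by_cases hAB : A = B
  · refine hsame A C (m • C) (hA.le.trans inf_le_left) ?_ (hDA.le.trans hA.ge)
    rw [hAB]; exact hB.le.trans inf_le_left
  have hmeet : (A : Subgroup M') ⊓ (B : Subgroup M') ≠ ⊥ := by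
    intro h
    have h1 : D ≤ ((A : Subgroup M') ⊓ (B : Subgroup M')).map M'.subtype := by
      rw [Subgroup.map_inf _ _ _ M'.subtype_injective, hA, hB]
      exact le_inf hDA.le hDB
    rw [h, Subgroup.map_bot, le_bot_iff] at h1
    exact hD1 h1
  obtain ⟨n, c, X, x, hc0, hcn, hstep⟩ := hreg A B hAB hmeet
  choose Cs hCs using fun i : Fin (n + 1) => ((c i).2.map M'.subtype).exists_le_sylow
  have hDc : ∀ i, D ≤ (c i : Subgroup M').map M'.subtype := by
    intro i
    induction i using Fin.cases with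
    | zero => rw [hc0, hA]; exact hDA.le
    | succ i =>
      refine le_trans ?_ (map_mono ((hstep i).2.2.2.2.trans inf_le_left))
      rw [Subgroup.map_inf _ _ _ M'.subtype_injective, hA, hB]
      exact le_inf hDA.le hDB
  have key : ∀ i, Link p 𝓕 D C (Cs i) := by
    intro i
    induction i using Fin.induction with
    | zero =>
      refine hsame A C (Cs 0) (hA.le.trans inf_le_left) ?_ (hDA.le.trans hA.ge)
      rw [← hc0]; exact hCs 0
    | succ i ihi =>
      refine ihi.trans ?_
      obtain ⟨h1, h2, h3, h4, -⟩ := hstep i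
      obtain ⟨Y, ⟨P, F, hF, rfl⟩, hY⟩ := h1.1
      obtain ⟨hFP, hNF⟩ := (hf _ (P.2.map M'.subtype)).1 F hF
      have hPX : (P : Subgroup M') ≤ X i := by
        rw [← hY]
        intro z hz
        exact ⟨z.2, hNF (le_normalizer ⟨z, hz, rfl⟩)⟩
      have hcN : (c i.castSucc : Subgroup M').map M'.subtype ≤ normalizer (F : Set G) := by
        rintro _ ⟨z, hz, rfl⟩
        have := CfsgLib.LS.FunctorReg.le_of_member P hPX _ rfl h1 hz
        rw [← hY] at this
        exact this.2
      have hx : (x i : G) ∈ normalizer (F : Set G) := by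
        rw [← hY] at h3; exact h3.2
      have hxc : (c i.succ : Subgroup M').map M'.subtype =
          conjBy (x i : G) ((c i.castSucc : Subgroup M').map M'.subtype) := by
        rw [← h4, subgroupConjRight_eq, CfsgLib.Fusion.conjBy, CfsgLib.Fusion.conjBy,
          Subgroup.map_map, Subgroup.map_map]
        conv_lhs => rw [show (c i.succ : Subgroup M').map M'.subtype =
          ((c i.succ : Subgroup M').map (MonoidHom.id _)).map M'.subtype by rw [Subgroup.map_id],
          Subgroup.map_map]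
        congr 1
        ext z
        simp [mul_assoc]
      have hxC : (c i.succ : Subgroup M').map M'.subtype ≤
          (((x i : G) • Cs i.castSucc : Sylow p G) : Subgroup G) := by
        rw [hxc, coe_smul_sylow]; exact conjBy_mono (hCs _)
      refine Relation.ReflTransGen.trans ?_
        (hsame _ ((x i : G) • Cs i.castSucc) (Cs i.succ) hxC (hCs _) (hDc _))
      have hDxC : D ≤ (((x i : G) • Cs i.castSucc : Sylow p G) : Subgroup G) := (hDc _).trans hxC
      have hPne : (P : Subgroup M').map M'.subtype ≠ ⊥ := fun h => by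
        have := hsizes P
        rw [h, Subgroup.card_bot] at this
        have := Nat.card_pos (α := D)
        omega
      have hFne := hf1 _ (P.2.map M'.subtype) hPne F hF
      obtain ⟨Q, hQ⟩ := (P.2.map M'.subtype).exists_le_sylow
      by_cases hPQ : (P : Subgroup M').map M'.subtype = Q
      · -- a normalizer from a Sylow subgroup of the whole group
        have hsz : Nat.card (Cs i.castSucc : Subgroup G) =
            Nat.card ↥((c i.castSucc : Subgroup M').map M'.subtype) := by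
          rw [hsizes, ← hsizes P, hPQ, Sylow.card_eq_multiplicity, Sylow.card_eq_multiplicity]
        have hCle : (Cs i.castSucc : Subgroup G) ≤ normalizer (F : Set G) :=
          (eq_of_le_of_card_ge (hCs _) hsz.le).ge.trans hcN
        have hmem : normalizer (F : Set G) ∈ 𝓕 := h𝓕 _
          ⟨Q.subtype le_top, F, by
            rw [Sylow.coe_subtype, subgroupOf_map_subtype, inf_eq_left.2 le_top, ← hPQ]; exact hF,
            top_inf_eq _ |>.symm⟩
        have hmemC : ∀ c' : Sylow p G, (c' : Subgroup G) ≤ normalizer (F : Set G) →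
            normalizer (F : Set G) ∈ Cfsg.sylowMembers p 𝓕 (c' : Subgroup G) := fun c' hc' =>
          ⟨hmem, c'.subtype hc', by rw [Sylow.coe_subtype, subgroupOf_map_subtype]⟩
        have hxle : (((x i : G) • Cs i.castSucc : Sylow p G) : Subgroup G) ≤ normalizer (F : Set G) := by
          rw [coe_smul_sylow]
          exact (conjBy_mono hCle).trans (CfsgLib.LS.SylowControl.conjBy_self_of_mem hx).le
        refine Relation.ReflTransGen.single ⟨_, hmemC _ hCle, hmemC _ hxle, _, hx, ?_,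
          le_inf hDxC (hDxC.trans hxle)⟩
        rw [coe_smul_sylow, conjBy_inv_conjBy]
      · haveI : Group.IsNilpotent (Q : Subgroup G) := Q.2.isNilpotent
        have hlt : (P : Subgroup M').map M'.subtype <
            (Q : Subgroup G) ⊓ normalizer (((P : Subgroup M').map M'.subtype : Subgroup G) : Set G) :=
          CfsgLib.Subnormalizer.lt_inf_normalizer Q.2 (lt_of_le_of_ne hQ hPQ)
        have hbig : syl p M < syl p (normalizer (F : Set G)) := by
          rw [heq, ← hsizes P]
          refine lt_of_lt_of_le ?_ (card_le_syl (Q.2.to_le inf_le_left) (inf_le_right.trans hNF))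
          by_contra h
          exact hlt.ne (eq_of_le_of_card_ge hlt.le (not_lt.1 h))
        have hloc : Cfsg.IsPLocal p (normalizer (F : Set G)) :=
          ⟨F, (P.2.map M'.subtype).to_le hFP, hFne, rfl⟩
        refine ih _ ?_ _ rfl hloc (Cs i.castSucc) _ hx
          (lt_of_lt_of_le (ne_of_card_lt (hDc _) (by rw [hsizes]; exact hcardD)) (le_inf (hCs _) hcN))
          hDxC
        have := hbound (normalizer (F : Set G))
        omega
  refine (key (Fin.last n)).trans (hsame B _ _ ?_ (hB.le.trans inf_le_left) ?_)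
  · rw [← hcn]; exact hCs _
  · rw [hB]; exact hDB

/-- Functor normalizers and singular maximal locals control Sylow intersections. -/
theorem controls (hf : Cfsg.IsNormalizerFunctor p f)
    (hf1 : ∀ P : Subgroup G, IsPGroup p ↥P → P ≠ ⊥ → ∀ F ∈ f P, F ≠ ⊥)
    (h𝓕 : ∀ X ∈ Cfsg.functorFamily p f ⊤, X ∈ 𝓕)
    (h𝓕' : ∀ M, Cfsg.IsMaximalPLocal p M → ¬ Cfsg.IsFunctorRegular p f M → M ∈ 𝓕) :
    Cfsg.ControlsSylowIntersections p 𝓕 := by
  suffices h : ∀ (k : ℕ) (D : Subgroup G), Nat.card G - Nat.card D = k → D ≠ ⊥ →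
      ∀ c c' : Sylow p G, D ≤ (c : Subgroup G) ⊓ c' → Link p 𝓕 D c c' from
    controls_of_link fun S T hne => h _ _ rfl hne S T le_rfl
  intro k
  induction k using Nat.strong_induction_on with
  | _ k ih =>
  intro D hk hD1 c c' hle
  have ihD : ∀ a b : Sylow p G, D < (a : Subgroup G) ⊓ b → Link p 𝓕 D a b := by
    intro a b hlt
    have hc : Nat.card D < Nat.card ↥((a : Subgroup G) ⊓ b) := by
      by_contra h
      exact hlt.ne (eq_of_le_of_card_ge hlt.le (not_lt.1 h))
    have := card_le_card_group ((a : Subgroup G) ⊓ b)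
    exact (ih _ (by omega) _ rfl (fun h => hD1 (le_bot_iff.1 (h ▸ hlt.le))) a b le_rfl).mono hlt.le
  rcases lt_or_eq_of_le hle with hlt | heq
  · exact ihD c c' hlt
  by_cases hcc : c = c'
  · exact hcc ▸ Relation.ReflTransGen.refl
  have hDp : IsPGroup p D := c.2.to_le (hle.trans inf_le_left)
  set M := normalizer (D : Set G) with hM
  have hgrow : ∀ a : Sylow p G, D ≤ (a : Subgroup G) → (a : Subgroup G) ≠ D →
      D < (a : Subgroup G) ⊓ M := fun a h1 h2 => by
    haveI : Group.IsNilpotent (a : Subgroup G) := a.2.isNilpotent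
    exact CfsgLib.Subnormalizer.lt_inf_normalizer a.2 (lt_of_le_of_ne h1 h2.symm)
  have hne : ∀ a : Sylow p G, (a : Subgroup G) ≠ D := fun a ha => hcc (Sylow.ext
    ((Subgroup.eq_of_le_of_card_ge (hle.trans inf_le_left)
      (by rw [← ha, a.card_eq_multiplicity, c.card_eq_multiplicity])).symm.trans
    (Subgroup.eq_of_le_of_card_ge (hle.trans inf_le_right)
      (by rw [← ha, a.card_eq_multiplicity, c'.card_eq_multiplicity]))))
  have h1 := hgrow c (hle.trans inf_le_left) (hne c)
  have h2 := hgrow c' (hle.trans inf_le_right) (hne c')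
  obtain ⟨C, hC, hCc⟩ := exists_cut (p := p) (M := M) (c.2.to_le inf_le_left) inf_le_right
  obtain ⟨C', hC', hC'c⟩ := exists_cut (p := p) (M := M) (c'.2.to_le inf_le_left) inf_le_right
  obtain ⟨A, hA⟩ := exists_sylow_eq_cut C.2 hCc
  obtain ⟨B, hB⟩ := exists_sylow_eq_cut C'.2 hC'c
  obtain ⟨m, hm⟩ := MulAction.exists_smul_eq M A B
  have hmB : (C' : Subgroup G) ⊓ M = conjBy (m : G) ((C : Subgroup G) ⊓ M) := by
    rw [← hA, ← hB, ← hm, CfsgLib.Fusion.conjBy, Subgroup.map_map,
      show ((m • A : Sylow p M) : Subgroup M) = (A : Subgroup M).map (MulAut.conj m).toMonoidHom from rfl,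
      Subgroup.map_map]
    rfl
  have hmle : (C' : Subgroup G) ⊓ M ≤ (((m : G) • C : Sylow p G) : Subgroup G) := by
    rw [hmB, coe_smul_sylow]; exact conjBy_mono inf_le_left
  have l1 : Link p 𝓕 D c C := ihD c C (lt_of_lt_of_le h1 (le_inf inf_le_left (hC.trans inf_le_left)))
  have l2 : Link p 𝓕 D C ((m : G) • C) :=
    link_local hf hf1 h𝓕 h𝓕' hD1 ihD _ M rfl ⟨D, hDp, hD1, rfl⟩ C m m.2 (lt_of_lt_of_le h1 hC)
      ((lt_of_lt_of_le h2 hC').le.trans hmle)
  have l3 : Link p 𝓕 D ((m : G) • C) C' :=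
    ihD _ _ (lt_of_lt_of_le (lt_of_lt_of_le h2 hC') (le_inf hmle inf_le_left))
  have l4 : Link p 𝓕 D C' c' :=
    ihD _ _ (lt_of_lt_of_le h2 (le_inf (hC'.trans inf_le_left) inf_le_left))
  exact ((l1.trans l2).trans l3).trans l4

end CfsgLib.LS.FunctorSingular
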