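import Cfsg.Agent.Lib.LocalStructure.IsolatedLayer
import Cfsg.Agent.S2790
import Cfsg.Agent.S2905
import Cfsg.Agent.Lib.Fusion.Residual
import Cfsg.Agent.Lib.Coprime.Solvable

/-!
# Isolated p-minimal subgroups
-/

set_option autoImplicit false
set_option linter.unusedSectionVars false

open Subgroup
open scoped commutatorElement

namespace CfsgLib.Isolated

/-- `p`-minimality passes through isomorphisms. -/
theorem isPMinimal_map {X X' : Type*} [Group X] [Group X'] [Finite X] {p : ℕ} [Fact p.Prime]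
    (e : X ≃* X') (h : Cfsg.IsPMinimal p X) : Cfsg.IsPMinimal p X' := by
  haveI : Finite X' := Finite.of_equiv X e.toEquiv
  obtain ⟨P⟩ := (inferInstance : Nonempty (Sylow p X))
  obtain ⟨hn, M, ⟨hM, hPM⟩, hu⟩ := h P
  have hsurj : Function.Surjective e.toMonoidHom := e.surjective
  refine CfsgLib.PMinimalComponent.isPMinimal_of_sylow (P.mapSurjective hsurj) ?_ ⟨e.mapSubgroup M, ⟨?_, ?_⟩, ?_⟩
  · intro hn'
    rw [Sylow.coe_mapSurjective] at hn'
    refine hn ?_
    have := hn'.comap e.toMonoidHom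
    rwa [comap_map_eq_self_of_injective e.injective] at this
  · exact (OrderIso.isCoatom_iff e.mapSubgroup M).2 hM
  · rw [Sylow.coe_mapSurjective]
    exact map_mono hPM
  · rintro N ⟨hN, hPN⟩
    have h1 := hu (e.mapSubgroup.symm N) ⟨(OrderIso.isCoatom_iff e.mapSubgroup.symm N).2 hN, ?_⟩
    · rw [← h1, OrderIso.apply_symm_apply]
    · rw [Sylow.coe_mapSurjective] at hPN
      exact e.mapSubgroup.le_symm_apply.2 hPN

variable {G : Type*} [Group G] [Finite G] {p : ℕ} [Fact p.Prime]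

/-- A subgroup above `S` lies in any subgroup containing its normalizer of `S` and its `p`-minimal
subgroups above `S`. -/
theorem le_of_pMinimal (S : Sylow p G) {H K : Subgroup G} (hSH : (S : Subgroup G) ≤ H)
    (hN : normalizer ((S : Subgroup G) : Set G) ⊓ H ≤ K)
    (hP : ∀ P' : Subgroup G, (S : Subgroup G) ≤ P' → P' ≤ H → Cfsg.IsPMinimal p P' → P' ≤ K) :
    H ≤ K := by
  have hr := Cfsg.Agent.S2790.result (G := H) (S.subtype hSH)
  rw [Sylow.coe_subtype] at hr
  intro h hh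
  obtain ⟨x, hx, y, hy, hxy⟩ := hr.2 ⟨h, hh⟩
  have hle : Cfsg.pElementClosure p (⊤ : Subgroup H) ≤ K.subgroupOf H := by
    rw [← hr.1]
    refine sup_le (fun s hs => hN (mem_inf.2 ⟨le_normalizer hs, s.2⟩)) (iSup_le fun P' => ?_)
    refine map_le_iff_le_comap.1 (hP (P'.1.map H.subtype) (fun s hs => ⟨⟨s, hSH hs⟩, P'.2.1 hs, rfl⟩)
      (map_subtype_le _) (isPMinimal_map (P'.1.equivMapOfInjective H.subtype H.subtype_injective) P'.2.2))
  have hyN : (y : G) ∈ normalizer ((S : Subgroup G) : Set G) := by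
    refine mem_normalizer_iff.2 fun z => ?_
    constructor
    · intro hz
      exact (mem_normalizer_iff.1 hy ⟨z, hSH hz⟩).1 hz
    · intro hz
      have hzH : z ∈ H := by simpa [mul_assoc] using mul_mem (mul_mem (inv_mem y.2) (hSH hz)) y.2
      exact (mem_normalizer_iff.1 hy ⟨z, hzH⟩).2 hz
  have := mul_mem (hle hx) (hN (mem_inf.2 ⟨hyN, y.2⟩))
  rwa [show h = (x : G) * y from congrArg Subtype.val hxy]

variable (S : Sylow p G) (P L Y : Subgroup G)

/-- The hypotheses of the isolated situation. -/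
structure Hyp : Prop where
  hSP : (S : Subgroup G) ≤ P
  hPmin : Cfsg.IsPMinimal p ↥P
  hNL : normalizer ((S : Subgroup G) : Set G) ≤ L
  hPL : ∀ P' : Subgroup G, (S : Subgroup G) ≤ P' → Cfsg.IsPMinimal p P' → P' ≠ P → P' ≤ L
  hiso : ¬ Cfsg.pCoreOf p L ≤ Cfsg.pCoreOf p P
  hY : Y = normalClosure ((Cfsg.pResidualOf p P : Subgroup G) : Set G)

variable {S P L Y}

theorem Hyp.mk' (hSP : (S : Subgroup G) ≤ P) (hPmin : Cfsg.IsPMinimal p ↥P)
    (hL : L = Subgroup.normalizer ((S : Subgroup G) : Set G) ⊔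
      ⨆ P' : {P' : Subgroup G // (S : Subgroup G) ≤ P' ∧ Cfsg.IsPMinimal p ↥P' ∧ P' ≠ P}, (P' : Subgroup G))
    (hiso : ¬ (Cfsg.pCore p ↥L).map L.subtype ≤ (Cfsg.pCore p ↥P).map P.subtype)
    (hY : Y = Subgroup.normalClosure (((Cfsg.pResidual p ↥P).map P.subtype : Subgroup G) : Set G)) :
    Hyp S P L Y :=
  ⟨hSP, hPmin, hL ▸ le_sup_left, fun P' h1 h2 h3 => hL ▸ le_sup_of_le_right
    (le_iSup (fun P' : {P' : Subgroup G // (S : Subgroup G) ≤ P' ∧ Cfsg.IsPMinimal p ↥P' ∧ P' ≠ P} =>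
      (P' : Subgroup G)) ⟨P', h1, h2, h3⟩), hiso, hY⟩

namespace Hyp

variable (h : Hyp S P L Y)
include h

theorem sl : (S : Subgroup G) ≤ L := le_normalizer.trans h.hNL

theorem core_le_sylow : Cfsg.pCoreOf p L ≤ (S : Subgroup G) := by
  rintro _ ⟨x, hx, rfl⟩
  exact CfsgLib.Coprime.pCore_le_sylow (S.subtype h.sl) hx

theorem residual_sup : Cfsg.pResidualOf p P ⊔ (S : Subgroup G) = P := by
  have h1 := congrArg (map P.subtype) (CfsgLib.Fusion.pResidual_sup_sylow (S.subtype h.hSP))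
  rwa [Subgroup.map_sup, Sylow.coe_subtype, map_subgroupOf_eq_of_le h.hSP, ← MonoidHom.range_eq_map,
    range_subtype] at h1

theorem residual_normalized : (S : Subgroup G) ≤ normalizer (Cfsg.pResidualOf p P : Set G) := by
  haveI := CfsgLib.Fusion.pResidual_normal (G := P) (p := p)
  exact h.hSP.trans ((le_normalizer_map P.subtype).trans' (by
    rw [normalizer_eq_top, ← MonoidHom.range_eq_map, range_subtype]))

theorem dichotomy {D : Subgroup G} (hD : (S : Subgroup G) ≤ normalizer (D : Set G)) :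
    Cfsg.pResidualOf p P ≤ D ∨ D ≤ L := by
  by_cases hP : P ≤ D ⊔ (S : Subgroup G)
  · left
    rw [CfsgLib.BaumannNormal.pResidualOf_eq_closure]
    exact (closure_le _).2 fun x hx => CfsgLib.BaumannNormal.coprime_mem_sup S.2 hD (hP hx.1) hx.2
  · right
    refine le_sup_left.trans (le_of_pMinimal S le_sup_right (inf_le_left.trans h.hNL) fun P' h1 h2 h3 => ?_)
    exact h.hPL P' h1 h3 fun e => hP (e ▸ h2)

theorem closed {C : Subgroup G} [C.Normal] (hQ : Cfsg.pCoreOf p L ≤ C) : Cfsg.pResidualOf p P ≤ C := by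
  obtain ⟨-, M, ⟨hM, hSM⟩, -⟩ := h.hPmin (S.subtype h.hSP)
  haveI : M.normalCore.Normal := normalCore_normal M
  obtain ⟨h1, -, h3, -, -⟩ := Cfsg.Agent.S2905.result h.hPmin (S.subtype h.hSP) M hM hSM
  rcases h3 (C.subgroupOf P) inferInstance with h4 | h4
  · exact map_le_iff_le_comap.2 h4
  exfalso
  refine h.hiso fun x hx => ?_
  have hxS := h.core_le_sylow hx
  refine ⟨⟨x, h.hSP hxS⟩, h1 _ (inferInstance : (C.subgroupOf P).Normal).isSubnormal
    (h4.trans (normalCore_le M)) (mem_inf.2 ⟨hQ hx, ?_⟩), rfl⟩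
  rw [Sylow.coe_subtype]
  exact hxS

theorem pCore_normalized : L ≤ normalizer (Cfsg.pCoreOf p L : Set G) :=
  CfsgLib.JComp.le_normalizer_pCoreOf p L

theorem y_sup_l : Y ⊔ L = ⊤ := by
  refine eq_top_iff.2 (le_of_pMinimal S le_top (inf_le_left.trans (h.hNL.trans le_sup_right)) fun P' h1 _ h3 => ?_)
  by_cases e : P' = P
  · rw [e, ← h.residual_sup]
    exact sup_le (le_sup_of_le_left (h.hY ▸ le_normalClosure)) (le_sup_of_le_right h.sl)
  · exact (h.hPL P' h1 h3 e).trans le_sup_right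

theorem iso_data [(Cfsg.pCore p G).Normal] :
    IsoData p ((S : Subgroup G).map (QuotientGroup.mk' (Cfsg.pCore p G)))
      ((Cfsg.pCoreOf p L).map (QuotientGroup.mk' (Cfsg.pCore p G)))
      (L.map (QuotientGroup.mk' (Cfsg.pCore p G)))
      ((Cfsg.pResidualOf p P).map (QuotientGroup.mk' (Cfsg.pCore p G)))
      (Y.map (QuotientGroup.mk' (Cfsg.pCore p G))) := by
  obtain ⟨π, hπ⟩ : ∃ π, π = QuotientGroup.mk' (Cfsg.pCore p G) := ⟨_, rfl⟩
  rw [← hπ]
  have hsurj : Function.Surjective π := hπ ▸ QuotientGroup.mk'_surjective _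
  have hker : π.ker = Cfsg.pCore p G := by rw [hπ, QuotientGroup.ker_mk']
  refine ⟨S.2.map π, map_mono h.sl, map_mono h.core_le_sylow,
    (map_mono h.pCore_normalized).trans (le_normalizer_map π),
    (map_mono h.residual_normalized).trans (le_normalizer_map π), fun D hD => ?_, fun C hC hQ => ?_, ?_, ?_, ?_, ?_⟩
  · have hS : (S : Subgroup G) ≤ normalizer (D.comap π : Set G) := fun s hs => by
      refine mem_normalizer_iff.2 fun y => ?_
      rw [mem_comap, mem_comap, map_mul, map_mul, map_inv]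
      exact mem_normalizer_iff.1 (hD ⟨s, hs, rfl⟩) _
    rcases h.dichotomy hS with h1 | h1
    · exact Or.inl (map_le_iff_le_comap.2 h1)
    · exact Or.inr ((map_comap_eq_self_of_surjective hsurj D).ge.trans (map_mono h1))
  · exact map_le_iff_le_comap.2 (h.closed (map_le_iff_le_comap.1 hQ))
  · intro hc
    obtain ⟨X, hX⟩ : ∃ X, X = Cfsg.pCoreOf p L ⊔ Cfsg.pCore p G := ⟨_, rfl⟩
    have hXS : X ≤ (S : Subgroup G) :=
      hX ▸ sup_le h.core_le_sylow (CfsgLib.Coprime.pCore_le_sylow S)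
    have hconj : ∀ e ∈ Cfsg.pResidualOf p P, ∀ x ∈ X, e * x * e⁻¹ ∈ X := by
      intro e he x hx
      have hxQ : π x ∈ (Cfsg.pCoreOf p L).map π := by
        have h1 : π x ∈ X.map π := ⟨x, hx, rfl⟩
        rwa [hX, Subgroup.map_sup, (Subgroup.map_eq_bot_iff _).2 hker.ge, sup_bot_eq] at h1
      have he' := mem_centralizer_iff.1 (hc hxQ) (π e) ⟨e, he, rfl⟩
      have hk : e * x * e⁻¹ * x⁻¹ ∈ Cfsg.pCore p G := by
        rw [← hker, MonoidHom.mem_ker, map_mul, map_mul, map_mul, map_inv, map_inv, he']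
        group
      rw [show e * x * e⁻¹ = (e * x * e⁻¹ * x⁻¹) * x by group]
      exact mul_mem (hX ▸ mem_sup_right hk) hx
    have hPX : P ≤ normalizer (X : Set G) := by
      rw [← h.residual_sup]
      refine sup_le (fun e he => mem_normalizer_iff.2 fun x => ⟨hconj e he x, fun hx => ?_⟩) ?_
      · simpa [mul_assoc] using hconj e⁻¹ (inv_mem he) _ hx
      · rw [hX]
        exact CfsgLib.Coprime.sup_le_normalizer (h.sl.trans h.pCore_normalized)
          (by rw [normalizer_eq_top]; exact le_top)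
    exact h.hiso ((hX ▸ le_sup_left : Cfsg.pCoreOf p L ≤ X).trans
      (CfsgLib.JComp.le_pCoreOf (hXS.trans h.hSP) (S.2.to_le hXS) hPX))
  · rw [h.hY, map_normalClosure _ _ hsurj]
    rfl
  · rw [← Subgroup.map_sup, h.y_sup_l, map_top_of_surjective _ hsurj]
  · exact CfsgLib.Coprime.pCore_quotient_eq_bot p

theorem y_inf_core [(Cfsg.pCore p G).Normal] :
    Cfsg.pCore p Y = (Cfsg.pCore p G).subgroupOf Y := by
  haveI : Y.Normal := h.hY ▸ normalClosure_normal
  refine le_antisymm (map_le_iff_le_comap.1 ?_) ?_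
  · haveI : (Cfsg.pCoreOf p Y).Normal := normalizer_eq_top_iff.1 (eq_top_iff.2
      ((normalizer_eq_top (H := Y)).ge.trans (CfsgLib.JComp.normalizer_le_normalizer_pCoreOf Y)))
    exact CfsgLib.Coprime.le_pCore (N := Cfsg.pCoreOf p Y) (CfsgLib.JComp.isPGroup_pCoreOf p Y)
  · exact CfsgLib.Coprime.le_pCore (CfsgLib.Coprime.pCore_isPGroup p).comap_subtype

theorem residual_eq_y [(Cfsg.pCore p G).Normal]
    (hWY : (Cfsg.pResidualOf p P).map (QuotientGroup.mk' (Cfsg.pCore p G)) =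
      Y.map (QuotientGroup.mk' (Cfsg.pCore p G))) : Cfsg.pResidualOf p P = Y := by
  refine le_antisymm (h.hY ▸ le_normalClosure) ?_
  haveI : Y.Normal := h.hY ▸ normalClosure_normal
  have hYle : Y ≤ Cfsg.pResidualOf p P ⊔ Cfsg.pCore p G := by
    intro y hy
    have h1 : QuotientGroup.mk' (Cfsg.pCore p G) y ∈ (Cfsg.pResidualOf p P).map (QuotientGroup.mk' (Cfsg.pCore p G)) :=
      hWY.ge ⟨y, hy, rfl⟩
    rw [← mem_comap, comap_map_eq, QuotientGroup.ker_mk'] at h1
    exact h1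
  haveI := CfsgLib.Fusion.pResidual_normal (G := Y) (p := p)
  haveI : (Cfsg.pResidual p Y).Characteristic := Subgroup.characteristic_iff_map_le.2 fun e => by
    rw [Cfsg.pResidual, MonoidHom.map_closure]
    refine closure_mono ?_
    rintro _ ⟨x, hx, rfl⟩
    show (orderOf (e x)).Coprime p
    rw [e.orderOf_eq]
    exact hx
  haveI : (Cfsg.pResidualOf p Y).Normal := inferInstanceAs ((Cfsg.pResidual p Y).map Y.subtype).Normal
  have hYres : Y ≤ Cfsg.pResidualOf p Y := by
    conv_lhs => rw [h.hY]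
    refine normalClosure_le_normal ?_
    show Cfsg.pResidualOf p P ≤ _
    rw [CfsgLib.BaumannNormal.pResidualOf_eq_closure]
    refine (closure_le _).2 fun x hx => ?_
    rw [CfsgLib.BaumannNormal.pResidualOf_eq_closure]
    refine subset_closure ⟨h.hY ▸ le_normalClosure ?_, hx.2⟩
    rw [CfsgLib.BaumannNormal.pResidualOf_eq_closure]
    exact subset_closure hx
  refine hYres.trans ?_
  rw [CfsgLib.BaumannNormal.pResidualOf_eq_closure]
  exact (closure_le _).2 fun x hx => CfsgLib.BaumannNormal.coprime_mem_sup (CfsgLib.Coprime.pCore_isPGroup p)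
    ((CfsgLib.Coprime.pCore_le_sylow S).trans h.residual_normalized) (hYle hx.1) hx.2

end Hyp

end CfsgLib.Isolated
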