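import Cfsg.Agent.Lib.LocalStructure.IsolatedCore

/-!
# An isolated p-minimal subgroup: the two cases
-/

set_option autoImplicit false
set_option linter.unusedSectionVars false

open Subgroup
open scoped commutatorElement

namespace CfsgLib.Isolated

variable {H : Type*} [Group H] [Finite H] {p : ℕ} [Fact p.Prime]

/-- A subgroup of an abelian group of exponent `t` has a complement. -/
theorem exists_complement_of_exponent {t : ℕ} [Fact t.Prime] {V W : Subgroup H} (hWV : W ≤ V)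
    (hc : ∀ a ∈ V, ∀ b ∈ V, a * b = b * a) (ht : ∀ a ∈ V, a ^ t = 1) :
    ∃ A : Subgroup H, A ≤ V ∧ A ⊓ W = ⊥ ∧ W ⊔ A = V := by
  obtain ⟨A, -, hA⟩ := exists_maximal_ge_of_wellFoundedGT
    (fun A : Subgroup H => A ≤ V ∧ A ⊓ W = ⊥) ⊥ ⟨bot_le, bot_inf_eq _⟩
  obtain ⟨hAV, hAW⟩ := hA.prop
  refine ⟨A, hAV, hAW, le_antisymm (sup_le hWV hAV) fun x hx => ?_⟩
  by_contra hxn
  have hn : ∀ {B : Subgroup H}, B ≤ V → zpowers x ≤ normalizer (B : Set H) := fun {B} hB z hz => by
    refine centralizer_le_normalizer _ (mem_centralizer_iff.2 fun b hb => ?_)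
    exact hc b (hB hb) z (zpowers_le.2 hx hz)
  have hdis : (A ⊔ zpowers x) ⊓ W = ⊥ := by
    refine (Subgroup.eq_bot_iff_forall _).2 fun w hw => ?_
    obtain ⟨h1, h2⟩ := mem_inf.1 hw
    obtain ⟨a, ha, z, hz, rfl⟩ := CfsgLib.Coprime.mem_sup_exists (hn hAV) h1
    have hzW : z ∈ W ⊔ A := by
      have := mul_mem ((le_sup_right : A ≤ W ⊔ A) (inv_mem ha)) ((le_sup_left : W ≤ W ⊔ A) h2)
      simpa using this
    have hz1 : z = 1 := by
      by_contra hz1
      apply hxn
      have hxo : orderOf x = t := orderOf_eq_prime (ht x hx) fun h => by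
        rw [h, zpowers_one_eq_bot, Subgroup.mem_bot] at hz
        exact hz1 hz
      haveI : Fact (Nat.card (zpowers x)).Prime := ⟨by rw [Nat.card_zpowers, hxo]; exact Fact.out⟩
      rcases (((W ⊔ A).subgroupOf (zpowers x))).eq_bot_or_eq_top_of_prime_card with h | h
      · exact absurd (congrArg Subtype.val ((Subgroup.eq_bot_iff_forall _).1 h ⟨z, hz⟩ hzW)) hz1
      · exact Subgroup.subgroupOf_eq_top.1 h (mem_zpowers x)
    rw [hz1, mul_one] at h2 ⊢
    exact (Subgroup.mem_bot).1 (hAW ▸ mem_inf.2 ⟨ha, h2⟩)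
  have := hA.2 ⟨sup_le hAV (zpowers_le.2 hx), hdis⟩ le_sup_left
  exact hxn (mem_sup_right ((le_sup_right.trans this) (mem_zpowers x)))

variable {S Q L W Y : Subgroup H}

namespace IsoData

variable (d : IsoData p S Q L W Y)
include d

theorem w_eq_y {t : ℕ} [Fact t.Prime] (htp : t ≠ p) (hY : IsPGroup t Y) : W = Y := by
  haveI := d.y_normal
  haveI : Nontrivial Y := (nontrivial_iff_ne_bot Y).2 d.y_ne_bot
  haveI : (frattini Y).Characteristic := frattini_characteristic
  obtain ⟨F, hF⟩ : ∃ F, F = (frattini Y).map Y.subtype := ⟨_, rfl⟩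
  haveI hFn : F.Normal := hF ▸ inferInstance
  have hFY : F ≤ Y := hF ▸ map_subtype_le _
  obtain ⟨π, hπ⟩ : ∃ π : H →* H ⧸ F, π = QuotientGroup.mk' F := ⟨_, rfl⟩
  have hker : π.ker = F := by rw [hπ, QuotientGroup.ker_mk']
  obtain ⟨V, hV⟩ : ∃ V, V = Y.map π := ⟨_, rfl⟩
  obtain ⟨W', hW'⟩ : ∃ W', W' = W.map π := ⟨_, rfl⟩
  have hW'V : W' ≤ V := hV ▸ hW' ▸ map_mono d.w_le_y
  have hc : ∀ a ∈ V, ∀ b ∈ V, a * b = b * a := by
    rw [hV]
    rintro _ ⟨a, ha, rfl⟩ _ ⟨b, hb, rfl⟩
    rw [← commutatorElement_eq_one_iff_mul_comm, ← map_commutatorElement, ← MonoidHom.mem_ker, hker, hF]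
    exact ⟨⁅⟨a, ha⟩, ⟨b, hb⟩⁆, CfsgLib.Coprime.commutator_le_frattini hY
      (commutator_mem_commutator (mem_top _) (mem_top _)), by simp [commutatorElement_def]⟩
  have ht : ∀ a ∈ V, a ^ t = 1 := by
    rw [hV]
    rintro _ ⟨a, ha, rfl⟩
    rw [← map_pow, ← MonoidHom.mem_ker, hker, hF]
    exact ⟨⟨a, ha⟩ ^ t, CfsgLib.Coprime.pow_mem_frattini hY _, by simp⟩
  by_contra hne
  obtain ⟨X, hX⟩ : ∃ X, X = V ⊔ S.map π := ⟨_, rfl⟩
  have hVn : S.map π ≤ normalizer (V : Set (H ⧸ F)) := by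
    rw [hV]
    exact (map_mono (show S ≤ normalizer (Y : Set H) by rw [normalizer_eq_top]; exact le_top)).trans
      (le_normalizer_map π)
  have hVX : X ≤ normalizer (V : Set (H ⧸ F)) := hX ▸ sup_le le_normalizer hVn
  have hWX : X ≤ normalizer (W' : Set (H ⧸ F)) := by
    rw [hX]
    refine sup_le (fun v hv => centralizer_le_normalizer _
      (mem_centralizer_iff.2 fun w hw => hc w (hW'V hw) v hv)) ?_
    rw [hW']
    exact (map_mono d.wn).trans (le_normalizer_map π)
  haveI hKn : (W'.subgroupOf X).Normal :=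
    (normal_subgroupOf_iff_le_normalizer (hW'V.trans (hX ▸ le_sup_left))).2 hWX
  haveI : IsMulCommutative (W'.subgroupOf X) :=
    ⟨⟨fun a b => Subtype.ext (Subtype.ext (hc _ (hW'V a.2) _ (hW'V b.2)))⟩⟩
  obtain ⟨A, hAV, hAW, hWA⟩ := exists_complement_of_exponent hW'V hc ht
  have hVle : V ≤ X := hX ▸ le_sup_left
  have D : CfsgLib.Coprime.GzData (W'.subgroupOf X) (V.subgroupOf X) (A.subgroupOf X) :=
    { le := fun x hx => hAV hx
      inf_eq := by
        refine (Subgroup.eq_bot_iff_forall _).2 fun x hx => Subtype.ext ?_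
        exact (Subgroup.mem_bot).1 (hAW ▸ mem_inf.2 ⟨(mem_inf.1 hx).1, (mem_inf.1 hx).2⟩ : (x : H ⧸ F) ∈ (⊥ : Subgroup (H ⧸ F)))
      sup_eq := by
        rw [← subgroupOf_sup (hW'V.trans hVle) (hAV.trans hVle), hWA] }
  have hcop : (Nat.card (W'.subgroupOf X)).Coprime (V.subgroupOf X).index := by
    have hidx : (V.subgroupOf X).index ∣ Nat.card (S.map π) := by
      haveI : (V.subgroupOf X).Normal := (normal_subgroupOf_iff_le_normalizer hVle).2 hVX
      have hSX : S.map π ≤ X := hX ▸ le_sup_right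
      have htop : (S.map π).subgroupOf X ⊔ V.subgroupOf X = ⊤ := by
        rw [← subgroupOf_sup hSX hVle, sup_comm, ← hX, subgroupOf_self]
      rw [← relIndex_top_right, ← htop, relIndex_sup_right,
        ← Nat.card_congr (subgroupOfEquivOfLe hSX).toEquiv]
      exact relIndex_dvd_card _ _
    obtain ⟨a, ha⟩ := IsPGroup.iff_card.1 (show IsPGroup t (W'.subgroupOf X) from
      ((hY.map π).to_le (hV ▸ hW'V)).comap_subtype)
    obtain ⟨b, hb⟩ := IsPGroup.iff_card.1 (d.sp.map π)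
    rw [hb] at hidx
    rw [ha]
    exact ((Nat.coprime_primes Fact.out Fact.out).2 htp).pow a b |>.coprime_dvd_right hidx
  obtain ⟨C, hC⟩ := CfsgLib.Coprime.gaschutz_exists D hcop
  -- the invariant complement in `V`
  obtain ⟨D', hD'⟩ : ∃ D', D' = C.map X.subtype ⊓ V := ⟨_, rfl⟩
  have hD'dis : D' ⊓ W' = ⊥ := by
    refine (Subgroup.eq_bot_iff_forall _).2 fun x hx => ?_
    obtain ⟨h1, h2⟩ := mem_inf.1 hx
    rw [hD'] at h1
    obtain ⟨c, hcC, rfl⟩ := (mem_inf.1 h1).1
    have := disjoint_def.1 hC.disjoint (show c ∈ W'.subgroupOf X from h2) hcC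
    rw [this]; rfl
  have hD'sup : V ≤ W' ⊔ D' := by
    intro v hv
    obtain ⟨⟨k, c⟩, hkc⟩ := hC.2 ⟨v, hVle hv⟩
    have hvv : ((k : X) : H ⧸ F) * ((c : X) : H ⧸ F) = v := congrArg Subtype.val hkc
    have hcV : ((c : X) : H ⧸ F) ∈ V := by
      have h := mul_mem (inv_mem (hW'V k.2)) hv
      have e : ((k : X) : H ⧸ F)⁻¹ * v = ((c : X) : H ⧸ F) := by rw [← hvv, inv_mul_cancel_left]
      exact e ▸ h
    rw [← hvv]
    exact mul_mem (mem_sup_left k.2) (mem_sup_right (hD' ▸ mem_inf.2 ⟨⟨c, c.2, rfl⟩, hcV⟩))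
  have hD'n : X ≤ normalizer (D' : Set (H ⧸ F)) := by
    intro x hx
    obtain ⟨⟨k, c⟩, hkc⟩ := hC.2 ⟨x, hx⟩
    have hxx : ((k : X) : H ⧸ F) * ((c : X) : H ⧸ F) = x := congrArg Subtype.val hkc
    rw [← hxx]
    refine mul_mem (centralizer_le_normalizer _ (mem_centralizer_iff.2 fun y hy =>
      hc y ((hD' ▸ inf_le_right : D' ≤ V) hy) _ (hW'V k.2))) ?_
    rw [hD']
    exact CfsgLib.Coprime.inf_le_normalizer le_normalizer
      (show C.map X.subtype ≤ normalizer (V : Set (H ⧸ F)) from (map_subtype_le C).trans hVX) ⟨c, c.2, rfl⟩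
  -- back in `H`
  obtain ⟨E, hE⟩ : ∃ E, E = D'.comap π ⊓ Y := ⟨_, rfl⟩
  have hnorm : ∀ g : H, π g ∈ X → g ∈ normalizer (E : Set H) := fun g hg => by
    refine hE ▸ CfsgLib.Coprime.inf_le_normalizer (A := zpowers g) ?_ ?_ (mem_zpowers g)
    · refine zpowers_le.2 (mem_normalizer_iff.2 fun y => ?_)
      rw [mem_comap, mem_comap, map_mul, map_mul, map_inv]
      exact mem_normalizer_iff.1 (hD'n hg) _
    · rw [normalizer_eq_top]; exact le_top
  have hSE : S ≤ normalizer (E : Set H) := fun s hs => hnorm s (hX ▸ mem_sup_right ⟨s, hs, rfl⟩)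
  have hYE : Y ≤ normalizer (E : Set H) := fun y hy => hnorm y (hVle (hV ▸ ⟨y, hy, rfl⟩))
  rcases d.dich E hSE with hWE | hEL
  · apply d.w_ne_bot
    have hWF : W ≤ F := by
      intro w hw
      rw [← hker, MonoidHom.mem_ker]
      exact (Subgroup.mem_bot).1 (hD'dis ▸ mem_inf.2 ⟨(mem_inf.1 (hE ▸ hWE hw : w ∈ D'.comap π ⊓ Y)).1,
        hW' ▸ ⟨w, hw, rfl⟩⟩)
    have htop : (frattini Y) = ⊤ := by
      refine map_injective Y.subtype_injective ?_
      rw [← hF, ← MonoidHom.range_eq_map, range_subtype]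
      exact le_antisymm hFY (d.y_le hWF)
    exfalso
    obtain ⟨M, hM⟩ := (IsCoatomic.eq_top_or_exists_le_coatom (⊥ : Subgroup Y)).resolve_left bot_ne_top
    exact hM.1.1 (eq_top_iff.2 (htop.ge.trans (Order.radical_le_coatom hM.1)))
  · have hQE := d.q_centralizes (hE ▸ inf_le_right) hYE hSE hEL
    -- `[Y, Q]` lies in `W F`
    have hle : ⁅Y, Q⁆ ≤ W'.comap π := by
      refine commutator_le.2 fun y hy q hq => ?_
      have hWF : Q.map π ≤ normalizer (W' : Set (H ⧸ F)) := (map_mono d.qs).trans (le_trans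
        (hX ▸ le_sup_right) hWX)
      obtain ⟨w, hw, e', he', hwe⟩ := CfsgLib.Coprime.mem_sup_exists
        ((hD' ▸ inf_le_right : D' ≤ V).trans (hVle.trans hWX)) (hD'sup (hV ▸ ⟨y, hy, rfl⟩ : π y ∈ V))
      obtain ⟨y', hy', rfl⟩ : ∃ y' ∈ Y, π y' = e' := by
        have : e' ∈ V := (hD' ▸ inf_le_right : D' ≤ V) he'
        rw [hV] at this
        obtain ⟨y', hy', h⟩ := this
        exact ⟨y', hy', h⟩
      have hcomm : y' * q = q * y' :=
        mem_centralizer_iff.1 (hQE hq) y' (hE ▸ mem_inf.2 ⟨he', hy'⟩)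
      have hq' : π y' * (π q * (π y')⁻¹) = π q := by
        rw [← map_inv, ← map_mul, ← map_mul, ← mul_assoc, hcomm, mul_inv_cancel_right]
      rw [mem_comap, map_commutatorElement, ← hwe, commutatorElement_def]
      have h2 := (mem_normalizer_iff.1 (hWF ⟨q, hq, rfl⟩) _).1 (inv_mem hw)
      have h3 : w * π y' * π q * (w * π y')⁻¹ * (π q)⁻¹ = w * (π q * w⁻¹ * (π q)⁻¹) := by
        calc w * π y' * π q * (w * π y')⁻¹ * (π q)⁻¹
            = w * (π y' * (π q * (π y')⁻¹)) * w⁻¹ * (π q)⁻¹ := by group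
          _ = _ := by rw [hq']; group
      rw [h3]
      exact mul_mem hw h2
    rw [d.commutator_q] at hle
    have hsup : W.subgroupOf Y ⊔ frattini Y = ⊤ := by
      refine map_injective Y.subtype_injective ?_
      rw [Subgroup.map_sup, ← hF, map_subgroupOf_eq_of_le d.w_le_y, ← MonoidHom.range_eq_map, range_subtype]
      refine le_antisymm (sup_le d.w_le_y hFY) (hle.trans ?_)
      rw [hW', comap_map_eq, hker]
    exact hne (le_antisymm d.w_le_y (subgroupOf_eq_top.1 (frattini_nongenerating hsup)))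

theorem perfect_of_not_solvable (h : ¬ Group.IsSolvable Y) : ⁅Y, Y⁆ = Y := by
  refine d.perfect_or_nilpotent.resolve_right fun h2 => h ?_
  obtain ⟨hn, -⟩ := d.isNilpotent_of_class_two h2
  haveI := hn
  infer_instance

theorem nilpotent_of_solvable (h : Group.IsSolvable Y) :
    ∃ _ : Group.IsNilpotent Y, Group.nilpotencyClass Y ≤ 2 := by
  refine d.isNilpotent_of_class_two (d.perfect_or_nilpotent.resolve_left fun hp => ?_)
  haveI := h
  haveI : Group.IsPerfect Y := Subgroup.isPerfect_iff.2 hp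
  haveI : Nontrivial Y := (nontrivial_iff_ne_bot Y).2 d.y_ne_bot
  exact (Group.IsSolvable.commutator_lt_top_of_nontrivial Y).ne (Group.IsPerfect.commutator_eq_top)

theorem dvd_card (h : ¬ Group.IsSolvable Y) : p ∣ Nat.card Y := by
  haveI := d.y_normal
  by_contra hp
  obtain ⟨b, hb⟩ := IsPGroup.iff_card.1 d.sp
  have hcop : (Nat.card S).Coprime (Nat.card Y) :=
    hb ▸ Nat.Coprime.pow_left b ((Fact.out : p.Prime).coprime_iff_not_dvd.2 hp)
  have hSY : S ≤ normalizer (Y : Set H) := by rw [normalizer_eq_top]; exact le_top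
  have hsolS : Group.IsSolvable S := CfsgLib.Coprime.isSolvable_of_isNilpotent d.sp.isNilpotent
  have hQY : Y ⊓ Q = ⊥ := by
    refine eq_bot_iff.2 fun x hx => ?_
    obtain ⟨h1, h2⟩ := mem_inf.1 hx
    rw [Subgroup.mem_bot, ← orderOf_eq_one_iff]
    exact Nat.eq_one_of_dvd_coprimes hcop (Subgroup.orderOf_dvd_natCard S (d.qs h2))
      (Subgroup.orderOf_dvd_natCard Y h1)
  -- a Sylow subgroup not centralized by `Q`
  have hinv : ∀ r : ℕ, ∀ [Fact r.Prime], ∃ R : Subgroup H, CfsgLib.Coprime.IsSylowIn r R Y ∧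
      S ≤ normalizer (R : Set H) ∧ (Q ≤ centralizer (R : Set H) ∨ W ≤ R) := by
    intro r _
    obtain ⟨R, hR, hRS⟩ := CfsgLib.Coprime.exists_invariant_sylow hSY hcop (Or.inl hsolS) r
    refine ⟨R, hR, hRS, ?_⟩
    rcases d.dich R hRS with h1 | h1
    · exact Or.inr h1
    refine Or.inl ?_
    rw [← commutator_eq_bot_iff_le_centralizer, eq_bot_iff, ← hQY]
    refine commutator_le.2 fun q hq e he => mem_inf.2 ⟨?_, ?_⟩
    · rw [commutatorElement_def]
      exact mul_mem ((mem_normalizer_iff.1 (hSY (d.qs hq)) e).1 (hR.1 he)) (inv_mem (hR.1 he))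
    · rw [commutatorElement_def, show q * e * q⁻¹ * e⁻¹ = q * (e * q⁻¹ * e⁻¹) by group]
      exact mul_mem hq ((mem_normalizer_iff.1 (d.ln (h1 he)) _).1 (inv_mem hq))
  by_cases hall : ∀ r : ℕ, ∀ [Fact r.Prime], ∀ R : Subgroup H, CfsgLib.Coprime.IsSylowIn r R Y →
      S ≤ normalizer (R : Set H) → ¬ W ≤ R
  · refine d.not_q_centralizes_y (le_centralizer_iff.1 ?_)
    refine CfsgLib.PMinimalComponent.le_of_forall_sylow fun r hr => ?_
    haveI := hr
    obtain ⟨R, hR, hRS, h1⟩ := hinv r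
    exact ⟨R, hR, le_centralizer_iff.1 (h1.resolve_right (hall r R hR hRS))⟩
  push Not at hall
  obtain ⟨t, htp, R, hR, hRS, hWR⟩ := hall
  haveI : Fact t.Prime := htp
  obtain ⟨C, hC⟩ : ∃ C, C = Y ⊓ centralizer (Q : Set H) := ⟨_, rfl⟩
  have hCY : C ≤ Y := hC ▸ inf_le_left
  have hRt : IsPGroup t R := hR.isPGroup
  -- `C` contains the other Sylow subgroups
  have hother : ∀ r : ℕ, ∀ [Fact r.Prime], r ≠ t →
      ∃ T : Subgroup H, CfsgLib.Coprime.IsSylowIn r T Y ∧ T ≤ C := by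
    intro r _ hrt
    obtain ⟨T, hT, -, h1⟩ := hinv r
    refine ⟨T, hT, hC ▸ le_inf hT.1 (le_centralizer_iff.1 (h1.resolve_right fun hWT => d.w_ne_bot ?_))⟩
    refine (Subgroup.eq_bot_iff_forall _).2 fun x hx => orderOf_eq_one_iff.1 ?_
    obtain ⟨i, hi⟩ := hT.isPGroup ⟨x, hWT hx⟩
    obtain ⟨j, hj⟩ := hRt ⟨x, hWR hx⟩
    exact Nat.eq_one_of_dvd_coprimes (((Nat.coprime_primes Fact.out Fact.out).2 hrt).pow i j)
      (orderOf_dvd_of_pow_eq_one (congrArg Subtype.val hi))
      (orderOf_dvd_of_pow_eq_one (congrArg Subtype.val hj))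
  have hdvd : Nat.card Y * Nat.card ↥(R ⊓ C) ∣ Nat.card R * Nat.card C := by
    have h0 : ∀ K : Subgroup H, Nat.card K ≠ 0 := fun K => Nat.card_pos.ne'
    refine (Nat.factorization_le_iff_dvd (mul_ne_zero (h0 _) (h0 _)) (mul_ne_zero (h0 _) (h0 _))).1 fun r => ?_
    rw [Nat.factorization_mul (h0 _) (h0 _), Nat.factorization_mul (h0 _) (h0 _), Finsupp.add_apply,
      Finsupp.add_apply]
    have hle : ∀ {K L : Subgroup H}, K ≤ L →
        (Nat.card K).factorization r ≤ (Nat.card L).factorization r := fun hKL =>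
      (Nat.factorization_le_iff_dvd (h0 _) (h0 _)).2 (card_dvd_of_le hKL) r
    by_cases hr : r.Prime
    · haveI : Fact r.Prime := ⟨hr⟩
      by_cases hrt : r = t
      · subst hrt
        have h1 := hle (inf_le_right : R ⊓ C ≤ C)
        have h2 : (Nat.card R).factorization r = (Nat.card Y).factorization r := by
          rw [hR.2, hr.factorization_pow, Finsupp.single_eq_same]
        omega
      · obtain ⟨T, hT, hTC⟩ := hother r hrt
        have h1 : (Nat.card T).factorization r = (Nat.card Y).factorization r := by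
          rw [hT.2, hr.factorization_pow, Finsupp.single_eq_same]
        have h2 := hle hTC
        have h3 : (Nat.card ↥(R ⊓ C)).factorization r = 0 := by
          obtain ⟨i, hi⟩ := IsPGroup.iff_card.1 (hRt.to_le (inf_le_left : R ⊓ C ≤ R))
          rw [hi, (Fact.out : t.Prime).factorization_pow, Finsupp.single_eq_of_ne hrt]
        omega
    · simp [Nat.factorization_eq_zero_of_not_prime _ hr]
  have hrel : C.relIndex Y ≤ C.relIndex R := by
    have h1 : Nat.card C * C.relIndex Y = Nat.card Y := by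
      show Nat.card C * (C.subgroupOf Y).index = Nat.card Y
      rw [← Nat.card_congr (subgroupOfEquivOfLe hCY).toEquiv, card_mul_index]
    have h2 : Nat.card ↥(R ⊓ C) * C.relIndex R = Nat.card R := by
      show Nat.card ↥(R ⊓ C) * (C.subgroupOf R).index = Nat.card R
      rw [← Nat.card_congr (subgroupOfEquivOfLe (inf_le_left : R ⊓ C ≤ R)).toEquiv,
        inf_subgroupOf_left, card_mul_index]
    have h3 := Nat.le_of_dvd (Nat.mul_pos Nat.card_pos Nat.card_pos) hdvd
    rw [← h1, ← h2] at h3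
    have h4 : Nat.card C * Nat.card ↥(R ⊓ C) * C.relIndex Y ≤
        Nat.card C * Nat.card ↥(R ⊓ C) * C.relIndex R := by
      calc _ = Nat.card C * C.relIndex Y * Nat.card ↥(R ⊓ C) := by ring
        _ ≤ _ := h3
        _ = _ := by ring
    exact Nat.le_of_mul_le_mul_left h4 (Nat.mul_pos Nat.card_pos Nat.card_pos)
  have hprod : ∀ y ∈ Y, ∃ r ∈ R, r⁻¹ * y ∈ C := by
    let f : R ⧸ C.subgroupOf R → Y ⧸ C.subgroupOf Y :=
      Quotient.lift (fun r => ((⟨r, hR.1 r.2⟩ : Y) : Y ⧸ C.subgroupOf Y)) fun a b hab => by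
        refine QuotientGroup.eq.2 ?_
        rw [mem_subgroupOf]
        have hab' := QuotientGroup.leftRel_apply.1 hab
        simpa [mem_subgroupOf] using hab'
    have hinj : Function.Injective f := by
      intro a b
      induction a using Quotient.inductionOn with
      | h a =>
        induction b using Quotient.inductionOn with
        | h b =>
          intro hab
          refine Quotient.sound (QuotientGroup.leftRel_apply.2 ?_)
          have hab' := QuotientGroup.eq.1 hab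
          simpa [mem_subgroupOf] using hab'
    have hsurj : Function.Surjective f := by
      refine ((Nat.bijective_iff_injective_and_card f).2 ⟨hinj, le_antisymm
        (Nat.card_le_card_of_injective f hinj) hrel⟩).2
    intro y hy
    obtain ⟨r, hr⟩ := hsurj (⟨y, hy⟩ : Y)
    induction r using Quotient.inductionOn with
    | h r =>
      refine ⟨r, r.2, ?_⟩
      have := QuotientGroup.eq.1 hr
      simpa [mem_subgroupOf] using this
  apply h
  -- `Y = [Y, Q]` lies in `R Q`, so equals `R`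
  have hYR : Y ≤ R := by
    conv_lhs => rw [← d.commutator_q]
    refine commutator_le.2 fun y hy q hq => ?_
    obtain ⟨r, hr, hrc⟩ := hprod y hy
    obtain ⟨c, hc⟩ : ∃ c, c = r⁻¹ * y := ⟨_, rfl⟩
    rw [← hc, hC] at hrc
    have hqc : q * c = c * q := mem_centralizer_iff.1 (mem_inf.1 hrc).2 q hq
    have hrq : q * r⁻¹ * q⁻¹ ∈ R :=
      (mem_normalizer_iff.1 (hRS (d.qs hq)) _).1 (inv_mem hr)
    rw [commutatorElement_def, show y = r * c by rw [hc]; group,
      show r * c * q * (r * c)⁻¹ * q⁻¹ = r * (c * q) * c⁻¹ * r⁻¹ * q⁻¹ by group, ← hqc,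
      show r * (q * c) * c⁻¹ * r⁻¹ * q⁻¹ = r * (q * r⁻¹ * q⁻¹) by group]
    exact mul_mem hr hrq
  exact CfsgLib.Coprime.isSolvable_of_isNilpotent (hRt.to_le hYR).isNilpotent

end IsoData

end CfsgLib.Isolated
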