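import Cfsg.Agent.Lib.Coprime.Component
import Cfsg.Agent.Lib.Coprime.Action
import Cfsg.Agent.Lib.Coprime.ExtendedTwoLayer
import Cfsg.Agent.Lib.Fusion.Sylow
import Cfsg.Agent.Lib.Fusion.Residual
import Cfsg.Agent.Lib.LocalStructure.FStar
import Cfsg.Agent.Lib.LocalStructure.Irreducible
import Cfsg.Prelude.Def_LocalEven

/-!
# Components of p-minimal groups
-/

set_option autoImplicit false
set_option linter.style.haveILetI false

open Subgroup
open scoped commutatorElement

namespace CfsgLib.PMinimalComponent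

variable {G : Type*} [Group G] [Finite G] {p : ℕ} [Fact p.Prime]

omit [Finite G] in
theorem normalizer_le_normalizer_centralizer' (K : Subgroup G) :
    normalizer (K : Set G) ≤ normalizer ((centralizer (K : Set G) : Subgroup G) : Set G) := by
  refine le_normalizer_iff.2 fun g hg c hc => mem_centralizer_iff.2 fun k hk => ?_
  have h1 := mem_centralizer_iff.1 hc (g⁻¹ * k * g) ((mem_normalizer_iff''.1 hg k).1 hk)
  calc k * (g * c * g⁻¹) = g * ((g⁻¹ * k * g) * c) * g⁻¹ := by group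
    _ = g * (c * (g⁻¹ * k * g)) * g⁻¹ := by rw [h1]
    _ = g * c * g⁻¹ * k := by group

/-- `p`-minimality can be tested on one Sylow subgroup. -/
theorem isPMinimal_of_sylow (P₀ : Sylow p G) (hn : ¬ (P₀ : Subgroup G).Normal)
    (hu : ∃! M : Subgroup G, IsCoatom M ∧ (P₀ : Subgroup G) ≤ M) : Cfsg.IsPMinimal p G := by
  intro P
  obtain ⟨g, hg⟩ := MulAction.exists_smul_eq G P₀ P
  set e := MulAut.conj g
  have hP : (P : Subgroup G) = (P₀ : Subgroup G).map e.toMonoidHom := by
    rw [← hg, Sylow.coe_subgroup_smul]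
    rfl
  refine ⟨fun h => hn ?_, ?_⟩
  · have hmem : (P₀ : Subgroup G) = (P : Subgroup G) := by
      ext x
      have h1 : x ∈ (P : Subgroup G) ↔ g * x * g⁻¹ ∈ (P : Subgroup G) :=
        ⟨fun hx => h.conj_mem x hx g, fun hx => by simpa [mul_assoc] using h.conj_mem _ hx g⁻¹⟩
      rw [h1, hP]
      exact ⟨fun hx => ⟨x, hx, rfl⟩, fun ⟨y, hy, hye⟩ => by
        obtain rfl : y = x := e.injective hye
        exact hy⟩
    rw [hmem]; exact h
  obtain ⟨M, ⟨hM, hle⟩, huniq⟩ := hu
  have hco : ∀ (e : G ≃* G) (A : Subgroup G), IsCoatom A → IsCoatom (A.map e.toMonoidHom) :=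
    fun e A hA => (OrderIso.isCoatom_iff e.mapSubgroup A).2 hA
  refine ⟨M.map e.toMonoidHom, ⟨hco e M hM, hP.le.trans (map_mono hle)⟩, fun M' ⟨hM', hle'⟩ => ?_⟩
  have h1 := huniq (M'.map e.symm.toMonoidHom) ⟨hco e.symm M' hM', fun x hx =>
    ⟨e x, hle' (hP.ge ⟨x, hx, rfl⟩), e.symm_apply_apply x⟩⟩
  rw [← h1, Subgroup.map_map]
  convert (Subgroup.map_id M').symm
  ext x
  exact e.apply_symm_apply x

/-- A subgroup containing a Sylow subgroup of `N` for every prime contains `N`. -/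
theorem le_of_forall_sylow {N A : Subgroup G}
    (h : ∀ q : ℕ, [Fact q.Prime] → ∃ Q : Subgroup G, CfsgLib.Coprime.IsSylowIn q Q N ∧ Q ≤ A) :
    N ≤ A := by
  have hd : Nat.card N ∣ Nat.card ↥(A ⊓ N) := by
    refine (Nat.factorization_le_iff_dvd Nat.card_pos.ne' Nat.card_pos.ne').1 fun q => ?_
    by_cases hq : q.Prime
    · haveI : Fact q.Prime := ⟨hq⟩
      obtain ⟨Q, hQ, hQA⟩ := h q
      refine (hq.pow_dvd_iff_le_factorization Nat.card_pos.ne').1 ?_
      rw [← hQ.2]
      exact card_dvd_of_le (le_inf hQA hQ.1)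
    · rw [Nat.factorization_eq_zero_of_not_prime _ hq]; exact Nat.zero_le _
  exact inf_eq_right.1 (eq_of_le_of_card_ge inf_le_right (Nat.le_of_dvd Nat.card_pos hd))

theorem component_structure (hP : Cfsg.IsPMinimal p G) (hOp : Cfsg.pCore p G = ⊥) (P : Sylow p G)
    (K : Subgroup G) (hK : Cfsg.IsComponent K) :
    Cfsg.pResidual p G = Cfsg.generalizedFittingSubgroup G ∧
      Cfsg.generalizedFittingSubgroup G = Cfsg.layer G ∧
      Cfsg.layer G = ⨆ s : ↥(P : Subgroup G), K.map (MulAut.conj (s : G)).toMonoidHom ∧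
      Cfsg.IsPMinimal p ↥(K ⊔ ((P : Subgroup G) ⊓ normalizer (K : Set G))) := by
  have hp := (Fact.out : p.Prime)
  set S := (P : Subgroup G) with hS
  obtain ⟨M, ⟨hMc, hSM⟩, huniq⟩ := (hP P).2
  have hbelow : ∀ R : Subgroup G, S ≤ R → R ≠ ⊤ → R ≤ M := fun R hSR hR => by
    obtain ⟨C, hC, hRC⟩ := (IsCoatomic.eq_top_or_exists_le_coatom R).resolve_left hR
    exact (huniq C ⟨hC, hSR.trans hRC⟩) ▸ hRC
  have hMtop : M ≠ ⊤ := hMc.1
  have hfrat : ∀ {q : ℕ} [Fact q.Prime] (N : Subgroup G) [N.Normal] (Q : Subgroup G),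
      CfsgLib.Coprime.IsSylowIn q Q N → normalizer (Q : Set G) ⊔ N = ⊤ := by
    intro q _ N hN Q hQ
    have := Sylow.normalizer_sup_eq_top hQ.toSylow
    rwa [hQ.map_toSylow] at this
  -- no normal non-solvable `p'`-subgroup
  have hcop : ∀ (N : Subgroup G) [N.Normal], (Nat.card N).Coprime p → ¬ Group.IsSolvable N → False := by
    intro N hN hc hns
    have hSN : S ≤ normalizer (N : Set G) := le_top.trans (normalizer_eq_top N).ge
    have hScop : (Nat.card S).Coprime (Nat.card N) := by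
      obtain ⟨k, hk⟩ := IsPGroup.iff_card.1 P.2
      rw [hk]
      exact hc.symm.pow_left k
    have hSsol : Group.IsSolvable S := by
      haveI := P.2.isNilpotent
      infer_instance
    have hNM : N ≤ M := le_of_forall_sylow fun q _ => by
      obtain ⟨Q, hQ, hQS⟩ := CfsgLib.Coprime.exists_invariant_sylow hSN hScop (Or.inl hSsol) q
      refine ⟨Q, hQ, le_trans le_sup_left (hbelow (Q ⊔ S) le_sup_right fun htop => hns ?_)⟩
      haveI : Q.Normal := normalizer_eq_top_iff.1 (top_le_iff.1 (htop ▸ sup_le le_normalizer hQS))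
      haveI : Group.IsNilpotent Q := hQ.isPGroup.isNilpotent
      haveI : Group.IsSolvable Q := inferInstance
      refine CfsgLib.Coprime.isSolvable_of_le ?_ (inferInstance : Group.IsSolvable Q)
      have hp' := CfsgLib.LS.isPGroup_quotient_of_sup_sylow P Q htop
      intro n hn
      rw [← QuotientGroup.eq_one_iff (N := Q)]
      obtain ⟨k, hk⟩ := hp' (QuotientGroup.mk' Q n)
      refine orderOf_eq_one_iff.1 (Nat.eq_one_of_dvd_coprimes ((hc.pow_right k).coprime_dvd_left
        (Subgroup.orderOf_dvd_natCard N hn)) (orderOf_map_dvd (QuotientGroup.mk' Q) n)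
        (orderOf_dvd_of_pow_eq_one hk))
    refine hns ?_
    have hNF : N ≤ Cfsg.fittingSubgroup G := le_of_forall_sylow fun q _ => by
      obtain ⟨Q, hQ, hQS⟩ := CfsgLib.Coprime.exists_invariant_sylow hSN hScop (Or.inl hSsol) q
      refine ⟨Q, hQ, ?_⟩
      by_cases hQn : normalizer (Q : Set G) = ⊤
      · haveI := normalizer_eq_top_iff.1 hQn
        exact CfsgLib.Coprime.le_fitting hQ.isPGroup.isNilpotent
      · refine absurd ?_ hMtop
        rw [eq_top_iff, ← hfrat N Q hQ]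
        exact sup_le (hbelow _ hQS hQn) hNM
    haveI := CfsgLib.Coprime.fitting_isNilpotent (G := G)
    haveI : Group.IsSolvable (Cfsg.fittingSubgroup G) := inferInstance
    exact CfsgLib.Coprime.isSolvable_of_le hNF inferInstance
  -- normal non-solvable subgroups generate with the Sylow subgroup
  have hgen : ∀ (N : Subgroup G) [N.Normal], ¬ Group.IsSolvable N → N ⊔ S = ⊤ := by
    intro N hN hns
    by_contra hne
    have hNM : N ≤ M := le_sup_left.trans (hbelow _ le_sup_right hne)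
    have hi := CfsgLib.Fusion.not_dvd_relIndex_inf_of_normal P N
    by_cases hT : S ⊓ N = ⊥
    · rw [← hS, hT, relIndex_bot_left] at hi
      exact hcop N (hp.coprime_iff_not_dvd.2 hi).symm hns
    let Q : Sylow p N := ((P.2.to_le inf_le_left).comap_subtype :
      IsPGroup p ((S ⊓ N).subgroupOf N)).toSylow hi
    have hf := Sylow.normalizer_sup_eq_top Q
    rw [show (Q : Subgroup N).map N.subtype = S ⊓ N from map_subgroupOf_eq_of_le inf_le_right] at hf
    by_cases hnT : normalizer ((S ⊓ N : Subgroup G) : Set G) = ⊤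
    · haveI := normalizer_eq_top_iff.1 hnT
      exact hT (le_bot_iff.1 ((CfsgLib.Coprime.le_pCore (P.2.to_le inf_le_left)).trans hOp.le))
    refine hMtop (eq_top_iff.2 (hf ▸ sup_le (hbelow _ ?_ hnT) hNM))
    exact CfsgLib.Coprime.inf_le_normalizer le_normalizer (le_top.trans (normalizer_eq_top N).ge)
  set cj : G → Subgroup G := fun s => K.map (MulAut.conj s).toMonoidHom with hcj
  have hcjC : ∀ v, Cfsg.IsComponent (cj v) := fun v =>
    CfsgLib.Coprime.isComponent_map_equiv (MulAut.conj v) hK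
  set L := ⨆ s : ↥S, cj (s : G) with hL
  have hKL : K ≤ L := by
    refine le_trans (le_of_eq ?_) (le_iSup (fun s : S => cj (s : G)) 1)
    show K = K.map (MulAut.conj ((1 : S) : G)).toMonoidHom
    rw [OneMemClass.coe_one, map_one]
    exact (Subgroup.map_id K).symm
  have hKns := CfsgLib.Coprime.not_isSolvable_of_isComponent hK
  have hLns : ¬ Group.IsSolvable L := fun h =>
    CfsgLib.Coprime.not_le_of_isComponent_of_isSolvable hK h hKL
  set E := Cfsg.layer G with hE
  haveI := CfsgLib.Coprime.layer_normal (G := G)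
  have hES : E ⊔ S = ⊤ := hgen E fun h =>
    CfsgLib.Coprime.not_le_of_isComponent_of_isSolvable hK h (CfsgLib.Coprime.component_le_layer hK)
  have hSL : S ≤ normalizer (L : Set G) := le_normalizer_iff.2 fun g hg z hz => by
    have hle : L.map (MulAut.conj g).toMonoidHom ≤ L := by
      rw [hL, Subgroup.map_iSup]
      refine iSup_le fun v => le_trans ?_ (le_iSup (fun v : S => cj (v : G)) (⟨g, hg⟩ * v))
      rintro _ ⟨_, ⟨z, hz, rfl⟩, rfl⟩
      exact ⟨z, hz, by simp [mul_assoc]⟩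
    exact hle ⟨z, hz, rfl⟩
  haveI hLn : L.Normal := normalizer_eq_top_iff.1 (top_le_iff.1 (hES ▸ sup_le
    ((le_iInf fun v : S => CfsgLib.Coprime.layer_le_normalizer_component (hcjC v)).trans
      (iInf_normalizer_le_normalizer_iSup _)) hSL))
  have hLS : L ⊔ S = ⊤ := hgen L hLns
  have hLE : L ≤ E := iSup_le fun v => CfsgLib.Coprime.component_le_layer (hcjC v)
  haveI hRn := CfsgLib.Fusion.pResidual_normal (G := G) (p := p)
  set R := Cfsg.pResidual p G with hR
  have hRL : R ≤ L := CfsgLib.LS.pResidual_le_of_sup_sylow P L hLS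
  have hER : E ≤ R := sSup_le fun C hC => by
    haveI := (CfsgLib.Fusion.isPGroup_quotient_pResidual (p := p) R le_rfl).isNilpotent
    refine (CfsgLib.Coprime.component_le_or_commutator_eq_bot hC hRn.isSubnormal).resolve_right
      fun h => CfsgLib.Coprime.not_isSolvable_of_isComponent hC ?_
    let f : C →* G ⧸ R := (QuotientGroup.mk' R).comp C.subtype
    haveI : Group.IsSolvable (center C) := Group.isSolvable_of_comm fun a b =>
      Subtype.ext (mem_center_iff.1 b.2 a.1)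
    refine Group.isSolvable_of_ker_le_range (Subgroup.subtype (center C)) f fun c hc => ?_
    have hcR : (c : G) ∈ R := (QuotientGroup.eq_one_iff _).1 hc
    refine ⟨⟨c, mem_center_iff.2 fun d => Subtype.ext ?_⟩, rfl⟩
    exact (CfsgLib.Coprime.commutator_eq_bot_iff_forall.1 h d d.2 c hcR)
  have hRE : R = E := le_antisymm (hRL.trans hLE) hER
  have hEL : E = L := le_antisymm (hER.trans hRL) hLE
  have hFR : Cfsg.fittingSubgroup G ≤ R := fun f hf => CfsgLib.Fusion.mem_pResidual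
    ((CfsgLib.LS.coprime_fitting hOp).coprime_dvd_left
      (Subgroup.orderOf_dvd_natCard _ hf))
  have hFst : Cfsg.generalizedFittingSubgroup G = E := by
    rw [Cfsg.generalizedFittingSubgroup, sup_eq_left]
    exact hFR.trans hRE.le
  refine ⟨hRE.trans hFst.symm, hFst, hEL, ?_⟩
  -- the component with its stabilizer
  set T := S ⊓ normalizer (K : Set G) with hT
  set H := K ⊔ T with hH
  have hSKi := CfsgLib.Coprime.not_dvd_relIndex_inf_of_isSubnormal P hK.1
  have hSK1 : S ⊓ K ≠ ⊥ := fun h => by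
    rw [← hS, h, relIndex_bot_left] at hSKi
    refine hcop L (Nat.Coprime.coprime_dvd_left (card_dvd_of_le ?_)
      (CfsgLib.Coprime.pPrimeCore_coprime (G := G) hp)) hLns
    haveI : (Cfsg.pPrimeCore p G).Normal := Subgroup.sSup_normal _ (fun _ h => h.1)
    refine iSup_le fun v => ?_
    rintro _ ⟨z, hz, rfl⟩
    exact Normal.conj_mem inferInstance z (CfsgLib.Coprime.le_pPrimeCore_of_isSubnormal hp hK.1
      (hp.coprime_iff_not_dvd.2 hSKi).symm hz) _
  have hTK : S ⊓ K ≤ T := inf_le_inf_left _ le_normalizer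
  have hTH : T ≤ H := le_sup_right
  haveI hKH : (K.subgroupOf H).Normal :=
    (normal_subgroupOf_iff_le_normalizer le_sup_left).2 (sup_le le_normalizer inf_le_right)
  have hdecomp : ∀ x ∈ H, ∃ k ∈ K, ∃ t ∈ T, k * t = x := fun x hx =>
    CfsgLib.Coprime.mem_sup_exists inf_le_right hx
  obtain ⟨Q, hQ⟩ := ((P.2.to_le inf_le_left : IsPGroup p T).comap_subtype :
    IsPGroup p (T.subgroupOf H)).exists_le_sylow
  have hQT : (Q : Subgroup H) = T.subgroupOf H := by
    refine le_antisymm (fun x hx => ?_) hQ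
    obtain ⟨k, hk, t, ht, e⟩ := hdecomp x x.2
    have hkQ : (⟨k, mem_sup_left hk⟩ : H) ∈ (Q : Subgroup H) := by
      have : (⟨k, mem_sup_left hk⟩ : H) = x * ⟨t, hTH ht⟩⁻¹ := Subtype.ext (by simp [← e])
      rw [this]
      exact mul_mem hx (inv_mem (hQ (mem_subgroupOf.2 ht)))
    set U := (Q : Subgroup H).map H.subtype ⊓ K
    have hU : U ≤ S ⊓ K := by
      have hle : S ⊓ K ≤ U := le_inf (fun z hz => ⟨⟨z, mem_sup_left hz.2⟩, hQ (mem_subgroupOf.2 (hTK hz)), rfl⟩) inf_le_right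
      have hUp : IsPGroup p U := (Q.2.map _).to_le inf_le_left
      obtain ⟨n, hn⟩ := IsPGroup.iff_card.1 hUp
      have h1 : (S ⊓ K).relIndex U ∣ p ^ n := hn ▸ relIndex_dvd_card _ _
      have h2 : ¬ p ∣ (S ⊓ K).relIndex U := fun h => hSKi (h.trans (by rw [← relIndex_mul_relIndex _ _ _ hle (inf_le_right : U ≤ K)]; exact Dvd.intro _ rfl))
      obtain ⟨i, -, hi⟩ := (Nat.dvd_prime_pow hp).1 h1
      rcases i with _ | i
      · exact relIndex_eq_one.1 (hi.trans (pow_zero p))
      · exact absurd (hi ▸ dvd_pow_self p (Nat.succ_ne_zero i)) h2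
    rw [mem_subgroupOf, ← e]
    exact mul_mem (hTK (hU ⟨⟨_, hkQ, rfl⟩, hk⟩)) ht
  have hKM : ¬ K ≤ M := fun h => hMtop (eq_top_iff.2 (hLS ▸ sup_le (iSup_le fun v => by
    rintro _ ⟨z, hz, rfl⟩
    exact mul_mem (mul_mem (hSM v.2) (h hz)) (inv_mem (hSM v.2))) hSM))
  have hZ : K ⊓ centralizer (K : Set G) ≤ centralizer (K : Set G) := inf_le_right
  -- every proper overgroup of `T` meets `K` inside `M`
  have hbd : ∀ A : Subgroup G, T ≤ A → A ≤ H → ¬ K ≤ A → A ⊓ K ≤ M := by
    intro A hTA hAH hKA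
    set X := A ⊓ K
    set Y := ⨆ s : ↥S, X.map (MulAut.conj (s : G)).toMonoidHom with hY
    have hXY : X ≤ Y := by
      refine le_trans (le_of_eq ?_) (le_iSup (fun s : S => X.map (MulAut.conj (s : G)).toMonoidHom) 1)
      show X = X.map (MulAut.conj ((1 : S) : G)).toMonoidHom
      rw [OneMemClass.coe_one, map_one]
      exact (Subgroup.map_id X).symm
    refine hXY.trans (le_sup_left.trans (hbelow (Y ⊔ S) le_sup_right fun htop => hKA ?_))
    have hSY : S ≤ normalizer (Y : Set G) := le_normalizer_iff.2 fun g hg z hz => by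
      have hle : Y.map (MulAut.conj g).toMonoidHom ≤ Y := by
        rw [hY, Subgroup.map_iSup]
        refine iSup_le fun v => le_trans ?_
          (le_iSup (fun v : S => X.map (MulAut.conj (v : G)).toMonoidHom) (⟨g, hg⟩ * v))
        rintro _ ⟨_, ⟨z, hz, rfl⟩, rfl⟩
        exact ⟨z, hz, by simp [mul_assoc]⟩
      exact hle ⟨z, hz, rfl⟩
    set C := centralizer (K : Set G) with hC
    set D := K ⊔ C
    have hKC : K ≤ normalizer (C : Set G) := le_trans le_normalizer (CfsgLib.PMinimalComponent.normalizer_le_normalizer_centralizer' K)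
    haveI hCD : (C.subgroupOf D).Normal :=
      (normal_subgroupOf_iff_le_normalizer le_sup_right).2 (sup_le hKC le_normalizer)
    have hXn : ∀ s : S, X.map (MulAut.conj (s : G)).toMonoidHom ≤ X ⊔ C := by
      intro s
      by_cases hs : (s : G) ∈ normalizer (K : Set G)
      · rintro _ ⟨z, hz, rfl⟩
        have hsT : (s : G) ∈ T := ⟨s.2, hs⟩
        exact mem_sup_left (mem_inf.2 ⟨mul_mem (mul_mem (hTA hsT) hz.1) (inv_mem (hTA hsT)),
          (mem_normalizer_iff.1 hs z).1 hz.2⟩)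
      · refine le_trans ?_ le_sup_right
        refine (map_mono inf_le_right).trans ?_
        exact commutator_eq_bot_iff_le_centralizer.1 (CfsgLib.Coprime.components_commute (hcjC s) hK
          fun e => hs (mem_normalizer_iff_map_conj_eq.2 e))
    have hYle : Y ≤ X ⊔ C := iSup_le hXn
    have hLD : L ≤ D := iSup_le fun s => by
      by_cases e : cj (s : G) = K
      · exact e.le.trans le_sup_left
      · exact (commutator_eq_bot_iff_le_centralizer.1
          (CfsgLib.Coprime.components_commute (hcjC s) hK e)).trans le_sup_right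
    let q : K →* D ⧸ C.subgroupOf D :=
      (QuotientGroup.mk' (C.subgroupOf D)).comp (inclusion (le_sup_left : K ≤ D))
    have hq : Function.Surjective q := by
      intro z
      obtain ⟨⟨d, hd⟩, rfl⟩ := QuotientGroup.mk'_surjective _ z
      obtain ⟨c, hc, k, hk, e⟩ := CfsgLib.Coprime.mem_sup_exists (N := C) (H := K) hKC (by rw [sup_comm]; exact hd)
      refine ⟨⟨k, hk⟩, QuotientGroup.eq.2 ?_⟩
      rw [mem_subgroupOf]
      show k⁻¹ * d ∈ C
      rw [← e, ← mul_assoc]
      exact (mem_normalizer_iff''.1 (hKC hk) c).1 hc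
    let PK : Sylow p K := ((P.2.to_le inf_le_left).comap_subtype :
      IsPGroup p ((S ⊓ K).subgroupOf K)).toSylow hSKi
    let PD := PK.mapSurjective hq
    have hSLD : ((S ⊓ L).subgroupOf D).map (QuotientGroup.mk' (C.subgroupOf D)) = (PD : Subgroup _) := by
      refine PD.3 (((P.2.to_le inf_le_left).comap_subtype).map _) ?_
      rintro _ ⟨k, hk, rfl⟩
      exact ⟨inclusion le_sup_left k, mem_subgroupOf.2 ⟨(mem_subgroupOf.1 hk).1, hKL k.2⟩, rfl⟩
    have hSL' : S ⊓ L ≤ X ⊔ C := fun z hz => by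
      obtain ⟨k, hk, hke⟩ := hSLD.le ⟨⟨z, hLD hz.2⟩, mem_subgroupOf.2 hz, rfl⟩
      have hkc : ((k : K) : G)⁻¹ * z ∈ C := mem_subgroupOf.1 (QuotientGroup.eq.1 hke)
      have hkX : ((k : K) : G) ∈ X := ⟨hTA (hTK (mem_subgroupOf.1 hk)), k.2⟩
      simpa using mul_mem (mem_sup_left (T := C) hkX) (mem_sup_right (S := X) hkc)
    intro k hk
    obtain ⟨y, hy, s, hs, e⟩ := CfsgLib.Coprime.mem_sup_exists (N := Y) (H := S) hSY (htop.ge (mem_top k))
    have hyL : y ∈ L := by
      refine (iSup_le fun v : S => le_trans (map_mono inf_le_right) ?_ : Y ≤ L) hy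
      exact le_iSup (fun v : S => cj (v : G)) v
    have hsL : s ∈ L := by
      rw [show s = y⁻¹ * k by rw [← e, inv_mul_cancel_left]]
      exact mul_mem (inv_mem hyL) (hKL hk)
    have hkXC : k ∈ X ⊔ C := e ▸ mul_mem (hYle hy) (hSL' ⟨hs, hsL⟩)
    -- perfectness removes the central factor
    have hKXC : ∀ k' ∈ K, k' ∈ X ⊔ C → ∃ x ∈ X, x⁻¹ * k' ∈ C := fun k' _ h => by
      obtain ⟨c, hc, x, hx, e⟩ := CfsgLib.Coprime.mem_sup_exists (N := C) (H := X)
        ((inf_le_right : X ≤ K).trans hKC) (by rw [sup_comm]; exact h)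
      refine ⟨x, hx, ?_⟩
      rw [← e, ← mul_assoc]
      exact (mem_normalizer_iff''.1 (hKC hx.2) c).1 hc
    exact (show K ≤ X from by
      rw [← CfsgLib.Coprime.commutator_self_of_isComponent hK, commutator_le]
      intro a ha b hb
      have hall : ∀ k' ∈ K, k' ∈ X ⊔ C := fun k' hk' => by
        obtain ⟨y, hy, s, hs, e⟩ := CfsgLib.Coprime.mem_sup_exists (N := Y) (H := S) hSY (htop.ge (mem_top k'))
        have hyL : y ∈ L :=
          (iSup_le fun v : S => (map_mono inf_le_right).trans (le_iSup (fun v : S => cj (v : G)) v) : Y ≤ L) hy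
        have hsL : s ∈ L := by
          rw [show s = y⁻¹ * k' by rw [← e, inv_mul_cancel_left]]
          exact mul_mem (inv_mem hyL) (hKL hk')
        exact e ▸ mul_mem (hYle hy) (hSL' ⟨hs, hsL⟩)
      obtain ⟨x₁, hx₁, hc₁⟩ := hKXC a ha (hall a ha)
      obtain ⟨x₂, hx₂, hc₂⟩ := hKXC b hb (hall b hb)
      set c₁ := x₁⁻¹ * a
      set c₂ := x₂⁻¹ * b
      have hcK : ∀ {x z : G}, x ∈ K → z ∈ C → Commute x z := fun {x z} hx hz =>
        mem_centralizer_iff.1 hz x hx
      have e1 : a = x₁ * c₁ := (mul_inv_cancel_left _ _).symm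
      have e2 : b = x₂ * c₂ := (mul_inv_cancel_left _ _).symm
      have hc₁K : c₁ ∈ K := mul_mem (inv_mem hx₁.2) ha
      have hc₂K : c₂ ∈ K := mul_mem (inv_mem hx₂.2) hb
      have k1 : Commute x₁ c₂ := hcK hx₁.2 hc₂
      have k2 : Commute c₁ (x₂ * c₂) := (hcK (mul_mem hx₂.2 hc₂K) hc₁).symm
      have : ⁅a, b⁆ = ⁅x₁, x₂⁆ := by
        rw [commutatorElement_def, commutatorElement_def, e1, e2]
        calc x₁ * c₁ * (x₂ * c₂) * (x₁ * c₁)⁻¹ * (x₂ * c₂)⁻¹
            = x₁ * (c₁ * (x₂ * c₂)) * c₁⁻¹ * x₁⁻¹ * c₂⁻¹ * x₂⁻¹ := by group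
          _ = x₁ * x₂ * (c₂ * x₁⁻¹) * c₂⁻¹ * x₂⁻¹ := by rw [k2.eq]; group
          _ = x₁ * x₂ * x₁⁻¹ * x₂⁻¹ := by rw [(k1.inv_left.symm).eq]; group
      rw [this, commutatorElement_def]
      exact mul_mem (mul_mem (mul_mem hx₁ hx₂) (inv_mem hx₁)) (inv_mem hx₂)) hk |>.1
  have hTn : ¬ (Q : Subgroup H).Normal := by
    intro hn
    rw [hQT] at hn
    refine hSK1 (le_bot_iff.1 ((CfsgLib.Coprime.le_pCore_of_isSubnormal
      (IsSubnormal.step _ K inf_le_right hK.1 ⟨fun z hz g => ?_⟩) (P.2.to_le inf_le_left)).trans hOp.le))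
    rw [mem_subgroupOf] at hz ⊢
    have h1 : (⟨g, mem_sup_left g.2⟩ : H) * ⟨z, mem_sup_left z.2⟩ * (⟨g, mem_sup_left g.2⟩)⁻¹ ∈
        T.subgroupOf H := hn.conj_mem _ (mem_subgroupOf.2 (hTK hz)) _
    exact ⟨(mem_subgroupOf.1 h1).1, (g * z * g⁻¹).2⟩
  refine isPMinimal_of_sylow Q hTn ?_
  set R₀ := (M ⊓ K) ⊔ T with hR₀
  have hR₀H : R₀ ≤ H := sup_le (inf_le_right.trans le_sup_left) hTH
  have hTMK : T ≤ normalizer ((M ⊓ K : Subgroup G) : Set G) :=
    CfsgLib.Coprime.inf_le_normalizer ((inf_le_left.trans hSM).trans le_normalizer) inf_le_right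
  have hR₀top : R₀.subgroupOf H ≠ ⊤ := fun h => hKM fun k hk => by
    obtain ⟨m, hm, t, ht, e⟩ := CfsgLib.Coprime.mem_sup_exists hTMK
      ((subgroupOf_eq_top.1 h) (mem_sup_left hk))
    exact e ▸ mul_mem hm.1 (hSM ht.1)
  have hle : ∀ A : Subgroup H, (Q : Subgroup H) ≤ A → A ≠ ⊤ → A ≤ R₀.subgroupOf H := by
    intro A hA hne
    set A' := A.map H.subtype
    have hTA : T ≤ A' := fun t ht => ⟨⟨t, hTH ht⟩, hA (hQT.ge (mem_subgroupOf.2 ht)), rfl⟩
    have hKA : ¬ K ≤ A' := fun h => hne (eq_top_iff.2 fun x _ => by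
      obtain ⟨k, hk, t, ht, e⟩ := hdecomp x x.2
      obtain ⟨y, hy, hye⟩ := (mul_mem (h hk) (hTA ht) : k * t ∈ A')
      rwa [← Subtype.ext (hye.trans e)])
    intro x hx
    obtain ⟨k, hk, t, ht, e⟩ := hdecomp x x.2
    have hkA : k ∈ A' := by
      rw [show k = (x : G) * t⁻¹ by rw [← e, mul_inv_cancel_right]]
      exact mul_mem ⟨x, hx, rfl⟩ (inv_mem (hTA ht))
    rw [mem_subgroupOf, ← e]
    exact mul_mem (mem_sup_left ⟨hbd A' hTA (map_subtype_le A) hKA ⟨hkA, hk⟩, hk⟩) (mem_sup_right ht)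
  have hco : IsCoatom (R₀.subgroupOf H) := by
    refine ⟨hR₀top, fun A hlt => ?_⟩
    by_contra hne
    exact hlt.not_ge (hle A (hQT.le.trans ((fun x hx => mem_subgroupOf.2 (mem_sup_right
      (mem_subgroupOf.1 hx))) : T.subgroupOf H ≤ R₀.subgroupOf H) |>.trans hlt.le) hne)
  exact ⟨_, ⟨hco, hQT.le.trans fun x hx => mem_subgroupOf.2 (mem_sup_right (mem_subgroupOf.1 hx))⟩,
    fun A ⟨hA, hQA⟩ => (hA.le_iff.1 (hle A hQA hA.1)).resolve_left hR₀top |>.symm⟩

end CfsgLib.PMinimalComponent
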