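import Cfsg.Agent.Lib.JComp.Prelim
import Cfsg.Agent.Lib.Coprime.Component
import Cfsg.Agent.Lib.Coprime.Action
import Cfsg.Agent.Lib.Coprime.Gaschutz
import Cfsg.Agent.Lib.Coprime.PGroupFrattini
import Cfsg.Agent.Lib.Fusion.LargeSection
import Cfsg.Agent.Lib.LocalStructure.PMinimalComponent
import Cfsg.Agent.Lib.LocalStructure.BaumannNormal

/-!
# An isolated p-minimal subgroup: the residual core

In a finite group `H` with `O_p(H) = 1` a subgroup `W` normalized by the `p`-group `S` is given such that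
every `S`-invariant subgroup contains `W` or lies in `L`; `Q ≤ S` is normalized by `L` and every normal
subgroup containing `Q` contains `W`. The normal closure `Y` of `W` is then a `t`-group of class at most
two equal to `W`, or a product of components permuted transitively by `S`.
-/

set_option autoImplicit false
set_option linter.unusedSectionVars false

open Subgroup
open scoped commutatorElement

namespace CfsgLib.Isolated

variable {H : Type*} [Group H] [Finite H] {p : ℕ} [Fact p.Prime]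

/-- The data of the configuration. -/
structure IsoData (p : ℕ) (S Q L W Y : Subgroup H) : Prop where
  sp : IsPGroup p S
  sl : S ≤ L
  qs : Q ≤ S
  ln : L ≤ normalizer (Q : Set H)
  wn : S ≤ normalizer (W : Set H)
  dich : ∀ D : Subgroup H, S ≤ normalizer (D : Set H) → W ≤ D ∨ D ≤ L
  clos : ∀ C : Subgroup H, C.Normal → Q ≤ C → W ≤ C
  qw : ¬ Q ≤ centralizer (W : Set H)
  ydef : Y = normalClosure (W : Set H)
  gen : Y ⊔ L = ⊤
  core : Cfsg.pCore p H = ⊥

theorem pCoreOf_eq_bot_of_normal (h : Cfsg.pCore p H = ⊥) (N : Subgroup H) [N.Normal] :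
    Cfsg.pCoreOf p N = ⊥ := by
  have hn : (Cfsg.pCoreOf p N).Normal := normalizer_eq_top_iff.1 (eq_top_iff.2
    ((normalizer_eq_top (H := N)).ge.trans (CfsgLib.JComp.normalizer_le_normalizer_pCoreOf N)))
  haveI := hn
  exact eq_bot_iff.2 ((CfsgLib.Coprime.le_pCore (CfsgLib.JComp.isPGroup_pCoreOf p N)).trans h.le)

theorem eq_bot_of_pGroup_normalized (h : Cfsg.pCore p H = ⊥) {Y E X : Subgroup H} [Y.Normal]
    (hEY : E ≤ Y) (hYE : Y ≤ normalizer (E : Set H)) (hXE : X ≤ E) (hX : IsPGroup p X)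
    (hEX : E ≤ normalizer (X : Set H)) : X = ⊥ := by
  refine eq_bot_iff.2 ((CfsgLib.JComp.le_pCoreOf hXE hX hEX).trans ?_)
  rw [← pCoreOf_eq_bot_of_normal h Y]
  exact CfsgLib.JComp.le_pCoreOf ((CfsgLib.JComp.pCoreOf_le p E).trans hEY)
    (CfsgLib.JComp.isPGroup_pCoreOf p E) (hYE.trans (CfsgLib.JComp.normalizer_le_normalizer_pCoreOf E))

theorem mem_normalizer_commutator' {g : H} {A B : Subgroup H} (hA : g ∈ normalizer (A : Set H))
    (hB : g ∈ normalizer (B : Set H)) : g ∈ normalizer ((⁅A, B⁆ : Subgroup H) : Set H) := by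
  refine CfsgLib.Fusion.conjBy_eq_iff.1 ?_
  rw [CfsgLib.Fusion.conjBy, map_commutator]
  exact congrArg₂ _ (CfsgLib.Fusion.conjBy_eq_iff.2 hA) (CfsgLib.Fusion.conjBy_eq_iff.2 hB)

variable {S Q L W Y : Subgroup H}

namespace IsoData

variable (d : IsoData p S Q L W Y)
include d

theorem y_normal : Y.Normal := d.ydef ▸ normalClosure_normal

theorem w_le_y : W ≤ Y := d.ydef ▸ le_normalClosure

theorem y_le {N : Subgroup H} [N.Normal] (h : W ≤ N) : Y ≤ N :=
  d.ydef ▸ normalClosure_le_normal h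

theorem qp : IsPGroup p Q := d.sp.to_le d.qs

theorem w_ne_bot : W ≠ ⊥ := fun h => d.qw (by
  rw [h]
  exact fun q _ => mem_centralizer_iff.2 fun x hx => by
    obtain rfl : x = 1 := (Subgroup.mem_bot).1 hx
    simp)

theorem q_le_normalizer {E : Subgroup H} (h : S ≤ normalizer (E : Set H)) :
    Q ≤ normalizer (E : Set H) := d.qs.trans h

/-- A subgroup of `L` that is normal in `Y` and invariant under `S` is centralized by `Q`. -/
theorem q_centralizes {E : Subgroup H} (hEY : E ≤ Y) (hYE : Y ≤ normalizer (E : Set H))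
    (hSE : S ≤ normalizer (E : Set H)) (hEL : E ≤ L) : Q ≤ centralizer (E : Set H) := by
  haveI := d.y_normal
  have hint : E ⊓ Q = ⊥ := eq_bot_of_pGroup_normalized d.core hEY hYE inf_le_left
    (d.qp.to_le inf_le_right) (CfsgLib.Coprime.inf_le_normalizer le_normalizer (hEL.trans d.ln))
  rw [← commutator_eq_bot_iff_le_centralizer, eq_bot_iff, ← hint]
  refine commutator_le.2 fun q hq e he => mem_inf.2 ⟨?_, ?_⟩
  · rw [commutatorElement_def]
    exact mul_mem ((mem_normalizer_iff.1 (d.q_le_normalizer hSE hq) e).1 he) (inv_mem he)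
  · rw [commutatorElement_def, show q * e * q⁻¹ * e⁻¹ = q * (e * q⁻¹ * e⁻¹) by group]
    exact mul_mem hq ((mem_normalizer_iff.1 (d.ln (hEL he)) _).1 (inv_mem hq))

theorem q_centralizes_normal {N : Subgroup H} [hN : N.Normal] (hNY : N ≤ Y) (hW : ¬ W ≤ N) :
    Q ≤ centralizer (N : Set H) :=
  d.q_centralizes hNY (normalizer_eq_top (H := N) ▸ le_top) (normalizer_eq_top (H := N) ▸ le_top)
    ((d.dich N (normalizer_eq_top (H := N) ▸ le_top)).resolve_left hW)

theorem y_centralizes_normal {N : Subgroup H} [hN : N.Normal] (hNY : N ≤ Y) (hW : ¬ W ≤ N) :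
    Y ≤ centralizer (N : Set H) :=
  d.y_le (d.clos _ inferInstance (d.q_centralizes_normal hNY hW))

theorem commutator_q : ⁅Y, Q⁆ = Y := by
  haveI := d.y_normal
  have hle : ⁅Y, Q⁆ ≤ Y := commutator_le_left Y Q
  have hn : (⁅Y, Q⁆).Normal := normalizer_eq_top_iff.1 (eq_top_iff.2 (d.gen.ge.trans (sup_le
    (CfsgLib.Fusion.LargeSection.le_normalizer_commutator_left Y Q)
    fun g hg => mem_normalizer_commutator' (by rw [normalizer_eq_top]; exact mem_top g) (d.ln hg))))
  haveI := hn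
  by_contra hne
  have hW : ¬ W ≤ ⁅Y, Q⁆ := fun h => hne (le_antisymm hle (d.y_le h))
  have hQc := d.q_centralizes_normal hle hW
  have hYc := d.y_centralizes_normal hle hW
  refine d.qw fun q hq => mem_centralizer_iff.2 fun w hw => ?_
  have hwY := d.w_le_y hw
  obtain ⟨c, hc⟩ : ∃ c, c = q * w * q⁻¹ * w⁻¹ := ⟨_, rfl⟩
  have hcZ : c ∈ ⁅Y, Q⁆ := by
    rw [hc, ← commutatorElement_def, commutator_comm]
    exact commutator_mem_commutator hq hwY
  have hfix : q * c * q⁻¹ = c := by
    rw [mul_inv_eq_iff_eq_mul]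
    exact (mem_centralizer_iff.1 (hQc hq) c hcZ).symm
  have hpnd : ¬ p ∣ orderOf c := by
    intro hdvd
    have hne1 : c ^ (orderOf c / p) ≠ 1 := fun h1 => by
      have h2 := Nat.le_of_dvd
        (Nat.div_pos (Nat.le_of_dvd (orderOf_pos c) hdvd) (Fact.out : p.Prime).pos)
        (orderOf_dvd_of_pow_eq_one h1)
      exact absurd h2 (not_le.2 (Nat.div_lt_self (orderOf_pos c) (Fact.out : p.Prime).one_lt))
    obtain ⟨x, hx⟩ : ∃ x, x = c ^ (orderOf c / p) := ⟨_, rfl⟩
    have hxp : IsPGroup p (zpowers x) := by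
      refine IsPGroup.of_card (n := 1) ?_
      rw [Nat.card_zpowers, pow_one, hx]
      exact orderOf_eq_prime (by rw [← pow_mul, Nat.div_mul_cancel hdvd, pow_orderOf_eq_one]) hne1
    refine hne1 (hx ▸ zpowers_eq_bot.1 (eq_bot_of_pGroup_normalized d.core (Y := Y) hle ?_
      (zpowers_le.2 (hx ▸ pow_mem hcZ _)) hxp ?_))
    · rw [normalizer_eq_top]; exact le_top
    · intro z hz
      refine centralizer_le_normalizer _ (mem_centralizer_iff.2 fun y hy => ?_)
      obtain ⟨i, rfl⟩ := mem_zpowers_iff.1 hy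
      exact (mem_centralizer_iff.1 (hYc (hle hz)) _ (zpow_mem (hx ▸ pow_mem hcZ _) i))
  obtain ⟨k, hk⟩ := d.qp ⟨q, hq⟩
  have hcop : (orderOf q).Coprime (orderOf c) :=
    (Nat.Coprime.pow_left k ((Fact.out : p.Prime).coprime_iff_not_dvd.2 hpnd)).coprime_dvd_left
      (orderOf_dvd_of_pow_eq_one (congrArg Subtype.val hk))
  have h1 := CfsgLib.Coprime.eq_one_of_conj_eq_mul (x := w) (by rw [hc]; group) hfix hcop
  rw [hc, mul_inv_eq_one, mul_inv_eq_iff_eq_mul] at h1
  exact h1.symm

theorem not_q_centralizes_y : ¬ Q ≤ centralizer (Y : Set H) := fun h =>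
  d.qw (h.trans (centralizer_le d.w_le_y))

theorem y_ne_bot : Y ≠ ⊥ := fun h => d.w_ne_bot (le_bot_iff.1 (h ▸ d.w_le_y))

theorem perfect_or_nilpotent :
    ⁅Y, Y⁆ = Y ∨ ⁅⁅Y, Y⁆, Y⁆ = ⊥ := by
  haveI := d.y_normal
  by_cases hW : W ≤ ⁅Y, Y⁆
  · exact Or.inl (le_antisymm (commutator_le_right Y Y) (d.y_le hW))
  · exact Or.inr (commutator_eq_bot_iff_le_centralizer.2
      (le_centralizer_iff.1 (d.y_centralizes_normal (commutator_le_right Y Y) hW)))

theorem isNilpotent_of_class_two (h : ⁅⁅Y, Y⁆, Y⁆ = ⊥) :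
    ∃ _ : Group.IsNilpotent Y, Group.nilpotencyClass Y ≤ 2 := by
  have h2 : Subgroup.lowerCentralSeries (⊤ : Subgroup Y) 2 = ⊥ := by
    refine map_injective Y.subtype_injective ?_
    rw [Subgroup.map_bot, ← h]
    simp [Subgroup.lowerCentralSeries_succ, Subgroup.map_commutator, ← MonoidHom.range_eq_map]
  haveI := Subgroup.nilpotent_iff_lowerCentralSeries.2 ⟨2, h2⟩
  exact ⟨this, Subgroup.lowerCentralSeries_eq_bot_iff_nilpotencyClass_le.1 h2⟩

/-- In the nilpotent case `Y` is a `t`-group for a prime `t ≠ p`. -/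
theorem exists_prime [Group.IsNilpotent Y] :
    ∃ t : ℕ, t.Prime ∧ t ≠ p ∧ IsPGroup t Y := by
  haveI := d.y_normal
  have hsyl : ∀ t : ℕ, ∀ [Fact t.Prime], ∀ P : Sylow t Y, ((P : Subgroup Y).map Y.subtype).Normal := by
    intro t _ P
    haveI hP : (P : Subgroup Y).Normal := inferInstance
    haveI : (P : Subgroup Y).Characteristic := Sylow.characteristic_of_normal P hP
    infer_instance
  by_contra hcon
  push Not at hcon
  refine d.not_q_centralizes_y ?_
  rw [le_centralizer_iff]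
  refine CfsgLib.PMinimalComponent.le_of_forall_sylow fun t ht => ?_
  haveI := ht
  obtain ⟨P⟩ := (inferInstance : Nonempty (Sylow t Y))
  refine ⟨(P : Subgroup Y).map Y.subtype, CfsgLib.Coprime.isSylowIn_map P, ?_⟩
  haveI := hsyl t P
  rw [le_centralizer_iff]
  refine d.q_centralizes_normal (map_subtype_le _) fun hW => ?_
  have hYP : (P : Subgroup Y).map Y.subtype = Y :=
    le_antisymm (map_subtype_le _) (d.y_le hW)
  refine hcon t Fact.out ?_ ?_
  · rintro rfl
    exact d.y_ne_bot ((pCoreOf_eq_bot_of_normal d.core Y) ▸ (le_antisymm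
      (CfsgLib.JComp.le_pCoreOf le_rfl (hYP ▸ P.2.map _) le_normalizer) (CfsgLib.JComp.pCoreOf_le _ Y)))
  · exact hYP ▸ P.2.map _

end IsoData

end CfsgLib.Isolated
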