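import Cfsg.Agent.Lib.LocalStructure.IsolatedCases

/-!
# An isolated p-minimal subgroup: the layer case
-/

set_option autoImplicit false
set_option linter.unusedSectionVars false

open Subgroup
open scoped commutatorElement

namespace CfsgLib.Isolated

variable {H : Type*} [Group H] [Finite H] {p : ℕ} [Fact p.Prime] {S Q L W Y : Subgroup H}

namespace IsoData

variable (d : IsoData p S Q L W Y)
include d

theorem layer_eq_top (h : ¬ Group.IsSolvable Y) : Cfsg.layer Y = ⊤ := by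
  haveI := d.y_normal
  have hperf := d.perfect_of_not_solvable h
  haveI : Group.IsPerfect Y := Subgroup.isPerfect_iff.2 hperf
  have key : ∀ N : Subgroup Y, N.Characteristic → N = ⊤ ∨ ⊤ ≤ centralizer (N : Set Y) := by
    intro N hN
    haveI := hN
    haveI : (N.map Y.subtype).Normal := inferInstance
    by_cases hW : W ≤ N.map Y.subtype
    · left
      refine map_injective Y.subtype_injective ?_
      rw [← MonoidHom.range_eq_map, range_subtype]
      exact le_antisymm (map_subtype_le _) (d.y_le hW)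
    · right
      intro y _
      refine mem_centralizer_iff.2 fun n hn => Subtype.ext ?_
      exact mem_centralizer_iff.1 (d.y_centralizes_normal (map_subtype_le _) hW y.2) n (mem_map_of_mem _ hn)
  rcases key _ CfsgLib.Coprime.layer_characteristic with h1 | h1
  · exact h1
  exfalso
  have hl : Cfsg.layer Y = ⊥ := by
    rw [← CfsgLib.Coprime.layer_isPerfect, commutator_eq_bot_iff_le_centralizer]
    exact le_top.trans h1
  rcases key _ CfsgLib.Coprime.fitting_characteristic with h2 | h2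
  · apply h
    haveI : Group.IsNilpotent (⊤ : Subgroup Y) := h2 ▸ CfsgLib.Coprime.fitting_isNilpotent
    haveI : Group.IsNilpotent Y := Group.isNilpotent_top.1 this
    infer_instance
  · apply h
    have htop : (⊤ : Subgroup Y) ≤ Cfsg.fittingSubgroup Y :=
      h2.trans (CfsgLib.Coprime.centralizer_fitting_le_of_layer_eq_bot hl)
    haveI : Group.IsNilpotent (⊤ : Subgroup Y) :=
      CfsgLib.Coprime.isNilpotent_of_le htop CfsgLib.Coprime.fitting_isNilpotent
    haveI : Group.IsNilpotent Y := Group.isNilpotent_top.1 this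
    infer_instance

/-- `S` permutes the components of `Y` transitively. -/
theorem transitive (h : ¬ Group.IsSolvable Y) (K₁ K₂ : Subgroup Y) (h₁ : Cfsg.IsComponent K₁)
    (h₂ : Cfsg.IsComponent K₂) :
    ∃ s ∈ S, K₂.map Y.subtype = (K₁.map Y.subtype).map (MulAut.conj s).toMonoidHom := by
  haveI := d.y_normal
  have hsub : Y.IsSubnormal := (inferInstance : Y.Normal).isSubnormal
  obtain ⟨C, hC⟩ : ∃ C : Set (Subgroup H), C = {K | Cfsg.IsComponent K ∧ K ≤ Y} := ⟨_, rfl⟩
  have hk : ∀ K : Subgroup Y, Cfsg.IsComponent K → K.map Y.subtype ∈ C := fun K hK => hC ▸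
    ⟨(CfsgLib.Coprime.isComponent_map_subtype_iff hsub K).2 hK, map_subtype_le _⟩
  have hYC : Y ≤ sSup C := by
    intro y hy
    have : (⟨y, hy⟩ : Y) ∈ Cfsg.layer Y := by rw [d.layer_eq_top h]; exact mem_top _
    exact (show Cfsg.layer Y ≤ (sSup C).subgroupOf Y from sSup_le fun K hK x hx =>
      (le_sSup (hk K hK) : _ ≤ sSup C) (mem_map_of_mem _ hx)) this
  have hYlayer : Y ≤ Cfsg.layer H := hYC.trans (sSup_le fun K hK =>
    CfsgLib.Coprime.component_le_layer (hC ▸ hK : K ∈ {K | Cfsg.IsComponent K ∧ K ≤ Y}).1)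
  have hconjC : ∀ s : H, ∀ K ∈ C, K.map (MulAut.conj s).toMonoidHom ∈ C := by
    intro s K hK
    rw [hC] at hK ⊢
    refine ⟨CfsgLib.Coprime.isComponent_map_equiv _ hK.1, ?_⟩
    rintro _ ⟨x, hx, rfl⟩
    exact Subgroup.Normal.conj_mem inferInstance x (hK.2 hx) s
  obtain ⟨O, hO⟩ : ∃ O : Set (Subgroup H),
      O = {K | ∃ s ∈ S, K = (K₁.map Y.subtype).map (MulAut.conj s).toMonoidHom} := ⟨_, rfl⟩
  by_contra hcon
  have h2O : K₂.map Y.subtype ∉ O := fun hm => hcon (by rwa [hO] at hm)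
  have hOC : O ⊆ C := fun K hK => by
    rw [hO] at hK
    obtain ⟨s, -, rfl⟩ := hK
    exact hconjC s _ (hk K₁ h₁)
  have hinvO : ∀ s ∈ S, ∀ K ∈ O, K.map (MulAut.conj s).toMonoidHom ∈ O := by
    intro s hs K hK
    rw [hO] at hK ⊢
    obtain ⟨t, ht, rfl⟩ := hK
    refine ⟨s * t, mul_mem hs ht, ?_⟩
    rw [Subgroup.map_map (g := (MulAut.conj s).toMonoidHom)]
    congr 1
    ext x
    simp [mul_assoc]
  have hnormS : ∀ 𝒟 : Set (Subgroup H), (∀ s ∈ S, ∀ K ∈ 𝒟, K.map (MulAut.conj s).toMonoidHom ∈ 𝒟) →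
      S ≤ normalizer ((sSup 𝒟 : Subgroup H) : Set H) := by
    intro 𝒟 hinv s hs
    refine CfsgLib.Fusion.conjBy_eq_iff.1 (CfsgLib.Fusion.conjBy_eq_of_le ?_)
    rw [CfsgLib.Fusion.conjBy, map_le_iff_le_comap]
    exact sSup_le fun K hK => map_le_iff_le_comap.1 (le_sSup (hinv s hs K hK))
  have hnormY : ∀ 𝒟 ⊆ C, Y ≤ normalizer ((sSup 𝒟 : Subgroup H) : Set H) := by
    intro 𝒟 hsub y hy
    refine CfsgLib.Fusion.conjBy_eq_iff.1 (CfsgLib.Fusion.conjBy_eq_of_le ?_)
    rw [CfsgLib.Fusion.conjBy, map_le_iff_le_comap]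
    refine sSup_le fun K hK => map_le_iff_le_comap.1 ?_
    have hK' := hsub hK
    rw [hC] at hK'
    exact le_trans (le_of_eq (CfsgLib.Fusion.conjBy_eq_iff.2
      (CfsgLib.Coprime.layer_le_normalizer_component hK'.1 (hYlayer hy)))) (le_sSup hK)
  obtain ⟨D, hD⟩ : ∃ D, D = sSup O := ⟨_, rfl⟩
  obtain ⟨E, hE⟩ : ∃ E, E = sSup (C \ O) := ⟨_, rfl⟩
  have hCY : ∀ K ∈ C, K ≤ Y := fun K hK => (hC ▸ hK : K ∈ {K | Cfsg.IsComponent K ∧ K ≤ Y}).2
  have hDY : D ≤ Y := hD ▸ sSup_le fun K hK => hCY K (hOC hK)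
  have hEY : E ≤ Y := hE ▸ sSup_le fun K hK => hCY K hK.1
  have hSD : S ≤ normalizer (D : Set H) := hD ▸ hnormS O hinvO
  have hSE : S ≤ normalizer (E : Set H) := hE ▸ hnormS _ fun s hs K hK => ⟨hconjC s K hK.1, fun hm => hK.2 (by
    have := hinvO s⁻¹ (inv_mem hs) _ hm
    rwa [Subgroup.map_map, show (MulAut.conj s⁻¹).toMonoidHom.comp (MulAut.conj s).toMonoidHom =
      MonoidHom.id H from MonoidHom.ext fun x => by simp [mul_assoc], Subgroup.map_id] at this)⟩
  have hYD : Y ≤ normalizer (D : Set H) := hD ▸ hnormY O hOC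
  have hYE : Y ≤ normalizer (E : Set H) := hE ▸ hnormY _ Set.sdiff_subset
  have hDE : Y ≤ D ⊔ E := hYC.trans (sSup_le fun K hK => by
    by_cases hKO : K ∈ O
    · exact hD ▸ le_sup_of_le_left (le_sSup hKO)
    · exact hE ▸ le_sup_of_le_right (le_sSup ⟨hK, hKO⟩))
  have hcomm : E ≤ centralizer (D : Set H) := by
    rw [hE]
    refine sSup_le fun K hK => ?_
    rw [le_centralizer_iff, hD]
    refine sSup_le fun L hL => commutator_eq_bot_iff_le_centralizer.1 ?_
    refine CfsgLib.Coprime.components_commute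
      (hC ▸ hOC hL : L ∈ {K | Cfsg.IsComponent K ∧ K ≤ Y}).1
      (hC ▸ hK.1 : K ∈ {K | Cfsg.IsComponent K ∧ K ≤ Y}).1 fun e => hK.2 (e ▸ hL)
  -- a component inside the part commuting with it
  have hfinal : ∀ K : Subgroup Y, Cfsg.IsComponent K → ∀ A : Subgroup H, Y ≤ A →
      ¬ K.map Y.subtype ≤ centralizer (A : Set H) := by
    intro K hK A hA hle
    refine CfsgLib.Coprime.not_isSolvable_of_isComponent hK ?_
    exact Group.isSolvable_of_comm fun a b => Subtype.ext (Subtype.ext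
      (mem_centralizer_iff.1 (hle (mem_map_of_mem _ b.2)) a (hA a.1.2)))
  have hK₁D : K₁.map Y.subtype ≤ D := hD ▸ le_sSup (hO ▸ ⟨1, one_mem _, by
    rw [map_one]
    exact (Subgroup.map_id _).symm⟩)
  have hK₂E : K₂.map Y.subtype ≤ E := hE ▸ le_sSup ⟨hk K₂ h₂, h2O⟩
  have hside : ∀ A B : Subgroup H, A ≤ Y → B ≤ Y → S ≤ normalizer (A : Set H) →
      Y ≤ normalizer (A : Set H) → S ≤ normalizer (B : Set H) → Y ≤ normalizer (B : Set H) → Y ≤ A ⊔ B →
      B ≤ L → Y ≤ A := by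
    intro A B hA hB hSA hYA hSB hYB hAB hBL
    have hQB := d.q_centralizes hB hYB hSB hBL
    conv_lhs => rw [← d.commutator_q]
    refine commutator_le.2 fun y hy q hq => ?_
    obtain ⟨a, ha, b, hb, rfl⟩ := CfsgLib.Coprime.mem_sup_exists (hB.trans hYA) (hAB hy)
    have hqb : q * b = b * q := (mem_centralizer_iff.1 (hQB hq) b hb).symm
    have hqa : q * a⁻¹ * q⁻¹ ∈ A := (mem_normalizer_iff.1 (hSA (d.qs hq)) _).1 (inv_mem ha)
    rw [commutatorElement_def,
      show a * b * q * (a * b)⁻¹ * q⁻¹ = a * (b * q) * b⁻¹ * a⁻¹ * q⁻¹ by group, ← hqb,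
      show a * (q * b) * b⁻¹ * a⁻¹ * q⁻¹ = a * (q * a⁻¹ * q⁻¹) by group]
    exact mul_mem ha hqa
  rcases d.dich E hSE with hWE | hEL
  · rcases d.dich D hSD with hWD | hDL
    · have hWZ : W ≤ centralizer (Y : Set H) := le_centralizer_iff.1 (hDE.trans (sup_le
        (le_centralizer_iff.1 (hWE.trans hcomm)) (hcomm.trans (centralizer_le hWD))))
      have hYab : Y ≤ centralizer (Y : Set H) := d.y_le hWZ
      exact h (Group.isSolvable_of_comm fun a b =>
        Subtype.ext (mem_centralizer_iff.1 (hYab b.2) a a.2))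
    · exact hfinal K₁ h₁ E (hside E D hEY hDY hSE hYE hSD hYD (sup_comm D E ▸ hDE) hDL)
        (le_centralizer_iff.1 (hcomm.trans (centralizer_le hK₁D)))
  · exact hfinal K₂ h₂ D (hside D E hDY hEY hSD hYD hSE hYE hDE hEL) (hK₂E.trans hcomm)

end IsoData

end CfsgLib.Isolated
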