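import Cfsg.Agent.Lib.LocalStructure.Isolated

/-!
# Isolated p-minimal subgroups: conclusions
-/

set_option autoImplicit false
set_option linter.unusedSectionVars false

open Subgroup
open scoped commutatorElement

namespace CfsgLib.Isolated.Hyp

variable {G : Type*} [Group G] [Finite G] {p : ℕ} [Fact p.Prime] {S : Sylow p G} {P L Y : Subgroup G}
  (h : Hyp S P L Y)
include h

theorem exists_equiv [(Cfsg.pCore p G).Normal] [(Cfsg.pCore p Y).Normal] :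
    ∃ ψ : Y ⧸ Cfsg.pCore p Y ≃* ↥(Y.map (QuotientGroup.mk' (Cfsg.pCore p G))),
      ∀ y : Y, (ψ (QuotientGroup.mk' _ y) : G ⧸ Cfsg.pCore p G) = QuotientGroup.mk' (Cfsg.pCore p G) y := by
  obtain ⟨φ, hφ⟩ : ∃ φ, φ = (QuotientGroup.mk' (Cfsg.pCore p G)).subgroupMap Y := ⟨_, rfl⟩
  have hker : Cfsg.pCore p Y = φ.ker := by
    ext y
    rw [h.y_inf_core, hφ, mem_subgroupOf, MonoidHom.mem_ker]
    exact ⟨fun hy => Subtype.ext ((QuotientGroup.eq_one_iff _).2 hy),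
      fun hy => (QuotientGroup.eq_one_iff _).1 (congrArg Subtype.val hy)⟩
  have hsurj : Function.Surjective φ := hφ ▸ MonoidHom.subgroupMap_surjective _ Y
  refine ⟨(QuotientGroup.quotientMulEquivOfEq hker).trans (QuotientGroup.quotientKerEquivOfSurjective φ hsurj),
    fun y => ?_⟩
  subst hφ
  rfl

theorem residual_le_fittingStar [(Cfsg.pCore p G).Normal] :
    Cfsg.pResidualOf p P ≤
      (Cfsg.generalizedFittingSubgroup (G ⧸ Cfsg.pCore p G)).comap (QuotientGroup.mk' (Cfsg.pCore p G)) := by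
  have d := h.iso_data
  haveI := d.y_normal
  refine (map_le_iff_le_comap).1 (d.w_le_y.trans ?_)
  by_cases hs : Group.IsSolvable ↥(Y.map (QuotientGroup.mk' (Cfsg.pCore p G)))
  · obtain ⟨hn, -⟩ := d.nilpotent_of_solvable hs
    exact (CfsgLib.Coprime.le_fitting hn).trans CfsgLib.Coprime.fitting_le_generalizedFitting
  · refine le_trans ?_ CfsgLib.Coprime.layer_le_generalizedFitting
    intro y hy
    refine CfsgLib.Coprime.layer_map_subtype_le (inferInstance : (Y.map (QuotientGroup.mk' (Cfsg.pCore p G))).Normal).isSubnormal ?_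
    exact ⟨⟨y, hy⟩, by rw [d.layer_eq_top hs]; exact mem_top _, rfl⟩

/-- The solvable case. -/
theorem solvable_case [(Cfsg.pCore p G).Normal]
    (hs : Group.IsSolvable ↥(Y.map (QuotientGroup.mk' (Cfsg.pCore p G)))) :
    Cfsg.pResidualOf p P = Y ∧
      ∃ _ : (Cfsg.pCore p Y).Normal, ∃ t : ℕ, t.Prime ∧ t ≠ p ∧ IsPGroup t (Y ⧸ Cfsg.pCore p Y) ∧
        ∃ _ : Group.IsNilpotent (Y ⧸ Cfsg.pCore p Y), Group.nilpotencyClass (Y ⧸ Cfsg.pCore p Y) ≤ 2 := by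
  have d := h.iso_data
  haveI := CfsgLib.Coprime.pCore_normal' (G := Y) p
  obtain ⟨hn, hcl⟩ := d.nilpotent_of_solvable hs
  haveI := hn
  obtain ⟨t, ht, htp, hYt⟩ := d.exists_prime
  haveI : Fact t.Prime := ⟨ht⟩
  refine ⟨h.residual_eq_y (d.w_eq_y htp hYt), inferInstance, t, ht, htp, ?_⟩
  obtain ⟨ψ, -⟩ := h.exists_equiv
  haveI : Group.IsNilpotent (Y ⧸ Cfsg.pCore p Y) :=
    Group.nilpotent_of_surjective ψ.symm.toMonoidHom ψ.symm.surjective
  exact ⟨hYt.of_equiv ψ.symm, inferInstance,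
    (Group.nilpotencyClass_le_of_surjective ψ.symm.toMonoidHom ψ.symm.surjective).trans hcl⟩

/-- The layer case. -/
theorem layer_case [(Cfsg.pCore p G).Normal]
    (hs : ¬ Group.IsSolvable ↥(Y.map (QuotientGroup.mk' (Cfsg.pCore p G)))) :
    ∃ _ : (Cfsg.pCore p Y).Normal,
      p ∣ Nat.card (Y ⧸ Cfsg.pCore p Y) ∧ Cfsg.layer (Y ⧸ Cfsg.pCore p Y) = ⊤ ∧
      ∀ K₁ K₂ : Subgroup (Y ⧸ Cfsg.pCore p Y), Cfsg.IsComponent K₁ → Cfsg.IsComponent K₂ →
        ∃ s ∈ (S : Subgroup G), ((K₂.comap (QuotientGroup.mk' (Cfsg.pCore p Y))).map Y.subtype) =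
          (((K₁.comap (QuotientGroup.mk' (Cfsg.pCore p Y))).map Y.subtype)).map (MulAut.conj s).toMonoidHom := by
  have d := h.iso_data
  haveI hYn : Y.Normal := h.hY ▸ normalClosure_normal
  haveI := CfsgLib.Coprime.pCore_normal' (G := Y) p
  obtain ⟨ψ, hψ⟩ := h.exists_equiv
  refine ⟨inferInstance, ?_, ?_, fun K₁ K₂ h₁ h₂ => ?_⟩
  · rw [Nat.card_congr ψ.toEquiv]
    exact d.dvd_card hs
  · have := CfsgLib.Coprime.map_layer_equiv ψ
    rw [d.layer_eq_top hs] at this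
    exact Subgroup.map_injective ψ.injective (this.trans (map_top_of_surjective _ ψ.surjective).symm)
  obtain ⟨t, ⟨s, hs', rfl⟩, hst⟩ := d.transitive hs _ _ (CfsgLib.Coprime.isComponent_map_equiv ψ h₁)
    (CfsgLib.Coprime.isComponent_map_equiv ψ h₂)
  refine ⟨s, hs', ?_⟩
  have key : ∀ (K : Subgroup (Y ⧸ Cfsg.pCore p Y)) (x : G),
      x ∈ (K.comap (QuotientGroup.mk' (Cfsg.pCore p Y))).map Y.subtype ↔
        x ∈ Y ∧ QuotientGroup.mk' (Cfsg.pCore p G) x ∈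
          (K.map ψ.toMonoidHom).map (Y.map (QuotientGroup.mk' (Cfsg.pCore p G))).subtype := by
    intro K x
    constructor
    · rintro ⟨y, hy, rfl⟩
      exact ⟨y.2, _, ⟨_, hy, rfl⟩, hψ y⟩
    · rintro ⟨hx, _, ⟨k, hk, rfl⟩, hkx⟩
      refine ⟨⟨x, hx⟩, ?_, rfl⟩
      show QuotientGroup.mk' _ (⟨x, hx⟩ : Y) ∈ K
      have : k = QuotientGroup.mk' _ (⟨x, hx⟩ : Y) :=
        ψ.injective (Subtype.ext (hkx.trans (hψ ⟨x, hx⟩).symm))
      exact this ▸ hk
  ext x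
  rw [key, hst]
  constructor
  · rintro ⟨hx, z, hz, hzx⟩
    refine ⟨s⁻¹ * x * s, (key _ _).2 ⟨by simpa using hYn.conj_mem x hx s⁻¹, ?_⟩,
      by simp [mul_assoc]⟩
    have : QuotientGroup.mk' (Cfsg.pCore p G) (s⁻¹ * x * s) = z := by
      rw [map_mul, map_mul, map_inv, ← hzx]
      simp [mul_assoc]
    rw [this]
    exact hz
  · rintro ⟨y, hy, rfl⟩
    obtain ⟨hyY, hyK⟩ := (key _ _).1 hy
    refine ⟨hYn.conj_mem y hyY s, _, hyK, ?_⟩
    simp [mul_assoc]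

end CfsgLib.Isolated.Hyp
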