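import Cfsg.Agent.Lib.LocalStructure.JFiveCore
import Cfsg.Agent.Lib.Coprime.FpfAction
import Cfsg.Agent.Lib.Coprime.Core
import Cfsg.Agent.Lib.Fusion.MaxFamily
import Cfsg.Agent.Lib.Fusion.PComplement
import Cfsg.Agent.Lib.Fusion.Residual

/-!
# The abelian Thompson subgroup lies in `O_p` for `p ≥ 5`

In a constrained group with maximal Sylow `p`-subgroup and `p`-nilpotent quotient by `O_p`, every
abelian subgroup of largest order of the Sylow subgroup lies in `O_p` when `p ≥ 5`.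
-/

set_option autoImplicit false
set_option linter.style.haveILetI false

open Subgroup
open scoped commutatorElement

namespace CfsgLib.LocalStructure.JFive

universe u

variable {G : Type u} [Group G]

/-- An abelian group acted on coprimely by an abelian group with `[K, A] = K` has no fixed points. -/
theorem inf_centralizer_eq_bot [Finite G] {A K : Subgroup G} (hA : IsMulCommutative A)
    (hK : IsMulCommutative K) (hn : A ≤ normalizer (K : Set G))
    (hcop : (Nat.card A).Coprime (Nat.card K)) (hKA : K ≤ ⁅K, A⁆) :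
    K ⊓ centralizer (A : Set G) = ⊥ := by
  classical
  letI : CommGroup K := { (inferInstance : Group K) with mul_comm := hK.is_comm.comm }
  letI : Fintype A := Fintype.ofFinite A
  let φ : A → K → K := fun a k =>
    ⟨(a : G) * k * (a : G)⁻¹, (Subgroup.mem_normalizer_iff.1 (hn a.2) k).1 k.2⟩
  let ν : K →* K :=
    { toFun := fun k => ∏ a : A, φ a k
      map_one' := Finset.prod_eq_one fun a _ => Subtype.ext (by
        show (a : G) * 1 * (a : G)⁻¹ = 1
        rw [mul_one, mul_inv_cancel])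
      map_mul' := fun k k' => by
        rw [← Finset.prod_mul_distrib]
        refine Finset.prod_congr rfl fun a _ => Subtype.ext ?_
        show (a : G) * (k * k') * (a : G)⁻¹ = (a : G) * k * (a : G)⁻¹ * ((a : G) * k' * (a : G)⁻¹)
        group }
  have hinv : ∀ (k : K) (b : A), ν (φ b k) = ν k := fun k b => by
    show ∏ a : A, φ a (φ b k) = ∏ a : A, φ a k
    conv_rhs => rw [← Equiv.prod_comp (Equiv.mulRight b) (fun a : A => φ a k)]
    refine Finset.prod_congr rfl fun a _ => Subtype.ext ?_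
    show (a : G) * ((b : G) * k * (b : G)⁻¹) * (a : G)⁻¹ = ((a : G) * b) * k * ((a : G) * b)⁻¹
    group
  have hker : K ≤ ν.ker.map K.subtype := by
    refine hKA.trans (commutator_le.2 fun k hk a ha => ?_)
    refine ⟨⟨k, hk⟩ * (φ ⟨a, ha⟩ ⟨k, hk⟩)⁻¹, ?_, ?_⟩
    · rw [SetLike.mem_coe, MonoidHom.mem_ker, map_mul, map_inv, hinv, mul_inv_cancel]
    · show k * (a * k * a⁻¹)⁻¹ = ⁅k, a⁆
      rw [commutatorElement_def]
      group
  rw [eq_bot_iff]
  intro c hc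
  obtain ⟨hcK, hcC⟩ := mem_inf.1 hc
  rw [mem_bot]
  obtain ⟨y, hy, hyc⟩ := hker hcK
  obtain rfl : y = ⟨c, hcK⟩ := Subtype.ext hyc
  have h1 : ν ⟨c, hcK⟩ = (⟨c, hcK⟩ : K) ^ Fintype.card A := by
    show ∏ a : A, φ a ⟨c, hcK⟩ = _
    rw [Finset.prod_congr rfl (g := fun _ => (⟨c, hcK⟩ : K)) (fun a _ => Subtype.ext (by
      show (a : G) * c * (a : G)⁻¹ = c
      rw [mem_centralizer_iff.1 hcC a a.2, mul_inv_cancel_right]))]
    rw [Finset.prod_const, Finset.card_univ]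
  rw [MonoidHom.mem_ker.1 hy] at h1
  have h2 : orderOf (⟨c, hcK⟩ : K) ∣ Nat.gcd (Nat.card A) (Nat.card K) :=
    Nat.dvd_gcd (by rw [Nat.card_eq_fintype_card]; exact orderOf_dvd_of_pow_eq_one h1.symm)
      (orderOf_dvd_natCard _)
  rw [hcop.gcd_eq_one, Nat.dvd_one, orderOf_eq_one_iff] at h2
  exact congrArg Subtype.val h2

/-- An abelian `p`-group acting nontrivially on an abelian `p'`-group acts as a cyclic fixed-point-free
group on some invariant subgroup. -/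
theorem exists_cyclic_constituent [Finite G] {p : ℕ} [Fact p.Prime] {A L : Subgroup G}
    (hA : IsMulCommutative A) (hAp : IsPGroup p A) (hL : IsMulCommutative L)
    (hLp : (Nat.card L).Coprime p) (hn : A ≤ normalizer (L : Set G)) (hne : ⁅L, A⁆ ≠ ⊥) :
    ∃ K : Subgroup G, K ≤ L ∧ A ≤ normalizer (K : Set G) ∧ K ≠ ⊥ ∧
      ∃ γ ∈ A, ∃ n : ℕ, 1 ≤ n ∧ γ ^ p ^ n ∈ centralizer (K : Set G) ∧
        A ≤ (A ⊓ centralizer (K : Set G)) ⊔ zpowers γ ∧
        ∀ l, 0 < l → l < p ^ n → ∀ k ∈ K, γ ^ l * k = k * γ ^ l → k = 1 := by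
  have hp : p.Prime := Fact.out
  obtain ⟨K, ⟨hKL, hKn, hKne⟩, hKmin⟩ := (Set.toFinite
    {M : Subgroup G | M ≤ L ∧ A ≤ normalizer (M : Set G) ∧ ⁅M, A⁆ ≠ ⊥}).exists_minimal ⟨L, le_rfl, hn, hne⟩
  obtain ⟨j, hj⟩ := IsPGroup.iff_card.1 hAp
  have hcop : (Nat.card A).Coprime (Nat.card K) := by
    rw [hj]
    exact Nat.Coprime.pow_left j
      (Nat.Coprime.coprime_dvd_left (Subgroup.card_dvd_of_le hKL) hLp).symm
  have hKab : IsMulCommutative K :=
    ⟨⟨fun s t => Subtype.ext (comm_of_abelian hL (hKL s.2) (hKL t.2))⟩⟩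
  have hKA : K ≤ ⁅K, A⁆ := by
    have hsolv : Group.IsSolvable A := by
      haveI := hAp.isNilpotent
      infer_instance
    have hle : ⁅K, A⁆ ≤ K := le_normalizer_iff_commutator_le_left.1 hKn
    refine hKmin ⟨hle.trans hKL, ?_, ?_⟩ hle
    · rw [commutator_comm]; exact normalizer_commutator_ge_left A K
    · rw [CfsgLib.Coprime.commutator_commutator_eq hKn hcop (Or.inl hsolv)]
      exact hKne
  have hfix := inf_centralizer_eq_bot hA hKab hKn hcop hKA
  have hKne' : K ≠ ⊥ := fun e => hKne (by rw [e, commutator_bot_left])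
  -- every element of `A` is trivial or fixed-point-free on `K`
  have hirr : ∀ γ ∈ A, γ ∈ centralizer (K : Set G) ∨ K ⊓ centralizer ({γ} : Set G) = ⊥ := by
    intro γ hγ
    obtain ⟨M, hM⟩ : ∃ M, M = K ⊓ centralizer ({γ} : Set G) := ⟨_, rfl⟩
    rw [← hM]
    rcases eq_or_ne ⁅M, A⁆ ⊥ with h1 | h1
    · right
      rw [← le_bot_iff, ← hfix]
      exact le_inf (hM.le.trans inf_le_left) (commutator_eq_bot_iff_le_centralizer.1 h1)
    · left
      have hMn : A ≤ normalizer (M : Set G) := by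
        intro a ha
        rw [hM]
        refine CfsgLib.Coprime.inf_le_normalizer hKn ?_ ha
        exact fun b hb => le_normalizer
          (mem_centralizer_singleton_iff.2 (comm_of_abelian hA hb hγ))
      have hle : M ≤ K := hM.le.trans inf_le_left
      have hKM : K ≤ M := hKmin ⟨hle.trans hKL, hMn, h1⟩ hle
      refine mem_centralizer_iff.2 fun k hk => ?_
      exact mem_centralizer_singleton_iff.1 (mem_inf.1 (hM.le (hKM hk))).2
  -- pass to the faithful quotient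
  obtain ⟨A1, hA1⟩ : ∃ A1, A1 = A ⊓ centralizer (K : Set G) := ⟨_, rfl⟩
  obtain ⟨H, hH⟩ : ∃ H, H = K ⊔ A := ⟨_, rfl⟩
  haveI hA1n : (A1.subgroupOf H).Normal := by
    refine (normal_subgroupOf_iff_le_normalizer (hA1.le.trans (inf_le_left.trans (hH ▸ le_sup_right)))).2 ?_
    rw [hH]
    refine sup_le (fun k hk => ?_) (fun a ha => ?_)
    · refine centralizer_le_normalizer (A1 : Set G) (mem_centralizer_iff.2 fun x hx => ?_)
      exact (mem_centralizer_iff.1 (mem_inf.1 (hA1.le hx)).2 k hk).symm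
    · exact centralizer_le_normalizer (A1 : Set G)
        (mem_centralizer_iff.2 fun x hx => comm_of_abelian hA (mem_inf.1 (hA1.le hx)).1 ha)
  let ψ := QuotientGroup.mk' (A1.subgroupOf H)
  obtain ⟨A', hA'⟩ : ∃ A', A' = (A.subgroupOf H).map ψ := ⟨_, rfl⟩
  obtain ⟨K', hK'⟩ : ∃ K', K' = (K.subgroupOf H).map ψ := ⟨_, rfl⟩
  have hA'ab : IsMulCommutative A' :=
    hA' ▸ CfsgLib.Fusion.isMulCommutative_map ψ (CfsgLib.Fusion.isMulCommutative_subgroupOf hA)
  have hA'n : A' ≤ normalizer (K' : Set (H ⧸ A1.subgroupOf H)) := by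
    rw [hA', hK']
    refine le_trans (map_mono ?_) (Subgroup.le_normalizer_map ψ)
    intro x hx
    refine Subgroup.mem_normalizer_iff.2 fun y => ?_
    exact Subgroup.mem_normalizer_iff.1 (hKn hx) (y : G)
  have hcomm1 : ∀ {γ k : G}, γ ∈ A → k ∈ K → (γ * k * γ⁻¹ * k⁻¹) ∈ K := fun hγ hk =>
    mul_mem ((Subgroup.mem_normalizer_iff.1 (hKn hγ) _).1 hk) (inv_mem hk)
  have hKA1 : ∀ x ∈ K, x ∈ A1 → x = 1 := fun x hx hxA => by
    have : x ∈ K ⊓ centralizer (A : Set G) := mem_inf.2 ⟨hx, mem_centralizer_iff.2 fun a ha =>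
      comm_of_abelian hA ha (mem_inf.1 (hA1.le hxA)).1⟩
    rwa [hfix, mem_bot] at this
  have hfpf : CfsgLib.Coprime.IsFpfOn A' K' := by
    intro a' ha' ha'1
    rw [eq_bot_iff]
    intro v hv
    obtain ⟨hv1, hv2⟩ := mem_inf.1 hv
    rw [hA'] at ha'
    rw [hK'] at hv1
    obtain ⟨⟨γ, hγH⟩, hγ, rfl⟩ := ha'
    obtain ⟨⟨k, hkH⟩, hk, rfl⟩ := hv1
    rw [SetLike.mem_coe, mem_subgroupOf] at hγ hk
    rw [mem_bot]
    rcases hirr γ hγ with h1 | h1
    · exact absurd ((QuotientGroup.eq_one_iff _).2 (mem_subgroupOf.2 (hA1.ge (mem_inf.2 ⟨hγ, h1⟩)))) ha'1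
    · have h2 : γ * k * γ⁻¹ * k⁻¹ ∈ A1 := by
        have h3 := mem_centralizer_singleton_iff.1 hv2
        have h4 : ψ ((⟨γ, hγH⟩ : H) * ⟨k, hkH⟩ * (⟨γ, hγH⟩ : H)⁻¹ * (⟨k, hkH⟩ : H)⁻¹) = 1 := by
          rw [map_mul, map_mul, map_mul, map_inv, map_inv, ← h3]
          group
        exact mem_subgroupOf.1 ((QuotientGroup.eq_one_iff _).1 h4)
      have h5 := hKA1 _ (hcomm1 hγ hk) h2
      have h6 : k ∈ K ⊓ centralizer ({γ} : Set G) := mem_inf.2 ⟨hk,
        mem_centralizer_singleton_iff.2 (mul_inv_eq_iff_eq_mul.1 (mul_inv_eq_one.1 h5)).symm⟩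
      rw [h1, mem_bot] at h6
      subst h6
      exact map_one ψ
  have hK'ne : K' ≠ ⊥ := fun e => hKne' (by
    rw [eq_bot_iff]
    intro k hk
    have hkH : k ∈ H := hH ▸ mem_sup_left hk
    have h1 : ψ ⟨k, hkH⟩ ∈ K' := hK' ▸ mem_map_of_mem ψ (mem_subgroupOf.2 hk)
    rw [e, mem_bot] at h1
    exact mem_bot.2 (hKA1 k hk (mem_subgroupOf.1 ((QuotientGroup.eq_one_iff _).1 h1))))
  haveI := hA'ab
  obtain ⟨⟨g, hg⟩, hgen⟩ := (hfpf.isCyclic hA'n hK'ne).exists_generator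
  have hg' : g ∈ (A.subgroupOf H).map ψ := hA' ▸ hg
  obtain ⟨⟨γ, hγH⟩, hγ, rfl⟩ := hg'
  rw [SetLike.mem_coe, mem_subgroupOf] at hγ
  obtain ⟨i, hi⟩ := hAp ⟨γ, hγ⟩
  have hi' : γ ^ p ^ i = 1 := congrArg Subtype.val hi
  obtain ⟨n, -, hn'⟩ := (Nat.dvd_prime_pow hp).1 (orderOf_dvd_of_pow_eq_one (show
    ψ ⟨γ, hγH⟩ ^ p ^ i = 1 by
      rw [← map_pow, show (⟨γ, hγH⟩ : H) ^ p ^ i = 1 from Subtype.ext hi', map_one]))
  have hpowmem : ∀ l, γ ^ l ∈ centralizer (K : Set G) → ψ ⟨γ, hγH⟩ ^ l = 1 := fun l hl => by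
    rw [← map_pow]
    exact (QuotientGroup.eq_one_iff _).2 (mem_subgroupOf.2 (hA1.ge (mem_inf.2 ⟨pow_mem hγ l, hl⟩)))
  have hsup : A ≤ A1 ⊔ zpowers γ := by
    intro α hα
    have hαH : α ∈ H := hH ▸ mem_sup_right hα
    obtain ⟨m, hm⟩ := Subgroup.mem_zpowers_iff.1
      (hgen ⟨ψ ⟨α, hαH⟩, hA' ▸ mem_map_of_mem ψ (mem_subgroupOf.2 hα)⟩)
    have hm' : ψ ⟨γ, hγH⟩ ^ m = ψ ⟨α, hαH⟩ := congrArg Subtype.val hm
    rw [← map_zpow] at hm'
    have h1 := mem_subgroupOf.1 (QuotientGroup.eq.1 hm')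
    rw [show α = γ ^ m * ((γ ^ m)⁻¹ * α) by group]
    exact mul_mem (mem_sup_right (zpow_mem (mem_zpowers γ) m)) (mem_sup_left h1)
  refine ⟨K, hKL, hKn, hKne', γ, hγ, n, ?_, ?_, hA1 ▸ hsup, ?_⟩
  · by_contra hn0
    rw [show n = 0 by omega, pow_zero, orderOf_eq_one_iff] at hn'
    have hγc : γ ∈ A1 := mem_subgroupOf.1 ((QuotientGroup.eq_one_iff _).1 hn')
    refine hKne (commutator_eq_bot_iff_le_centralizer.2 (le_centralizer_iff.1 ?_))
    refine hsup.trans (sup_le (hA1.le.trans inf_le_right) ?_)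
    rw [zpowers_le]
    exact (mem_inf.1 (hA1.le hγc)).2
  · have h1 : ψ ((⟨γ, hγH⟩ : H) ^ p ^ n) = 1 := by rw [map_pow, ← hn']; exact pow_orderOf_eq_one _
    exact (mem_inf.1 (hA1.le (mem_subgroupOf.1 ((QuotientGroup.eq_one_iff _).1 h1)))).2
  · intro l hl0 hl k hk hlk
    rcases hirr (γ ^ l) (pow_mem hγ l) with h1 | h1
    · have h2 := orderOf_dvd_of_pow_eq_one (hpowmem l h1)
      rw [hn'] at h2
      exact absurd (Nat.le_of_dvd hl0 h2) (not_le.2 hl)
    · have h6 : k ∈ K ⊓ centralizer ({γ ^ l} : Set G) :=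
        mem_inf.2 ⟨hk, mem_centralizer_singleton_iff.2 hlk.symm⟩
      rwa [h1, mem_bot] at h6

/-- For `p ≥ 5`, in a constrained group with maximal Sylow subgroup and `p`-nilpotent quotient by
`O_p`, the abelian subgroups of largest order lie in `O_p`. -/
theorem maxAb_le_pCore {X : Type u} [Group X] [Finite X] {p : ℕ} [Fact p.Prime] (hp5 : 5 ≤ p)
    (hC : centralizer ((Cfsg.pCore p X : Subgroup X) : Set X) ≤ Cfsg.pCore p X)
    (hquot : ∀ hn : (Cfsg.pCore p X).Normal, haveI := hn;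
      Cfsg.HasNormalPComplement p (X ⧸ Cfsg.pCore p X))
    (S : Sylow p X) (hS : IsCoatom (S : Subgroup X)) {A : Subgroup X}
    (hA : A ∈ CfsgLib.Fusion.maxAb (S : Subgroup X)) : A ≤ Cfsg.pCore p X := by
  have hp : p.Prime := Fact.out
  haveI hQn := CfsgLib.Coprime.pCore_normal' (G := X) p
  have hQp : IsPGroup p ↥(Cfsg.pCore p X) := CfsgLib.Coprime.pCore_isPGroup p
  have hquot' : Cfsg.HasNormalPComplement p (X ⧸ Cfsg.pCore p X) := hquot hQn
  obtain ⟨π, hπ⟩ : ∃ π : X →* X ⧸ Cfsg.pCore p X, π = QuotientGroup.mk' _ := ⟨_, rfl⟩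
  have hπs : Function.Surjective π := hπ ▸ QuotientGroup.mk'_surjective _
  have hπk : π.ker = Cfsg.pCore p X := by rw [hπ, QuotientGroup.ker_mk']
  have hQS : Cfsg.pCore p X ≤ (S : Subgroup X) := hQp.le_sylow_of_normal S
  obtain ⟨hAS, hAab, hAmax⟩ := hA
  haveI hLn := CfsgLib.Fusion.pResidual_normal (G := X ⧸ Cfsg.pCore p X) (p := p)
  obtain ⟨L, hL⟩ : ∃ L, L = Cfsg.pResidual p (X ⧸ Cfsg.pCore p X) := ⟨_, rfl⟩
  haveI : L.Normal := hL ▸ hLn
  have hLp : (Nat.card L).Coprime p :=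
    (hp.coprime_iff_not_dvd.2 (hL ▸ CfsgLib.Fusion.hasNormalPComplement_iff_not_dvd.1 hquot')).symm
  obtain ⟨Sb, hSb⟩ : ∃ Sb : Sylow p (X ⧸ Cfsg.pCore p X),
      (Sb : Subgroup (X ⧸ Cfsg.pCore p X)) = (S : Subgroup X).map π :=
    ⟨S.mapSurjective hπs, rfl⟩
  have hLS : L ⊔ (Sb : Subgroup _) = ⊤ := hL ▸ CfsgLib.Fusion.pResidual_sup_sylow Sb
  have hdisj : ∀ x ∈ L, x ∈ (Sb : Subgroup (X ⧸ Cfsg.pCore p X)) → x = 1 := fun x hxL hxS =>
    CfsgLib.Fusion.eq_one_of_pGroup_of_coprime Sb.2 hxS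
      ((CfsgLib.Fusion.not_dvd_card_iff_forall_coprime_orderOf L).1
        (hp.coprime_iff_not_dvd.1 hLp.symm) x hxL)
  have hmin : ∀ M : Subgroup (X ⧸ Cfsg.pCore p X), M ≤ L →
      (Sb : Subgroup (X ⧸ Cfsg.pCore p X)) ≤ normalizer (M : Set (X ⧸ Cfsg.pCore p X)) →
        M = ⊥ ∨ M = L := by
    intro M hML hMn
    have hSH : (S : Subgroup X) ≤ (M ⊔ (Sb : Subgroup _)).comap π :=
      Subgroup.map_le_iff_le_comap.1 (hSb.ge.trans le_sup_right)
    rcases eq_or_lt_of_le hSH with h1 | h1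
    · left
      rw [eq_bot_iff]
      intro m hm
      obtain ⟨x, rfl⟩ := hπs m
      exact mem_bot.2 (hdisj _ (hML hm)
        (hSb.ge (mem_map_of_mem π (h1.ge (mem_comap.2 (mem_sup_left hm))))))
    · right
      refine le_antisymm hML fun l hl => ?_
      obtain ⟨x, rfl⟩ := hπs l
      obtain ⟨m, hm, s, hs, hms⟩ := CfsgLib.Coprime.mem_sup_exists hMn
        (mem_comap.1 ((hS.2 _ h1).ge (mem_top x)))
      have hs1 : s ∈ L := by
        rw [show s = m⁻¹ * π x by rw [← hms, inv_mul_cancel_left]]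
        exact mul_mem (inv_mem (hML hm)) hl
      rw [← hms, hdisj s hs1 hs, mul_one]
      exact hm
  by_contra hAQ
  obtain ⟨Ab, hAb⟩ : ∃ Ab, Ab = A.map π := ⟨_, rfl⟩
  have hAbS : Ab ≤ (Sb : Subgroup _) := hAb ▸ (map_mono hAS).trans hSb.ge
  have hAb1 : Ab ≠ ⊥ := fun e => hAQ (by
    rwa [hAb, Subgroup.map_eq_bot_iff, hπk] at e)
  have hAbab : IsMulCommutative Ab := hAb ▸ CfsgLib.Fusion.isMulCommutative_map π hAab
  have hAbp : IsPGroup p Ab := Sb.2.to_le hAbS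
  have hSnL : (Sb : Subgroup _) ≤ normalizer (L : Set (X ⧸ Cfsg.pCore p X)) := by
    rw [Subgroup.normalizer_eq_top L]; exact le_top
  -- `L` is a `q`-group, hence abelian
  have hLab : IsMulCommutative L := by
    rcases eq_or_ne L ⊥ with hL0 | hL0
    · subst hL0; exact ⟨⟨fun s t => Subsingleton.elim _ _⟩⟩
    obtain ⟨q, hq, hqL⟩ := Nat.exists_prime_and_dvd (fun e => hL0 (Subgroup.card_eq_one.1 e) :
      Nat.card L ≠ 1)
    haveI := Fact.mk hq
    obtain ⟨j, hj⟩ := IsPGroup.iff_card.1 Sb.2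
    have hcopS : (Nat.card (Sb : Subgroup (X ⧸ Cfsg.pCore p X))).Coprime (Nat.card L) := by
      rw [hj]; exact Nat.Coprime.pow_left j hLp.symm
    have hsolS : Group.IsSolvable (Sb : Subgroup (X ⧸ Cfsg.pCore p X)) := by
      haveI := Sb.2.isNilpotent
      infer_instance
    obtain ⟨P, hP, hPn⟩ := CfsgLib.Coprime.exists_invariant_sylow hSnL hcopS (Or.inl hsolS) q
    have hPne : P ≠ ⊥ := fun e => by
      have h1 := hP.2
      rw [e, Subgroup.card_bot] at h1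
      exact absurd (hq.factorization_pos_of_dvd Nat.card_pos.ne' hqL)
        (by rcases Nat.pow_eq_one.1 h1.symm with h2 | h2
            · exact absurd h2 hq.ne_one
            · omega)
    have hPL : P = L := (hmin P hP.1 hPn).resolve_left hPne
    rw [hPL] at hP hPne
    rcases hmin ⁅L, L⁆ (le_normalizer_iff_commutator_le_left.1 le_normalizer) (fun s hs => by
        haveI := Subgroup.commutator_normal L L
        rw [Subgroup.normalizer_eq_top ⁅L, L⁆]; trivial) with h1 | h1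
    · refine ⟨⟨fun s t => Subtype.ext ?_⟩⟩
      have := commutator_mem_commutator s.2 t.2
      rw [h1, mem_bot] at this
      exact commutatorElement_eq_one_iff_mul_comm.1 this
    · exact absurd (eq_bot_of_le_commutator hP.isPGroup le_rfl h1.ge) hPne
  -- `A` acts nontrivially on `L`
  have hLA : ⁅L, Ab⁆ ≠ ⊥ := by
    intro e
    obtain ⟨D, hD⟩ : ∃ D, D = (Sb : Subgroup _) ⊓ centralizer (L : Set (X ⧸ Cfsg.pCore p X)) :=
      ⟨_, rfl⟩
    haveI : D.Normal := by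
      rw [← Subgroup.normalizer_eq_top_iff, eq_top_iff, ← hLS]
      refine sup_le (fun l hl => ?_) ?_
      · refine centralizer_le_normalizer (D : Set (X ⧸ Cfsg.pCore p X)) (mem_centralizer_iff.2 fun d hd => ?_)
        exact (mem_centralizer_iff.1 (mem_inf.1 (hD.le hd)).2 l hl).symm
      · rw [hD]
        refine CfsgLib.Coprime.inf_le_normalizer le_normalizer ?_
        haveI : (centralizer (L : Set (X ⧸ Cfsg.pCore p X))).Normal := Subgroup.normal_centralizer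
        rw [Subgroup.normalizer_eq_top (centralizer (L : Set (X ⧸ Cfsg.pCore p X)))]
        exact le_top
    have h1 := CfsgLib.Coprime.le_pCore (N := D) (p := p) (Sb.2.to_le (hD.le.trans inf_le_left))
    rw [CfsgLib.Coprime.pCore_quotient_eq_bot] at h1
    refine hAb1 (le_bot_iff.1 (le_trans ?_ h1))
    rw [hD]
    exact le_inf hAbS (le_centralizer_iff.1 (commutator_eq_bot_iff_le_centralizer.1 e))
  obtain ⟨K1, hK1L, hK1n, hK1ne, γ, hγ, n, hn, hγn, hgen, hfpf⟩ :=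
    exists_cyclic_constituent hAbab hAbp hLab hLp (hAbS.trans hSnL) hLA
  obtain ⟨A1, hA1⟩ : ∃ A1, A1 = Ab ⊓ centralizer (K1 : Set _) := ⟨_, rfl⟩
  -- the group in which the core lemma is applied
  obtain ⟨H, hH⟩ : ∃ H, H = (K1 ⊔ Ab).comap π := ⟨_, rfl⟩
  obtain ⟨Q', hQ'⟩ : ∃ Q', Q' = A1.comap π := ⟨_, rfl⟩
  obtain ⟨P', hP'⟩ : ∃ P', P' = (A1 ⊔ K1).comap π := ⟨_, rfl⟩
  have hQQ' : Cfsg.pCore p X ≤ Q' := hQ' ▸ hπk.ge.trans (Subgroup.ker_le_comap π A1)
  have hA1le : A1 ≤ Ab := hA1.le.trans inf_le_left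
  have hQ'A : Q' ≤ Cfsg.pCore p X ⊔ A := by
    intro x hx
    obtain ⟨a, ha, hax⟩ : π x ∈ A.map π := hAb ▸ hA1le (mem_comap.1 (hQ'.le hx))
    have h1 : x * a⁻¹ ∈ Cfsg.pCore p X := hπk.le (by
      rw [MonoidHom.mem_ker, map_mul, map_inv, hax, mul_inv_cancel])
    have := mul_mem (mem_sup_left h1 : x * a⁻¹ ∈ Cfsg.pCore p X ⊔ A) (mem_sup_right ha)
    rwa [inv_mul_cancel_right] at this
  have hQ'S : Q' ≤ (S : Subgroup X) := hQ'A.trans (sup_le hQS hAS)
  have hQ'p : IsPGroup p Q' := S.2.to_le hQ'S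
  have hAH : A ≤ H := hH ▸ fun a ha => mem_comap.2 (mem_sup_right (hAb ▸ mem_map_of_mem π ha))
  have hQ'P : Q' ≤ P' := hQ' ▸ hP' ▸ Subgroup.comap_mono le_sup_left
  have hP'H : P' ≤ H := hP' ▸ hH ▸ Subgroup.comap_mono (sup_le (hA1le.trans le_sup_right) le_sup_left)
  have hnA1 : K1 ⊔ Ab ≤ normalizer (A1 : Set (X ⧸ Cfsg.pCore p X)) := by
    refine sup_le (fun k hk => ?_) (fun a ha => ?_) <;>
      refine centralizer_le_normalizer (A1 : Set (X ⧸ Cfsg.pCore p X))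
        (mem_centralizer_iff.2 fun x hx => ?_)
    · exact (mem_centralizer_iff.1 (mem_inf.1 (hA1.le hx)).2 k hk).symm
    · exact comm_of_abelian hAbab (hA1le hx) ha
  have hnK : K1 ⊔ Ab ≤ normalizer ((A1 ⊔ K1 : Subgroup _) : Set (X ⧸ Cfsg.pCore p X)) :=
    le_trans (le_inf hnA1 (sup_le le_normalizer hK1n)) (fun x hx => by
      obtain ⟨h1, h2⟩ := mem_inf.1 hx
      rw [← CfsgLib.Fusion.conjBy_eq_iff] at h1 h2 ⊢
      rw [show CfsgLib.Fusion.conjBy x (A1 ⊔ K1) = CfsgLib.Fusion.conjBy x A1 ⊔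
        CfsgLib.Fusion.conjBy x K1 from Subgroup.map_sup _ _ _, h1, h2])
  -- a complement
  haveI hQ'n : (Q'.subgroupOf H).Normal := by
    refine (normal_subgroupOf_iff_le_normalizer (hQ'P.trans hP'H)).2 ?_
    rw [hH, hQ']
    exact (Subgroup.comap_mono hnA1).trans (Subgroup.le_normalizer_comap π)
  haveI hQ'nP : (Q'.subgroupOf P').Normal := by
    refine (normal_subgroupOf_iff_le_normalizer hQ'P).2 ?_
    exact hP'H.trans ((normal_subgroupOf_iff_le_normalizer (hQ'P.trans hP'H)).1 hQ'n)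
  have hidx : Q'.relIndex P' = Nat.card K1 := by
    rw [hQ', hP', Subgroup.relIndex_comap, Subgroup.map_comap_eq_self_of_surjective hπs]
    have h2 := CfsgLib.EABasic.card_sup_mul_card_inf_of_le_normalizer (le_sup_left.trans hnA1)
    have h3 : K1 ⊓ A1 = ⊥ := eq_bot_iff.2 fun x hx => mem_bot.2
      (hdisj x (hK1L (mem_inf.1 hx).1) (hAbS (hA1le (mem_inf.1 hx).2)))
    rw [h3, Subgroup.card_bot, mul_one, sup_comm] at h2
    have h4 := Subgroup.relIndex_mul_relIndex ⊥ A1 (A1 ⊔ K1) bot_le le_sup_left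
    rw [Subgroup.relIndex_bot_left, Subgroup.relIndex_bot_left, h2, mul_comm] at h4
    exact Nat.eq_of_mul_eq_mul_right Nat.card_pos h4
  obtain ⟨R, hR⟩ := Subgroup.exists_right_complement'_of_coprime (N := Q'.subgroupOf P') (by
    obtain ⟨j, hj⟩ := IsPGroup.iff_card.1 hQ'p
    rw [Nat.card_congr (Subgroup.subgroupOfEquivOfLe hQ'P).toEquiv, hj,
      show (Q'.subgroupOf P').index = Nat.card K1 from hidx]
    exact Nat.Coprime.pow_left j (Nat.Coprime.coprime_dvd_left (Subgroup.card_dvd_of_le hK1L) hLp).symm)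
  obtain ⟨K, hK⟩ : ∃ K, K = R.map P'.subtype := ⟨_, rfl⟩
  have hKP : K ≤ P' := hK ▸ Subgroup.map_subtype_le R
  have hKsup : Q' ⊔ K = P' := by
    rw [hK, ← map_subgroupOf_eq_of_le hQ'P, ← Subgroup.map_sup, hR.sup_eq_top,
      ← MonoidHom.range_eq_map, Subgroup.range_subtype]
  have hKcard : Nat.card K = Nat.card K1 := by
    have h1 := hR.card_mul
    rw [← Subgroup.card_mul_index (Q'.subgroupOf P'),
      show (Q'.subgroupOf P').index = Nat.card K1 from hidx] at h1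
    rw [hK, Subgroup.card_map_of_injective P'.subtype_injective]
    exact Nat.eq_of_mul_eq_mul_left Nat.card_pos h1
  have hKdisj : ∀ x ∈ K, x ∈ Q' → x = 1 := by
    intro x hx hxQ
    obtain ⟨r, hr, rfl⟩ := hK.le hx
    have h1 := hR.disjoint.le_bot (mem_inf.2 ⟨mem_subgroupOf.2 hxQ, hr⟩)
    rw [mem_bot] at h1
    rw [h1]; rfl
  obtain ⟨a, ha, haγ⟩ : γ ∈ A.map π := hAb ▸ hγ
  have haH := hAH ha
  -- apply the core lemma inside `H`
  refine core (G := H) hp5 (Q := Q'.subgroupOf H) (K := K.subgroupOf H) (A := A.subgroupOf H)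
    (hQ'p.of_equiv (Subgroup.subgroupOfEquivOfLe (hQ'P.trans hP'H)).symm) hQ'n ?_ ?_ ?_
    (CfsgLib.Fusion.isMulCommutative_subgroupOf hAab)
    ((S.2.to_le hAS).of_equiv (Subgroup.subgroupOfEquivOfLe hAH).symm)
    (a := ⟨a, haH⟩) (mem_subgroupOf.2 ha) hn ?_ ?_ ?_ ?_
  · rw [← Subgroup.subgroupOf_sup (hQ'P.trans hP'H) (hKP.trans hP'H), hKsup]
    refine (normal_subgroupOf_iff_le_normalizer hP'H).2 ?_
    rw [hH, hP']
    exact (Subgroup.comap_mono hnK).trans (Subgroup.le_normalizer_comap π)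
  · rw [Nat.card_congr (Subgroup.subgroupOfEquivOfLe (hKP.trans hP'H)).toEquiv, hKcard]
    exact Nat.Coprime.coprime_dvd_left (Subgroup.card_dvd_of_le hK1L) hLp
  · intro e
    have h1 : ⁅Q', K⁆ = ⊥ := by
      have h2 := congrArg (Subgroup.map H.subtype) e
      rwa [map_commutator, map_subgroupOf_eq_of_le (hQ'P.trans hP'H),
        map_subgroupOf_eq_of_le (hKP.trans hP'H), Subgroup.map_bot] at h2
    have h3 : K ≤ Cfsg.pCore p X :=
      ((le_centralizer_iff.1 (commutator_eq_bot_iff_le_centralizer.1 h1)).trans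
        (centralizer_le hQQ')).trans hC
    refine hK1ne (Subgroup.card_eq_one.1 ?_)
    rw [← hKcard, Subgroup.card_eq_one, eq_bot_iff]
    exact fun x hx => mem_bot.2 (hKdisj x hx (hQQ' (h3 hx)))
  · rw [mem_subgroupOf, SubmonoidClass.coe_pow]
    refine hQ'.ge (mem_comap.2 ?_)
    show π (a ^ p ^ n) ∈ A1
    rw [map_pow, haγ]
    exact hA1.ge (mem_inf.2 ⟨pow_mem hγ _, hγn⟩)
  · intro x hx
    obtain ⟨c, hc, y, hy, hcy⟩ : ∃ c ∈ A1, ∃ y ∈ zpowers γ, c * y = π x := by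
      refine CfsgLib.Coprime.mem_sup_exists ?_ (hA1 ▸ hgen (hAb ▸ mem_map_of_mem π (mem_subgroupOf.1 hx)))
      rw [zpowers_le]
      exact (le_sup_right.trans hnA1) hγ
    obtain ⟨m, rfl⟩ := Subgroup.mem_zpowers_iff.1 hy
    have h1 : x * (⟨a, haH⟩ : H) ^ (-m) ∈ Q'.subgroupOf H := by
      rw [mem_subgroupOf, Subgroup.coe_mul, SubgroupClass.coe_zpow]
      refine hQ'.ge (mem_comap.2 ?_)
      show π ((x : X) * a ^ (-m)) ∈ A1
      rw [map_mul, map_zpow, haγ, ← hcy, mul_assoc, zpow_neg, mul_inv_cancel, mul_one]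
      exact hc
    have := mul_mem (mem_sup_left h1 : x * (⟨a, haH⟩ : H) ^ (-m) ∈ Q'.subgroupOf H ⊔ zpowers (⟨a, haH⟩ : H))
      (zpow_mem (mem_sup_right (mem_zpowers _)) m)
    rwa [mul_assoc, ← zpow_add, neg_add_cancel, zpow_zero, mul_one] at this
  · intro l hl0 hl k hk hkQ
    rw [mem_subgroupOf] at hk hkQ
    have hk1 : π (k : X) ∈ A1 ⊔ K1 := mem_comap.1 (hP'.le (hKP hk))
    obtain ⟨c, hc, k1, hk1', hck⟩ := CfsgLib.Coprime.mem_sup_exists (le_sup_left.trans hnA1) hk1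
    have h2 : ⁅γ ^ l, k1⁆ ∈ A1 := by
      have h3 : π ((⁅(⟨a, haH⟩ : H) ^ l, k⁆ : H) : X) ∈ A1 := mem_comap.1 (hQ'.le hkQ)
      rw [show ((⁅(⟨a, haH⟩ : H) ^ l, k⁆ : H) : X) = ⁅a ^ l, (k : X)⁆ from rfl,
        map_commutatorElement, map_pow, haγ, ← hck] at h3
      have hcc : ∀ y ∈ K1, y * c = c * y := fun y hy =>
        mem_centralizer_iff.1 (mem_inf.1 (hA1.le hc)).2 y hy
      have hγc : γ ^ l * c = c * γ ^ l := comm_of_abelian hAbab (pow_mem hγ l) (hA1le hc)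
      have e : ⁅γ ^ l, c * k1⁆ = c * ⁅γ ^ l, k1⁆ * c⁻¹ := by
        simp only [commutatorElement_def]
        calc γ ^ l * (c * k1) * (γ ^ l)⁻¹ * (c * k1)⁻¹
            = (γ ^ l * c) * k1 * (γ ^ l)⁻¹ * k1⁻¹ * c⁻¹ := by group
          _ = _ := by rw [hγc]; group
      rw [e] at h3
      have h4 := mul_mem (mul_mem (inv_mem hc) h3) hc
      simpa [mul_assoc] using h4
    have h5 : ⁅γ ^ l, k1⁆ ∈ K1 := by
      rw [commutatorElement_def]
      exact mul_mem ((Subgroup.mem_normalizer_iff.1 (pow_mem (hK1n hγ) l) _).1 hk1') (inv_mem hk1')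
    have h6 : ⁅γ ^ l, k1⁆ = 1 := by
      have hL1 : ⁅γ ^ l, k1⁆ ∈ L := hK1L h5
      exact hdisj _ hL1 (hAbS (hA1le h2))
    have h7 := hfpf l hl0 hl k1 hk1' (commutatorElement_eq_one_iff_mul_comm.1 h6)
    rw [h7, mul_one] at hck
    exact Subtype.ext (hKdisj _ hk (hQ'.ge (mem_comap.2 (hck ▸ hc))))
  · intro B hB hBab
    rw [Nat.card_congr (Subgroup.subgroupOfEquivOfLe hAH).toEquiv,
      ← Subgroup.card_map_of_injective H.subtype_injective (K := B)]
    refine hAmax _ ((map_mono hB).trans ?_) (CfsgLib.Fusion.isMulCommutative_map _ hBab)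
    rw [Subgroup.map_sup, map_subgroupOf_eq_of_le (hQ'P.trans hP'H), map_subgroupOf_eq_of_le hAH]
    exact sup_le hQ'S hAS

end CfsgLib.LocalStructure.JFive
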