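import Cfsg.Agent.Lib.LocalStructure.LayerDegree

/-!
# Largest abelian subgroups lie in the normal `p`-subgroup, for `p ≥ 5`

If `Q` is a normal `p`-subgroup, `K` a `p'`-group moving `Q`, and `A` an abelian `p`-group acting
without fixed points on `K` as a cyclic group modulo `Q`, then `A` is not a largest abelian subgroup of
`Q A`.
-/

set_option autoImplicit false

open Subgroup
open scoped commutatorElement

namespace CfsgLib.LocalStructure.JFive

universe u

variable {G : Type u} [Group G] {p : ℕ}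

theorem eq_bot_of_le_commutator [Finite G] [Fact p.Prime] {R H : Subgroup G} (hR : IsPGroup p R)
    (hHR : H ≤ R) (h : H ≤ ⁅H, R⁆) : H = ⊥ := by
  have hle : ∀ n, H ≤ R.lowerCentralSeries n := by
    intro n
    induction n with
    | zero => rw [Subgroup.lowerCentralSeries_zero]; exact hHR
    | succ n ih =>
      rw [Subgroup.lowerCentralSeries_succ]
      exact h.trans (commutator_mono ih le_rfl)
  obtain ⟨n, hn⟩ := (Subgroup.isNilpotent_iff_lowerCentralSeries R).1 hR.isNilpotent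
  exact le_bot_iff.1 ((hle n).trans hn.le)

theorem card_map_mul_card_inf_ker [Finite G] {H : Type*} [Group H] (f : G →* H) (B : Subgroup G) :
    Nat.card (B.map f) * Nat.card ↥(f.ker ⊓ B) = Nat.card B := by
  rw [Subgroup.card_eq_card_quotient_mul_card_subgroup (f.ker.subgroupOf B)]
  congr 1
  · rw [← Subgroup.index_eq_card]
    exact (Subgroup.relIndex_ker f (K := B)).symm
  · rw [← subgroupOf_map_subtype,
      Subgroup.card_map_of_injective B.subtype_injective]

namespace Layer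

variable {Q U Z : Subgroup G} [Finite G] [Fact p.Prime]

/-- `g ↦ [a, g]` has degree at most `n + 1` on a subgroup of `Z` with a fixed part of index at most
`p ^ n`. -/
theorem fixed_degree (h : Layer Q U Z) {R : Subgroup G} (hR : IsPGroup p R) {a : G} (haR : a ∈ R)
    {P E : Subgroup G} (hPZ : P ≤ Z) (hPR : P ≤ R) (hEP : E ≤ P) (hE : ∀ x ∈ E, a * x = x * a)
    (hinv : ∀ x ∈ P, dlt a x ∈ P) {n : ℕ} (hcard : Nat.card P ≤ p ^ n * Nat.card E) :
    ∀ x ∈ P, (dlt a)^[n + 1] x = 1 := by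
  have hp : p.Prime := Fact.out
  let f : ℕ → (P →* G) := fun i =>
    { toFun := fun x => (dlt a)^[i] (x : G)
      map_one' := iterate_one a i
      map_mul' := fun x y => h.iterate_mulZ a i (hPZ x.2) (hPZ y.2) }
  have hfR : ∀ i, (f i).range ≤ R := by
    intro i
    rintro _ ⟨x, rfl⟩
    show (dlt a)^[i] (x : G) ∈ R
    induction i with
    | zero => exact hPR x.2
    | succ i ih =>
      rw [Function.iterate_succ_apply', dlt, commutatorElement_def]
      exact mul_mem (mul_mem (mul_mem haR ih) (inv_mem haR)) (inv_mem ih)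
  have hstep : ∀ i, (f (i + 1)).range ≤ ⁅(f i).range, R⁆ := by
    intro i
    rintro _ ⟨x, rfl⟩
    show (dlt a)^[i + 1] (x : G) ∈ _
    rw [Function.iterate_succ_apply', commutator_comm, dlt]
    exact commutator_mem_commutator haR ⟨x, rfl⟩
  -- the ranges lose a factor `p` at each step
  have hlt : ∀ i, 1 ≤ i → (f i).range = ⊥ ∨
      Nat.card (f i).range * p ^ (i - 1) ≤ p ^ n := by
    intro i hi
    induction i, hi using Nat.le_induction with
    | base =>
      right
      rw [Nat.sub_self, pow_zero, mul_one]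
      have hker : Nat.card E ≤ Nat.card (f 1).ker := by
        refine Nat.card_le_card_of_injective (fun e => ⟨⟨e, hEP e.2⟩, ?_⟩) ?_
        · show (dlt a)^[1] (e : G) = 1
          exact iterate_commute_fixed (hE e e.2) 1 le_rfl
        · intro e e' he
          exact Subtype.ext (congrArg (fun w : (f 1).ker => ((w : P) : G)) he)
      have h1 : Nat.card (f 1).range * Nat.card (f 1).ker = Nat.card P := by
        rw [← Subgroup.index_ker]
        exact (f 1).ker.index_mul_card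
      refine Nat.le_of_mul_le_mul_right ?_ (Nat.card_pos (α := E))
      exact ((Nat.mul_le_mul le_rfl hker).trans h1.le).trans hcard
    | succ i hi ih =>
      rcases ih with h0 | h0
      · left
        refine le_bot_iff.1 ((hstep i).trans ?_)
        rw [h0, Subgroup.commutator_bot_left]
      rcases eq_or_ne (f (i + 1)).range ⊥ with h1 | h1
      · exact Or.inl h1
      right
      have hle : (f (i + 1)).range ≤ (f i).range := by
        rintro _ ⟨x, rfl⟩
        show (dlt a)^[i + 1] (x : G) ∈ _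
        rw [Function.iterate_succ_apply]
        exact ⟨⟨_, hinv x x.2⟩, rfl⟩
      have hne : (f (i + 1)).range ≠ (f i).range := fun e =>
        h1 (eq_bot_of_le_commutator hR (hfR _) ((hstep i).trans_eq (by rw [e])))
      have hdvd := Subgroup.card_dvd_of_le hle
      obtain ⟨k, hk⟩ := IsPGroup.iff_card.1 (hR.to_le (hfR i))
      obtain ⟨l, hl⟩ := IsPGroup.iff_card.1 (hR.to_le (hfR (i + 1)))
      have hlk : l < k := by
        by_contra hc
        exact hne (Subgroup.eq_of_le_of_card_ge hle (by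
          rw [hk, hl]; exact Nat.pow_le_pow_right hp.pos (not_lt.1 hc)))
      rw [hl, ← pow_add]
      rw [hk, ← pow_add] at h0
      refine le_trans (Nat.pow_le_pow_right hp.pos ?_) h0
      omega
  intro x hx
  rcases hlt (n + 1) (by omega) with h0 | h0
  · have : (dlt a)^[n + 1] x ∈ (f (n + 1)).range := ⟨⟨x, hx⟩, rfl⟩
    rwa [h0, mem_bot] at this
  · have h1 : Nat.card (f (n + 1)).range ≤ 1 := by
      refine Nat.le_of_mul_le_mul_right ?_ (pow_pos hp.pos n)
      simpa using h0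
    have : (dlt a)^[n + 1] x ∈ (f (n + 1)).range := ⟨⟨x, hx⟩, rfl⟩
    rwa [Subgroup.eq_bot_of_card_le _ h1, mem_bot] at this

end Layer

variable [Finite G] [Fact p.Prime]

theorem three_mul_add_four_le (hp5 : 5 ≤ p) : ∀ {n : ℕ}, 2 ≤ n → 3 * n + 4 ≤ p ^ n := by
  intro n hn
  induction n, hn using Nat.le_induction with
  | base =>
    calc 3 * 2 + 4 ≤ 5 ^ 2 := by norm_num
      _ ≤ p ^ 2 := Nat.pow_le_pow_left hp5 2
  | succ n hn ih =>
    calc 3 * (n + 1) + 4 ≤ (3 * n + 4) * 5 := by omega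
      _ ≤ p ^ n * p := Nat.mul_le_mul ih hp5
      _ = _ := (pow_succ p n).symm

/-- The case where the chosen element centralises `[Z, A]` whenever possible. -/
theorem core_aux (hp5 : 5 ≤ p) {Q U Z K A : Subgroup G} (h : Layer Q U Z)
    (hQ : IsPGroup p Q) (hQn : Q.Normal) (hch : Cfsg.IsChiefFactor U Z) (hQK : (Q ⊔ K).Normal)
    (hK : (Nat.card K).Coprime p) (hUK : ¬ ⁅U, K⁆ ≤ Z) (hexp : ∀ u ∈ U, u ^ p ∈ Z)
    (hUQ : ∀ u ∈ U, ∀ u' ∈ U, ∀ q ∈ Q, Commute q ⁅u, u'⁆)
    (hA : IsMulCommutative A) (hAp : IsPGroup p A) {a : G} (haA : a ∈ A) {n : ℕ} (hn : 1 ≤ n)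
    (haq : a ^ p ^ n ∈ Q) (hgen : A ≤ Q ⊔ zpowers a)
    (hfpf : ∀ l, 0 < l → l < p ^ n → ∀ k ∈ K, ⁅a ^ l, k⁆ ∈ Q → k = 1)
    (hmax : ∀ B : Subgroup G, B ≤ Q ⊔ A → IsMulCommutative B → Nat.card B ≤ Nat.card A)
    (hX : n = 1 → commFix A Z ≤ Q ∨ a ∈ commFix A Z) : False := by
  have hp : p.Prime := Fact.out
  haveI := hQn
  obtain ⟨hdeg, v, hv, hvd⟩ := degree_layer h hch hQn hQK hK hUK hexp haq hfpf
  obtain ⟨A0, hA0⟩ : ∃ A0, A0 = A ⊓ Q := ⟨_, rfl⟩
  have hA0A : A0 ≤ A := hA0.le.trans inf_le_left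
  have hA0Q : A0 ≤ Q := hA0.le.trans inf_le_right
  have haA0 : ∀ x ∈ A0, a * x = x * a := fun x hx => comm_of_abelian hA haA (hA0A hx)
  have hZn : A ≤ normalizer (Z : Set G) := by
    haveI := h.normalZ
    rw [Subgroup.normalizer_eq_top Z]; exact le_top
  have hZQ : Z ≤ Q := h.le.trans h.leQ
  have hZab := h.commutativeZ
  have hmaxZ : ∀ B : Subgroup G, B ≤ Z ⊔ A → IsMulCommutative B → Nat.card B ≤ Nat.card A :=
    fun B hB => hmax B (hB.trans (sup_le_sup_right hZQ A))
  have hR : IsPGroup p ↥(Q ⊔ A) := hQ.to_sup_of_normal_left hAp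
  obtain ⟨π, hπ⟩ : ∃ π : G →* G ⧸ Q, π = QuotientGroup.mk' Q := ⟨_, rfl⟩
  have hπk : π.ker = Q := by rw [hπ, QuotientGroup.ker_mk']
  have himg : Nat.card (A.map π) ≤ p ^ n := by
    have h1 : A.map π ≤ zpowers (π a) := by
      refine (map_mono hgen).trans ?_
      rw [Subgroup.map_sup, MonoidHom.map_zpowers, hπ, QuotientGroup.map_mk'_self, bot_sup_eq]
    refine (Nat.card_le_card_of_injective _ (Subgroup.inclusion_injective h1)).trans ?_
    rw [Nat.card_zpowers]
    refine Nat.le_of_dvd (pow_pos hp.pos n) (orderOf_dvd_of_pow_eq_one ?_)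
    rw [← map_pow, hπ, QuotientGroup.mk'_apply, QuotientGroup.eq_one_iff]
    exact haq
  have hidx : Nat.card A ≤ p ^ n * Nat.card A0 := by
    rw [← card_map_mul_card_inf_ker π A, hπk, inf_comm, ← hA0]
    exact Nat.mul_le_mul himg le_rfl
  -- the fixed points of `A0` in `Z`
  obtain ⟨P, hP⟩ : ∃ P, P = Z ⊓ centralizer (A0 : Set G) := ⟨_, rfl⟩
  have hPA0 : P ≤ centralizer (A0 : Set G) := hP.le.trans inf_le_right
  have hPab : IsMulCommutative P :=
    ⟨⟨fun s t => Subtype.ext (comm_of_abelian hZab (mem_inf.1 (hP.le s.2)).1 (mem_inf.1 (hP.le t.2)).1)⟩⟩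
  have hA0ab : IsMulCommutative A0 :=
    ⟨⟨fun s t => Subtype.ext (comm_of_abelian hA (hA0A s.2) (hA0A t.2))⟩⟩
  have hA0Pab : IsMulCommutative ↥(A0 ⊔ P) := by
    haveI := hA0ab; haveI := hPab
    refine le_centralizer_iff_isMulCommutative.1 ?_
    rw [centralizer_sup']
    exact le_inf (sup_le (le_centralizer A0) hPA0)
      (sup_le (le_centralizer_iff.1 hPA0) (le_centralizer P))
  have hA0Pcard : Nat.card ↥(A0 ⊔ P) * Nat.card ↥(A0 ⊓ P) = Nat.card A0 * Nat.card P :=
    CfsgLib.EABasic.card_sup_mul_card_inf_of_le_normalizer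
      ((le_centralizer_iff.1 hPA0).trans (CfsgLib.Coprime.centralizer_le_normalizer_self P))
  have hA0Ple : Nat.card ↥(A0 ⊔ P) ≤ Nat.card A :=
    hmax _ (sup_le (hA0Q.trans le_sup_left) ((hP.le.trans inf_le_left).trans (hZQ.trans le_sup_left))) hA0Pab
  have hdegP : ∀ x ∈ P, (dlt a)^[n + 1] x = 1 := by
    refine h.fixed_degree hR (mem_sup_right haA) (hP.le.trans inf_le_left)
      ((hP.le.trans inf_le_left).trans (hZQ.trans le_sup_left)) (E := A0 ⊓ P) inf_le_right
      (fun x hx => haA0 x (mem_inf.1 hx).1) (fun x hx => ?_) ?_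
    · refine hP.ge (mem_inf.2 ⟨dlt_mem h.normalZ a (mem_inf.1 (hP.le hx)).1,
        mem_centralizer_iff.2 fun y hy => ?_⟩)
      have h1 : Commute y x := mem_centralizer_iff.1 (hPA0 hx) y hy
      have h2 : Commute y a := (haA0 y hy).symm
      exact (((h2.mul_right h1).mul_right h2.inv_right).mul_right h1.inv_right).eq
    refine Nat.le_of_mul_le_mul_left ?_ (Nat.card_pos (α := A0))
    rw [← hA0Pcard]
    calc Nat.card ↥(A0 ⊔ P) * Nat.card ↥(A0 ⊓ P) ≤ p ^ n * Nat.card A0 * Nat.card ↥(A0 ⊓ P) :=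
          Nat.mul_le_mul (hA0Ple.trans hidx) le_rfl
      _ = _ := by ring
  have hUU : ∀ u ∈ U, ∀ u' ∈ U, ⁅u, u'⁆ ∈ P := fun u hu u' hu' =>
    hP.ge (mem_inf.2 ⟨h.commutator_mem hu (h.leQ hu'),
      mem_centralizer_iff.2 fun x hx => (hUQ u hu u' hu' x (hA0Q hx)).eq⟩)
  -- the subgroup fixing `[Z, A]`
  obtain ⟨X, hXd⟩ : ∃ X, X = commFix A Z := ⟨_, rfl⟩
  obtain ⟨C, hC⟩ : ∃ C, C = Z ⊓ centralizer (X : Set G) := ⟨_, rfl⟩
  have hXA : X ≤ A := hXd.le.trans (commFix_le A Z)
  have hAB : Nat.card A ≤ Nat.card ↥(X ⊔ C) := by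
    rw [hC, hXd]; exact card_le_commFix_sup hA hZab hZn hmaxZ
  have hXCab : IsMulCommutative ↥(X ⊓ Q ⊔ C) := by
    have h1 : IsMulCommutative ↥(X ⊓ Q) :=
      ⟨⟨fun s t => Subtype.ext (comm_of_abelian hA (hXA (mem_inf.1 s.2).1) (hXA (mem_inf.1 t.2).1))⟩⟩
    have h2 : IsMulCommutative C :=
      ⟨⟨fun s t => Subtype.ext (comm_of_abelian hZab (mem_inf.1 (hC.le s.2)).1 (mem_inf.1 (hC.le t.2)).1)⟩⟩
    have h3 : C ≤ centralizer ((X ⊓ Q : Subgroup G) : Set G) :=
      hC.le.trans (inf_le_right.trans (centralizer_le (inf_le_left (a := X) (b := Q))))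
    haveI := h1; haveI := h2
    refine le_centralizer_iff_isMulCommutative.1 ?_
    rw [centralizer_sup']
    exact le_inf (sup_le (le_centralizer _) h3)
      (sup_le (le_centralizer_iff.1 h3) (le_centralizer C))
  have hsmall : Nat.card ↥(X ⊔ C) ≤ p ^ n * Nat.card ↥(X ⊓ Q ⊔ C) := by
    rw [← card_map_mul_card_inf_ker π (X ⊔ C)]
    refine Nat.mul_le_mul ((Nat.card_le_card_of_injective _ (Subgroup.inclusion_injective ?_)).trans himg)
      (Nat.card_le_card_of_injective _ (Subgroup.inclusion_injective ?_))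
    · rw [Subgroup.map_sup]
      refine sup_le (map_mono hXA) ((map_mono (hC.le.trans (inf_le_left.trans hZQ))).trans ?_)
      rw [hπ, QuotientGroup.map_mk'_self]; exact bot_le
    · intro x hx
      obtain ⟨hxQ, hxXC⟩ := mem_inf.1 hx
      obtain ⟨c, hc, s, hs, rfl⟩ := CfsgLib.Coprime.mem_sup_exists
        ((le_centralizer_iff.1 (hC.le.trans inf_le_right)).trans
          (CfsgLib.Coprime.centralizer_le_normalizer_self C))
        (by rw [sup_comm]; exact hxXC : x ∈ C ⊔ X)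
      have hsQ : s ∈ Q := (mul_mem_cancel_left (hZQ (mem_inf.1 (hC.le hc)).1)).1 (hπk ▸ hxQ)
      exact mul_mem (mem_sup_right hc) (mem_sup_left (mem_inf.2 ⟨hs, hsQ⟩))
  -- commutators with elements fixing `[Z, A]`
  have hkill : ∀ x ∈ X ⊓ Q, (dlt a)^[n + 2] ⁅v, x⁆ = 1 := by
    intro x hx
    obtain ⟨t, ht⟩ : ∃ t, t = ⁅v, x⁆ := ⟨_, rfl⟩
    have htZ : t ∈ Z := ht ▸ h.commutator_mem hv (mem_inf.1 hx).2
    rw [← ht, Function.iterate_succ_apply]
    refine hdegP _ (hP.ge (mem_inf.2 ⟨dlt_mem h.normalZ a htZ, mem_centralizer_iff.2 fun y hy => ?_⟩))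
    refine commutatorElement_eq_one_iff_mul_comm.1 ?_
    show ⁅y, ⁅a, t⁆⁆ = 1
    rw [swap_comm hA hZab hZn (hA0A hy) haA htZ]
    refine commutatorElement_eq_one_iff_mul_comm.2 ?_
    -- `[y, t]` is fixed by `A`
    have hz' : ⁅y, v⁆ ∈ Z := by
      rw [← commutatorElement_inv]; exact inv_mem (h.commutator_mem hv (hA0Q hy))
    have e : ⁅y, t⁆ = ⁅⁅y, v⁆, x⁆ := by
      have hxy : y * x * y⁻¹ = x := by
        rw [comm_of_abelian hA (hA0A hy) (hXA (mem_inf.1 hx).1), mul_inv_cancel_right]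
      have e1 : y * t * y⁻¹ = ⁅⁅y, v⁆ * v, x⁆ := by
        calc y * t * y⁻¹ = ⁅y * v * y⁻¹, y * x * y⁻¹⁆ := by
              rw [ht]; simp only [commutatorElement_def]; group
          _ = _ := by
              rw [hxy, commutatorElement_def y v, inv_mul_cancel_right]
      rw [h.commutator_mul_left (h.le hz') hv (mem_inf.1 hx).2, ← ht] at e1
      rw [commutatorElement_def y t, e1, mul_inv_cancel_right]
    have hmem := commutator_mem_fix hA hZab hZn (hXd ▸ (mem_inf.1 hx).1) hz'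
    rw [e, ← commutatorElement_inv x]
    exact mem_centralizer_iff.1 (mem_inf.1 (inv_mem hmem)).2 a haA
  have hBz : C ≤ Z := hC.le.trans inf_le_left
  have hBx : X ⊓ Q ≤ A0 := hA0 ▸ inf_le_inf hXA le_rfl
  rcases Nat.lt_or_ge n 2 with hn2 | hn2
  swap
  · have h3n := three_mul_add_four_le hp5 hn2
    obtain ⟨B, hBQ, hBa, hBc⟩ := h.gain hQ hA0Q haA0 hBx hBz hXCab hv hdeg hvd hkill
      (e := n + 1) (fun u hu u' hu' => hdegP _ (hUU u hu u' hu')) (g := n + 1)
      (by omega) (Or.inr (by omega))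
    have h1 := hmax B (hBQ.trans le_sup_left) hBa
    have h2 : p * Nat.card A ≤ Nat.card A := calc
      p * Nat.card A ≤ p * (p ^ n * Nat.card ↥(X ⊓ Q ⊔ C)) :=
        Nat.mul_le_mul le_rfl (hAB.trans hsmall)
      _ = p ^ (n + 1) * Nat.card ↥(X ⊓ Q ⊔ C) := by ring
      _ ≤ Nat.card A := hBc.trans h1
    have h3 : Nat.card A < p * Nat.card A := lt_mul_left Nat.card_pos hp.one_lt
    omega
  obtain rfl : n = 1 := by omega
  rw [pow_one] at hdeg hvd hidx
  rcases hX rfl with hXQ | haX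
  · -- `commFix A Z ≤ Q`
    have hXQ' : X ≤ X ⊓ Q := le_inf le_rfl (hXd.le.trans hXQ)
    obtain ⟨B, hBQ, hBa, hBc⟩ := h.gain hQ hA0Q haA0 hBx hBz hXCab hv hdeg hvd hkill
      (e := 1 + 1) (fun u hu u' hu' => hdegP _ (hUU u hu u' hu')) (g := 1)
      (by omega) (Or.inl le_rfl)
    have h1 := hmax B (hBQ.trans le_sup_left) hBa
    have h2 : p * Nat.card A ≤ Nat.card A := by
      refine le_trans ?_ (hBc.trans h1)
      rw [pow_one]
      refine Nat.mul_le_mul le_rfl (hAB.trans (Nat.card_le_card_of_injective _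
        (Subgroup.inclusion_injective (sup_le_sup_right hXQ' C))))
    have h3 : Nat.card A < p * Nat.card A := lt_mul_left Nat.card_pos hp.one_lt
    omega
  · -- `a` centralises `[Z, A]`
    have hquad : ∀ z ∈ Z, (dlt a)^[2] z = 1 := fun z hz =>
      commutatorElement_eq_one_iff_mul_comm.2
        (mem_centralizer_iff.1 (mem_inf.1 haX).2 _ ⟨a, haA, z, hz, rfl⟩).symm
    have hkill' : ∀ x ∈ A0, (dlt a)^[2] ⁅v, x⁆ = 1 := fun x hx =>
      hquad _ (h.commutator_mem hv (hA0Q hx))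
    by_cases hPA : P ≤ A0
    · have hab : IsMulCommutative ↥(A0 ⊔ (⊥ : Subgroup G)) := by rw [sup_bot_eq]; exact hA0ab
      obtain ⟨B, hBQ, hBa, hBc⟩ := h.gain hQ hA0Q haA0 le_rfl bot_le hab hv hdeg hvd hkill'
        (e := 1) (fun u hu u' hu' =>
          iterate_commute_fixed (haA0 _ (hPA (hUU u hu u' hu'))) 1 le_rfl) (g := 2)
        (by omega) (Or.inr (by omega))
      rw [sup_bot_eq] at hBc
      have h1 := hmax B (hBQ.trans le_sup_left) hBa
      have h2 : p * Nat.card A ≤ Nat.card A := calc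
        p * Nat.card A ≤ p * (p * Nat.card A0) := Nat.mul_le_mul le_rfl hidx
        _ = p ^ 2 * Nat.card A0 := by ring
        _ ≤ Nat.card A := hBc.trans h1
      have h3 : Nat.card A < p * Nat.card A := lt_mul_left Nat.card_pos hp.one_lt
      omega
    · obtain ⟨B, hBQ, hBa, hBc⟩ := h.gain hQ hA0Q haA0 le_rfl (hP.le.trans inf_le_left) hA0Pab hv
        hdeg hvd hkill' (e := 1 + 1) (fun u hu u' hu' => hdegP _ (hUU u hu u' hu')) (g := 1)
        (by omega) (Or.inl le_rfl)
      have h1 := hmax B (hBQ.trans le_sup_left) hBa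
      have hlt : A0 < A0 ⊔ P :=
        lt_of_le_of_ne le_sup_left fun e => hPA (le_sup_right.trans e.ge)
      have hpgt : p * Nat.card A0 ≤ Nat.card ↥(A0 ⊔ P) := by
        have hp' : IsPGroup p ↥(A0 ⊔ P) :=
          hQ.to_le (sup_le hA0Q ((hP.le.trans inf_le_left).trans hZQ))
        obtain ⟨m, hm⟩ := IsPGroup.iff_card.1 hp'
        obtain ⟨l, hl⟩ := IsPGroup.iff_card.1 (hp'.to_le hlt.le)
        have hml : l < m := by
          by_contra hc
          exact hlt.ne (Subgroup.eq_of_le_of_card_ge hlt.le (by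
            rw [hm, hl]; exact Nat.pow_le_pow_right hp.pos (not_lt.1 hc)))
        rw [hm, hl, ← pow_succ']
        exact Nat.pow_le_pow_right hp.pos hml
      have h2 : p * Nat.card A ≤ Nat.card A := calc
        p * Nat.card A ≤ p * Nat.card ↥(A0 ⊔ P) := Nat.mul_le_mul le_rfl (hidx.trans hpgt)
        _ ≤ Nat.card A := by rw [pow_one] at hBc; exact hBc.trans h1
      have h3 : Nat.card A < p * Nat.card A := lt_mul_left Nat.card_pos hp.one_lt
      omega

/-- A chief layer of `Q` moved by `K`. -/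
theorem exists_layer {Q K : Subgroup G} (hQ : IsPGroup p Q) (hQn : Q.Normal)
    (hQK : (Q ⊔ K).Normal) (hK : (Nat.card K).Coprime p) (hQK1 : ⁅Q, K⁆ ≠ ⊥) :
    ∃ U Z : Subgroup G, Layer Q U Z ∧ Cfsg.IsChiefFactor U Z ∧ ¬ ⁅U, K⁆ ≤ Z ∧
      (∀ u ∈ U, u ^ p ∈ Z) ∧ ∀ u ∈ U, ∀ u' ∈ U, ∀ q ∈ Q, Commute q ⁅u, u'⁆ := by
  have hp : p.Prime := Fact.out
  haveI := hQn
  have hKn : ∀ {N : Subgroup G}, N.Normal → K ≤ normalizer (N : Set G) := fun {N} hN => by
    haveI := hN
    rw [Subgroup.normalizer_eq_top N]; exact le_top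
  obtain ⟨U, ⟨hUn, hUQ, hU1⟩, hUmin⟩ := (Set.toFinite
    {W : Subgroup G | W.Normal ∧ W ≤ Q ∧ ⁅W, K⁆ ≠ ⊥}).exists_minimal ⟨Q, hQn, le_rfl, hQK1⟩
  haveI := hUn
  have hmin : ∀ N : Subgroup G, N.Normal → N ≤ U → N ≠ U → ⁅N, K⁆ = ⊥ := by
    intro N hN hle hne
    by_contra hc
    exact hne (le_antisymm hle (hUmin ⟨hN, hle.trans hUQ, hc⟩ hle))
  have hU0 : (⊥ : Subgroup G) < U := bot_lt_iff_ne_bot.2 fun e => hU1 (by
    rw [e, Subgroup.commutator_bot_left])
  obtain ⟨Z, ⟨hZn, hZU⟩, hZmax⟩ := (Set.toFinite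
    {W : Subgroup G | W.Normal ∧ W < U}).exists_maximal ⟨⊥, inferInstance, hU0⟩
  haveI := hZn
  have hch : Cfsg.IsChiefFactor U Z := ⟨hZU, hUn, hZn, fun N hN h1 h2 => by
    rcases eq_or_ne N U with hh | hh
    · exact Or.inr hh
    · exact Or.inl (le_antisymm (hZmax ⟨hN, lt_of_le_of_ne h2 hh⟩ h1) h1)⟩
  have hZK : ⁅Z, K⁆ = ⊥ := hmin Z hZn hZU.le hZU.ne
  have hUK : ¬ ⁅U, K⁆ ≤ Z := fun hle => hU1 (by
    have hsol : Group.IsSolvable U := by
      haveI := (hQ.to_le hUQ).isNilpotent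
      infer_instance
    obtain ⟨j, hj⟩ := IsPGroup.iff_card.1 (hQ.to_le hUQ)
    rw [← CfsgLib.Coprime.commutator_commutator_eq (hKn hUn) (by rw [hj]; exact hK.pow_right j)
      (Or.inr hsol), eq_bot_iff]
    exact (commutator_mono hle le_rfl).trans hZK.le)
  obtain ⟨π, hπ⟩ : ∃ π : G →* G ⧸ Z, π = QuotientGroup.mk' Z := ⟨_, rfl⟩
  have hker : ∀ g : G, π g = 1 ↔ g ∈ Z := fun g => by
    rw [hπ, QuotientGroup.mk'_apply, QuotientGroup.eq_one_iff]
  have hcomm : ⁅U, Q⁆ ≤ Z := by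
    haveI : ⁅U, Q⁆.Normal := Subgroup.commutator_normal U Q
    rcases hch.2.2.2 (⁅U, Q⁆ ⊔ Z) inferInstance le_sup_right
      (sup_le (Subgroup.commutator_le_left U Q) hZU.le) with hh | hh
    · exact le_sup_left.trans hh.le
    · exfalso
      have h1 : U.map π ≤ ⁅U.map π, Q.map π⁆ := by
        rw [← map_commutator]
        refine (map_mono hh.ge).trans ?_
        rw [Subgroup.map_sup, hπ, QuotientGroup.map_mk'_self, sup_bot_eq]
      have h2 := eq_bot_of_le_commutator (hQ.map π) (map_mono hUQ) h1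
      exact hZU.not_ge fun u hu => (hker u).1 (by
        have := mem_map_of_mem π hu
        rwa [h2, mem_bot] at this)
  -- `U` is generated modulo nothing by conjugates of `[U, K]`
  have hWU : ⁅U, K⁆ ≤ U := le_normalizer_iff_commutator_le_left.1 (hKn hUn)
  have hcent : U ≤ centralizer (Z : Set G) := by
    have h1 : ⁅U, K⁆ ≤ centralizer (Z : Set G) := by
      refine (commutator_mono hUQ le_rfl).trans ?_
      rw [← commutator_eq_bot_iff_le_centralizer]
      refine commutator_commutator_eq_bot_of_rotate ?_ ?_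
      · rw [commutator_comm K, hZK, commutator_bot_left]
      · refine le_bot_iff.1 ((commutator_mono ?_ le_rfl).trans hZK.le)
        exact le_normalizer_iff_commutator_le_left.1 (by
          rw [Subgroup.normalizer_eq_top Z]; exact le_top)
    haveI hCn : (centralizer (Z : Set G)).Normal := Subgroup.normal_centralizer
    have h2 : normalClosure ((⁅U, K⁆ : Subgroup G) : Set G) ≤ centralizer (Z : Set G) :=
      normalClosure_le_normal h1
    have h3 : normalClosure ((⁅U, K⁆ : Subgroup G) : Set G) ≤ U := normalClosure_le_normal hWU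
    have h4 : normalClosure ((⁅U, K⁆ : Subgroup G) : Set G) = U := by
      by_contra hne
      have h5 := hmin _ normalClosure_normal h3 hne
      refine hUK ?_
      have hsol : Group.IsSolvable U := by
        haveI := (hQ.to_le hUQ).isNilpotent
        infer_instance
      obtain ⟨j, hj⟩ := IsPGroup.iff_card.1 (hQ.to_le hUQ)
      rw [← CfsgLib.Coprime.commutator_commutator_eq (hKn hUn) (by rw [hj]; exact hK.pow_right j)
        (Or.inr hsol)]
      refine ((commutator_mono ?_ le_rfl).trans h5.le).trans bot_le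
      exact subset_normalClosure
    exact h4.ge.trans h2
  have hlayer : Layer Q U Z := ⟨hUn, hZn, hZU.le, hUQ, hcent, hcomm⟩
  have hexp : ∀ u ∈ U, u ^ p ∈ Z := by
    have hcU : ∀ u ∈ U, ∀ u' ∈ U, Commute (π u) (π u') := fun u hu u' hu' => by
      refine commutatorElement_eq_one_iff_mul_comm.1 ?_
      rw [← map_commutatorElement, hker]
      exact hlayer.commutator_mem hu (hUQ hu')
    let Ω : Subgroup G :=
      { carrier := {u | u ∈ U ∧ u ^ p ∈ Z}
        one_mem' := ⟨one_mem U, by rw [one_pow]; exact one_mem Z⟩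
        mul_mem' := by
          rintro x y ⟨hx, hx'⟩ ⟨hy, hy'⟩
          refine ⟨mul_mem hx hy, (hker _).1 ?_⟩
          rw [map_pow, map_mul, (hcU x hx y hy).mul_pow, ← map_pow, ← map_pow, (hker _).2 hx',
            (hker _).2 hy', one_mul]
        inv_mem' := by
          rintro x ⟨hx, hx'⟩
          exact ⟨inv_mem hx, by rw [inv_pow]; exact inv_mem hx'⟩ }
    have hΩn : Ω.Normal := ⟨fun x hx g => ⟨hUn.conj_mem x hx.1 g, by
      rw [conj_pow]; exact hZn.conj_mem _ hx.2 g⟩⟩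
    rcases hch.2.2.2 Ω hΩn (fun z hz => ⟨hZU.le hz, pow_mem hz p⟩) (fun x hx => hx.1) with hh | hh
    · exfalso
      obtain ⟨u, hu, huZ⟩ := SetLike.exists_of_lt hZU
      obtain ⟨k, hk⟩ := (hQ.to_le hUQ) ⟨u, hu⟩
      have hk' : u ^ p ^ k = 1 := congrArg Subtype.val hk
      have key : ∀ i, u ^ p ^ i ∈ Z → u ∈ Z := by
        intro i
        induction i with
        | zero => intro hh'; rwa [pow_zero, pow_one] at hh'
        | succ i ih =>
          intro hh'
          rw [pow_succ, pow_mul] at hh'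
          exact ih (hh.le ⟨pow_mem hu _, hh'⟩)
      exact huZ (key k (by rw [hk']; exact one_mem Z))
    · exact fun u hu => (hh.ge hu).2
  refine ⟨U, Z, hlayer, hch, hUK, hexp, ?_⟩
  -- `U = [U, K] Z`
  have hsup : U = Z ⊔ ⁅U, K⁆ := by
    have heq : ⁅U, Q ⊔ K⁆ ≤ Z ⊔ ⁅U, K⁆ := by
      refine commutator_le.2 fun u hu g hg => ?_
      obtain ⟨q, hq, k, hk, rfl⟩ := CfsgLib.Coprime.mem_sup_exists (hKn hQn) hg
      have hw : ⁅u, k⁆ ∈ U := hWU (commutator_mem_commutator hu hk)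
      have e : ⁅u, q * k⁆ = ⁅u, q⁆ * (⁅q, ⁅u, k⁆⁆ * ⁅u, k⁆) := by
        simp only [commutatorElement_def]; group
      rw [e]
      refine mul_mem (mem_sup_left (hlayer.commutator_mem hu hq))
        (mul_mem (mem_sup_left ?_) (mem_sup_right (commutator_mem_commutator hu hk)))
      rw [← commutatorElement_inv]
      exact inv_mem (hlayer.commutator_mem hw hq)
    haveI := hQK
    haveI : ⁅U, Q ⊔ K⁆.Normal := Subgroup.commutator_normal U _
    have hn : Z ⊔ ⁅U, K⁆ = Z ⊔ ⁅U, Q ⊔ K⁆ :=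
      le_antisymm (sup_le_sup_left (commutator_mono le_rfl le_sup_right) _) (sup_le le_sup_left heq)
    rcases hch.2.2.2 (Z ⊔ ⁅U, Q ⊔ K⁆) inferInstance le_sup_left
      (sup_le hZU.le (Subgroup.commutator_le_left U _)) with hh | hh
    · exact absurd (le_sup_right.trans (hn.trans hh).le) hUK
    · exact (hn.trans hh).symm
  intro u hu u' hu' q hq
  have hWn : ⁅U, K⁆ ≤ normalizer (Z : Set G) := by
    rw [Subgroup.normalizer_eq_top Z]; exact le_top
  obtain ⟨z, hz, w, hw, rfl⟩ := CfsgLib.Coprime.mem_sup_exists hWn (hsup ▸ hu)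
  obtain ⟨z', hz', w', hw', rfl⟩ := CfsgLib.Coprime.mem_sup_exists hWn (hsup ▸ hu')
  have hwz : ∀ {s t : G}, s ∈ U → t ∈ Z → Commute s t := fun hs ht => hlayer.comm_of_mem hs ht
  have hval : ⁅z * w, z' * w'⁆ = ⁅w, w'⁆ := by
    rw [hlayer.commutator_mul_left (hZU.le hz) (hWU hw) (hUQ (mul_mem (hZU.le hz') (hWU hw'))),
      commutatorElement_eq_one_iff_mul_comm.2
        ((hwz (mul_mem (hZU.le hz') (hWU hw')) hz).symm.eq), one_mul]
    have e : ⁅w, z' * w'⁆ = ⁅w, z'⁆ * (z' * ⁅w, w'⁆ * z'⁻¹) := by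
      simp only [commutatorElement_def]; group
    rw [e, commutatorElement_eq_one_iff_mul_comm.2 (hwz (hWU hw) hz').eq, one_mul,
      hlayer.comm_of_mem (hZU.le hz') (hlayer.commutator_mem (hWU hw) (hUQ (hWU hw'))),
      mul_inv_cancel_right]
  rw [hval]
  have hsolQ : Group.IsSolvable Q := by
    haveI := hQ.isNilpotent
    infer_instance
  obtain ⟨j, hj⟩ := IsPGroup.iff_card.1 hQ
  have hdec := CfsgLib.Coprime.commutator_sup_centralizer (hKn hQn)
    (by rw [hj]; exact hK.pow_right j) (Or.inr hsolQ)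
  have hle : Q ≤ centralizer ({⁅w, w'⁆} : Set G) := by
    refine hdec.ge.trans (sup_le (fun r hr => mem_centralizer_singleton_iff.2 ?_)
      (fun c hc => mem_centralizer_singleton_iff.2 ?_))
    · have hrZ : ⁅Q, K⁆ ≤ centralizer (Z : Set G) := by
        rw [← commutator_eq_bot_iff_le_centralizer]
        refine commutator_commutator_eq_bot_of_rotate ?_ ?_
        · rw [commutator_comm K, hZK, commutator_bot_left]
        · refine le_bot_iff.1 ((commutator_mono ?_ le_rfl).trans hZK.le)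
          exact le_normalizer_iff_commutator_le_left.1 (by
            rw [Subgroup.normalizer_eq_top Z]; exact le_top)
      exact (mem_centralizer_iff.1 (hrZ hr) _ (hlayer.commutator_mem (hWU hw) (hUQ (hWU hw')))).symm
    · have hWC : ⁅U, K⁆ ≤ centralizer ((Q ⊓ centralizer (K : Set G) : Subgroup G) : Set G) := by
        rw [← commutator_eq_bot_iff_le_centralizer]
        refine commutator_commutator_eq_bot_of_rotate ?_ ?_
        · rw [(commutator_eq_bot_iff_le_centralizer.2 (le_centralizer_iff.1 inf_le_right) :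
            ⁅K, Q ⊓ centralizer (K : Set G)⁆ = ⊥), commutator_bot_left]
        · refine le_bot_iff.1 ((commutator_mono ?_ le_rfl).trans hZK.le)
          rw [commutator_comm]
          exact (commutator_mono le_rfl inf_le_left).trans hcomm
      have h1 : Commute c w := mem_centralizer_iff.1 (hWC hw) c hc
      have h2 : Commute c w' := mem_centralizer_iff.1 (hWC hw') c hc
      exact (((h1.mul_right h2).mul_right h1.inv_right).mul_right h2.inv_right).eq
  exact mem_centralizer_singleton_iff.1 (hle hq)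

/-- The main lemma: no such `A` is a largest abelian subgroup of `Q A`. -/
theorem core (hp5 : 5 ≤ p) {Q K A : Subgroup G}
    (hQ : IsPGroup p Q) (hQn : Q.Normal) (hQK : (Q ⊔ K).Normal) (hK : (Nat.card K).Coprime p)
    (hQK1 : ⁅Q, K⁆ ≠ ⊥) (hA : IsMulCommutative A) (hAp : IsPGroup p A) {a : G} (haA : a ∈ A) {n : ℕ}
    (hn : 1 ≤ n) (haq : a ^ p ^ n ∈ Q) (hgen : A ≤ Q ⊔ zpowers a)
    (hfpf : ∀ l, 0 < l → l < p ^ n → ∀ k ∈ K, ⁅a ^ l, k⁆ ∈ Q → k = 1)
    (hmax : ∀ B : Subgroup G, B ≤ Q ⊔ A → IsMulCommutative B → Nat.card B ≤ Nat.card A) :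
    False := by
  have hp : p.Prime := Fact.out
  haveI := hQn
  obtain ⟨U, Z, h, hch, hUK, hexp, hUQ⟩ := exists_layer hQ hQn hQK hK hQK1
  by_cases hcase : n = 1 → commFix A Z ≤ Q
  · exact core_aux hp5 h hQ hQn hch hQK hK hUK hexp hUQ hA hAp haA hn haq hgen hfpf hmax
      fun e => Or.inl (hcase e)
  rw [Classical.not_imp] at hcase
  obtain ⟨rfl, hXQ⟩ := hcase
  obtain ⟨x, hx, hxQ⟩ := SetLike.not_le_iff_exists.1 hXQ
  have hxA : x ∈ A := commFix_le A Z hx
  obtain ⟨q, hq, y, hy, hqy⟩ := CfsgLib.Coprime.mem_sup_exists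
    (by rw [Subgroup.normalizer_eq_top Q]; exact le_top) (hgen hxA)
  obtain ⟨i, rfl⟩ := (isOfFinOrder_of_finite a).mem_powers_iff_mem_zpowers.2 hy
  have hcl : (QuotientGroup.mk' Q) x = (QuotientGroup.mk' Q a) ^ i := by
    rw [← hqy, map_mul, map_pow, show (QuotientGroup.mk' Q) q = 1 from (QuotientGroup.eq_one_iff q).2 hq,
      one_mul]
  have hap : (QuotientGroup.mk' Q a) ^ p = 1 := by
    rw [← map_pow, QuotientGroup.mk'_apply, QuotientGroup.eq_one_iff]
    rwa [pow_one] at haq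
  have hpi : ¬ p ∣ i := by
    rintro ⟨c, rfl⟩
    refine hxQ ((QuotientGroup.eq_one_iff x).1 ?_)
    show (QuotientGroup.mk' Q) x = 1
    rw [hcl, pow_mul, hap, one_pow]
  have hxq : x ^ p ^ 1 ∈ Q := by
    rw [pow_one, ← QuotientGroup.eq_one_iff]
    show (QuotientGroup.mk' Q) (x ^ p) = 1
    rw [map_pow, hcl, ← pow_mul, mul_comm, pow_mul, hap, one_pow]
  refine core_aux hp5 h hQ hQn hch hQK hK hUK hexp hUQ hA hAp hxA hn hxq ?_ ?_ hmax
    fun _ => Or.inr hx
  · refine hgen.trans (sup_le le_sup_left ?_)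
    rw [zpowers_le]
    obtain ⟨m, hm⟩ := exists_pow_eq_self_of_coprime (x := QuotientGroup.mk' Q a) (n := i) (by
      rw [Nat.coprime_comm]
      exact Nat.Coprime.coprime_dvd_left (orderOf_dvd_of_pow_eq_one hap)
        (hp.coprime_iff_not_dvd.2 hpi))
    have hmem : a * (x ^ m)⁻¹ ∈ Q := by
      rw [← QuotientGroup.eq_one_iff]
      show (QuotientGroup.mk' Q) (a * (x ^ m)⁻¹) = 1
      rw [map_mul, map_inv, map_pow, hcl, hm, mul_inv_cancel]
    have := mul_mem (mem_sup_left hmem : a * (x ^ m)⁻¹ ∈ Q ⊔ zpowers x)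
      (pow_mem (mem_sup_right (mem_zpowers x)) m)
    rwa [inv_mul_cancel_right] at this
  · intro l hl0 hl k hk hkQ
    rw [pow_one] at hl
    have hres : ¬ p ∣ i * l := fun hd =>
      (hp.dvd_mul.1 hd).elim hpi fun hd' => absurd (Nat.le_of_dvd hl0 hd') (not_le.2 hl)
    refine hfpf (i * l % p) (Nat.pos_of_ne_zero fun e => hres (Nat.dvd_of_mod_eq_zero e))
      (by rw [pow_one]; exact Nat.mod_lt _ hp.pos) k hk ?_
    rw [← QuotientGroup.eq_one_iff] at hkQ ⊢
    have e : (QuotientGroup.mk' Q) (x ^ l) = (QuotientGroup.mk' Q) (a ^ (i * l % p)) := by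
      rw [map_pow, map_pow, hcl, ← pow_mul, ← pow_eq_pow_mod _ hap]
    change (QuotientGroup.mk' Q) ⁅a ^ (i * l % p), k⁆ = 1
    rw [map_commutatorElement, ← e, ← map_commutatorElement]
    exact hkQ

end CfsgLib.LocalStructure.JFive
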