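import Cfsg.Agent.Lib.LocalStructure.CenterWeight
import Mathlib.GroupTheory.PGroup

/-!
# Enlarging an abelian subgroup inside a layer of a normal `p`-subgroup

`U / Z` is a layer of the normal `p`-subgroup `Q` and `a` an element acting on it. Iterated commutators
of one element of the layer with `a` give new elements commuting with an abelian subgroup of `Q`.
-/

set_option autoImplicit false

open Subgroup
open scoped commutatorElement

namespace CfsgLib.LocalStructure.JFive

universe u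

variable {G : Type u} [Group G]

/-- The map `g ↦ [a, g]`. -/
def dlt (a g : G) : G := ⁅a, g⁆

/-- `Z ≤ U ≤ Q` are normal, `U` centralises `Z` and `[U, Q] ≤ Z`. -/
structure Layer (Q U Z : Subgroup G) : Prop where
  normalU : U.Normal
  normalZ : Z.Normal
  le : Z ≤ U
  leQ : U ≤ Q
  cent : U ≤ centralizer (Z : Set G)
  comm : ⁅U, Q⁆ ≤ Z

theorem dlt_mem {N : Subgroup G} (hN : N.Normal) (a : G) {g : G} (hg : g ∈ N) : dlt a g ∈ N := by
  rw [dlt, commutatorElement_def]
  exact mul_mem (hN.conj_mem g hg a) (inv_mem hg)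

theorem iterate_mem {N : Subgroup G} (hN : N.Normal) (a : G) (n : ℕ) {g : G} (hg : g ∈ N) :
    (dlt a)^[n] g ∈ N := by
  induction n with
  | zero => exact hg
  | succ n ih => rw [Function.iterate_succ_apply']; exact dlt_mem hN a ih

theorem iterate_one (a : G) (n : ℕ) : (dlt a)^[n] 1 = 1 := by
  induction n with
  | zero => rfl
  | succ n ih => rw [Function.iterate_succ_apply', ih, dlt, commutatorElement_one_right]

theorem iterate_map {H : Type*} [Group H] (π : G →* H) (a : G) (n : ℕ) (g : G) :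
    π ((dlt a)^[n] g) = (dlt (π a))^[n] (π g) := by
  induction n with
  | zero => rfl
  | succ n ih =>
    rw [Function.iterate_succ_apply', Function.iterate_succ_apply', dlt, map_commutatorElement, ih]
    rfl

theorem iterate_commute_fixed {a x : G} (h : a * x = x * a) (n : ℕ) (hn : 1 ≤ n) :
    (dlt a)^[n] x = 1 := by
  obtain ⟨m, rfl⟩ := Nat.exists_eq_add_of_le hn
  rw [add_comm, Function.iterate_succ_apply, dlt, commutatorElement_eq_one_iff_mul_comm.2 h,
    iterate_one]

namespace Layer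

variable {Q U Z : Subgroup G}

theorem comm_of_mem (h : Layer Q U Z) {u z : G} (hu : u ∈ U) (hz : z ∈ Z) : u * z = z * u :=
  (mem_centralizer_iff.1 (h.cent hu) z hz).symm

theorem commutativeZ (h : Layer Q U Z) : IsMulCommutative Z :=
  ⟨⟨fun x y => Subtype.ext (h.comm_of_mem (h.le x.2) y.2)⟩⟩

theorem commutator_mem (h : Layer Q U Z) {u x : G} (hu : u ∈ U) (hx : x ∈ Q) : ⁅u, x⁆ ∈ Z :=
  h.comm (commutator_mem_commutator hu hx)

/-- Modulo `Z` the iterates are multiplicative on `U`. -/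
theorem iterate_mul_mem (h : Layer Q U Z) (a : G) (n : ℕ) {u v : G} (hu : u ∈ U) (hv : v ∈ U) :
    ((dlt a)^[n] u * (dlt a)^[n] v)⁻¹ * (dlt a)^[n] (u * v) ∈ Z := by
  haveI := h.normalZ
  obtain ⟨π, hπ⟩ : ∃ π : G →* G ⧸ Z, π = QuotientGroup.mk' Z := ⟨_, rfl⟩
  have hker : ∀ g : G, π g = 1 ↔ g ∈ Z := fun g => by
    rw [hπ, QuotientGroup.mk'_apply, QuotientGroup.eq_one_iff]
  rw [← hker, map_mul, map_inv, inv_mul_eq_one, map_mul]
  induction n with
  | zero => exact (map_mul π u v).symm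
  | succ n ih =>
    obtain ⟨u', hu'⟩ : ∃ w, w = (dlt a)^[n] u := ⟨_, rfl⟩
    obtain ⟨v', hv'⟩ : ∃ w, w = (dlt a)^[n] v := ⟨_, rfl⟩
    rw [Function.iterate_succ_apply', Function.iterate_succ_apply', Function.iterate_succ_apply',
      ← hu', ← hv']
    rw [← hu', ← hv'] at ih
    have hu'' : u' ∈ U := hu' ▸ iterate_mem h.normalU a n hu
    have hv'' : dlt a v' ∈ U := dlt_mem h.normalU a (hv' ▸ iterate_mem h.normalU a n hv)
    have hc : π u' * π (dlt a v') = π (dlt a v') * π u' := by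
      rw [← commutatorElement_eq_one_iff_mul_comm, ← map_commutatorElement, hker]
      exact h.commutator_mem hu'' (h.leQ hv'')
    simp only [dlt, map_commutatorElement] at hc ⊢
    rw [← ih, commutatorElement_def (π a) (π u' * π v')]
    simp only [commutatorElement_def] at hc ⊢
    calc π a * π u' * (π a)⁻¹ * (π u')⁻¹ * (π a * π v' * (π a)⁻¹ * (π v')⁻¹)
        = π a * π u' * (π a)⁻¹ * (π u')⁻¹ * ((π a * π v' * (π a)⁻¹ * (π v')⁻¹) * π u') * (π u')⁻¹ := by
          group
      _ = _ := by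
          rw [← hc]
          group

/-- The elements of `U` whose `n`-th iterate lies in `Z`. -/
def level (h : Layer Q U Z) (a : G) (n : ℕ) : Subgroup G where
  carrier := {u | u ∈ U ∧ (dlt a)^[n] u ∈ Z}
  one_mem' := ⟨one_mem U, by rw [iterate_one]; exact one_mem Z⟩
  mul_mem' := by
    rintro u v ⟨hu, hu'⟩ ⟨hv, hv'⟩
    refine ⟨mul_mem hu hv, ?_⟩
    have := mul_mem (mul_mem hu' hv') (h.iterate_mul_mem a n hu hv)
    rwa [mul_inv_cancel_left] at this
  inv_mem' := by
    rintro u ⟨hu, hu'⟩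
    refine ⟨inv_mem hu, ?_⟩
    have := h.iterate_mul_mem a n hu (inv_mem hu)
    rw [mul_inv_cancel, iterate_one, mul_one, inv_mem_iff] at this
    exact (Subgroup.mul_mem_cancel_left Z hu').1 this

theorem mem_level (h : Layer Q U Z) {a : G} {n : ℕ} {u : G} :
    u ∈ h.level a n ↔ u ∈ U ∧ (dlt a)^[n] u ∈ Z := Iff.rfl

theorem le_level (h : Layer Q U Z) (a : G) (n : ℕ) : Z ≤ h.level a n := fun _ hz =>
  ⟨h.le hz, iterate_mem h.normalZ a n hz⟩

theorem level_mono (h : Layer Q U Z) (a : G) {m n : ℕ} (hmn : m ≤ n) :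
    h.level a m ≤ h.level a n := fun u hu => ⟨hu.1, by
  obtain ⟨k, rfl⟩ := Nat.exists_eq_add_of_le hmn
  rw [add_comm, Function.iterate_add_apply]
  exact iterate_mem h.normalZ a k hu.2⟩

theorem le_normalizer_level (h : Layer Q U Z) (a : G) (n : ℕ) :
    Q ≤ normalizer (h.level a n : Set G) := by
  refine le_normalizer_iff_commutator_le_left.2 ((commutator_le).2 fun u hu x hx => ?_)
  exact h.le_level a n (h.commutator_mem hu.1 hx)

theorem commutator_mul_left (h : Layer Q U Z) {u v x : G} (hu : u ∈ U) (hv : v ∈ U) (hx : x ∈ Q) :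
    ⁅u * v, x⁆ = ⁅u, x⁆ * ⁅v, x⁆ := by
  have h1 : ⁅u * v, x⁆ = u * ⁅v, x⁆ * u⁻¹ * ⁅u, x⁆ := by
    simp only [commutatorElement_def]; group
  rw [h1, h.comm_of_mem hu (h.commutator_mem hv hx), mul_inv_cancel_right]
  exact comm_of_abelian h.commutativeZ (h.commutator_mem hv hx) (h.commutator_mem hu hx)

/-- For `x` commuting with `a`, the map `u ↦ [u, x]` commutes with `g ↦ [a, g]`. -/
theorem commutator_iterate (h : Layer Q U Z) {a x : G} (hax : a * x = x * a) (hx : x ∈ Q) (n : ℕ)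
    {v : G} (hv : v ∈ U) : ⁅(dlt a)^[n] v, x⁆ = (dlt a)^[n] ⁅v, x⁆ := by
  induction n with
  | zero => rfl
  | succ n ih =>
    rw [Function.iterate_succ_apply', Function.iterate_succ_apply', ← ih]
    obtain ⟨w, hw⟩ : ∃ w, w = (dlt a)^[n] v := ⟨_, rfl⟩
    have hwU : w ∈ U := hw ▸ iterate_mem h.normalU a n hv
    rw [← hw]
    have e1 : ⁅dlt a w * w, x⁆ = a * ⁅w, x⁆ * a⁻¹ := by
      have e : dlt a w * w = a * w * a⁻¹ := by rw [dlt, commutatorElement_def, inv_mul_cancel_right]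
      have hx' : a * x * a⁻¹ = x := by rw [hax, mul_inv_cancel_right]
      calc ⁅dlt a w * w, x⁆ = ⁅a * w * a⁻¹, a * x * a⁻¹⁆ := by rw [e, hx']
        _ = _ := by simp only [commutatorElement_def]; group
    rw [h.commutator_mul_left (dlt_mem h.normalU a hwU) hwU hx] at e1
    show ⁅dlt a w, x⁆ = ⁅a, ⁅w, x⁆⁆
    rw [commutatorElement_def a, ← e1, mul_inv_cancel_right]

theorem dlt_mul (h : Layer Q U Z) (a : G) {y z : G} (hy : y ∈ Z) (hz : z ∈ Z) :
    dlt a (y * z) = dlt a y * dlt a z := by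
  have h1 : dlt a (y * z) = dlt a y * (y * dlt a z * y⁻¹) := by
    simp only [dlt, commutatorElement_def]; group
  rw [h1, comm_of_abelian h.commutativeZ hy (dlt_mem h.normalZ a hz), mul_inv_cancel_right]

theorem iterate_mulZ (h : Layer Q U Z) (a : G) (n : ℕ) {y z : G} (hy : y ∈ Z) (hz : z ∈ Z) :
    (dlt a)^[n] (y * z) = (dlt a)^[n] y * (dlt a)^[n] z := by
  induction n with
  | zero => rfl
  | succ n ih =>
    rw [Function.iterate_succ_apply', Function.iterate_succ_apply', Function.iterate_succ_apply',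
      ih, h.dlt_mul a (iterate_mem h.normalZ a n hy) (iterate_mem h.normalZ a n hz)]

/-- The commutators of high iterates vanish. -/
theorem pair (h : Layer Q U Z) (a : G) {d e : ℕ} (hd : ∀ u ∈ U, (dlt a)^[d] u ∈ Z)
    (he : ∀ u ∈ U, ∀ u' ∈ U, (dlt a)^[e] ⁅u, u'⁆ = 1) {x y : G} (hx : x ∈ U) (hy : y ∈ U) :
    ∀ i k j : ℕ, d + e ≤ i + k + j + 1 → (dlt a)^[j] ⁅(dlt a)^[i] x, (dlt a)^[k] y⁆ = 1 := by
  have big : ∀ i k j : ℕ, d ≤ k → (dlt a)^[j] ⁅(dlt a)^[i] x, (dlt a)^[k] y⁆ = 1 := by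
    intro i k j hk
    have hkZ : (dlt a)^[k] y ∈ Z := by
      obtain ⟨m, rfl⟩ := Nat.exists_eq_add_of_le hk
      rw [add_comm, Function.iterate_add_apply]
      exact iterate_mem h.normalZ a m (hd y hy)
    rw [commutatorElement_eq_one_iff_mul_comm.2
      (h.comm_of_mem (iterate_mem h.normalU a i hx) hkZ), iterate_one]
  intro i
  induction i with
  | zero =>
    intro k j hs
    rcases le_or_gt d k with hk | hk
    · exact big 0 k j hk
    · obtain ⟨m, rfl⟩ := Nat.exists_eq_add_of_le (show e ≤ j by omega)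
      rw [add_comm, Function.iterate_add_apply, Function.iterate_zero_apply, he _ hx _ (iterate_mem h.normalU a k hy),
        iterate_one]
  | succ i ih =>
    suffices hsuf : ∀ n k j : ℕ, d ≤ k + n → d + e ≤ i + 1 + k + j + 1 →
        (dlt a)^[j] ⁅(dlt a)^[i + 1] x, (dlt a)^[k] y⁆ = 1 from
      fun k j hs => hsuf d k j (Nat.le_add_left d k) hs
    intro n
    induction n with
    | zero => exact fun k j hk _ => big (i + 1) k j hk
    | succ n ihn =>
      intro k j hk hs
      obtain ⟨x', hx'⟩ : ∃ w, w = (dlt a)^[i] x := ⟨_, rfl⟩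
      obtain ⟨y', hy'⟩ : ∃ w, w = (dlt a)^[k] y := ⟨_, rfl⟩
      have hxU : x' ∈ U := hx' ▸ iterate_mem h.normalU a i hx
      have hyU : y' ∈ U := hy' ▸ iterate_mem h.normalU a k hy
      have hdx : dlt a x' ∈ U := dlt_mem h.normalU a hxU
      have hdy : dlt a y' ∈ U := dlt_mem h.normalU a hyU
      have mz : ∀ {s t : G}, s ∈ U → t ∈ U → ⁅s, t⁆ ∈ Z := fun hs ht =>
        h.commutator_mem hs (h.leQ ht)
      have right : ∀ {s : G}, s ∈ U → ⁅s, dlt a y' * y'⁆ = ⁅s, dlt a y'⁆ * ⁅s, y'⁆ := by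
        intro s hs
        have e1 : ⁅s, dlt a y' * y'⁆ = ⁅s, dlt a y'⁆ * (dlt a y' * ⁅s, y'⁆ * (dlt a y')⁻¹) := by
          simp only [commutatorElement_def]; group
        rw [e1, h.comm_of_mem hdy (mz hs hyU), mul_inv_cancel_right]
      have key : dlt a ⁅x', y'⁆ * ⁅x', y'⁆ =
          ⁅dlt a x', dlt a y'⁆ * ⁅dlt a x', y'⁆ * ⁅x', dlt a y'⁆ * ⁅x', y'⁆ := by
        calc dlt a ⁅x', y'⁆ * ⁅x', y'⁆ = ⁅dlt a x' * x', dlt a y' * y'⁆ := by
              simp only [dlt, commutatorElement_def]; group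
          _ = _ := by
              rw [h.commutator_mul_left hdx hxU (h.leQ (mul_mem hdy hyU)), right hdx, right hxU]
              group
      have key2 := congrArg ((dlt a)^[j]) (mul_right_cancel key)
      rw [h.iterate_mulZ a j (mul_mem (mz hdx hdy) (mz hdx hyU)) (mz hxU hdy),
        h.iterate_mulZ a j (mz hdx hdy) (mz hdx hyU), ← Function.iterate_succ_apply, hx', hy',
        ← Function.iterate_succ_apply' (dlt a) i, ← Function.iterate_succ_apply' (dlt a) k,
        ih k (j + 1) (by omega), ihn (k + 1) j (by omega) (by omega),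
        ih (k + 1) j (by omega), one_mul, mul_one] at key2
      exact key2.symm

variable [Finite G] {p : ℕ} [Fact p.Prime]

/-- An abelian subgroup of `Q` built from a subgroup fixed by `a` and a part of `Z` can be enlarged by
a factor `p ^ g`. -/
theorem gain (h : Layer Q U Z) (hQ : IsPGroup p Q) {a : G} {A0 Bx Bz : Subgroup G} (hA0 : A0 ≤ Q)
    (haA0 : ∀ x ∈ A0, a * x = x * a) (hBx : Bx ≤ A0) (hBz : Bz ≤ Z)
    (hab : IsMulCommutative ↥(Bx ⊔ Bz)) {d e j g : ℕ} {v : G} (hv : v ∈ U)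
    (hd : ∀ u ∈ U, (dlt a)^[d] u ∈ Z) (hvd : (dlt a)^[d - 1] v ∉ Z)
    (hj : ∀ x ∈ Bx, (dlt a)^[j] ⁅v, x⁆ = 1)
    (he : ∀ u ∈ U, ∀ u' ∈ U, (dlt a)^[e] ⁅u, u'⁆ = 1)
    (h1 : j + g + 1 ≤ d) (h2 : g ≤ 1 ∨ 2 * g + e ≤ d) :
    ∃ B : Subgroup G, B ≤ Q ∧ IsMulCommutative B ∧ p ^ g * Nat.card ↥(Bx ⊔ Bz) ≤ Nat.card B := by
  suffices key : ∀ i, i ≤ g → ∃ B : Subgroup G, B ≤ A0 ⊔ h.level a (i + 1) ∧ IsMulCommutative B ∧
      p ^ i * Nat.card ↥(Bx ⊔ Bz) ≤ Nat.card B ∧
      ∀ k, i < k → k ≤ g → B ≤ centralizer ({(dlt a)^[d - 1 - k] v} : Set G) by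
    obtain ⟨B, hB, hBa, hBc, -⟩ := key g le_rfl
    exact ⟨B, hB.trans (sup_le hA0 fun u hu => h.leQ hu.1), hBa, hBc⟩
  intro i
  induction i with
  | zero =>
    intro _
    refine ⟨Bx ⊔ Bz, sup_le (hBx.trans le_sup_left) ((hBz.trans (h.le_level a 1)).trans le_sup_right),
      hab, (by rw [pow_zero, one_mul]), fun k _ hkg => sup_le (fun x hx => ?_) fun z hz => ?_⟩
    · refine mem_centralizer_singleton_iff.2 (commutatorElement_eq_one_iff_mul_comm.1 ?_).symm
      rw [h.commutator_iterate (haA0 x (hBx hx)) (hA0 (hBx hx)) _ hv]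
      obtain ⟨m, hm⟩ := Nat.exists_eq_add_of_le (show j ≤ d - 1 - k by omega)
      rw [hm, add_comm, Function.iterate_add_apply, hj x hx, iterate_one]
    · exact mem_centralizer_singleton_iff.2
        (h.comm_of_mem (iterate_mem h.normalU a _ hv) (hBz hz)).symm
  | succ i ih =>
    intro hig
    obtain ⟨B, hB, hBa, hBc, hBu⟩ := ih (by omega)
    obtain ⟨w, hw⟩ : ∃ w, w = (dlt a)^[d - 1 - (i + 1)] v := ⟨_, rfl⟩
    have hwU : w ∈ U := hw ▸ iterate_mem h.normalU a _ hv
    have hlevel : (dlt a)^[i + 1] w ∉ Z := by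
      rw [hw, ← Function.iterate_add_apply, show i + 1 + (d - 1 - (i + 1)) = d - 1 by omega]
      exact hvd
    have hwL : w ∈ h.level a (i + 1 + 1) := by
      refine ⟨hwU, ?_⟩
      rw [hw, ← Function.iterate_add_apply, show i + 1 + 1 + (d - 1 - (i + 1)) = d by omega]
      exact hd v hv
    have hwB : w ∉ B := fun hwB => by
      obtain ⟨l, hl, x, hx, hlx⟩ := CfsgLib.Coprime.mem_sup_exists
        (hA0.trans (h.le_normalizer_level a (i + 1))) (by rw [sup_comm]; exact hB hwB)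
      have hxU : x ∈ U := by
        rw [show x = l⁻¹ * w by rw [← hlx, inv_mul_cancel_left]]
        exact mul_mem (inv_mem hl.1) hwU
      have hxL : x ∈ h.level a (i + 1) :=
        ⟨hxU, by rw [iterate_commute_fixed (haA0 x hx) _ (by omega)]; exact one_mem Z⟩
      exact hlevel (by
        have := mul_mem hl hxL
        rw [hlx] at this
        exact this.2)
    obtain ⟨B', hB'⟩ : ∃ B', B' = B ⊔ zpowers w := ⟨_, rfl⟩
    have hcom : B ≤ centralizer (zpowers w : Set G) := fun b hb => by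
      have hbw : b * w = w * b :=
        mem_centralizer_singleton_iff.1 (hw ▸ hBu (i + 1) (by omega) hig hb)
      refine mem_centralizer_iff.2 ?_
      rintro _ ⟨n, rfl⟩
      exact ((Commute.zpow_left (show Commute w b from hbw.symm)) n).eq
    have hB'A : B' ≤ A0 ⊔ h.level a (i + 1 + 1) := by
      rw [hB']
      refine sup_le (hB.trans (sup_le_sup_left (h.level_mono a (by omega)) _)) ?_
      rw [zpowers_le]
      exact mem_sup_right hwL
    refine ⟨B', hB'A, ?_, ?_, ?_⟩
    · rw [hB']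
      haveI := hBa
      refine le_centralizer_iff_isMulCommutative.1 ?_
      rw [centralizer_sup']
      exact le_inf (sup_le (le_centralizer B) (le_centralizer_iff.1 hcom))
        (sup_le hcom (le_centralizer (zpowers w)))
    · have hp' : IsPGroup p B' := hQ.to_le (hB'A.trans (sup_le hA0 fun u hu => h.leQ hu.1))
      have hlt : B < B' := by
        rw [hB']
        exact lt_of_le_of_ne le_sup_left fun e => hwB (e.ge (mem_sup_right (mem_zpowers w)))
      obtain ⟨m, hm⟩ := IsPGroup.iff_card.1 hp'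
      obtain ⟨l, hl⟩ := IsPGroup.iff_card.1 (hp'.to_le hlt.le)
      have hml : l < m := by
        by_contra hc
        exact hlt.ne (Subgroup.eq_of_le_of_card_ge hlt.le (by
          rw [hm, hl]; exact Nat.pow_le_pow_right (Fact.out : p.Prime).pos (not_lt.1 hc)))
      calc p ^ (i + 1) * Nat.card ↥(Bx ⊔ Bz) = p * (p ^ i * Nat.card ↥(Bx ⊔ Bz)) := by ring
        _ ≤ p * Nat.card B := Nat.mul_le_mul le_rfl hBc
        _ = p ^ (l + 1) := by rw [hl, pow_succ']
        _ ≤ _ := by rw [hm]; exact Nat.pow_le_pow_right (Fact.out : p.Prime).pos hml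
    · intro k hk hkg
      rw [hB']
      refine sup_le (hBu k (by omega) hkg) ?_
      rw [zpowers_le]
      refine mem_centralizer_singleton_iff.2 (commutatorElement_eq_one_iff_mul_comm.1 ?_)
      rw [hw]
      exact h.pair a hd he hv hv (d - 1 - (i + 1)) (d - 1 - k) 0 (by omega)

end Layer

end CfsgLib.LocalStructure.JFive
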