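import Cfsg.Agent.Lib.CFun.SectionOp
import Cfsg.Agent.Lib.LocalStructure.LayerGain
import Cfsg.Prelude.Def_LocalEven
import Mathlib.Algebra.CharP.Lemmas
import Mathlib.Data.Nat.Choose.Sum
import Mathlib.Algebra.BigOperators.GroupWithZero.Action

/-!
# An element acting without fixed points on a `p'`-group has full degree on a chief layer
-/

set_option autoImplicit false

open Subgroup
open scoped commutatorElement

namespace CfsgLib.LocalStructure.JFive

universe u

theorem geom_sum_one_add {R : Type*} [Ring R] (D : R) (q : ℕ) :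
    ∑ l ∈ Finset.range q, (1 + D) ^ l = ∑ m ∈ Finset.range q, (q.choose (m + 1) : R) * D ^ m := by
  induction q with
  | zero => simp
  | succ q ih =>
    rw [Finset.sum_range_succ, ih, (Commute.one_left D).add_pow' q,
      Finset.Nat.sum_antidiagonal_eq_sum_range_succ (fun i k => q.choose i • ((1 : R) ^ i * D ^ k))]
    rw [Finset.sum_congr rfl (g := fun m => ((q + 1).choose (m + 1) : R) * D ^ m)
      (s₂ := Finset.range (q + 1)) (fun m _ => rfl)]
    conv_rhs => rw [Finset.sum_congr rfl (g := fun m => (q.choose m : R) * D ^ m +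
      (q.choose (m + 1) : R) * D ^ m) (s₂ := Finset.range (q + 1))
      (fun m _ => by rw [Nat.choose_succ_succ, Nat.cast_add, add_mul])]
    rw [Finset.sum_add_distrib, Finset.sum_range_succ (fun m => (q.choose (m + 1) : R) * D ^ m) q,
      Nat.choose_succ_self, Nat.cast_zero, zero_mul, add_zero, add_comm]
    congr 1
    rw [← Finset.sum_range_reflect]
    refine Finset.sum_congr rfl fun m hm => ?_
    have hm' : m ≤ q := Nat.lt_succ_iff.1 (Finset.mem_range.1 hm)
    rw [one_pow, one_mul, nsmul_eq_mul, show q + 1 - 1 - m = q - m by omega,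
      show q - (q - m) = m by omega, Nat.choose_symm hm']

variable {G : Type u} [Group G] [Finite G] {p : ℕ} [Fact p.Prime]

theorem degree_layer {Q U Z K : Subgroup G} (h : Layer Q U Z) (hch : Cfsg.IsChiefFactor U Z)
    (hQn : Q.Normal) (hQKn : (Q ⊔ K).Normal) (hK : (Nat.card K).Coprime p)
    (hUK : ¬ ⁅U, K⁆ ≤ Z) (hexp : ∀ u ∈ U, u ^ p ∈ Z) {a : G} {n : ℕ} (haq : a ^ p ^ n ∈ Q)
    (hfpf : ∀ l, 0 < l → l < p ^ n → ∀ k ∈ K, ⁅a ^ l, k⁆ ∈ Q → k = 1) :
    (∀ u ∈ U, (dlt a)^[p ^ n] u ∈ Z) ∧ ∃ v ∈ U, (dlt a)^[p ^ n - 1] v ∉ Z := by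
  classical
  have hp : p.Prime := Fact.out
  haveI := h.normalZ
  haveI := h.normalU
  obtain ⟨π, hπ⟩ : ∃ π : G →* G ⧸ Z, π = QuotientGroup.mk' Z := ⟨_, rfl⟩
  have hπs : Function.Surjective π := hπ ▸ QuotientGroup.mk'_surjective Z
  have hker : ∀ g : G, π g = 1 ↔ g ∈ Z := fun g => by
    rw [hπ, QuotientGroup.mk'_apply, QuotientGroup.eq_one_iff]
  haveI hUn : (U.map π).Normal := h.normalU.map π hπs
  have hcU : ∀ x ∈ U.map π, ∀ y ∈ U.map π, Commute x y := by
    rintro _ ⟨x, hx, rfl⟩ _ ⟨y, hy, rfl⟩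
    refine commutatorElement_eq_one_iff_mul_comm.1 ?_
    rw [← map_commutatorElement, hker]
    exact h.commutator_mem hx (h.leQ hy)
  letI := CfsgLib.CFun.addCommGroupOfCommute (U.map π) hcU
  -- the representation
  have hval : ∀ {x y : Additive (U.map π)}, CfsgLib.CFun.val' (U.map π) x =
      CfsgLib.CFun.val' (U.map π) y → x = y := fun h => Additive.toMul.injective (Subtype.ext h)
  let e : G →* AddMonoid.End (Additive (U.map π)) :=
    { toFun := fun g => CfsgLib.CFun.secEnd (U.map π) hcU (π g)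
      map_one' := by
        refine AddMonoidHom.ext fun x => hval ?_
        refine (CfsgLib.CFun.secEnd_apply (U.map π) hcU (π 1) x).trans ?_
        rw [map_one, one_mul, inv_one, mul_one]
        rfl
      map_mul' := fun g g' => by
        refine AddMonoidHom.ext fun x => hval ?_
        refine (CfsgLib.CFun.secEnd_apply (U.map π) hcU (π (g * g')) x).trans ?_
        refine Eq.trans ?_ (CfsgLib.CFun.secEnd_apply (U.map π) hcU (π g)
          (CfsgLib.CFun.secEnd (U.map π) hcU (π g') x)).symm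
        have e' : CfsgLib.CFun.val' (U.map π) (CfsgLib.CFun.secEnd (U.map π) hcU (π g') x) =
            π g' * CfsgLib.CFun.val' (U.map π) x * (π g')⁻¹ :=
          CfsgLib.CFun.secEnd_apply (U.map π) hcU (π g') x
        refine Eq.trans ?_ (congrArg (fun w => π g * w * (π g)⁻¹) e').symm
        rw [map_mul]
        group }
  have heval : ∀ (g : G) (x : Additive (U.map π)),
      CfsgLib.CFun.val' (U.map π) (e g x) = π g * CfsgLib.CFun.val' (U.map π) x * (π g)⁻¹ :=
    fun g x => CfsgLib.CFun.secEnd_apply (U.map π) hcU (π g) x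
  have heQ : ∀ g ∈ Q, e g = 1 := fun g hg => by
    refine AddMonoidHom.ext fun x => hval ?_
    refine (heval g x).trans ?_
    obtain ⟨u, hu, hux⟩ := (Additive.toMul x).2
    show _ = CfsgLib.CFun.val' (U.map π) x
    rw [show CfsgLib.CFun.val' (U.map π) x = π u from hux.symm,
      (commutatorElement_eq_one_iff_mul_comm.1 (by
        rw [← map_commutatorElement, hker, ← commutatorElement_inv]
        exact inv_mem (h.commutator_mem hu hg) : ⁅π g, π u⁆ = 1)), mul_inv_cancel_right]
  have hdlt : ∀ (m : ℕ) (x : Additive (U.map π)), CfsgLib.CFun.val' (U.map π) (((e a - 1) ^ m) x) =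
      (dlt (π a))^[m] (CfsgLib.CFun.val' (U.map π) x) := by
    intro m
    induction m with
    | zero => intro x; rw [pow_zero]; rfl
    | succ m ih =>
      intro x
      rw [pow_succ', Function.iterate_succ_apply', ← ih x]
      exact CfsgLib.CFun.sub_one_apply (U.map π) hcU (π a) (((e a - 1) ^ m) x)
  have hp0 : (p : AddMonoid.End (Additive (U.map π))) = 0 := by
    refine AddMonoidHom.ext fun x => hval ?_
    rw [← nsmul_one (A := AddMonoid.End (Additive (U.map π))) p]
    show CfsgLib.CFun.val' (U.map π) (p • x) = 1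
    obtain ⟨u, hu, hux⟩ := (Additive.toMul x).2
    show ((Additive.toMul x ^ p : U.map π) : G ⧸ Z) = 1
    rw [SubmonoidClass.coe_pow, ← hux, ← map_pow, hker]
    exact hexp u hu
  obtain ⟨D, hD⟩ : ∃ D, D = e a - 1 := ⟨_, rfl⟩
  have hea : e a = 1 + D := by rw [hD]; abel
  have hDq : D ^ p ^ n = 0 := by
    have h1 : (1 + D) ^ p ^ n = 1 := by rw [← hea, ← map_pow, heQ _ haq]
    obtain ⟨r, hr⟩ := (Commute.one_left D).exists_add_pow_prime_pow_eq hp n
    rw [hr, hp0, zero_mul, zero_mul, zero_mul, add_zero, one_pow] at h1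
    exact add_eq_left.1 h1
  refine ⟨fun u hu => ?_, ?_⟩
  · rw [← hker, iterate_map]
    have h1 := hdlt (p ^ n) (Additive.ofMul ⟨π u, mem_map_of_mem π hu⟩)
    rw [← hD, hDq] at h1
    exact h1.symm
  by_contra hno
  push Not at hno
  have hDq1 : D ^ (p ^ n - 1) = 0 := by
    refine AddMonoidHom.ext fun x => hval ?_
    rw [hD]
    refine (hdlt (p ^ n - 1) x).trans ?_
    obtain ⟨u, hu, hux⟩ := (Additive.toMul x).2
    show (dlt (π a))^[p ^ n - 1] _ = 1
    rw [show CfsgLib.CFun.val' (U.map π) x = π u from hux.symm, ← iterate_map, hker]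
    exact hno u hu
  have hT : ∑ l ∈ Finset.range (p ^ n), e a ^ l = 0 := by
    rw [hea, geom_sum_one_add]
    refine Finset.sum_eq_zero fun m hm => ?_
    rcases Nat.lt_or_ge m (p ^ n - 1) with hlt | hge
    · obtain ⟨c, hc⟩ := hp.dvd_choose_pow (n := n) (show m + 1 ≠ 0 by omega) (by omega)
      rw [hc, Nat.cast_mul, hp0, zero_mul, zero_mul]
    · obtain ⟨c, rfl⟩ := Nat.exists_eq_add_of_le hge
      rw [pow_add, hDq1, zero_mul, mul_zero]
  -- the sum over `K`
  letI : Fintype K := Fintype.ofFinite K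
  have hKsum : ∑ k : K, e (k : G) = 0 := by
    refine AddMonoidHom.ext fun x => hval ?_
    obtain ⟨y, hy⟩ : ∃ y, y = (∑ k : K, e (k : G)) x := ⟨_, rfl⟩
    refine (congrArg (CfsgLib.CFun.val' (U.map π)) hy.symm).trans ?_
    show CfsgLib.CFun.val' (U.map π) y = 1
    have hfix : ∀ k ∈ K, e k y = y := fun k hk => by
      rw [hy]
      show (e k * ∑ k' : K, e (k' : G)) x = _
      rw [Finset.mul_sum]
      congr 1
      rw [← Equiv.sum_comp (Equiv.mulLeft (⟨k, hk⟩ : K)) (fun k' : K => e (k' : G))]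
      exact Finset.sum_congr rfl fun k' _ => (map_mul e k k').symm
    obtain ⟨P, hP⟩ : ∃ P, P = U ⊓ (centralizer (((Q ⊔ K).map π : Subgroup (G ⧸ Z)) : Set (G ⧸ Z))).comap π :=
      ⟨_, rfl⟩
    haveI : ((Q ⊔ K).map π).Normal := hQKn.map π hπs
    haveI hPn : P.Normal := hP ▸ normal_inf_normal U _
    have hZP : Z ≤ P := hP ▸ le_inf h.le fun z hz => by
      rw [mem_comap, (hker z).2 hz]; exact one_mem _
    obtain ⟨u, hu, hux⟩ := (Additive.toMul y).2
    show ((Additive.toMul y : U.map π) : G ⧸ Z) = 1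
    rw [← hux, hker]
    have huP : u ∈ P := by
      refine hP.ge (mem_inf.2 ⟨hu, mem_comap.2 ?_⟩)
      refine mem_centralizer_iff.2 ?_
      intro w hw
      obtain ⟨g, hg, rfl⟩ := hw
      have hgen : Q ⊔ K ≤ (centralizer ({π u} : Set (G ⧸ Z))).comap π := by
        refine sup_le (fun g hg => ?_) fun g hg => ?_
        · refine mem_comap.2 (mem_centralizer_singleton_iff.2 ?_)
          refine commutatorElement_eq_one_iff_mul_comm.1 ?_
          rw [← map_commutatorElement, hker, ← commutatorElement_inv]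
          exact inv_mem (h.commutator_mem hu hg)
        · refine mem_comap.2 (mem_centralizer_singleton_iff.2 ?_)
          have h1 := congrArg (CfsgLib.CFun.val' (U.map π)) (hfix g hg)
          rw [heval, show CfsgLib.CFun.val' (U.map π) y = π u from hux.symm] at h1
          exact mul_inv_eq_iff_eq_mul.1 h1
      exact mem_centralizer_singleton_iff.1 (mem_comap.1 (hgen hg))
    rcases hch.2.2.2 P hPn hZP (hP.le.trans inf_le_left) with hPZ | hPU
    · exact hPZ.le huP
    · refine absurd (commutator_le.2 fun w hw k hk => ?_) hUK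
      have hwP := (mem_inf.1 (hP.le (hPU.ge hw))).2
      rw [← hker, map_commutatorElement, commutatorElement_eq_one_iff_mul_comm]
      exact (mem_centralizer_iff.1 (mem_comap.1 hwP) _ (mem_map_of_mem π (mem_sup_right hk))).symm
  have hKQ : K ≤ normalizer (Q : Set G) := by
    rw [Subgroup.normalizer_eq_top Q]; exact le_top
  have hsplit : ∀ l, 0 < l → l < p ^ n → ∑ k : K, e ((k : G) * a ^ l * (k : G)⁻¹) = 0 := by
    intro l hl0 hl
    have hc : ∀ k : K, ∃ k' : K, ∃ q ∈ Q, (k : G) * (a ^ l * (k : G)⁻¹ * (a ^ l)⁻¹) = q * k' := fun k => by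
      obtain ⟨q, hq, k', hk', e'⟩ := CfsgLib.Coprime.mem_sup_exists hKQ
        (mul_mem (mem_sup_right k.2)
          (hQKn.conj_mem _ (inv_mem (mem_sup_right k.2)) (a ^ l)) :
          (k : G) * (a ^ l * (k : G)⁻¹ * (a ^ l)⁻¹) ∈ Q ⊔ K)
      exact ⟨⟨k', hk'⟩, q, hq, e'.symm⟩
    choose κ qf hqf hκ using hc
    have hinj : Function.Injective κ := by
      intro k1 k2 h12
      have h1 : ((k1 : G) * (a ^ l * (k1 : G)⁻¹ * (a ^ l)⁻¹)) *
          ((k2 : G) * (a ^ l * (k2 : G)⁻¹ * (a ^ l)⁻¹))⁻¹ ∈ Q := by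
        rw [hκ k1, hκ k2, h12]
        have := mul_mem (hqf k1) (inv_mem (hqf k2))
        simpa [mul_assoc] using this
      have h2 : ⁅a ^ l, ((k1 : G)⁻¹ * (k2 : G))⁆ ∈ Q := by
        have h3 := hQn.conj_mem _ h1 (k1 : G)⁻¹
        rw [commutatorElement_def]
        simpa [mul_assoc, mul_inv_rev] using h3
      exact Subtype.ext (inv_mul_eq_one.1 (hfpf l hl0 hl _ (mul_mem (inv_mem k1.2) k2.2) h2))
    have hterm : ∀ k : K, e ((k : G) * a ^ l * (k : G)⁻¹) = e (κ k : G) * e (a ^ l) := fun k => by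
      rw [← one_mul (e (κ k : G)), ← heQ _ (hqf k), ← map_mul, ← hκ k, ← map_mul]
      congr 1
      group
    rw [Finset.sum_congr rfl fun k _ => hterm k, ← Finset.sum_mul]
    rw [Fintype.sum_bijective κ (Finite.injective_iff_bijective.1 hinj) (fun k => e (κ k : G))
      (fun k : K => e (k : G)) (fun _ => rfl), hKsum, zero_mul]
  have hcard : (Nat.card K : AddMonoid.End (Additive (U.map π))) = 0 := by
    have h1 : ∑ k : K, e (k : G) * (∑ l ∈ Finset.range (p ^ n), e a ^ l) * e ((k : G)⁻¹) = 0 := by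
      rw [hT]
      exact Finset.sum_eq_zero fun k _ => by rw [mul_zero, zero_mul]
    simp_rw [Finset.mul_sum, Finset.sum_mul, ← map_pow, ← map_mul] at h1
    rw [Finset.sum_comm, Finset.sum_eq_single_of_mem 0 (Finset.mem_range.2 (pow_pos hp.pos n))
      (fun l hl hl0 => hsplit l (Nat.pos_of_ne_zero hl0) (Finset.mem_range.1 hl))] at h1
    simpa [Nat.card_eq_fintype_card] using h1
  have hone : (1 : AddMonoid.End (Additive (U.map π))) = 0 := by
    have hb := Nat.gcd_eq_gcd_ab (Nat.card K) p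
    rw [hK.gcd_eq_one, Nat.cast_one] at hb
    have := congrArg (Int.cast : ℤ → AddMonoid.End (Additive (U.map π))) hb
    push_cast at this
    rw [this, hcard, hp0, zero_mul, zero_mul, add_zero]
  refine hch.1.not_ge fun u hu => ?_
  rw [← hker]
  have := congrArg (fun f : AddMonoid.End (Additive (U.map π)) =>
    CfsgLib.CFun.val' (U.map π) (f (Additive.ofMul ⟨π u, mem_map_of_mem π hu⟩))) hone
  exact this

end CfsgLib.LocalStructure.JFive
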