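import Cfsg.Agent.Lib.Coprime.Component
import Cfsg.Agent.Lib.Coprime.Core
import Cfsg.Agent.Lib.PGroup.QBaer
import Cfsg.Agent.S3012
import Cfsg.Prelude.Def_SubgroupEmbedding

/-!
# The minimal counterexample to the Sidki pair statement
-/

set_option autoImplicit false
set_option linter.style.haveILetI false

open Subgroup
open scoped commutatorElement

namespace CfsgLib.SidkiMinimal

universe u

variable {G : Type u} [Group G] [Finite G]

omit [Finite G] in
/-- An element commuting with an odd power of two commutes with the element. -/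
theorem commute_of_sq {w x : G} (hx : Odd (orderOf x)) (h : Commute w (x * x)) : Commute w x := by
  obtain ⟨k, hk⟩ := hx
  have h1 := h.pow_right (k + 1)
  rwa [← pow_two, ← pow_mul, show 2 * (k + 1) = orderOf x + 1 by omega, pow_succ, pow_orderOf_eq_one,
    one_mul] at h1

omit [Finite G] in
theorem eq_one_of_inv {x : G} (hx : Odd (orderOf x)) (h : x⁻¹ = x) : x = 1 := by
  have h2 : x ^ 2 = 1 := by rw [pow_two]; nth_rewrite 1 [← h]; exact inv_mul_cancel x
  rw [← orderOf_eq_one_iff]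
  rcases (Nat.dvd_prime Nat.prime_two).1 (orderOf_dvd_of_pow_eq_one h2) with e | e
  · exact e
  · rw [e] at hx; exact absurd hx (by decide)

omit [Finite G] in
theorem orderOf_mul_odd {h x : G} (hc : Commute h x) (hh : Odd (orderOf h)) (hx : Odd (orderOf x)) :
    Odd (orderOf (h * x)) :=
  (hh.mul hx).of_dvd_nat hc.orderOf_mul_dvd_mul_orderOf

omit [Finite G] in
/-- Two commuting inverted elements give one inverted element without fixed points. -/
theorem not_sidki {V : Subgroup G} (hab : ∀ a ∈ V, ∀ b ∈ V, a * b = b * a) {v h l x : G}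
    (hv : v ∈ V) (hl : l ∈ V) (hho : Odd (orderOf h)) (hxo : Odd (orderOf x)) (hhx : Commute h x)
    (hvh : v * h * v⁻¹ = h⁻¹) (hvx : Commute v x) (hlh : Commute l h) (hlx : l * x * l⁻¹ = x⁻¹)
    (hL : ∀ w ∈ V, Commute w h → Commute w x → w = 1) : ¬ Cfsg.IsSidkiPair V := by
  intro hS
  have hinv : v * l * (h * x) * (v * l)⁻¹ = (h * x)⁻¹ := by
    calc v * l * (h * x) * (v * l)⁻¹ = v * ((l * h * l⁻¹) * (l * x * l⁻¹)) * v⁻¹ := by group
      _ = (v * h * v⁻¹) * (v * x * v⁻¹)⁻¹ := by rw [hlh.eq, mul_inv_cancel_right, hlx]; group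
      _ = h⁻¹ * x⁻¹ := by rw [hvh, hvx.eq, mul_inv_cancel_right]
      _ = (h * x)⁻¹ := by rw [hhx.eq, mul_inv_rev]
  obtain ⟨w, hw, hw1, hwc⟩ := hS (h * x) (v * l) (mul_mem hv hl) (orderOf_mul_odd hhx hho hxo) hinv
  have h1 : Commute w (h⁻¹ * x) := by
    have h2 : Commute (v * w * v⁻¹) (v * (h * x) * v⁻¹) :=
      (show Commute w (h * x) from hwc).map (MulAut.conj v).toMonoidHom
    rw [show v * (h * x) * v⁻¹ = (v * h * v⁻¹) * (v * x * v⁻¹) by group, hvh, hvx.eq,
      mul_inv_cancel_right, hab v hv w hw, mul_inv_cancel_right] at h2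
    exact h2
  have h3 : Commute w x := by
    refine commute_of_sq hxo ?_
    have := (show Commute w (h * x) from hwc).mul_right h1
    rwa [show h * x * (h⁻¹ * x) = x * x by
      rw [hhx.eq, mul_assoc, ← mul_assoc h, mul_inv_cancel, one_mul]] at this
  have h4 : Commute w h := by
    have := (show Commute w (h * x) from hwc).mul_right h3.inv_right
    rwa [mul_inv_cancel_right] at this
  exact hw1 (hL w hw h4 h3)

omit [Finite G] in
theorem odd_of_mem {A : Subgroup G} (hodd : Odd (Nat.card A)) {a : G} (ha : a ∈ A) :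
    Odd (orderOf a) :=
  hodd.of_dvd_nat (Subgroup.orderOf_dvd_natCard A ha)

/-- A faithful elementary abelian two-group on an odd abelian group has an element inverting an
element without fixed points. -/
theorem exists_inverted : ∀ (n : ℕ) (V A : Subgroup G), Nat.card A = n →
    (∀ a ∈ V, ∀ b ∈ V, a * b = b * a) → (∀ a ∈ V, a ^ 2 = 1) → Odd (Nat.card A) →
    (∀ a ∈ A, ∀ b ∈ A, a * b = b * a) → (∀ v ∈ V, ∀ a ∈ A, v * a * v⁻¹ ∈ A) → V ≠ ⊥ →
    (∀ v ∈ V, (∀ a ∈ A, Commute v a) → v = 1) →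
    ∃ v ∈ V, ∃ x ∈ A, v * x * v⁻¹ = x⁻¹ ∧ ∀ w ∈ V, Commute w x → w = 1 := by
  intro n
  induction n using Nat.strong_induction_on with
  | _ n ih =>
  intro V A hn hab hsq hodd hA hnorm hV1 hfaith
  have hinv : ∀ v ∈ V, v⁻¹ = v := fun v hv =>
    inv_eq_of_mul_eq_one_right (by rw [← pow_two]; exact hsq v hv)
  have hvv : ∀ v ∈ V, ∀ a, v * (v * a * v⁻¹) * v⁻¹ = a := fun v hv a => by
    calc v * (v * a * v⁻¹) * v⁻¹ = v ^ 2 * a * (v ^ 2)⁻¹ := by rw [pow_two]; group
      _ = a := by rw [hsq v hv]; group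
  obtain ⟨v₀, hv₀, hv₀1⟩ := (bot_or_exists_ne_one V).resolve_left hV1
  by_cases hbig : ∀ v ∈ V, v ≠ 1 → ∀ a ∈ A, Commute v a → a = 1
  · -- every element inverts
    have hall : ∀ v ∈ V, v ≠ 1 → ∀ a ∈ A, v * a * v⁻¹ = a⁻¹ := fun v hv hv1 a ha => by
      refine (inv_eq_of_mul_eq_one_right (hbig v hv hv1 _ (mul_mem ha (hnorm v hv a ha)) ?_)).symm
      refine mul_inv_eq_iff_eq_mul.1 ?_
      calc v * (a * (v * a * v⁻¹)) * v⁻¹ = (v * a * v⁻¹) * (v * (v * a * v⁻¹) * v⁻¹) := by group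
        _ = (v * a * v⁻¹) * a := by rw [hvv v hv]
        _ = a * (v * a * v⁻¹) := hA _ (hnorm v hv a ha) a ha
    have honly : ∀ w ∈ V, w ≠ 1 → w = v₀ := fun w hw hw1 => by
      have h1 : v₀ * w = 1 := hfaith _ (mul_mem hv₀ hw) fun a ha => by
        refine mul_inv_eq_iff_eq_mul.1 ?_
        calc v₀ * w * a * (v₀ * w)⁻¹ = v₀ * (w * a * w⁻¹) * v₀⁻¹ := by group
          _ = a := by rw [hall w hw hw1 a ha, hall v₀ hv₀ hv₀1 _ (inv_mem ha), inv_inv]
      rw [← inv_eq_of_mul_eq_one_right h1, hinv v₀ hv₀]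
    obtain ⟨x, hx, hx1⟩ : ∃ x ∈ A, x ≠ 1 := by
      by_contra! h
      exact hv₀1 (hfaith v₀ hv₀ fun a ha => by rw [h a ha]; exact Commute.one_right _)
    refine ⟨v₀, hv₀, x, hx, hall v₀ hv₀ hv₀1 x hx, fun w hw hc => ?_⟩
    by_contra hw1
    obtain rfl := honly w hw hw1
    exact hx1 (eq_one_of_inv (odd_of_mem hodd hx) (by
      rw [← hall w hw hw1 x hx, hc.eq, mul_inv_cancel_right]))
  push Not at hbig
  obtain ⟨v, hv, hv1, y₀, hy₀, hy₀c, hy₀1⟩ := hbig
  -- the parts inverted and fixed by `v`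
  let X : Subgroup G :=
    { carrier := {a | a ∈ A ∧ v * a * v⁻¹ = a⁻¹}
      one_mem' := ⟨one_mem _, by simp⟩
      mul_mem' := fun {a b} ha hb => ⟨mul_mem ha.1 hb.1, by
        rw [show v * (a * b) * v⁻¹ = (v * a * v⁻¹) * (v * b * v⁻¹) by group, ha.2, hb.2,
          hA _ (inv_mem ha.1) _ (inv_mem hb.1), mul_inv_rev]⟩
      inv_mem' := fun {a} ha => ⟨inv_mem ha.1, by
        rw [show v * a⁻¹ * v⁻¹ = (v * a * v⁻¹)⁻¹ by group, ha.2]⟩ }
  set Y : Subgroup G := A ⊓ centralizer ({v} : Set G)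
  have hY : ∀ a, a ∈ Y ↔ a ∈ A ∧ Commute v a := fun a => by
    rw [mem_inf, mem_centralizer_singleton_iff]
    exact ⟨fun h => ⟨h.1, h.2.symm⟩, fun h => ⟨h.1, h.2.symm⟩⟩
  have hXA : X ≤ A := fun a ha => ha.1
  have hYA : Y ≤ A := inf_le_left
  have hXY : ∀ a ∈ X, a ∈ Y → a = 1 := fun a ha ha' =>
    eq_one_of_inv (odd_of_mem hodd ha.1) (by
      rw [← ha.2, ((hY a).1 ha').2.eq, mul_inv_cancel_right])
  have hdec : ∀ a ∈ A, ∃ s ∈ X, ∃ t ∈ Y, a * a = s * t := fun a ha => by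
    have hb := hnorm v hv a ha
    refine ⟨a * (v * a * v⁻¹)⁻¹, ⟨mul_mem ha (inv_mem hb), ?_⟩, a * (v * a * v⁻¹),
      (hY _).2 ⟨mul_mem ha hb, ?_⟩, ?_⟩
    · rw [show v * (a * (v * a * v⁻¹)⁻¹) * v⁻¹ = (v * a * v⁻¹) * (v * (v * a * v⁻¹) * v⁻¹)⁻¹ by group,
        hvv v hv, mul_inv_rev, inv_inv]
    · refine mul_inv_eq_iff_eq_mul.1 ?_
      calc v * (a * (v * a * v⁻¹)) * v⁻¹ = (v * a * v⁻¹) * (v * (v * a * v⁻¹) * v⁻¹) := by group
        _ = (v * a * v⁻¹) * a := by rw [hvv v hv]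
        _ = a * (v * a * v⁻¹) := hA _ hb a ha
    · have hc : Commute a (v * a * v⁻¹)⁻¹ := (show Commute a _ from hA a ha _ hb).inv_right
      rw [mul_assoc, ← mul_assoc _ a, ← hc.eq, mul_assoc a, inv_mul_cancel, mul_one]
  have hfaith' : ∀ w ∈ V, (∀ a ∈ X, Commute w a) → (∀ a ∈ Y, Commute w a) → w = 1 := by
    intro w hw h1 h2
    refine hfaith w hw fun a ha => ?_
    obtain ⟨s, hs, t, ht, e⟩ := hdec a ha
    exact commute_of_sq (odd_of_mem hodd ha) (e ▸ (h1 s hs).mul_right (h2 t ht))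
  have hXn : ∀ w ∈ V, ∀ a ∈ X, w * a * w⁻¹ ∈ X := fun w hw a ha => ⟨hnorm w hw a ha.1, by
    calc v * (w * a * w⁻¹) * v⁻¹ = (v * w) * a * (v * w)⁻¹ := by group
      _ = (w * v) * a * (w * v)⁻¹ := by rw [hab v hv w hw]
      _ = w * (v * a * v⁻¹) * w⁻¹ := by group
      _ = (w * a * w⁻¹)⁻¹ := by rw [ha.2]; group⟩
  have hYn : ∀ w ∈ V, ∀ a ∈ Y, w * a * w⁻¹ ∈ Y := fun w hw a ha => (hY _).2 ⟨hnorm w hw a ((hY a).1 ha).1, by
    refine mul_inv_eq_iff_eq_mul.1 ?_
    calc v * (w * a * w⁻¹) * v⁻¹ = (v * w) * a * (v * w)⁻¹ := by group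
      _ = (w * v) * a * (w * v)⁻¹ := by rw [hab v hv w hw]
      _ = w * (v * a * v⁻¹) * w⁻¹ := by group
      _ = w * a * w⁻¹ := by rw [((hY a).1 ha).2.eq, mul_inv_cancel_right]⟩
  have hlt : ∀ B : Subgroup G, B ≤ A → B ≠ A → Nat.card B < n := fun B hB hne => by
    rw [← hn]
    exact lt_of_le_of_ne (card_le_of_le hB) fun e => hne (eq_of_le_of_card_ge hB e.ge)
  have hXlt : Nat.card X < n := hlt X hXA fun e =>
    hy₀1 (hXY y₀ (e ▸ hy₀) ((hY y₀).2 ⟨hy₀, hy₀c⟩))
  have hYlt : Nat.card Y < n := hlt Y hYA fun e =>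
    hv1 (hfaith v hv fun a ha => ((hY a).1 (e ▸ ha)).2)
  have hoX : Odd (Nat.card X) := hodd.of_dvd_nat (card_dvd_of_le hXA)
  have hoY : Odd (Nat.card Y) := hodd.of_dvd_nat (card_dvd_of_le hYA)
  set K := V ⊓ centralizer (X : Set G) with hK
  have hKX : ∀ w ∈ K, ∀ a ∈ X, Commute w a := fun w hw a ha =>
    (mem_centralizer_iff.1 hw.2 a ha).symm
  by_cases hKb : K = ⊥
  · obtain ⟨l, hl, x, hx, hlx, hfix⟩ := ih _ hXlt V X rfl hab hsq hoX
      (fun a ha b hb => hA a (hXA ha) b (hXA hb)) hXn hV1 fun w hw h => by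
        have : w ∈ K := mem_inf.2 ⟨hw, mem_centralizer_iff.2 fun a ha => (h a ha).eq.symm⟩
        rwa [hKb, mem_bot] at this
    exact ⟨l, hl, x, hXA hx, hlx, hfix⟩
  obtain ⟨k, hk, y, hy, hky, hkfix⟩ := ih _ hYlt K Y rfl (fun a ha b hb => hab a ha.1 b hb.1)
    (fun a ha => hsq a ha.1) hoY (fun a ha b hb => hA a (hYA ha) b (hYA hb))
    (fun w hw => hYn w hw.1) hKb (fun w hw h => hfaith' w hw.1 (hKX w hw) h)
  set L := V ⊓ centralizer ({y} : Set G) with hL
  by_cases hLb : L = ⊥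
  · exact ⟨k, hk.1, y, hYA hy, hky, fun w hw hc => by
      have : w ∈ L := mem_inf.2 ⟨hw, mem_centralizer_singleton_iff.2 hc⟩
      rwa [hLb, mem_bot] at this⟩
  obtain ⟨l, hl, x, hx, hlx, hlfix⟩ := ih _ hXlt L X rfl (fun a ha b hb => hab a ha.1 b hb.1)
    (fun a ha => hsq a ha.1) hoX (fun a ha b hb => hA a (hXA ha) b (hXA hb))
    (fun w hw => hXn w hw.1) hLb (fun w hw h => hkfix w
      (mem_inf.2 ⟨hw.1, mem_centralizer_iff.2 fun a ha => (h a ha).eq.symm⟩)
      (mem_centralizer_singleton_iff.1 hw.2))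
  have hly : l * y * l⁻¹ = y := by rw [mem_centralizer_singleton_iff.1 hl.2, mul_inv_cancel_right]
  refine ⟨k * l, mul_mem hk.1 hl.1, y * x, mul_mem (hYA hy) (hXA hx), ?_, fun w hw hc => ?_⟩
  · calc k * l * (y * x) * (k * l)⁻¹ = k * ((l * y * l⁻¹) * (l * x * l⁻¹)) * k⁻¹ := by group
      _ = (k * y * k⁻¹) * (k * x * k⁻¹)⁻¹ := by rw [hly, hlx]; group
      _ = y⁻¹ * x⁻¹ := by rw [hky, (hKX k hk x hx).eq, mul_inv_cancel_right]
      _ = (y * x)⁻¹ := by rw [hA _ (hYA hy) _ (hXA hx), mul_inv_rev]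
  · have h1 : (w * y * w⁻¹) * (w * x * w⁻¹) = y * x := by
      rw [show (w * y * w⁻¹) * (w * x * w⁻¹) = w * (y * x) * w⁻¹ by group, hc.eq, mul_inv_cancel_right]
    have h2 : y⁻¹ * (w * y * w⁻¹) = x * (w * x * w⁻¹)⁻¹ := by
      rw [inv_mul_eq_iff_eq_mul, ← mul_assoc, eq_mul_inv_iff_mul_eq, h1]
    have h3 : y⁻¹ * (w * y * w⁻¹) = 1 :=
      hXY _ (h2 ▸ mul_mem hx (inv_mem (hXn w hw x hx))) (mul_mem (inv_mem hy) (hYn w hw y hy))
    have hwy : Commute w y := mul_inv_eq_iff_eq_mul.1 (inv_mul_eq_one.1 h3).symm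
    refine hlfix w (mem_inf.2 ⟨hw, mem_centralizer_singleton_iff.2 hwy⟩) ?_
    rw [h3, eq_comm, mul_inv_eq_one] at h2
    exact mul_inv_eq_iff_eq_mul.1 h2.symm

/-- In a minimal counterexample the generalized Fitting subgroup is simple and, together with
`V`, generates. -/
theorem minimal_counterexample (V : Subgroup G) (hV : Cfsg.IsElementaryAbelian 2 V) (hV1 : V ≠ ⊥)
    (hS : Cfsg.IsSidkiPair V) (hVO : V ⊓ Cfsg.pCore 2 G = ⊥)
    (hminG : ∀ (H : Type u) [Group H] [Finite H] (W : Subgroup H), Nat.card H < Nat.card G →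
      Cfsg.IsElementaryAbelian 2 W → W ≠ ⊥ → Cfsg.IsSidkiPair W → W ⊓ Cfsg.pCore 2 H ≠ ⊥) :
    IsSimpleGroup ↥(Cfsg.generalizedFittingSubgroup G) ∧
      ¬ IsMulCommutative ↥(Cfsg.generalizedFittingSubgroup G) ∧
      V ⊔ Cfsg.generalizedFittingSubgroup G = ⊤ := by
  haveI : Fact (Nat.Prime 2) := ⟨Nat.prime_two⟩
  have hab : ∀ a ∈ V, ∀ b ∈ V, a * b = b * a := fun a ha b hb =>
    congrArg Subtype.val (hV.1.is_comm.comm (⟨a, ha⟩ : V) ⟨b, hb⟩)
  -- the two-core is trivial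
  have hO : Cfsg.pCore 2 G = ⊥ := by
    by_contra hne
    haveI := CfsgLib.Coprime.pCore_normal' (G := G) 2
    have hlt : Nat.card (G ⧸ Cfsg.pCore 2 G) < Nat.card G := by
      rw [← index_eq_card]
      refine lt_of_lt_of_eq ?_ (Cfsg.pCore 2 G).card_mul_index
      refine lt_mul_of_one_lt_left (Nat.pos_of_ne_zero index_ne_zero_of_finite) ?_
      exact (one_lt_card_iff_ne_bot _).2 hne
    refine hminG _ (V.map (QuotientGroup.mk' (Cfsg.pCore 2 G))) hlt ⟨⟨⟨?_⟩⟩, ?_⟩ ?_ ?_ ?_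
    · rintro ⟨_, a, ha, rfl⟩ ⟨_, b, hb, rfl⟩
      refine Subtype.ext ?_
      show _ * _ = _ * _
      rw [← map_mul, ← map_mul, hab a ha b hb]
    · rintro _ ⟨a, ha, rfl⟩
      rw [← map_pow, hV.2 a ha, map_one]
    · rw [Ne, Subgroup.map_eq_bot_iff, QuotientGroup.ker_mk']
      intro hle
      rw [inf_eq_left.2 hle] at hVO
      exact hV1 hVO
    · exact Cfsg.Agent.S3012.result V (Cfsg.pCore 2 G) hV hV1 hS hVO
    · rw [CfsgLib.Coprime.pCore_quotient_eq_bot, inf_bot_eq]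
  -- witnesses inside proper subgroups
  have hwit : ∀ (H W : Subgroup G), H ≠ ⊤ → W ≤ H → W ≤ V → W ≠ ⊥ →
      (∀ w : H, (w : G) ∈ W → w ∈ Cfsg.pCore 2 H → w = 1) →
      ∃ v ∈ W, ∃ h ∈ H, Odd (orderOf h) ∧ v * h * v⁻¹ = h⁻¹ ∧ ∀ w ∈ W, Commute w h → w = 1 := by
    intro H W hH hWH hWV hW1 hcore
    by_contra hcon
    push Not at hcon
    refine hminG H (W.subgroupOf H) ?_ ⟨⟨⟨fun a b => Subtype.ext (Subtype.ext ?_)⟩⟩, ?_⟩ ?_ ?_ ?_
    · exact lt_of_le_of_ne (Nat.le_of_dvd Nat.card_pos (card_subgroup_dvd_card H)) fun e =>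
        hH ((card_eq_iff_eq_top H).1 e)
    · exact hab _ (hWV (mem_subgroupOf.1 a.2)) _ (hWV (mem_subgroupOf.1 b.2))
    · exact fun a ha => Subtype.ext (hV.2 _ (hWV (mem_subgroupOf.1 ha)))
    · rw [Ne, subgroupOf_eq_bot, disjoint_iff, inf_eq_left.2 hWH]
      exact hW1
    · intro h v hv ho hinv
      obtain ⟨w, hw, hwc, hw1⟩ := hcon (v : G) (mem_subgroupOf.1 hv) (h : G) h.2
        (by rwa [Subgroup.orderOf_coe]) (congrArg Subtype.val hinv)
      exact ⟨⟨w, hWH hw⟩, mem_subgroupOf.2 hw, fun e => hw1 (congrArg Subtype.val e),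
        Subtype.ext hwc⟩
    · exact (eq_bot_iff_forall _).2 fun w hw => hcore w (mem_subgroupOf.1 hw.1) hw.2
  -- two-cores of subgroups over a normal subgroup centralize it
  have hcent : ∀ (N H : Subgroup G) [N.Normal], N ≤ H → ∀ w : H, w ∈ Cfsg.pCore 2 H →
      (w : G) ∈ centralizer (N : Set G) := by
    intro N H hN hNH w hw
    haveI := CfsgLib.Coprime.pCore_normal' (G := H) 2
    set Q := (Cfsg.pCore 2 H).map H.subtype
    have hsub : (Q ⊓ N).IsSubnormal := by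
      refine IsSubnormal.step _ N inf_le_right hN.isSubnormal ⟨fun a ha g => mem_subgroupOf.2 ⟨?_, ?_⟩⟩
      · obtain ⟨⟨b, hb, hbe⟩, -⟩ := mem_subgroupOf.1 ha
        refine ⟨⟨g, hNH g.2⟩ * b * ⟨g, hNH g.2⟩⁻¹, Normal.conj_mem ‹_› b hb _, ?_⟩
        simp [← hbe]
      · exact (g * a * g⁻¹).2
    have hbot : Q ⊓ N = ⊥ := le_bot_iff.1 ((CfsgLib.Coprime.le_pCore_of_isSubnormal hsub
      (((CfsgLib.Coprime.pCore_isPGroup 2).map _).to_le inf_le_left)).trans hO.le)
    refine mem_centralizer_iff.2 fun a ha => ?_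
    have h1 : a * (w : G) * a⁻¹ * (w : G)⁻¹ ∈ Q ⊓ N := by
      refine mem_inf.2 ⟨⟨⟨a, hNH ha⟩ * w * ⟨a, hNH ha⟩⁻¹ * w⁻¹,
        mul_mem (Normal.conj_mem ‹_› w hw _) (inv_mem hw), by simp⟩, ?_⟩
      rw [show a * (w : G) * a⁻¹ * (w : G)⁻¹ = a * ((w : G) * a⁻¹ * (w : G)⁻¹) by group]
      exact mul_mem ha (hN.conj_mem _ (inv_mem ha) _)
    rw [hbot, mem_bot, mul_inv_eq_one] at h1
    exact mul_inv_eq_iff_eq_mul.1 h1
  -- splitting along a normal subgroup
  have hsplit : ∀ (N : Subgroup G) [N.Normal], centralizer (N : Set G) ≠ ⊤ →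
      (∀ L : Subgroup G, L ≤ V → L ≠ ⊥ → (∀ l ∈ L, l ∈ centralizer (N : Set G) → l = 1) →
        ∃ l ∈ L, ∃ x ∈ N, Odd (orderOf x) ∧ l * x * l⁻¹ = x⁻¹ ∧ ∀ w ∈ L, Commute w x → w = 1) →
      False := by
    intro N hN hC hw
    set C := centralizer (N : Set G)
    have hCO : Cfsg.pCore 2 C = ⊥ := by
      rw [← Subgroup.map_eq_bot_iff_of_injective _ C.subtype_injective,
        CfsgLib.Coprime.pCore_map_subtype_eq, hO, bot_inf_eq]
    by_cases hW1 : V ⊓ C = ⊥
    · obtain ⟨l, hl, x, hx, ho, hlx, hfix⟩ := hw V le_rfl hV1 fun l hl hlC => by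
        have : l ∈ V ⊓ C := ⟨hl, hlC⟩
        rwa [hW1, mem_bot] at this
      obtain ⟨w, hw', hw1, hwc⟩ := hS x l hl ho hlx
      exact hw1 (hfix w hw' hwc)
    obtain ⟨v, hv, h, hh, hho, hvh, hvfix⟩ := hwit C (V ⊓ C) hC inf_le_right inf_le_left hW1
      fun w _ hw => by rwa [hCO, mem_bot] at hw
    set L := V ⊓ centralizer ({h} : Set G)
    have hL1 : L ≠ ⊥ := fun e => by
      obtain ⟨w, hw', hw1, hwc⟩ := hS h v hv.1 hho hvh
      have : w ∈ L := ⟨hw', mem_centralizer_singleton_iff.2 hwc⟩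
      rw [e, mem_bot] at this
      exact hw1 this
    obtain ⟨l, hl, x, hx, hxo, hlx, hfix⟩ := hw L inf_le_left hL1 fun l hl hlC =>
      hvfix l ⟨hl.1, hlC⟩ (mem_centralizer_singleton_iff.1 hl.2)
    exact not_sidki hab hv.1 hl.1 hho hxo (mem_centralizer_iff.1 hh x hx).symm hvh
      (mem_centralizer_iff.1 hv.2 x hx).symm (mem_centralizer_singleton_iff.1 hl.2) hlx
      (fun w hw h1 h2 => hfix w ⟨hw, mem_centralizer_singleton_iff.2 h1⟩ h2) hS
  -- the Fitting subgroup is trivial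
  have hF : Cfsg.fittingSubgroup G = ⊥ := by
    by_contra hne
    obtain ⟨q, hq⟩ : ∃ q : Nat.Primes, Cfsg.pCore (q : ℕ) G ≠ ⊥ := by
      by_contra! h
      exact hne (by rw [CfsgLib.Coprime.fitting_eq_iSup_pCore]; simp [h])
    haveI : Fact (q : ℕ).Prime := ⟨q.2⟩
    have hq2 : (q : ℕ) ≠ 2 := fun e => hq (by rw [e]; exact hO)
    haveI := CfsgLib.Coprime.pCore_normal' (G := G) (q : ℕ)
    set Q := Cfsg.pCore (q : ℕ) G
    set N := (center Q).map Q.subtype with hN
    haveI : N.Normal := CfsgLib.Coprime.map_subtype_normal_of_characteristic Q (center Q)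
    have hQp : IsPGroup (q : ℕ) Q := CfsgLib.Coprime.pCore_isPGroup _
    have hN1 : N ≠ ⊥ := by
      rw [hN, Ne, Subgroup.map_eq_bot_iff_of_injective _ Q.subtype_injective]
      haveI : Nontrivial Q := (nontrivial_iff_ne_bot Q).2 hq
      exact hQp.center_nontrivial |> (nontrivial_iff_ne_bot _).1
    have hNodd : Odd (Nat.card N) := by
      obtain ⟨k, hk⟩ := IsPGroup.iff_card.1 (hQp.to_le (map_subtype_le (center Q)))
      rw [hk]
      exact ((q.2.eq_two_or_odd').resolve_left hq2).pow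
    have hNab : ∀ a ∈ N, ∀ b ∈ N, a * b = b * a := by
      rintro _ ⟨a, ha, rfl⟩ _ ⟨b, hb, rfl⟩
      exact congrArg Subtype.val (mem_center_iff.1 hb a)
    by_cases hC : centralizer (N : Set G) = ⊤
    · have hlt : Nat.card (G ⧸ N) < Nat.card G := by
        rw [← index_eq_card]
        refine lt_of_lt_of_eq ?_ N.card_mul_index
        exact lt_mul_of_one_lt_left (Nat.pos_of_ne_zero index_ne_zero_of_finite)
          ((one_lt_card_iff_ne_bot _).2 hN1)
      have hVN : V ⊓ N = ⊥ := (eq_bot_iff_forall _).2 fun w hw => by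
        refine eq_one_of_inv (odd_of_mem hNodd hw.2) (inv_eq_of_mul_eq_one_right ?_)
        rw [← pow_two]; exact hV.2 w hw.1
      refine hminG _ (V.map (QuotientGroup.mk' N)) hlt ⟨⟨⟨?_⟩⟩, ?_⟩ ?_
        (Cfsg.Agent.S3012.result V N hV hV1 hS hVN) ?_
      · rintro ⟨_, a, ha, rfl⟩ ⟨_, b, hb, rfl⟩
        refine Subtype.ext ?_
        show _ * _ = _ * _
        rw [← map_mul, ← map_mul, hab a ha b hb]
      · rintro _ ⟨a, ha, rfl⟩
        rw [← map_pow, hV.2 a ha, map_one]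
      · rw [Ne, Subgroup.map_eq_bot_iff, QuotientGroup.ker_mk']
        intro hle
        rw [inf_eq_left.2 hle] at hVN
        exact hV1 hVN
      haveI := CfsgLib.Coprime.pCore_normal' (G := G ⧸ N) 2
      set P := Cfsg.pCore 2 (G ⧸ N)
      set D := P.comap (QuotientGroup.mk' N)
      have hD : Group.IsNilpotent D := by
        let f : D →* P := ((QuotientGroup.mk' N).comp D.subtype).codRestrict P fun d => d.2
        haveI : Group.IsNilpotent f.range :=
          ((CfsgLib.Coprime.pCore_isPGroup 2).to_subgroup f.range).isNilpotent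
        refine Subgroup.isNilpotent_of_ker_le_center f.rangeRestrict ?_
        intro d hd
        have hdN : (d : G) ∈ N := (QuotientGroup.eq_one_iff _).1
          (congrArg (fun z : f.range => ((z : P) : G ⧸ N)) (MonoidHom.mem_ker.1 hd))
        exact mem_center_iff.2 fun e => Subtype.ext
          (mem_centralizer_iff.1 (hC.ge (mem_top (e : G))) _ hdN).symm
      refine (eq_bot_iff_forall _).2 ?_
      rintro _ ⟨⟨w, hw, rfl⟩, hwP⟩
      have hwF : w ∈ Cfsg.fittingSubgroup G := CfsgLib.Coprime.le_fitting (N := D) hD hwP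
      have : w ∈ Cfsg.pCore 2 G :=
        CfsgLib.PGroup.QBaer.mem_pCore_of_mem_fitting (k := 1) (by rw [pow_one]; exact hV.2 w hw) hwF
      rw [hO, mem_bot] at this
      rw [this, map_one]
    refine hsplit N hC fun L hLV hL1 hfaith => ?_
    obtain ⟨v, hv, x, hx, hvx, hfix⟩ := exists_inverted _ L N rfl
      (fun a ha b hb => hab a (hLV ha) b (hLV hb)) (fun a ha => hV.2 a (hLV ha)) hNodd hNab
      (fun v _ a ha => Normal.conj_mem ‹_› a ha v) hL1
      (fun l hl h => hfaith l hl (mem_centralizer_iff.2 fun a ha => (h a ha).eq.symm))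
    exact ⟨v, hv, x, hx, odd_of_mem hNodd hx, hvx, hfix⟩
  set E := Cfsg.layer G with hE
  haveI := CfsgLib.Coprime.layer_normal (G := G)
  have hFstar : Cfsg.generalizedFittingSubgroup G = E := by
    rw [Cfsg.generalizedFittingSubgroup, hF, sup_bot_eq]
  have hCE : centralizer (E : Set G) = ⊥ := by
    have h1 := CfsgLib.Coprime.centralizer_generalizedFitting_le (G := G)
    rw [hFstar] at h1
    refine le_bot_iff.1 ((le_inf h1 le_rfl).trans
      (le_of_le_of_eq CfsgLib.Coprime.layer_inf_centralizer_layer_le_fitting hF))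
  -- components
  have hnc : ∀ K : Subgroup G, Cfsg.IsComponent K → ¬ K ≤ centralizer (K : Set G) := fun K hK h =>
    CfsgLib.Coprime.not_isSolvable_of_isComponent hK (Group.isSolvable_of_comm fun a b =>
      Subtype.ext (mem_centralizer_iff.1 (h b.2) a a.2))
  have hcomm : ∀ K L : Subgroup G, Cfsg.IsComponent K → Cfsg.IsComponent L → K ≠ L →
      L ≤ centralizer (K : Set G) := fun K L hK hL hne =>
    commutator_eq_bot_iff_le_centralizer.1 (CfsgLib.Coprime.components_commute hL hK (Ne.symm hne))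
  have hZ : ∀ K : Subgroup G, Cfsg.IsComponent K → K ⊓ centralizer (K : Set G) = ⊥ := by
    intro K hK
    have hle : K ⊓ centralizer (K : Set G) ≤ centralizer (E : Set G) := by
      rw [← commutator_eq_bot_iff_le_centralizer, commutator_comm,
        CfsgLib.Coprime.commutator_layer_eq_bot_iff]
      intro L hL
      rw [commutator_comm, commutator_eq_bot_iff_le_centralizer]
      by_cases h : K = L
      · subst h; exact inf_le_right
      · exact inf_le_left.trans (hcomm L K hL hK (Ne.symm h))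
    exact le_bot_iff.1 (hle.trans hCE.le)
  have hEV : V ⊔ E = ⊤ := by
    by_contra hne
    obtain ⟨v, hv, h, -, ho, hinv, hfix⟩ := hwit (V ⊔ E) V hne le_sup_left le_rfl hV1
      fun w _ hw => Subtype.ext (by
        have := hcent E (V ⊔ E) le_sup_right w hw
        rwa [hCE, mem_bot] at this)
    obtain ⟨w, hw, hw1, hwc⟩ := hS h v hv ho hinv
    exact hw1 (hfix w hw hwc)
  obtain ⟨K, hK⟩ : ∃ K : Subgroup G, Cfsg.IsComponent K := by
    by_contra! h
    have hb : E = ⊥ := le_bot_iff.1 (sSup_le fun K hK => absurd hK (h K))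
    rw [hb] at hCE
    refine hV1 (le_bot_iff.1 (le_trans (fun x _ => ?_) hCE.le))
    exact mem_centralizer_iff.2 fun y hy => by
      rw [SetLike.mem_coe, mem_bot] at hy
      rw [hy, one_mul, mul_one]
  have hKE := CfsgLib.Coprime.component_le_layer hK
  let cj : G → Subgroup G := fun v => K.map (MulAut.conj v).toMonoidHom
  have hcjC : ∀ v, Cfsg.IsComponent (cj v) := fun v =>
    CfsgLib.Coprime.isComponent_map_equiv (MulAut.conj v) hK
  have hcj : ∀ v, ∀ z ∈ K, v * z * v⁻¹ ∈ cj v := fun v z hz => ⟨z, hz, rfl⟩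
  set M := ⨆ v : V, cj v with hM
  haveI hMn : M.Normal := by
    refine normalizer_eq_top_iff.1 (top_le_iff.1 (hEV ▸ sup_le ?_ ?_))
    · refine le_normalizer_iff.2 fun g hg z hz => ?_
      have hle : M.map (MulAut.conj g).toMonoidHom ≤ M := by
        rw [hM, Subgroup.map_iSup]
        refine iSup_le fun v => le_trans ?_ (le_iSup (fun v : V => cj v) (⟨g, hg⟩ * v))
        rintro _ ⟨_, ⟨z, hz, rfl⟩, rfl⟩
        exact ⟨z, hz, by simp [mul_assoc]⟩
      exact hle ⟨z, hz, rfl⟩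
    · refine (le_iInf fun v : V => ?_).trans (iInf_normalizer_le_normalizer_iSup _)
      exact CfsgLib.Coprime.layer_le_normalizer_component (hcjC v)
  have hKM : K ≤ M := by
    refine le_trans (le_of_eq ?_) (le_iSup (fun v : V => cj v) 1)
    show K = K.map (MulAut.conj ((1 : V) : G)).toMonoidHom
    rw [OneMemClass.coe_one, map_one]
    exact (Subgroup.map_id K).symm
  by_cases hME : ∀ L : Subgroup G, Cfsg.IsComponent L → ∃ v ∈ V, L = cj v
  swap
  · push Not at hME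
    obtain ⟨L', hL', hL'ne⟩ := hME
    have hL'C : L' ≤ centralizer (M : Set G) := by
      rw [le_centralizer_iff]
      exact iSup_le fun v => hcomm L' (cj v) hL' (hcjC v) (hL'ne v v.2)
    refine absurd (hsplit M ?_ ?_) not_false
    · intro h
      refine hnc K hK fun z hz => mem_centralizer_iff.2 fun y hy => ?_
      exact mem_centralizer_iff.1 (h.ge (mem_top z)) y (hKM hy)
    intro L hLV hL1 hfaith
    have hne : L ⊔ M ≠ ⊤ := by
      intro h
      refine hnc L' hL' ?_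
      have hle : L' ≤ M := by
        rw [← CfsgLib.Coprime.commutator_self_of_isComponent hL', commutator_le]
        intro a _ b _
        obtain ⟨a₁, ha₁, a₂, ha₂, rfl⟩ := mem_sup_of_normal_right.1 (h.ge (mem_top a))
        obtain ⟨b₁, hb₁, b₂, hb₂, rfl⟩ := mem_sup_of_normal_right.1 (h.ge (mem_top b))
        rw [← QuotientGroup.eq_one_iff (N := M), ← QuotientGroup.mk'_apply, map_commutatorElement,
          commutatorElement_eq_one_iff_mul_comm]
        have e : ∀ c ∈ M, QuotientGroup.mk' M c = 1 := fun c hc => (QuotientGroup.eq_one_iff c).2 hc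
        rw [map_mul, map_mul, e a₂ ha₂, e b₂ hb₂, mul_one, mul_one, ← map_mul, ← map_mul,
          hab a₁ (hLV ha₁) b₁ (hLV hb₁)]
      exact hL'C.trans (centralizer_le hle)
    obtain ⟨l, hl, x, hx, hxo, hlx, hfix⟩ := hwit (L ⊔ M) L hne le_sup_left hLV hL1
      fun w hw1 hw => Subtype.ext (hfaith _ hw1 (hcent M (L ⊔ M) le_sup_right w hw))
    obtain ⟨x₁, hx₁, x₂, hx₂, rfl⟩ := mem_sup_of_normal_right.1 hx
    refine ⟨l, hl, x₁ * x₂, ?_, hxo, hlx, hfix⟩
    have h1 : QuotientGroup.mk' M (x₁ * x₂) = 1 := by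
      have e : QuotientGroup.mk' M (x₁ * x₂) = QuotientGroup.mk' M x₁ := by
        rw [map_mul, show QuotientGroup.mk' M x₂ = 1 from (QuotientGroup.eq_one_iff _).2 hx₂, mul_one]
      refine eq_one_of_inv (hxo.of_dvd_nat (orderOf_map_dvd _ _)) (inv_eq_of_mul_eq_one_right ?_)
      rw [e, ← map_mul, ← pow_two, hV.2 x₁ (hLV hx₁), map_one]
    exact (QuotientGroup.eq_one_iff _).1 h1
  -- a single orbit; the stabilizer
  have hKnormal : ∀ v ∈ V, cj v = K := by
    by_contra! hmv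
    obtain ⟨u, huV, hu⟩ := hmv
    set V₀ := V ⊓ normalizer (K : Set G) with hV₀
    have hnorm : ∀ v ∈ V, cj v = K ↔ v ∈ V₀ := fun v hv => by
      rw [hV₀, mem_inf, mem_normalizer_iff_map_conj_eq]
      exact ⟨fun h => ⟨hv, h⟩, fun h => h.2⟩
    have hfaith : ∀ w ∈ V, w ∈ centralizer (K : Set G) → w = 1 := by
      intro w hw hwK
      have : w ∈ centralizer (E : Set G) := by
        refine zpowers_le.1 ?_
        rw [le_centralizer_iff]
        refine sSup_le fun L hL => ?_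
        obtain ⟨v, hv, rfl⟩ := hME L hL
        rintro _ ⟨z, hz, rfl⟩
        rw [mem_centralizer_iff]
        intro y hy
        obtain ⟨i, rfl⟩ := mem_zpowers_iff.1 hy
        refine ((Commute.zpow_left ?_ i)).eq
        have h1 : Commute (v * w * v⁻¹) (v * z * v⁻¹) :=
          ((show Commute w z from (mem_centralizer_iff.1 hwK z hz).symm)).map (MulAut.conj v).toMonoidHom
        rwa [hab v hv w hw, mul_inv_cancel_right] at h1
      rwa [hCE, mem_bot] at this
    have hdis : ∀ v ∈ V, v ∉ V₀ → ∀ z ∈ K, z ∈ cj v → z = 1 := fun v hv hv0 z hz hz' => by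
      have := mem_inf.2 ⟨hz, hcomm K (cj v) hK (hcjC v) (fun e => hv0 ((hnorm v hv).1 e.symm)) hz'⟩
      rwa [hZ K hK, mem_bot] at this
    by_cases hV₀1 : V₀ = ⊥
    · -- a regular orbit
      obtain ⟨q, hq, hqK, hq2⟩ : ∃ q : ℕ, q.Prime ∧ q ∣ Nat.card K ∧ q ≠ 2 := by
        by_contra! h
        refine CfsgLib.Coprime.not_isSolvable_of_isComponent hK ?_
        haveI : Group.IsNilpotent K := (IsPGroup.of_card (p := 2) (n := (Nat.card K).primeFactorsList.length)
          (Nat.eq_prime_pow_of_unique_prime_dvd Nat.card_pos.ne' fun {d} hd hdK => h d hd hdK)).isNilpotent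
        infer_instance
      haveI : Fact q.Prime := ⟨hq⟩
      obtain ⟨h, hh⟩ := exists_prime_orderOf_dvd_card' (G := K) q hqK
      have hho : Odd (orderOf (h : G)) := by
        rw [Subgroup.orderOf_coe, hh]; exact hq.eq_two_or_odd'.resolve_left hq2
      have hh1 : (h : G) ≠ 1 := fun e => hq.ne_one (by
        rw [← hh, ← Subgroup.orderOf_coe, e, orderOf_one])
      have hu0 : u ∉ V₀ := fun h => hu ((hnorm u huV).2 h)
      have hoth : ∀ w ∈ V, w ∉ V₀ → ∀ z ∈ K, Commute (h : G) (w * z * w⁻¹) := fun w hw hw0 z hz =>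
        mem_centralizer_iff.1 (hcomm K (cj w) hK (hcjC w) (fun e => hw0 ((hnorm w hw).1 e.symm))
          (hcj w z hz)) h h.2
      set h' := u * (h : G) * u⁻¹ with hh'
      have hc : Commute (h : G) h' := hoth u huV hu0 h h.2
      have hh'o : Odd (orderOf h'⁻¹) := by
        rw [orderOf_inv, hh']
        rwa [show orderOf (u * (h : G) * u⁻¹) = orderOf (h : G) from (MulAut.conj u).orderOf_eq _]
      have hxinv : u * ((h : G) * h'⁻¹) * u⁻¹ = ((h : G) * h'⁻¹)⁻¹ := by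
        have huu : u * h' * u⁻¹ = (h : G) := by
          calc u * (u * (h : G) * u⁻¹) * u⁻¹ = u ^ 2 * h * (u ^ 2)⁻¹ := by rw [pow_two]; group
            _ = h := by rw [hV.2 u huV]; group
        calc u * ((h : G) * h'⁻¹) * u⁻¹ = h' * (u * h' * u⁻¹)⁻¹ := by rw [hh']; group
          _ = ((h : G) * h'⁻¹)⁻¹ := by rw [huu, mul_inv_rev, inv_inv]
      obtain ⟨w, hw, hw1, hwc⟩ :=
        hS _ u huV (orderOf_mul_odd hc.inv_right hho hh'o) hxinv
      by_cases hwu : w = u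
      · subst hwu
        have hx1 := eq_one_of_inv (orderOf_mul_odd hc.inv_right hho hh'o) (by
          rw [← hxinv, hwc, mul_inv_cancel_right])
        exact hh1 (hdis w huV hu0 h h.2 (by rw [mul_inv_eq_one.1 hx1]; exact hcj w h h.2))
      have hnV₀ : ∀ z ∈ V, z ≠ 1 → z ∉ V₀ := fun z _ hz h => hz (by rwa [hV₀1, mem_bot] at h)
      have hwu' : w * u ≠ 1 := fun e => hwu (by
        rw [eq_inv_of_mul_eq_one_left e]
        exact inv_eq_of_mul_eq_one_right (by rw [← pow_two]; exact hV.2 u huV))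
      -- `h` commutes with all of `K`
      have hx' : ∀ z ∈ K, Commute z ((h : G) * h'⁻¹) := by
        intro z hz
        have e : (h : G) * h'⁻¹ = (w * h * w⁻¹) * ((w * u) * (h : G)⁻¹ * (w * u)⁻¹) := by
          calc (h : G) * h'⁻¹ = w * ((h : G) * h'⁻¹) * w⁻¹ := by rw [hwc, mul_inv_cancel_right]
            _ = _ := by rw [hh']; group
        rw [e]
        refine Commute.mul_right ?_ ?_
        · exact mem_centralizer_iff.1 (hcomm K (cj w) hK (hcjC w)
            (fun e => hnV₀ w hw hw1 ((hnorm w hw).1 e.symm)) (hcj w h h.2)) z hz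
        · exact mem_centralizer_iff.1 (hcomm K (cj (w * u)) hK (hcjC _)
            (fun e => hnV₀ _ (mul_mem hw huV) hwu' ((hnorm _ (mul_mem hw huV)).1 e.symm))
            (hcj _ _ (inv_mem h.2))) z hz
      have hh'' : ∀ z ∈ K, Commute z h' := fun z hz =>
        mem_centralizer_iff.1 (hcomm K (cj u) hK (hcjC u) (fun e => hu0 ((hnorm u huV).1 e.symm))
          (hcj u h h.2)) z hz
      refine hh1 ?_
      have : (h : G) ∈ K ⊓ centralizer (K : Set G) := mem_inf.2 ⟨h.2, mem_centralizer_iff.2 fun z hz => by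
        have := (hx' z hz).mul_right (hh'' z hz)
        rwa [inv_mul_cancel_right] at this⟩
      rwa [hZ K hK, mem_bot] at this
    · have hH : V₀ ⊔ K ≠ ⊤ := fun h => hu ((hnorm u huV).2
        ⟨huV, (sup_le inf_le_right le_normalizer : V₀ ⊔ K ≤ normalizer (K : Set G)) (h.ge (mem_top u))⟩)
      haveI hKn : (K.subgroupOf (V₀ ⊔ K)).Normal :=
        (normal_subgroupOf_iff_le_normalizer le_sup_right).2 (sup_le inf_le_right le_normalizer)
      have hcore : ∀ w : ↥(V₀ ⊔ K), (w : G) ∈ V₀ → w ∈ Cfsg.pCore 2 ↥(V₀ ⊔ K) → w = 1 := by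
        intro w hw0 hw
        refine Subtype.ext (hfaith _ hw0.1 (mem_centralizer_iff.2 fun a ha => ?_))
        haveI := CfsgLib.Coprime.pCore_normal' (G := ↥(V₀ ⊔ K)) 2
        let a' : ↥(V₀ ⊔ K) := ⟨a, mem_sup_right ha⟩
        have hK2 : Cfsg.pCore 2 ↥(V₀ ⊔ K) ⊓ K.subgroupOf (V₀ ⊔ K) = ⊥ := by
          have hsub : ((Cfsg.pCore 2 ↥(V₀ ⊔ K) ⊓ K.subgroupOf (V₀ ⊔ K)).map (V₀ ⊔ K).subtype).IsSubnormal := by
            refine IsSubnormal.step _ K ((map_mono inf_le_right).trans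
              (map_subgroupOf_eq_of_le le_sup_right).le) hK.1 ⟨fun c hc g => ?_⟩
            obtain ⟨d, hd, hde⟩ := mem_subgroupOf.1 hc
            refine mem_subgroupOf.2 ⟨⟨g, mem_sup_right g.2⟩ * d * ⟨g, mem_sup_right g.2⟩⁻¹,
              (inferInstance : (Cfsg.pCore 2 ↥(V₀ ⊔ K) ⊓ K.subgroupOf (V₀ ⊔ K)).Normal).conj_mem d hd _, ?_⟩
            simp [← hde]
          refine (Subgroup.map_eq_bot_iff_of_injective _ (V₀ ⊔ K).subtype_injective).1 (le_bot_iff.1 ?_)
          exact (CfsgLib.Coprime.le_pCore_of_isSubnormal hsub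
            (((CfsgLib.Coprime.pCore_isPGroup 2).to_le inf_le_left).map _)).trans hO.le
        have h1 : a' * w * a'⁻¹ * w⁻¹ ∈ Cfsg.pCore 2 ↥(V₀ ⊔ K) ⊓ K.subgroupOf (V₀ ⊔ K) := by
          refine mem_inf.2 ⟨mul_mem (Normal.conj_mem ‹_› w hw _) (inv_mem hw), ?_⟩
          rw [show a' * w * a'⁻¹ * w⁻¹ = a' * (w * a'⁻¹ * w⁻¹) by group]
          exact mul_mem (mem_subgroupOf.2 ha) (hKn.conj_mem _ (inv_mem (mem_subgroupOf.2 ha)) _)
        rw [hK2, mem_bot, mul_inv_eq_one] at h1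
        exact congrArg Subtype.val (mul_inv_eq_iff_eq_mul.1 h1)
      obtain ⟨v, hv, h, hh, ho, hinv, hfix⟩ := hwit _ V₀ hH le_sup_left inf_le_left hV₀1 hcore
      have hhK : h ∈ K := by
        have h1 : QuotientGroup.mk' (K.subgroupOf (V₀ ⊔ K)) ⟨h, hh⟩ = 1 := by
          refine eq_one_of_inv (Odd.of_dvd_nat (by rwa [← Subgroup.orderOf_mk h hh] at ho)
            (orderOf_map_dvd _ _)) (inv_eq_of_mul_eq_one_right ?_)
          obtain ⟨a, ha, b, hb, e⟩ := mem_sup_of_normal_right.1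
            (show (⟨h, hh⟩ : ↥(V₀ ⊔ K)) ∈ V₀.subgroupOf (V₀ ⊔ K) ⊔ K.subgroupOf (V₀ ⊔ K) by
              rw [← subgroupOf_sup le_sup_left le_sup_right]; exact mem_subgroupOf.2 hh)
          rw [← e, map_mul, show QuotientGroup.mk' (K.subgroupOf (V₀ ⊔ K)) b = 1 from
            (QuotientGroup.eq_one_iff _).2 hb, mul_one, ← map_mul,
            show a * a = 1 from Subtype.ext ((pow_two _).symm.trans (hV.2 _ (mem_subgroupOf.1 ha).1)),
            map_one]
        exact mem_subgroupOf.1 ((QuotientGroup.eq_one_iff _).1 h1)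
      obtain ⟨w, hw, hw1, hwc⟩ := hS h v hv.1 ho hinv
      by_cases hw0 : w ∈ V₀
      · exact hw1 (hfix w hw0 hwc)
      have hh1 : h = 1 := hdis w hw hw0 h hhK (by
        have := hcj w h hhK
        rwa [hwc, mul_inv_cancel_right] at this)
      exact hV₀1 ((eq_bot_iff_forall _).2 fun z hz => hfix z hz (hh1 ▸ Commute.one_right z))
  have hEK : E = K := le_antisymm (sSup_le fun L hL => by
    obtain ⟨v, hv, rfl⟩ := hME L hL
    exact (hKnormal v hv).le) hKE
  rw [hFstar, hEK]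
  refine ⟨?_, fun h => hnc K hK fun z hz => mem_centralizer_iff.2 fun y hy =>
    congrArg Subtype.val (h.is_comm.comm (⟨y, hy⟩ : K) ⟨z, hz⟩), by rw [← hEK]; exact hEV⟩
  have hc : center K = ⊥ := (eq_bot_iff_forall _).2 fun z hz => Subtype.ext (by
    have := mem_inf.2 ⟨z.2, mem_centralizer_iff.2 fun y hy =>
      congrArg Subtype.val (mem_center_iff.1 hz (⟨y, hy⟩ : K))⟩
    rwa [hZ K hK, mem_bot] at this)
  haveI := hK.2.2
  exact (((QuotientGroup.quotientMulEquivOfEq hc).trans QuotientGroup.quotientBot)).symm.isSimpleGroup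

end CfsgLib.SidkiMinimal
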