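import Cfsg.Agent.Lib.LocalStructure.Irreducible
import Cfsg.Agent.Lib.LocalStructure.Kieler
import Cfsg.Agent.Lib.LocalStructure.FStar

/-!
# Groups built from a transitive family of normalized subgroups
-/

set_option autoImplicit false
set_option linter.style.haveILetI false
set_option linter.unusedSectionVars false

namespace CfsgLib.LS

open Subgroup
open CfsgLib.Coprime (conjBy conjBy_conjBy conjBy_one conjBy_eq_self_iff conj_mem_conjBy)
open scoped commutatorElement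

variable {G : Type*} [Group G]

theorem le_normalizer_iInf_conj {ι : Sort*} (A : ι → Subgroup G) (g : G) (σ : ι → ι)
    (h : ∀ i, conjBy g (A (σ i)) ≤ A i) {x : G} (hx : x ∈ ⨅ i, A i) :
    g * x * g⁻¹ ∈ ⨅ i, A i :=
  mem_iInf.2 fun i => h i (conj_mem_conjBy (mem_iInf.1 hx (σ i)))

variable [Finite G] {p : ℕ} [Fact p.Prime]

section Family

variable (𝒦 : Set (Subgroup G)) (hne : 𝒦.Nonempty)
  (hinv : ∀ h : G, ∀ E ∈ 𝒦, conjBy h E ∈ 𝒦)
  (htr : ∀ E ∈ 𝒦, ∀ K ∈ 𝒦, ∃ h : G, K = conjBy h E)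
  (hres : Cfsg.pResidual p G ≤ sSup 𝒦)
  (hnorm : ∀ E ∈ 𝒦, sSup 𝒦 ≤ normalizer (E : Set G))

include hinv in
theorem fam_sSup_normal : (sSup 𝒦).Normal := by
  refine normalizer_eq_top_iff.1 (eq_top_iff.2 (le_normalizer_iff.2 fun g _ x hx => ?_))
  have h : sSup 𝒦 ≤ (sSup 𝒦).comap (MulAut.conj g).toMonoidHom :=
    sSup_le fun E hE => map_le_iff_le_comap.1 (le_sSup (a := conjBy g E) (hinv g E hE))
  exact h hx

include hinv hnorm in
theorem fam_subnormal {E : Subgroup G} (hE : E ∈ 𝒦) : E.IsSubnormal := by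
  haveI := fam_sSup_normal 𝒦 hinv
  exact IsSubnormal.step E (sSup 𝒦) (le_sSup hE) (Subgroup.Normal.isSubnormal inferInstance)
    ((normal_subgroupOf_iff_le_normalizer (le_sSup hE)).2 (hnorm E hE))

include hres in
theorem fam_sup_sylow (T : Sylow p G) : sSup 𝒦 ⊔ (T : Subgroup G) = ⊤ :=
  eq_top_iff.2 ((CfsgLib.Fusion.pResidual_sup_sylow T).ge.trans (sup_le_sup_right hres _))

include hne hinv htr hres hnorm in
/-- Unique maximal overgroup of a Sylow subgroup, from the same property in each member. -/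
theorem fam_minimal (T : Sylow p G)
    (hM : ∀ E ∈ 𝒦, ∃ M : Subgroup G, ¬ E ≤ M ∧
      ∀ Y : Subgroup G, Y ≤ E → (T : Subgroup G) ⊓ E ≤ Y → ¬ E ≤ Y → Y ≤ M)
    (hN : ∀ E ∈ 𝒦, ∀ N : Subgroup G, (T : Subgroup G) ⊓ E ≤ N → N ≤ E →
      E ≤ normalizer (N : Set G) → E ≤ N)
    (hnp : ∀ E ∈ 𝒦, ¬ E ≤ (T : Subgroup G)) : Cfsg.IsMinimalOver (T : Subgroup G) := by
  classical
  haveI := fam_sSup_normal 𝒦 hinv
  set K₀ := sSup 𝒦 with hK₀
  have hsup := fam_sup_sylow (p := p) 𝒦 hres T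
  constructor
  · rw [eq_top_iff, ← hsup]
    refine sup_le (sSup_le fun E hE => ?_) Subgroup.le_normalClosure
    refine le_trans (hN E hE (normalClosure ((T : Subgroup G) : Set G) ⊓ E)
      (inf_le_inf_right _ Subgroup.le_normalClosure) inf_le_right (le_normalizer_iff.2 ?_)) inf_le_left
    intro e he x hx
    exact mem_inf.2 ⟨(inferInstance : (normalClosure ((T : Subgroup G) : Set G)).Normal).conj_mem x
      (mem_inf.1 hx).1 e, mul_mem (mul_mem he (mem_inf.1 hx).2) (inv_mem he)⟩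
  let 𝔐 : Subgroup G → Subgroup G := fun E =>
    sSup {Y : Subgroup G | Y ≤ E ∧ (T : Subgroup G) ⊓ E ≤ Y ∧ ¬ E ≤ Y}
  have h𝔐le : ∀ E, 𝔐 E ≤ E := fun E => sSup_le fun Y hY => hY.1
  have h𝔐 : ∀ E ∈ 𝒦, ¬ E ≤ 𝔐 E ∧ (T : Subgroup G) ⊓ E ≤ 𝔐 E := fun E hE => by
    obtain ⟨M, hM1, hM2⟩ := hM E hE
    refine ⟨fun h => hM1 (h.trans (sSup_le fun Y hY => hM2 Y hY.1 hY.2.1 hY.2.2)), ?_⟩
    exact le_sSup (a := (T : Subgroup G) ⊓ E) ⟨inf_le_right, le_rfl, fun h => hnp E hE (h.trans inf_le_left)⟩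
  -- conjugation by elements fixing the Sylow trace
  have hconj : ∀ (g : G) (E : Subgroup G), conjBy g ((T : Subgroup G) ⊓ E) =
      (T : Subgroup G) ⊓ conjBy g E → conjBy g (𝔐 E) ≤ 𝔐 (conjBy g E) := by
    intro g E h
    refine map_le_iff_le_comap.2 (sSup_le fun Y hY => map_le_iff_le_comap.1 ?_)
    refine le_sSup (a := conjBy g Y) ⟨conjBy_mono g hY.1, ?_, fun hle => hY.2.2 ?_⟩
    · rw [← h]; exact conjBy_mono g hY.2.1
    · have := conjBy_mono g⁻¹ hle
      rwa [conjBy_conjBy, conjBy_conjBy, inv_mul_cancel, conjBy_one, conjBy_one] at this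
  have hT : ∀ t ∈ (T : Subgroup G), ∀ E : Subgroup G, conjBy t ((T : Subgroup G) ⊓ E) =
      (T : Subgroup G) ⊓ conjBy t E := fun t ht E => by
    rw [show conjBy t ((T : Subgroup G) ⊓ E) = conjBy t (T : Subgroup G) ⊓ conjBy t E from
      Subgroup.map_inf _ _ _ (MulAut.conj t).injective,
      CfsgLib.Coprime.conjBy_eq_self_of_mem ht]
  set I : Subgroup G := K₀ ⊓ ⨅ E : 𝒦, normalizer (𝔐 (E : Subgroup G) : Set G) with hI
  have hTI : (T : Subgroup G) ≤ normalizer (I : Set G) := by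
    refine le_normalizer_iff.2 fun t ht x hx => mem_inf.2 ⟨(inferInstance : K₀.Normal).conj_mem x
      (mem_inf.1 hx).1 t, ?_⟩
    refine le_normalizer_iInf_conj (fun E : 𝒦 => normalizer (𝔐 (E : Subgroup G) : Set G)) t
      (fun E => ⟨conjBy t⁻¹ E, hinv _ _ E.2⟩) (fun E => ?_) (mem_inf.1 hx).2
    have e : conjBy t (𝔐 (conjBy t⁻¹ E)) = 𝔐 E := by
      refine le_antisymm ?_ ?_
      · have := hconj t _ (hT t ht (conjBy t⁻¹ E))
        rwa [conjBy_conjBy, mul_inv_cancel, conjBy_one] at this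
      · have := conjBy_mono t (hconj t⁻¹ _ (hT t⁻¹ (inv_mem ht) (E : Subgroup G)))
        rwa [conjBy_conjBy, mul_inv_cancel, conjBy_one] at this
    show conjBy t (normalizer (𝔐 (conjBy t⁻¹ E) : Set G)) ≤ _
    rw [normalizer_conjBy, e]
  have hTK : (T : Subgroup G) ⊓ K₀ ≤ I := by
    refine le_inf inf_le_right (le_iInf fun E => le_normalizer_iff.2 fun t ht x hx => ?_)
    have hEt : conjBy t (E : Subgroup G) = E := conjBy_eq_self_iff.2 (hnorm E E.2 (mem_inf.1 ht).2)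
    have := hconj t (E : Subgroup G) (hT t (mem_inf.1 ht).1 (E : Subgroup G))
    rw [hEt] at this
    exact this (conj_mem_conjBy hx)
  set M₀ := I ⊔ (T : Subgroup G) with hM₀
  have hproper : M₀ ≠ ⊤ := by
    intro htop
    obtain ⟨E, hE⟩ := hne
    have hKI : K₀ ≤ I := by
      intro k hk
      obtain ⟨i, hi, t, ht, rfl⟩ := CfsgLib.Coprime.mem_sup_exists hTI
        (show k ∈ I ⊔ (T : Subgroup G) from htop.ge (mem_top k))
      refine mul_mem hi (hTK (mem_inf.2 ⟨ht, ?_⟩))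
      have := mul_mem (inv_mem (mem_inf.1 hi).1) hk
      rwa [inv_mul_cancel_left] at this
    have hn : E ≤ normalizer (𝔐 E : Set G) := (le_sSup hE).trans (hKI.trans
      (inf_le_right.trans (iInf_le (fun E : 𝒦 => normalizer (𝔐 (E : Subgroup G) : Set G)) ⟨E, hE⟩)))
    exact (h𝔐 E hE).1 (hN E hE _ (h𝔐 E hE).2 (h𝔐le E) hn)
  have hbound : ∀ X : Subgroup G, (T : Subgroup G) ≤ X → X ≠ ⊤ → X ≤ M₀ := by
    intro X hTX hX
    have hXE : ∀ E ∈ 𝒦, ¬ E ≤ X := by
      intro E hE hle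
      refine hX (eq_top_iff.2 ?_)
      rw [← hsup]
      refine sup_le (sSup_le fun K hK => ?_) hTX
      obtain ⟨g, rfl⟩ := htr E hE K hK
      obtain ⟨k, hk, t, ht, rfl⟩ := CfsgLib.Coprime.mem_sup_exists
        (show (T : Subgroup G) ≤ normalizer (K₀ : Set G) by rw [normalizer_eq_top]; exact le_top)
        (show g ∈ K₀ ⊔ (T : Subgroup G) from hsup ▸ mem_top g)
      rw [show k * t = t * (t⁻¹ * k * t) by group, ← conjBy_conjBy]
      have hk' : conjBy (t⁻¹ * k * t) E = E := conjBy_eq_self_iff.2 (hnorm E hE (by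
        simpa using (inferInstance : K₀.Normal).conj_mem k hk t⁻¹))
      rw [hk']
      exact (conjBy_mono t hle).trans (CfsgLib.Coprime.conjBy_eq_self_of_mem (hTX ht)).le
    intro x hx
    obtain ⟨k, hk, t, ht, rfl⟩ := CfsgLib.Coprime.mem_sup_exists
      (show (T : Subgroup G) ≤ normalizer (K₀ : Set G) by rw [normalizer_eq_top]; exact le_top)
      (show x ∈ K₀ ⊔ (T : Subgroup G) from hsup ▸ mem_top x)
    refine mul_mem (mem_sup_left (mem_inf.2 ⟨hk, mem_iInf.2 fun E => ?_⟩)) (mem_sup_right ht)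
    have hkX : k ∈ X := by
      have := mul_mem hx (inv_mem (hTX ht))
      rwa [mul_inv_cancel_right] at this
    obtain ⟨E, hE⟩ := E
    show k ∈ normalizer (𝔐 E : Set G)
    -- Frattini argument inside `X ⊓ E`
    obtain ⟨R, hR⟩ := sylow_inf_subnormal T (fam_subnormal 𝒦 hinv hnorm hE)
    set R₁ := (T : Subgroup G) ⊓ E with hR₁
    have hRX : R₁ ≤ X ⊓ E := inf_le_inf_right _ hTX
    have hkR : conjBy k R₁ ≤ X ⊓ E := by
      refine (conjBy_mono k hRX).trans (le_inf ?_ ?_)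
      · exact (conjBy_mono k inf_le_left).trans (CfsgLib.Coprime.conjBy_eq_self_of_mem hkX).le
      · exact (conjBy_mono k inf_le_right).trans (conjBy_eq_self_iff.2 (hnorm E hE hk)).le
    obtain ⟨S₁, hS₁⟩ := ((T.2.to_le inf_le_left : IsPGroup p R₁).comap_subtype :
      IsPGroup p (R₁.subgroupOf (X ⊓ E))).exists_le_sylow
    have hS₁eq : (S₁ : Subgroup ↥(X ⊓ E)).map (X ⊓ E).subtype = R₁ := by
      have h1 : R₁ ≤ (S₁ : Subgroup ↥(X ⊓ E)).map (X ⊓ E).subtype := by
        rw [← map_subgroupOf_eq_of_le hRX]; exact map_mono hS₁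
      have hle : (S₁ : Subgroup ↥(X ⊓ E)).map (X ⊓ E).subtype ≤ E :=
        (map_subtype_le _).trans inf_le_right
      have h2 : ((S₁ : Subgroup ↥(X ⊓ E)).map (X ⊓ E).subtype).subgroupOf E = (R : Subgroup E) :=
        R.is_maximal' (S₁.2.map _).comap_subtype
          (fun r hr => mem_subgroupOf.2 (h1 (by rw [← hR]; exact mem_map_of_mem _ hr)))
      rw [← map_subgroupOf_eq_of_le hle, h2, hR]
    obtain ⟨S₂, hS₂⟩ := (((T.2.to_le inf_le_left : IsPGroup p R₁).map
      (MulAut.conj k).toMonoidHom).comap_subtype :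
      IsPGroup p ((conjBy k R₁).subgroupOf (X ⊓ E))).exists_le_sylow
    obtain ⟨y, hy⟩ := MulAction.exists_smul_eq ↥(X ⊓ E) S₁ S₂
    have hsub : conjBy k R₁ ≤ conjBy (y : G) R₁ := by
      calc conjBy k R₁ = ((conjBy k R₁).subgroupOf (X ⊓ E)).map (X ⊓ E).subtype :=
            (map_subgroupOf_eq_of_le hkR).symm
        _ ≤ (conjBy y (S₁ : Subgroup ↥(X ⊓ E))).map (X ⊓ E).subtype :=
            map_mono (hS₂.trans (le_of_eq (by rw [← hy]; rfl)))
        _ = conjBy (y : G) R₁ := by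
            rw [← hS₁eq]; exact CfsgLib.Coprime.conjBy_map (X ⊓ E).subtype y _
    have hn : conjBy ((y : G)⁻¹ * k) R₁ = R₁ := by
      refine eq_of_le_of_card_ge ?_ ?_
      · rw [← conjBy_conjBy]
        refine (conjBy_mono _ hsub).trans ?_
        rw [conjBy_conjBy, inv_mul_cancel, conjBy_one]
      · exact (Subgroup.card_map_of_injective (MulAut.conj _).injective).ge
    have hnE : conjBy ((y : G)⁻¹ * k) E = E := by
      rw [← conjBy_conjBy, conjBy_eq_self_iff.2 (hnorm E hE hk),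
        CfsgLib.Coprime.conjBy_eq_self_of_mem (inv_mem (mem_inf.1 y.2).2)]
    have h1 : (y : G)⁻¹ * k ∈ normalizer (𝔐 E : Set G) := by
      have h := hconj _ E (by rw [← hR₁, hn, hnE])
      rw [hnE] at h
      exact conjBy_eq_self_iff.1 (eq_of_le_of_card_ge h
        (Subgroup.card_map_of_injective (MulAut.conj _).injective).ge)
    have h2 : (y : G) ∈ normalizer (𝔐 E : Set G) := le_normalizer
      ((le_sSup (s := {Y : Subgroup G | Y ≤ E ∧ R₁ ≤ Y ∧ ¬ E ≤ Y}) (a := X ⊓ E)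
        ⟨inf_le_right, hRX, fun h => hXE E hE (h.trans inf_le_left)⟩ : X ⊓ E ≤ 𝔐 E) y.2)
    have := mul_mem h2 h1
    rwa [mul_inv_cancel_left] at this
  obtain ⟨M, hM', hle⟩ := (eq_top_or_exists_le_coatom M₀).resolve_left hproper
  refine ⟨M, ⟨hM', le_sup_right.trans hle⟩, fun X hX => ?_⟩
  exact ((hX.1.le_iff).1 ((hbound X hX.2 hX.1.1).trans hle)).resolve_left hM'.1 |>.symm

end Family

/-! ### Strongly irreducible members -/

/-- `O^p(E) ≤ E'` for a strongly `p`-irreducible group with trivial `p`-core. -/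
theorem pResidual_le_commutator_of_strongly (hO : Cfsg.pCore p G = ⊥)
    (h : Cfsg.IsStronglyPIrreducible p G) : Cfsg.pResidual p G ≤ commutator G := by
  refine h.2 _ inferInstance fun hle => h.1 ?_
  rw [hO, le_bot_iff] at hle
  have hnil : Group.IsNilpotent G := by
    refine ⟨2, eq_top_iff.2 fun x _ => ?_⟩
    rw [Subgroup.mem_upperCentralSeries_succ_iff]
    intro y
    rw [Subgroup.upperCentralSeries_one]
    refine mem_center_iff.2 fun z => ?_
    exact (mem_centralizer_iff.1 ((commutator_eq_bot_iff_le_centralizer.1 hle)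
      (commutator_mem_commutator (mem_top x) (mem_top y))) z (mem_top z))
  haveI := hnil
  exact fun P => inferInstance

/-- An element commuting modulo central values of order prime to `p` commutes. -/
theorem commute_of_central_values {E : Subgroup G} {n : G}
    (hres : (Cfsg.pResidual p E) ≤ commutator E)
    (hc : ∀ a ∈ E, ∀ b ∈ E, Commute a ⁅b, n⁆ ∧ Commute ⁅a, n⁆ ⁅b, n⁆)
    (hcop : ∀ a ∈ E, (orderOf ⁅a, n⁆).Coprime p) : ∀ a ∈ E, Commute a n := by
  have hmul : ∀ a ∈ E, ∀ b ∈ E, ⁅a * b, n⁆ = ⁅a, n⁆ * ⁅b, n⁆ := fun a ha b hb => by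
    calc ⁅a * b, n⁆ = a * ⁅b, n⁆ * a⁻¹ * ⁅a, n⁆ := by simp only [commutatorElement_def]; group
      _ = ⁅b, n⁆ * ⁅a, n⁆ := by rw [(hc a ha b hb).1.eq, mul_inv_cancel_right]
      _ = ⁅a, n⁆ * ⁅b, n⁆ := ((hc a ha b hb).2).eq.symm
  let φ : E →* G := MonoidHom.mk' (fun a => ⁅(a : G), n⁆) fun a b => hmul _ a.2 _ b.2
  have hker : commutator E ≤ φ.ker := by
    rw [_root_.commutator_def, commutator_le]
    intro a _ b _
    rw [MonoidHom.mem_ker, map_commutatorElement]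
    exact commutatorElement_eq_one_iff_mul_comm.2 (hc _ a.2 _ b.2).2.eq
  intro a ha
  obtain ⟨k, hk⟩ := CfsgLib.Fusion.exists_pow_p_mem_pResidual (p := p) (⟨a, ha⟩ : E)
  have h1 : φ ⟨a, ha⟩ ^ p ^ k = 1 := by
    rw [← map_pow]; exact hker (hres hk)
  have h2 : φ ⟨a, ha⟩ = 1 := orderOf_eq_one_iff.1 (Nat.eq_one_of_dvd_coprimes
    ((hcop a ha).pow_right k) dvd_rfl (orderOf_dvd_of_pow_eq_one h1))
  exact commutatorElement_eq_one_iff_mul_comm.1 h2

/-- A central subgroup of a group with trivial `p`-core has order prime to `p`. -/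
theorem coprime_center (hO : Cfsg.pCore p G = ⊥) : (Nat.card (center G)).Coprime p := by
  open scoped IsMulCommutative in exact coprime_of_nilpotent_normal hO inferInstance

theorem coprime_of_commute_subgroup (hO : Cfsg.pCore p G = ⊥) {E : Subgroup G} (hE : E.IsSubnormal)
    {z : G} (hz : z ∈ E) (hc : ∀ e ∈ E, Commute e z) : (orderOf z).Coprime p := by
  have h := coprime_center (pCore_eq_bot_of_subnormal hO hE)
  rw [show orderOf z = orderOf (⟨z, hz⟩ : E) from (Subgroup.orderOf_coe ⟨z, hz⟩).symm ▸ rfl]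
  exact h.coprime_dvd_left (Subgroup.orderOf_dvd_natCard _
    (mem_center_iff.2 fun e => Subtype.ext (hc e e.2).eq))

section FamilyStrong

variable (𝒦 : Set (Subgroup G)) (hne : 𝒦.Nonempty)
  (hinv : ∀ h : G, ∀ E ∈ 𝒦, conjBy h E ∈ 𝒦)
  (htr : ∀ E ∈ 𝒦, ∀ K ∈ 𝒦, ∃ h : G, K = conjBy h E)
  (hres : Cfsg.pResidual p G ≤ sSup 𝒦)
  (hnorm : ∀ E ∈ 𝒦, sSup 𝒦 ≤ normalizer (E : Set G))
  (hO : Cfsg.pCore p G = ⊥)
  (hstr : ∀ E ∈ 𝒦, Cfsg.IsStronglyPIrreducible p E)

include hinv hnorm hO hstr in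
theorem fam_commute {E : Subgroup G} (hE : E ∈ 𝒦) {X : Subgroup G} (hn : X ≤ normalizer (E : Set G))
    (hEX : E ≤ normalizer (X : Set G))
    (hR : ¬ (Cfsg.pResidual p E).map E.subtype ≤ X) : ⁅E, X⁆ = ⊥ := by
  have hsn := fam_subnormal 𝒦 hinv hnorm hE
  haveI : (X.subgroupOf E).Normal := ⟨fun x hx g => mem_subgroupOf.2
    ((mem_normalizer_iff.1 (hEX g.2) _).1 (mem_subgroupOf.1 hx))⟩
  have hcen : ∀ z ∈ X, z ∈ E → ∀ e ∈ E, Commute e z := by
    intro z hz hzE e he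
    have h := by_contra fun hc => hR (by
      calc (Cfsg.pResidual p E).map E.subtype ≤ (X.subgroupOf E).map E.subtype :=
            map_mono ((hstr E hE).2 _ inferInstance hc)
        _ ≤ X := by rw [subgroupOf_map_subtype]; exact inf_le_left)
    rw [pCore_eq_bot_of_subnormal hO hsn, le_bot_iff, commutator_eq_bot_iff_le_centralizer] at h
    exact (congrArg Subtype.val (mem_centralizer_iff.1 (h (mem_subgroupOf.2 hz : (⟨z, hzE⟩ : E) ∈ _))
      ⟨e, he⟩ (mem_top _)) : e * z = z * e)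
  have hmem : ∀ a ∈ E, ∀ x ∈ X, ⁅a, x⁆ ∈ X ⊓ E := fun a ha x hx =>
    (inf_comm X E).ge (commutator_le_inf_of_normalizing hn hEX (commutator_mem_commutator ha hx))
  rw [commutator_eq_bot_iff_le_centralizer]
  intro a ha
  refine mem_centralizer_iff.2 fun x hx => ?_
  refine ((commute_of_central_values (n := x)
    (pResidual_le_commutator_of_strongly (pCore_eq_bot_of_subnormal hO hsn) (hstr E hE))
    (fun a ha b hb => ?_) (fun a ha => ?_)) a ha).eq.symm
  · obtain ⟨h1, h2⟩ := mem_inf.1 (hmem b hb x hx)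
    exact ⟨hcen _ h1 h2 a ha, hcen _ h1 h2 _ (mem_inf.1 (hmem a ha x hx)).2⟩
  · obtain ⟨h1, h2⟩ := mem_inf.1 (hmem a ha x hx)
    exact coprime_of_commute_subgroup hO hsn h2 (hcen _ h1 h2)

include hinv htr hnorm hO hstr in
theorem fam_dichotomy {E K : Subgroup G} (hE : E ∈ 𝒦) (hK : K ∈ 𝒦) :
    (Cfsg.pResidual p E).map E.subtype = (Cfsg.pResidual p K).map K.subtype ∨ ⁅E, K⁆ = ⊥ := by
  by_cases h : (Cfsg.pResidual p E).map E.subtype ≤ K
  · left
    refine eq_of_le_of_card_ge (resOf_le fun g hg hc => mem_resOf (h (mem_resOf hg hc)) hc) ?_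
    obtain ⟨g, rfl⟩ := htr E hE K hK
    refine le_of_le_of_eq (Nat.le_of_dvd Nat.card_pos (Subgroup.card_dvd_of_le ?_))
      (Subgroup.card_map_of_injective (f := (MulAut.conj g).toMonoidHom) (MulAut.conj g).injective)
    refine resOf_le fun x hx hc => ?_
    obtain ⟨y, hy, rfl⟩ := hx
    rw [MulEquiv.coe_toMonoidHom, MulEquiv.orderOf_eq] at hc
    exact mem_map_of_mem _ (mem_resOf hy hc)
  · right
    exact fam_commute 𝒦 hinv hnorm hO hstr hE ((le_sSup hK).trans (hnorm E hE))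
      ((le_sSup hE).trans (hnorm K hK)) h

include hne hinv htr hres hnorm hO hstr in
theorem fam_irreducible : Cfsg.IsPIrreducible p G := by
  haveI := fam_sSup_normal 𝒦 hinv
  obtain ⟨T⟩ : Nonempty (Sylow p G) := inferInstance
  constructor
  · intro hc
    obtain ⟨E, hE⟩ := hne
    refine (hstr E hE).1 (isPClosed_iff.2 ?_)
    obtain ⟨R, hR⟩ := sylow_inf_subnormal T (fam_subnormal 𝒦 hinv hnorm hE)
    refine ⟨R, ?_⟩
    haveI := hc T
    have hT : (T : Subgroup G) ≤ ⊥ := hO ▸ CfsgLib.Coprime.le_pCore T.2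
    have h : (R : Subgroup E).map E.subtype ≤ ⊥ := hR ▸ inf_le_left.trans hT
    rw [le_bot_iff, Subgroup.map_eq_bot_iff, ker_subtype, le_bot_iff] at h
    rw [h]
    exact bot_le
  intro N hN hnc
  haveI := hN
  set K₀ := sSup 𝒦 with hK₀
  by_cases hA : ∃ E ∈ 𝒦, (Cfsg.pResidual p E).map E.subtype ≤ N
  · obtain ⟨E₀, hE₀, hle⟩ := hA
    refine pResidual_le fun g hg => ?_
    have hall : ∀ E ∈ 𝒦, ∀ x ∈ E, (orderOf x).Coprime p → x ∈ N := by
      intro E hE x hx hc
      obtain ⟨h, rfl⟩ := htr E₀ hE₀ E hE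
      obtain ⟨y, hy, rfl⟩ := hx
      rw [MulEquiv.coe_toMonoidHom, MulEquiv.orderOf_eq] at hc
      exact hN.conj_mem y (hle (mem_resOf hy hc)) h
    have hKp : K₀.map (QuotientGroup.mk' N) ≤ Cfsg.pCore p (G ⧸ N) := by
      refine map_le_iff_le_comap.2 (sSup_le fun E hE => map_le_iff_le_comap.1 ?_)
      haveI : (N.subgroupOf E).Normal := hN.subgroupOf E
      refine CfsgLib.Coprime.le_pCore_of_isSubnormal
        ((fam_subnormal 𝒦 hinv hnorm hE).map (QuotientGroup.mk'_surjective N)) ?_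
      rintro ⟨_, y, hy, rfl⟩
      obtain ⟨k, hk⟩ := CfsgLib.Fusion.exists_pow_p_mem_pResidual (p := p) (⟨y, hy⟩ : E)
      refine ⟨k, Subtype.ext ?_⟩
      show (QuotientGroup.mk' N y) ^ p ^ k = 1
      rw [← map_pow, QuotientGroup.mk'_apply, QuotientGroup.eq_one_iff]
      exact (map_le_iff_le_comap.1 (resOf_le (fun x hx hc => hall E hE x hx hc)) hk : _)
    have hgK := hKp (mem_map_of_mem _ (hres (CfsgLib.Fusion.mem_pResidual hg)))
    obtain ⟨k, hk⟩ := CfsgLib.Coprime.pCore_isPGroup (G := G ⧸ N) p ⟨_, hgK⟩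
    refine mem_of_coprime_of_pow_mem hg (k := k) ((QuotientGroup.eq_one_iff _).1 ?_)
    rw [QuotientGroup.mk_pow]
    exact congrArg Subtype.val hk
  · exfalso
    push Not at hA
    refine hnc (isPClosed_of_inf_le_pCore T N ?_)
    rw [hO, le_bot_iff]
    set N₁ := N ⊓ K₀ with hN₁
    haveI hN₁n : N₁.Normal := inferInstance
    have hcomm : ∀ E ∈ 𝒦, ⁅E, N₁⁆ = ⊥ := fun E hE =>
      fam_commute 𝒦 hinv hnorm hO hstr hE (inf_le_right.trans (hnorm E hE))
        (by rw [normalizer_eq_top]; exact le_top) (fun h => hA E hE (h.trans inf_le_left))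
    have hc1 : ∀ k ∈ K₀, ∀ z ∈ N₁, Commute k z := by
      intro k hk z hz
      have h : K₀ ≤ centralizer (N₁ : Set G) :=
        sSup_le fun E hE => commutator_eq_bot_iff_le_centralizer.1 (hcomm E hE)
      exact ((mem_centralizer_iff.1 (h hk) z hz)).symm
    have hcop : ∀ z ∈ N₁, (orderOf z).Coprime p := fun z hz =>
      coprime_of_commute_subgroup hO (Subgroup.Normal.isSubnormal hN₁n) hz
        (fun e he => hc1 e (mem_inf.1 he).2 z hz)
    have hfix : K₀ ≤ centralizer (((T : Subgroup G) ⊓ N : Subgroup G) : Set G) := by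
      refine sSup_le fun E hE a ha => mem_centralizer_iff.2 fun t ht => ?_
      have hsn := fam_subnormal 𝒦 hinv hnorm hE
      have hmem : ∀ a ∈ E, ⁅a, t⁆ ∈ N₁ := fun a ha => mem_inf.2
        ⟨commutator_le_right (⊤ : Subgroup G) N
          (commutator_mem_commutator (mem_top a) (mem_inf.1 ht).2),
         commutator_le_left K₀ ⊤ (commutator_mem_commutator (le_sSup hE ha) (mem_top t))⟩
      refine ((commute_of_central_values (n := t)
        (pResidual_le_commutator_of_strongly (pCore_eq_bot_of_subnormal hO hsn) (hstr E hE))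
        (fun a ha b hb => ⟨hc1 a (le_sSup hE ha) _ (hmem b hb),
          hc1 _ (mem_inf.1 (hmem a ha)).2 _ (hmem b hb)⟩)
        (fun a ha => hcop _ (hmem a ha))) a ha).eq.symm
    haveI : ((T : Subgroup G) ⊓ N).Normal := by
      rw [← normalizer_eq_top_iff, eq_top_iff, ← fam_sup_sylow 𝒦 hres T]
      refine sup_le (hfix.trans (Subgroup.centralizer_le_normalizer _)) ?_
      exact le_normalizer_iff.2 fun t ht x hx => mem_inf.2
        ⟨mul_mem (mul_mem ht (mem_inf.1 hx).1) (inv_mem ht), hN.conj_mem x (mem_inf.1 hx).2 t⟩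
    exact le_bot_iff.1 (hO ▸ CfsgLib.Coprime.le_pCore (T.2.to_le inf_le_left))

end FamilyStrong

end CfsgLib.LS
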