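import Cfsg.Agent.Lib.LocalStructure.TransitiveFamily

/-!
# Lifting transitive families across the `p`-core
-/

set_option autoImplicit false
set_option linter.style.haveILetI false
set_option linter.unusedSectionVars false

namespace CfsgLib.LS

open Subgroup
open CfsgLib.Coprime (conjBy conjBy_conjBy conjBy_one conjBy_eq_self_iff conj_mem_conjBy)
open scoped commutatorElement

variable {G : Type*} [Group G] [Finite G] {p : ℕ} [Fact p.Prime]

theorem isStronglyPIrreducible_congr {H : Type*} [Group H] [Finite H] (e : G ≃* H)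
    (h : Cfsg.IsStronglyPIrreducible p G) : Cfsg.IsStronglyPIrreducible p H := by
  refine ⟨fun hc => h.1 (isPClosed_of_equiv e.symm hc), fun N hN hne => ?_⟩
  haveI := hN
  have h' : ¬ ⁅N.comap e.toMonoidHom, (⊤ : Subgroup G)⁆ ≤ Cfsg.pCore p G := fun hle => hne (by
    have := map_mono (f := e.toMonoidHom) hle
    rwa [map_commutator, map_comap_eq_self_of_surjective e.surjective,
      map_top_of_surjective _ e.surjective, CfsgLib.Coprime.map_pCore_equiv e p] at this)
  refine pResidual_le fun x hx => ?_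
  have hmem := h.2 _ (hN.comap _) h' (CfsgLib.Fusion.mem_pResidual
    (show (orderOf (e.symm x)).Coprime p by rw [e.symm.orderOf_eq]; exact hx))
  simpa using hmem

theorem isMinimalOver_of_quotient (T : Sylow p G) {D : Subgroup G} [D.Normal] (hD : IsPGroup p D)
    (h : Cfsg.IsMinimalOver ((T : Subgroup G).map (QuotientGroup.mk' D))) :
    Cfsg.IsMinimalOver (T : Subgroup G) := by
  have hs := QuotientGroup.mk'_surjective D
  have hDT : D ≤ (T : Subgroup G) := le_sylow_of_normal hD T
  have hback : ∀ X : Subgroup G, D ≤ X →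
      (X.map (QuotientGroup.mk' D)).comap (QuotientGroup.mk' D) = X := fun X hX => by
    rw [comap_map_eq, QuotientGroup.ker_mk', sup_eq_left.2 hX]
  constructor
  · rw [← hback _ (hDT.trans Subgroup.le_normalClosure), map_normalClosure _ _ hs, ← coe_map, h.1,
      comap_top]
  obtain ⟨M, ⟨hM, hTM⟩, hu⟩ := h.2
  have hTM' : (T : Subgroup G) ≤ M.comap (QuotientGroup.mk' D) := map_le_iff_le_comap.1 hTM
  refine ⟨M.comap (QuotientGroup.mk' D), ⟨⟨fun e => hM.1 ?_, fun B hB => ?_⟩, hTM'⟩, ?_⟩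
  · rw [← map_comap_eq_self_of_surjective hs M, e, map_top_of_surjective _ hs]
  · have hDB : D ≤ B := hDT.trans (hTM'.trans hB.le)
    have hlt : M < B.map (QuotientGroup.mk' D) := by
      refine lt_of_le_of_ne ?_ fun e => hB.ne ?_
      · rw [← map_comap_eq_self_of_surjective hs M]; exact map_mono hB.le
      · rw [e, hback _ hDB]
    rw [← hback _ hDB, hM.2 _ hlt, comap_top]
  · rintro B ⟨hB, hTB⟩
    have hc : IsCoatom (B.map (QuotientGroup.mk' D)) := by
      refine ⟨fun e => hB.1 ?_, fun C hC => ?_⟩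
      · rw [← hback B (hDT.trans hTB), e, comap_top]
      · have hlt : B < C.comap (QuotientGroup.mk' D) := by
          rw [← hback B (hDT.trans hTB)]; exact (comap_lt_comap_of_surjective hs).2 hC
        rw [← map_comap_eq_self_of_surjective hs C, hB.2 _ hlt, map_top_of_surjective _ hs]
    rw [← hu _ ⟨hc, map_mono hTB⟩, hback B (hDT.trans hTB)]

variable (D : Subgroup G) [D.Normal] (hD : IsPGroup p D)
include hD

theorem isPGroup_ker_restrict (E : Subgroup G) :
    IsPGroup p (((QuotientGroup.mk' D).comp E.subtype).ker) := fun x => by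
  obtain ⟨k, hk⟩ := hD ⟨((x : E) : G),
    (QuotientGroup.eq_one_iff _).1 (MonoidHom.mem_ker.1 x.2)⟩
  exact ⟨k, Subtype.ext (Subtype.ext (by simpa using congrArg Subtype.val hk))⟩

theorem member_minimal (T : Sylow p G) (E : Subgroup G)
    (hsn : (E.map (QuotientGroup.mk' D)).IsSubnormal)
    (hmin : ∀ S : Sylow p E, Cfsg.IsMinimalOver (S : Subgroup E)) :
    (∃ M : Subgroup (G ⧸ D), ¬ E.map (QuotientGroup.mk' D) ≤ M ∧
      ∀ Y : Subgroup (G ⧸ D), Y ≤ E.map (QuotientGroup.mk' D) →
        (T : Subgroup G).map (QuotientGroup.mk' D) ⊓ E.map (QuotientGroup.mk' D) ≤ Y →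
        ¬ E.map (QuotientGroup.mk' D) ≤ Y → Y ≤ M) ∧
    (∀ N : Subgroup (G ⧸ D),
        (T : Subgroup G).map (QuotientGroup.mk' D) ⊓ E.map (QuotientGroup.mk' D) ≤ N →
        N ≤ E.map (QuotientGroup.mk' D) →
        E.map (QuotientGroup.mk' D) ≤ normalizer (N : Set (G ⧸ D)) →
        E.map (QuotientGroup.mk' D) ≤ N) ∧
    ¬ E.map (QuotientGroup.mk' D) ≤ (T : Subgroup G).map (QuotientGroup.mk' D) := by
  set T' : Sylow p (G ⧸ D) := T.mapSurjective (QuotientGroup.mk'_surjective D) with hT'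
  set E' := E.map (QuotientGroup.mk' D) with hE'
  set f := (QuotientGroup.mk' D).comp E.subtype with hf
  have hfr : f.range = E' := by rw [hf, MonoidHom.range_comp, range_subtype]
  obtain ⟨R, hR⟩ := sylow_inf_subnormal T' hsn
  change _ = (T : Subgroup G).map (QuotientGroup.mk' D) ⊓ E' at hR
  let g : E →* E' := f.codRestrict E' fun x => mem_map_of_mem _ x.2
  have hg : Function.Surjective g := by
    rintro ⟨_, y, hy, rfl⟩
    exact ⟨⟨y, hy⟩, rfl⟩
  have hgker : IsPGroup p g.ker := by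
    rw [show g.ker = f.ker from MonoidHom.ker_codRestrict _ _ _]
    exact isPGroup_ker_restrict D hD E
  set S : Sylow p E := R.comapOfKerIsPGroup g hgker
    (by rw [MonoidHom.range_eq_top.2 hg]; exact le_top) with hS
  have hSmem : ∀ x : E, x ∈ (S : Subgroup E) →
      f x ∈ (T : Subgroup G).map (QuotientGroup.mk' D) ⊓ E' := fun x hx =>
    hR ▸ mem_map_of_mem E'.subtype hx
  obtain ⟨hncl, M, ⟨hM, hSM⟩, hu⟩ := hmin S
  have hsub : ∀ Y : Subgroup (G ⧸ D),
      (T : Subgroup G).map (QuotientGroup.mk' D) ⊓ E' ≤ Y → (S : Subgroup E) ≤ Y.comap f :=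
    fun Y hY x hx => mem_comap.2 (hY (hSmem x hx))
  have hfull : ∀ Y : Subgroup (G ⧸ D), Y.comap f = ⊤ → E' ≤ Y := by
    rintro Y hY _ ⟨y, hy, rfl⟩
    exact mem_comap.1 (hY.ge (mem_top (⟨y, hy⟩ : E)))
  have hkerM : f.ker ≤ M :=
    ((le_sylow_of_normal (isPGroup_ker_restrict D hD E) S)).trans hSM
  refine ⟨⟨M.map f, fun hle => hM.1 ?_, fun Y hYE hY hne => ?_⟩, fun N hN hNE hn => ?_, fun hle => ?_⟩
  · have h1 : (⊤ : Subgroup E).map f ≤ M.map f := by
      rw [← MonoidHom.range_eq_map, hfr]; exact hle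
    rw [map_le_iff_le_comap, comap_map_eq, sup_eq_left.2 hkerM] at h1
    exact eq_top_iff.2 h1
  · have hp : Y.comap f ≠ ⊤ := fun e => hne (hfull Y e)
    obtain ⟨C, hC, hle⟩ := (eq_top_or_exists_le_coatom (Y.comap f)).resolve_left hp
    rw [hu C ⟨hC, (hsub Y hY).trans hle⟩] at hle
    rw [← map_comap_eq_self (f := f) (H := Y) (hYE.trans hfr.ge)]
    exact map_mono hle
  · refine hfull N (eq_top_iff.2 ?_)
    haveI : (N.comap f).Normal := ⟨fun x hx e => by
      rw [mem_comap, map_mul, map_mul, map_inv]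
      exact (mem_normalizer_iff.1 (hn (mem_map_of_mem _ e.2)) _).1 hx⟩
    rw [← hncl]
    exact normalClosure_le_normal (hsub N hN)
  · refine hM.1 (eq_top_iff.2 fun x _ => hSM ?_)
    have hx : f x ∈ (R : Subgroup E').map E'.subtype := by
      rw [hR]
      exact mem_inf.2 ⟨hle (mem_map_of_mem _ x.2), mem_map_of_mem _ x.2⟩
    obtain ⟨r, hr, hrx⟩ := hx
    show g x ∈ (R : Subgroup E')
    exact (Subtype.ext hrx : r = g x) ▸ hr

theorem member_strongly (E : Subgroup G) (h : Cfsg.IsStronglyPIrreducible p E) :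
    Cfsg.IsStronglyPIrreducible p ↥(E.map (QuotientGroup.mk' D)) := by
  set f := (QuotientGroup.mk' D).comp E.subtype with hf
  have h1 := (isStronglyPIrreducible_quotient_iff f.ker (isPGroup_ker_restrict D hD E)).1 h
  exact isStronglyPIrreducible_congr ((QuotientGroup.quotientKerEquivRange f).trans
    (MulEquiv.subgroupCongr (by rw [hf, MonoidHom.range_comp, range_subtype]))) h1

theorem resOf_map_le {E K : Subgroup G}
    (h : (Cfsg.pResidual p ↥(E.map (QuotientGroup.mk' D))).map (E.map (QuotientGroup.mk' D)).subtype ≤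
      K.map (QuotientGroup.mk' D)) :
    (Cfsg.pResidual p ↥(E ⊔ D)).map (E ⊔ D).subtype ≤
      (Cfsg.pResidual p ↥(K ⊔ D)).map (K ⊔ D).subtype := by
  refine resOf_le fun g hg hc => mem_resOf ?_ hc
  have h1 : (QuotientGroup.mk' D) g ∈ E.map (QuotientGroup.mk' D) := by
    have := mem_map_of_mem (QuotientGroup.mk' D) hg
    rwa [Subgroup.map_sup, QuotientGroup.map_mk'_self, sup_bot_eq] at this
  have h2 := h (mem_resOf h1 (hc.coprime_dvd_left (orderOf_map_dvd (QuotientGroup.mk' D) g)))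
  rwa [← mem_comap, comap_map_eq, QuotientGroup.ker_mk'] at h2

end CfsgLib.LS
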