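import Cfsg.Agent.Lib.LocalStructure.Reduced
import Cfsg.Agent.Lib.LocalStructure.Irreducible
import Cfsg.Agent.Lib.LocalStructure.WeaklyClosed
import Cfsg.Agent.Lib.PGroup.FrattiniLe
import Cfsg.Agent.Lib.Coprime.PGroupFrattini

/-!
# Commutators in `Y`-minimal groups
-/

set_option autoImplicit false
set_option linter.style.haveILetI false
set_option linter.unusedSectionVars false

namespace CfsgLib.LS

open Subgroup
open CfsgLib.Coprime (conjBy conjBy_conjBy conjBy_one conjBy_eq_self_iff conj_mem_conjBy)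
open scoped commutatorElement

variable {L : Type*} [Group L] [Finite L] {p : ℕ} [Fact p.Prime]

theorem commutator_le_of_normalizes' {N B : Subgroup L} (hn : B ≤ normalizer (N : Set L)) {y b : L}
    (hy : y ∈ N) (hb : b ∈ B) : ⁅y, b⁆ ∈ N := by
  rw [commutatorElement_def, show y * b * y⁻¹ * b⁻¹ = y * (b * y⁻¹ * b⁻¹) by group]
  exact mul_mem hy ((mem_normalizer_iff.1 (hn hb) _).1 (inv_mem hy))

theorem yMinimal_commutators (L₀ : Subgroup L) (hL₀ : IsCoatom L₀) (Y : Subgroup L) (hYL₀ : Y ≤ L₀)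
    (hYel : Cfsg.IsElementaryAbelian p Y) (hmin : Cfsg.IsMinimalOver Y)
    (hOY : Cfsg.pCore p L ≤ normalizer (Y : Set L)) (A : Subgroup L)
    (hA : A = normalClosure (((Cfsg.pCore p L ⊓ Y : Subgroup L)) : Set L)) (g : L) (hg : g ∉ L₀) :
    (frattini ↥A).map A.subtype = ⁅A, A⁆ ∧ ⁅A, A⁆ = ⁅A ⊓ Y, A⁆ ∧
      ⁅A ⊓ Y, A⁆ = ⁅A ⊓ Y, A ⊓ conjBy g Y⁆ ∧ ⁅A ⊓ Y, A⁆ ≤ Y ⊓ center L ∧
      Y ⊓ conjBy g Y = Y ⊓ center L ∧
      (A ⊓ Y) ⊓ (A ⊓ conjBy g Y) = Y ⊓ center L ∧ A ⊓ center L = Y ⊓ center L := by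
  haveI hOn := CfsgLib.Coprime.pCore_normal' (G := L) p
  set O := Cfsg.pCore p L with hO
  set Y' := conjBy g Y with hY'
  have hgen : Y ⊔ Y' = ⊤ := by
    by_contra hne
    obtain ⟨M, hM, hle⟩ := (eq_top_or_exists_le_coatom _).resolve_left hne
    have e : M = L₀ := hmin.2.unique ⟨hM, le_sup_left.trans hle⟩ ⟨hL₀, hYL₀⟩
    exact hg (mem_of_conj_le hmin hL₀ hYL₀ (e ▸ le_sup_right.trans hle))
  have hY'el : ∀ a ∈ Y', ∀ b ∈ Y', a * b = b * a := by
    rintro _ ⟨a, ha, rfl⟩ _ ⟨b, hb, rfl⟩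
    rw [← map_mul, ← map_mul, ea_comm hYel ha hb]
  have hcen : ∀ z : L, (∀ y ∈ Y, y * z = z * y) → (∀ y ∈ Y', y * z = z * y) → z ∈ center L := by
    intro z h1 h2
    refine mem_center_iff.2 fun x => ?_
    have h : Y ⊔ Y' ≤ centralizer {z} := sup_le
      (fun y hy => mem_centralizer_singleton_iff.2 (h1 y hy))
      (fun y hy => mem_centralizer_singleton_iff.2 (h2 y hy))
    exact mem_centralizer_singleton_iff.1 (h (hgen.ge (mem_top x)))
  have hZY' : Y ⊓ center L ≤ Y' := fun z hz => by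
    refine ⟨z, (mem_inf.1 hz).1, ?_⟩
    show g * z * g⁻¹ = z
    rw [mem_center_iff.1 (mem_inf.1 hz).2 g, mul_inv_cancel_right]
  have hYY' : Y ⊓ Y' = Y ⊓ center L := by
    refine le_antisymm (fun z hz => mem_inf.2 ⟨(mem_inf.1 hz).1, hcen z
      (fun y hy => ea_comm hYel hy (mem_inf.1 hz).1) (fun y hy => hY'el y hy z (mem_inf.1 hz).2)⟩)
      (le_inf inf_le_left hZY')
  -- the two traces
  set W := O ⊓ Y with hW
  set V := O ⊓ Y' with hV
  have hVW : conjBy g W = V := by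
    rw [hV, hY', hW]
    refine (Subgroup.map_inf _ _ _ (MulAut.conj g).injective).trans ?_
    congr 1
    exact CfsgLib.Coprime.conjBy_eq_self_iff.2 (by rw [normalizer_eq_top]; exact mem_top g)
  have hOY' : O ≤ normalizer (Y' : Set L) := by
    rw [hY', ← normalizer_conjBy]
    refine le_trans ?_ (conjBy_mono g hOY)
    exact (CfsgLib.Coprime.conjBy_eq_self_iff.2 (by rw [normalizer_eq_top]; exact mem_top g)).ge
  have hYW : ∀ y ∈ Y, ∀ w ∈ W, y * w * y⁻¹ = w := fun y hy w hw => by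
    rw [ea_comm hYel hy (mem_inf.1 hw).2, mul_inv_cancel_right]
  have hY'V : ∀ y ∈ Y', ∀ v ∈ V, y * v * y⁻¹ = v := fun y hy v hv => by
    rw [hY'el y hy v (mem_inf.1 hv).2, mul_inv_cancel_right]
  have hcY : ∀ y ∈ Y, ∀ v ∈ V, ⁅y, v⁆ ∈ W := fun y hy v hv => mem_inf.2
    ⟨commutator_le_right ⊤ O (commutator_mem_commutator (mem_top y) (mem_inf.1 hv).1),
      commutator_le_of_normalizes' (hOY) hy (mem_inf.1 hv).1⟩
  have hcY' : ∀ y ∈ Y', ∀ w ∈ W, ⁅y, w⁆ ∈ V := fun y hy w hw => mem_inf.2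
    ⟨commutator_le_right ⊤ O (commutator_mem_commutator (mem_top y) (mem_inf.1 hw).1),
      commutator_le_of_normalizes' (hOY') hy (mem_inf.1 hw).1⟩
  have hB : (W ⊔ V).Normal := by
    rw [← normalizer_eq_top_iff, eq_top_iff, ← hgen]
    refine sup_le ?_ ?_ <;>
      refine le_normalizer_iff.2 fun y hy x hx =>
        (sup_le (fun w hw => ?_) (fun v hv => ?_) : W ⊔ V ≤ (W ⊔ V).comap (MulAut.conj y).toMonoidHom) hx
    · show y * w * y⁻¹ ∈ W ⊔ V
      rw [hYW y hy w hw]; exact mem_sup_left hw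
    · show y * v * y⁻¹ ∈ W ⊔ V
      rw [show y * v * y⁻¹ = ⁅y, v⁆ * v by rw [commutatorElement_def]; group]
      exact mul_mem (mem_sup_left (hcY y hy v hv)) (mem_sup_right hv)
    · show y * w * y⁻¹ ∈ W ⊔ V
      rw [show y * w * y⁻¹ = ⁅y, w⁆ * w by rw [commutatorElement_def]; group]
      exact mul_mem (mem_sup_right (hcY' y hy w hw)) (mem_sup_left hw)
    · show y * v * y⁻¹ ∈ W ⊔ V
      rw [hY'V y hy v hv]; exact mem_sup_right hv
  have hAeq : A = W ⊔ V := by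
    rw [hA]
    refine le_antisymm (normalClosure_le_normal (N := W ⊔ V) (fun x hx => mem_sup_left hx))
      (sup_le Subgroup.le_normalClosure ?_)
    rw [← hVW]
    exact map_le_iff_le_comap.2 fun w hw =>
      normalClosure_normal.conj_mem w (Subgroup.subset_normalClosure hw) g
  have hAO : A ≤ O := by
    rw [hAeq]; exact sup_le inf_le_left inf_le_left
  have hAY : A ⊓ Y = W := le_antisymm (inf_le_inf_right _ hAO)
    (le_inf (hAeq ▸ le_sup_left) inf_le_right)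
  have hAY' : A ⊓ Y' = V := le_antisymm (inf_le_inf_right _ hAO)
    (le_inf (hAeq ▸ le_sup_right) inf_le_right)
  have hVnW : V ≤ normalizer (W : Set L) := le_normalizer_iff.2 fun v hv w hw => mem_inf.2
    ⟨hOn.conj_mem w (mem_inf.1 hw).1 v,
      (mem_normalizer_iff.1 (hOY (mem_inf.1 hv).1) w).1 (mem_inf.1 hw).2⟩
  have hcomm : ∀ w ∈ W, ∀ v ∈ V, ⁅w, v⁆ ∈ Y ⊓ center L := fun w hw v hv => by
    rw [← hYY']
    refine mem_inf.2 ⟨(mem_inf.1 (hcY w (mem_inf.1 hw).2 v hv)).2, ?_⟩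
    rw [← commutatorElement_inv]
    exact inv_mem (mem_inf.1 (hcY' v (mem_inf.1 hv).2 w hw)).2
  have hX : ⁅W, V⁆ ≤ Y ⊓ center L := commutator_le.2 hcomm
  have hAA : ⁅A, A⁆ = ⁅W, V⁆ := by
    refine le_antisymm (commutator_le.2 fun a ha b hb => ?_)
      (commutator_mono (hAeq ▸ le_sup_left) (hAeq ▸ le_sup_right))
    rw [hAeq] at ha hb
    obtain ⟨w₁, hw₁, v₁, hv₁, rfl⟩ := CfsgLib.Coprime.mem_sup_exists hVnW ha
    obtain ⟨w₂, hw₂, v₂, hv₂, rfl⟩ := CfsgLib.Coprime.mem_sup_exists hVnW hb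
    have hc₁ : ∀ x, ⁅w₁, v₂⁆ * x = x * ⁅w₁, v₂⁆ := fun x =>
      (mem_center_iff.1 (mem_inf.1 (hcomm w₁ hw₁ v₂ hv₂)).2 x).symm
    have hc₂ : ∀ x, ⁅w₂, v₁⁆ * x = x * ⁅w₂, v₁⁆ := fun x =>
      (mem_center_iff.1 (mem_inf.1 (hcomm w₂ hw₂ v₁ hv₁)).2 x).symm
    have e : ⁅w₁ * v₁, w₂ * v₂⁆ = ⁅w₁, v₂⁆ * ⁅w₂, v₁⁆⁻¹ := by
      have a1 : w₁ * v₂ = ⁅w₁, v₂⁆ * (v₂ * w₁) := by rw [commutatorElement_def]; group
      have a2 : v₁ * w₂ = ⁅w₂, v₁⁆⁻¹ * (w₂ * v₁) := by rw [commutatorElement_def]; group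
      have a3 : w₁ * w₂ = w₂ * w₁ := ea_comm hYel (mem_inf.1 hw₁).2 (mem_inf.1 hw₂).2
      have a4 : v₁ * v₂ = v₂ * v₁ := hY'el v₁ (mem_inf.1 hv₁).2 v₂ (mem_inf.1 hv₂).2
      have hc₂' : ∀ x, ⁅w₂, v₁⁆⁻¹ * x = x * ⁅w₂, v₁⁆⁻¹ := fun x =>
        ((show Commute ⁅w₂, v₁⁆ x from hc₂ x).inv_left).eq
      calc ⁅w₁ * v₁, w₂ * v₂⁆ = w₁ * (v₁ * w₂) * v₂ * v₁⁻¹ * w₁⁻¹ * v₂⁻¹ * w₂⁻¹ := by
            rw [commutatorElement_def]; group
        _ = (w₁ * ⁅w₂, v₁⁆⁻¹) * w₂ * (v₁ * v₂) * v₁⁻¹ * w₁⁻¹ * v₂⁻¹ * w₂⁻¹ := by rw [a2]; group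
        _ = ⁅w₂, v₁⁆⁻¹ * (w₁ * w₂) * v₂ * w₁⁻¹ * v₂⁻¹ * w₂⁻¹ := by rw [a4, ← hc₂' w₁]; group
        _ = ⁅w₂, v₁⁆⁻¹ * w₂ * (w₁ * v₂) * w₁⁻¹ * v₂⁻¹ * w₂⁻¹ := by rw [a3]; group
        _ = ⁅w₂, v₁⁆⁻¹ * (w₂ * ⁅w₁, v₂⁆ * w₂⁻¹) := by rw [a1]; group
        _ = ⁅w₁, v₂⁆ * ⁅w₂, v₁⁆⁻¹ := by rw [← hc₁ w₂, mul_inv_cancel_right, hc₂']
    rw [e]
    exact mul_mem (commutator_mem_commutator hw₁ hv₂) (inv_mem (commutator_mem_commutator hw₂ hv₁))
  have hWA : ⁅W, A⁆ = ⁅W, V⁆ := le_antisymm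
    ((commutator_mono (hAeq ▸ le_sup_left) le_rfl).trans hAA.le)
    (commutator_mono le_rfl (hAeq ▸ le_sup_right))
  rw [hAY, hAY']
  refine ⟨?_, hAA.trans hWA.symm, hWA, hWA.le.trans hX, hYY', ?_, ?_⟩
  · have hAp : IsPGroup p A := (CfsgLib.Coprime.pCore_isPGroup p).to_le hAO
    refine le_antisymm ?_ ?_
    · rw [map_le_iff_le_comap]
      refine CfsgLib.FrattiniLe.frattini_le_of_pow_of_commutator (p := p) (fun x => ?_) ?_
      · have key : ∀ a ∈ A, a ^ p ∈ ⁅A, A⁆ := by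
          intro a ha
          rw [hAeq] at ha
          obtain ⟨w, hw, v, hv, rfl⟩ := CfsgLib.Coprime.mem_sup_exists hVnW ha
          haveI hn : ((⁅A, A⁆).subgroupOf A).Normal :=
            (normal_subgroupOf_iff_le_normalizer (commutator_le_self A)).2
              (normalizer_commutator_ge_left A A)
          have hwA : w ∈ A := hAeq ▸ mem_sup_left hw
          have hvA : v ∈ A := hAeq ▸ mem_sup_right hv
          have hwp : w ^ p = 1 := hYel.2 w (mem_inf.1 hw).2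
          have hvp : v ^ p = 1 := by
            obtain ⟨y, hy, rfl⟩ := (mem_inf.1 hv).2
            rw [← map_pow, hYel.2 y hy, map_one]
          have hc : Commute (QuotientGroup.mk (s := (⁅A, A⁆).subgroupOf A) (⟨w, hwA⟩ : A))
              (QuotientGroup.mk (⟨v, hvA⟩ : A)) := by
            show QuotientGroup.mk _ * QuotientGroup.mk _ = QuotientGroup.mk _ * QuotientGroup.mk _
            rw [← QuotientGroup.mk_mul, ← QuotientGroup.mk_mul, QuotientGroup.eq, mem_subgroupOf]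
            rw [show (((⟨w, hwA⟩ * ⟨v, hvA⟩)⁻¹ * (⟨v, hvA⟩ * ⟨w, hwA⟩) : A) : L) =
              ⁅v⁻¹, w⁻¹⁆ by simp [commutatorElement_def, mul_assoc]]
            exact commutator_mem_commutator (inv_mem hvA) (inv_mem hwA)
          have h1 := hc.mul_pow p
          rw [← QuotientGroup.mk_mul, ← QuotientGroup.mk_pow, ← QuotientGroup.mk_pow,
            ← QuotientGroup.mk_pow,
            show (⟨w, hwA⟩ : A) ^ p = 1 from Subtype.ext hwp,
            show (⟨v, hvA⟩ : A) ^ p = 1 from Subtype.ext hvp, QuotientGroup.mk_one, one_mul,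
            QuotientGroup.eq_one_iff, mem_subgroupOf] at h1
          exact h1
        exact key x x.2
      · rw [← map_le_iff_le_comap, _root_.commutator_def, map_commutator,
          ← MonoidHom.range_eq_map, range_subtype]
    · calc ⁅A, A⁆ = (commutator A).map A.subtype := by
            rw [_root_.commutator_def, map_commutator, ← MonoidHom.range_eq_map, range_subtype]
        _ ≤ _ := map_mono (CfsgLib.Coprime.commutator_le_frattini hAp)
  · refine le_antisymm ((inf_le_inf inf_le_right inf_le_right).trans hYY'.le) ?_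
    have hZO : Y ⊓ center L ≤ O := by
      haveI : (Y ⊓ center L).Normal := ⟨fun z hz x => by
        rw [mem_center_iff.1 (mem_inf.1 hz).2 x, mul_inv_cancel_right]; exact hz⟩
      exact CfsgLib.Coprime.le_pCore ((isPGroup_of_ea hYel).to_le inf_le_left)
    exact le_inf (le_inf hZO inf_le_left) (le_inf hZO hZY')
  · refine le_antisymm (fun z hz => mem_inf.2 ⟨?_, (mem_inf.1 hz).2⟩) ?_
    · obtain ⟨hzA, hzc⟩ := mem_inf.1 hz
      rw [hAeq] at hzA
      obtain ⟨w, hw, v, hv, rfl⟩ := CfsgLib.Coprime.mem_sup_exists hVnW hzA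
      have hvc : v ∈ center L := hcen v (fun y hy => by
        have e1 : y * (w * v) = w * v * y := mem_center_iff.1 hzc y
        have e2 : y * w = w * y := ea_comm hYel hy (mem_inf.1 hw).2
        exact mul_left_cancel (a := w) (by rw [← mul_assoc, ← e2, mul_assoc, e1, mul_assoc]))
        (fun y hy => hY'el y hy v (mem_inf.1 hv).2)
      refine mul_mem (mem_inf.1 hw).2 ?_
      obtain ⟨y, hy, hyv⟩ := (mem_inf.1 hv).2
      have hyc : y = v := by
        have h : g * y * g⁻¹ = v := hyv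
        have h2 := mem_center_iff.1 hvc g
        calc y = g⁻¹ * (g * y * g⁻¹) * g := by group
          _ = g⁻¹ * (v * g) := by rw [h]; group
          _ = v := by rw [← h2, inv_mul_cancel_left]
      exact hyc ▸ hy
    · intro z hz
      refine mem_inf.2 ⟨?_, (mem_inf.1 hz).2⟩
      have hZO : Y ⊓ center L ≤ O := by
        haveI : (Y ⊓ center L).Normal := ⟨fun z hz x => by
          rw [mem_center_iff.1 (mem_inf.1 hz).2 x, mul_inv_cancel_right]; exact hz⟩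
        exact CfsgLib.Coprime.le_pCore ((isPGroup_of_ea hYel).to_le inf_le_left)
      exact hAeq ▸ mem_sup_left (mem_inf.2 ⟨hZO hz, (mem_inf.1 hz).1⟩)

end CfsgLib.LS
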